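import Cfsg.Prelude.Def_Amalgam
/-!
Basic facts: `pCore`, `pCoreOf`, Sylow subgroups of a finite subgroup seen in the ambient group, `omegaOne`.
-/

set_option autoImplicit false

namespace CfsgLib.LocalEven

open Subgroup Cfsg

variable {X : Type*} [Group X] {p : ℕ}

theorem pCore_normal' (p : ℕ) (H : Type*) [Group H] : (pCore p H).Normal :=
  Subgroup.sSup_normal _ fun _ h => h.1

theorem pCore_isPGroup' [Fact p.Prime] (H : Type*) [Group H] [Finite H] :
    IsPGroup p (pCore p H) := by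
  have h := Sylow.biSup_of_normal (p := p) {N : Subgroup H | N.Normal ∧ IsPGroup p N} id
    (fun _ h => h.2) (fun _ h => h.1)
  unfold pCore
  rwa [sSup_eq_iSup]

theorem le_pCore' {H : Type*} [Group H] {N : Subgroup H} (hn : N.Normal) (hp : IsPGroup p N) :
    N ≤ pCore p H :=
  le_sSup (show N ∈ {N : Subgroup H | N.Normal ∧ IsPGroup p N} from ⟨hn, hp⟩)

theorem pCore_map_equiv' {A B : Type*} [Group A] [Group B] (e : A ≃* B) :
    (pCore p A).map e.toMonoidHom = pCore p B := by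
  apply le_antisymm
  · rw [map_le_iff_le_comap]
    refine sSup_le fun N hN => ?_
    rw [← map_le_iff_le_comap]
    exact le_pCore' (hN.1.map _ e.surjective) (hN.2.map _)
  · intro b hb
    refine ⟨e.symm b, ?_, by simp⟩
    have : (pCore p B).map e.symm.toMonoidHom ≤ pCore p A := by
      rw [map_le_iff_le_comap]
      refine sSup_le fun N hN => ?_
      rw [← map_le_iff_le_comap]
      exact le_pCore' (hN.1.map _ e.symm.surjective) (hN.2.map _)
    exact this ⟨b, hb, rfl⟩

theorem pCoreOf_le_self (H : Subgroup X) : pCoreOf p H ≤ H := map_subtype_le _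

theorem pCoreOf_map_equiv {Y : Type*} [Group Y] (f : X ≃* Y) (H : Subgroup X) :
    (pCoreOf p H).map f.toMonoidHom = pCoreOf p (H.map f.toMonoidHom) := by
  let e : H ≃* ↥(H.map f.toMonoidHom) := f.subgroupMap H
  simp only [pCoreOf]
  rw [← pCore_map_equiv' (p := p) e, map_map, map_map]
  rfl

/-- conjugation of subgroups -/
abbrev cj (g : X) (H : Subgroup X) : Subgroup X := H.map (MulAut.conj g).toMonoidHom

theorem mem_cj {g x : X} {H : Subgroup X} : x ∈ cj g H ↔ g⁻¹ * x * g ∈ H := by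
  rw [cj, mem_map_equiv, MulAut.conj_symm_apply]

theorem cj_cj (g h : X) (H : Subgroup X) : cj g (cj h H) = cj (g * h) H := by
  ext x; simp only [mem_cj, mul_inv_rev, mul_assoc]

theorem cj_one (H : Subgroup X) : cj 1 H = H := by
  ext x; simp [mem_cj]

theorem cj_inf (g : X) (H K : Subgroup X) : cj g (H ⊓ K) = cj g H ⊓ cj g K := by
  exact map_inf H K _ (MulAut.conj g).injective

theorem cj_le_cj {g : X} {H K : Subgroup X} (h : H ≤ K) : cj g H ≤ cj g K := map_mono h

theorem cj_centralizer (g : X) (H : Subgroup X) :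
    cj g (centralizer (H : Set X)) = centralizer (cj g H : Set X) := by
  ext x
  simp only [mem_cj, mem_centralizer_iff, SetLike.mem_coe]
  constructor
  · intro h y hy
    have := h _ hy
    simpa [mul_assoc] using congrArg (fun t => g * t * g⁻¹) this
  · intro h y hy
    have := h (g * y * g⁻¹) (by simpa [mul_assoc] using hy)
    simpa [mul_assoc] using congrArg (fun t => g⁻¹ * t * g) this

theorem mem_normalizer_iff_cj {g : X} {H : Subgroup X} :
    g ∈ normalizer (H : Set X) ↔ cj g H = H := by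
  rw [mem_normalizer_iff', SetLike.ext_iff]
  simp only [mem_cj]
  constructor
  · intro h x
    have := h (g⁻¹ * x)
    rw [mul_inv_cancel_left] at this
    simpa [mul_assoc] using this
  · intro h n
    have := h (g * n)
    simpa [mul_assoc] using this

theorem cj_of_mem {g : X} {H : Subgroup X} (h : g ∈ H) : cj g H = H :=
  mem_normalizer_iff_cj.1 (le_normalizer h)

theorem pCoreOf_cj (g : X) (H : Subgroup X) : cj g (pCoreOf p H) = pCoreOf p (cj g H) :=
  pCoreOf_map_equiv _ H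

theorem pCoreOf_isPGroup [Fact p.Prime] (H : Subgroup X) [Finite H] :
    IsPGroup p (pCoreOf p H) :=
  (pCore_isPGroup' H).map _

theorem le_normalizer_pCoreOf (H : Subgroup X) : H ≤ normalizer (pCoreOf p H : Set X) := by
  intro g hg
  rw [mem_normalizer_iff_cj, pCoreOf_cj, cj_of_mem hg]

theorem centralizer_pCoreOf_le {H : Subgroup X}
    (h : centralizer (pCore p H : Set H) ≤ pCore p H) :
    H ⊓ centralizer (pCoreOf p H : Set X) ≤ pCoreOf p H := by
  rintro x ⟨hx, hc⟩
  refine ⟨⟨x, hx⟩, h ?_, rfl⟩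
  intro y hy
  exact Subtype.ext (hc (y : X) ⟨y, hy, rfl⟩)

theorem cj_omegaOne (g : X) (H : Subgroup X) :
    cj g (omegaOne p H) = omegaOne p (cj g H) := by
  simp only [omegaOne, cj, MonoidHom.map_closure]
  congr 1
  ext y
  constructor
  · rintro ⟨x, ⟨hx, hxp⟩, rfl⟩
    exact ⟨mem_map_of_mem _ hx, by rw [← map_pow, hxp, map_one]⟩
  · rintro ⟨⟨x, hx, rfl⟩, hp⟩
    refine ⟨x, ⟨hx, (MulAut.conj g).injective ?_⟩, rfl⟩
    rw [map_one, map_pow]
    exact hp

theorem omegaOne_le (H : Subgroup X) : omegaOne p H ≤ H :=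
  (closure_le _).2 fun _ h => h.1

theorem omegaOne_mono {H K : Subgroup X} (h : H ≤ K) : omegaOne p H ≤ omegaOne p K :=
  closure_mono fun _ hx => ⟨h hx.1, hx.2⟩

theorem omegaOne_eq_bot [Fact p.Prime] {H : Subgroup X} (hH : IsPGroup p H)
    (h : omegaOne p H = ⊥) : H = ⊥ := by
  rw [eq_bot_iff]
  intro x hx
  by_contra hne
  rw [mem_bot] at hne
  obtain ⟨k, hk⟩ := IsPGroup.iff_orderOf.1 hH ⟨x, hx⟩
  rw [Subgroup.orderOf_mk] at hk
  have hk0 : k ≠ 0 := by
    rintro rfl
    exact hne (orderOf_eq_one_iff.1 (by simpa using hk))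
  obtain ⟨j, rfl⟩ := Nat.exists_eq_succ_of_ne_zero hk0
  have hy : (x ^ p ^ j) ∈ omegaOne p H :=
    subset_closure ⟨H.pow_mem hx _, by rw [← pow_mul, ← pow_succ, ← hk, pow_orderOf_eq_one]⟩
  rw [h, mem_bot, ← orderOf_dvd_iff_pow_eq_one, hk] at hy
  have := (Nat.pow_dvd_pow_iff_le_right (Fact.out : p.Prime).one_lt).1 hy
  omega

/-- `T` is a Sylow `p`-subgroup of the (finite) subgroup `H`, stated by cardinality. -/
def IsSylOf (p : ℕ) (T H : Subgroup X) : Prop :=
  T ≤ H ∧ Nat.card T = p ^ (Nat.card H).factorization p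

theorem card_cj (g : X) (H : Subgroup X) : Nat.card (cj g H) = Nat.card H :=
  (Nat.card_congr ((MulAut.conj g).subgroupMap H).toEquiv).symm

theorem IsSylOf.cj {T H : Subgroup X} (h : IsSylOf p T H) (g : X) :
    IsSylOf p (cj g T) (cj g H) :=
  ⟨cj_le_cj h.1, by rw [card_cj, card_cj, h.2]⟩

theorem IsSylOf.isPGroup [Fact p.Prime] {T H : Subgroup X} (h : IsSylOf p T H) :
    IsPGroup p T := IsPGroup.of_card h.2

theorem Sylow.isSylOf [Fact p.Prime] {H : Subgroup X} [Finite H] (S : Sylow p H) :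
    IsSylOf p ((S : Subgroup H).map H.subtype) H := by
  refine ⟨map_subtype_le _, ?_⟩
  rw [Nat.card_congr (equivMapOfInjective (S : Subgroup H) _ H.subtype_injective).toEquiv.symm]
  exact S.card_eq_multiplicity

theorem IsSylOf.exists_sylow [Fact p.Prime] {T H : Subgroup X} [Finite H] (h : IsSylOf p T H) :
    ∃ S : Sylow p H, T = (S : Subgroup H).map H.subtype := by
  have hc : Nat.card (T.subgroupOf H) = p ^ (Nat.card H).factorization p := by
    rw [Nat.card_congr (subgroupOfEquivOfLe h.1).toEquiv, h.2]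
  refine ⟨Sylow.ofCard (T.subgroupOf H) hc, ?_⟩
  rw [Sylow.coe_ofCard, map_subgroupOf_eq_of_le h.1]

theorem exists_isSylOf [Fact p.Prime] (H : Subgroup X) [Finite H] : ∃ T, IsSylOf p T H :=
  ⟨_, Sylow.isSylOf (default : Sylow p H)⟩

theorem IsSylOf.pCoreOf_le [Fact p.Prime] {T H : Subgroup X} [Finite H] (h : IsSylOf p T H) :
    pCoreOf p H ≤ T := by
  obtain ⟨S, rfl⟩ := h.exists_sylow
  haveI := pCore_normal' p H
  exact map_mono ((pCore_isPGroup' H).le_sylow_of_normal S)

theorem exists_isSylOf_ge [Fact p.Prime] {P H : Subgroup X} [Finite H] (hP : IsPGroup p P)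
    (hle : P ≤ H) : ∃ T, IsSylOf p T H ∧ P ≤ T := by
  obtain ⟨S, hS⟩ := (hP.of_equiv (subgroupOfEquivOfLe hle).symm).exists_le_sylow
  refine ⟨_, Sylow.isSylOf S, ?_⟩
  rw [← map_subgroupOf_eq_of_le hle]
  exact map_mono hS

theorem IsSylOf.exists_conj [Fact p.Prime] {T U H : Subgroup X} [Finite H]
    (hT : IsSylOf p T H) (hU : IsSylOf p U H) : ∃ g ∈ H, LocalEven.cj g T = U := by
  obtain ⟨S, rfl⟩ := hT.exists_sylow
  obtain ⟨R, rfl⟩ := hU.exists_sylow
  obtain ⟨g, hg⟩ := MulAction.exists_smul_eq H S R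
  refine ⟨g, g.2, ?_⟩
  rw [← hg]
  ext x
  constructor
  · rintro ⟨y, ⟨z, hz, rfl⟩, rfl⟩
    exact ⟨g * z * g⁻¹, ⟨z, hz, rfl⟩, rfl⟩
  · rintro ⟨y, ⟨z, hz, rfl⟩, rfl⟩
    exact ⟨z, ⟨z, hz, rfl⟩, rfl⟩

theorem IsSylOf.of_isPGroup_ge [Fact p.Prime] {T P H : Subgroup X} [Finite H]
    (hT : IsSylOf p T H) (hP : IsPGroup p P) (h : T ≤ P) (hle : P ≤ H) : P = T := by
  obtain ⟨U, hU, hPU⟩ := exists_isSylOf_ge hP hle
  haveI : Finite U := Finite.of_injective _ (inclusion_injective hU.1)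
  have : T = U := eq_of_le_of_card_ge (h.trans hPU) (by rw [hT.2, hU.2])
  exact le_antisymm (this ▸ hPU) h

/-- `Ω₁(Z(T))` in the ambient group -/
abbrev omegaZ (p : ℕ) (T : Subgroup X) : Subgroup X :=
  omegaOne p (T ⊓ centralizer (T : Set X))

theorem cj_omegaZ (g : X) (T : Subgroup X) : cj g (omegaZ p T) = omegaZ p (cj g T) := by
  rw [omegaZ, cj_omegaOne, cj_inf, cj_centralizer]

theorem sylowCenterClosure_eq [Fact p.Prime] (H : Subgroup X) [Finite H] :
    sylowCenterClosure p H = ⨆ T : {T // IsSylOf p T H}, omegaZ p T.1 := by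
  apply le_antisymm
  · exact iSup_le fun S => le_iSup_of_le ⟨_, Sylow.isSylOf S⟩ le_rfl
  · refine iSup_le fun T => ?_
    obtain ⟨S, hS⟩ := T.2.exists_sylow
    exact le_iSup_of_le S (by rw [hS])

theorem IsSylOf.omegaZ_le [Fact p.Prime] {T H : Subgroup X} [Finite H] (h : IsSylOf p T H) :
    omegaZ p T ≤ sylowCenterClosure p H := by
  rw [sylowCenterClosure_eq]
  exact le_iSup (fun T : {T // IsSylOf p T H} => omegaZ p T.1) ⟨T, h⟩

theorem sylowCenterClosure_le [Fact p.Prime] {H K : Subgroup X} [Finite H]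
    (h : ∀ T, IsSylOf p T H → omegaZ p T ≤ K) : sylowCenterClosure p H ≤ K := by
  rw [sylowCenterClosure_eq]
  exact iSup_le fun T => h T.1 T.2

theorem le_normalizer_sylowCenterClosure [Fact p.Prime] (H : Subgroup X) [Finite H] :
    H ≤ normalizer (sylowCenterClosure p H : Set X) := by
  have key : ∀ g ∈ H, LocalEven.cj g (sylowCenterClosure p H) ≤ sylowCenterClosure p H := by
    intro g hg
    rw [LocalEven.cj, map_le_iff_le_comap]
    refine sylowCenterClosure_le fun T hT => ?_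
    rw [← map_le_iff_le_comap]
    have h' := (hT.cj g)
    rw [cj_of_mem hg] at h'
    rw [← LocalEven.cj, cj_omegaZ]
    exact h'.omegaZ_le
  intro g hg
  rw [mem_normalizer_iff_cj]
  refine le_antisymm (key g hg) ?_
  have := cj_le_cj (g := g) (key g⁻¹ (inv_mem hg))
  rwa [cj_cj, mul_inv_cancel, cj_one] at this

/-- In a group of characteristic `p`, `Ω₁(Z(S)) ≤ O_p`. -/
theorem sylowCenterClosure_le_pCoreOf [Fact p.Prime] {H : Subgroup X} [Finite H]
    (hc : H ⊓ centralizer (pCoreOf p H : Set X) ≤ pCoreOf p H) :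
    sylowCenterClosure p H ≤ pCoreOf p H := by
  refine sylowCenterClosure_le fun T hT => le_trans (omegaOne_le _) ?_
  exact le_trans (inf_le_inf hT.1 (centralizer_le hT.pCoreOf_le)) hc

end CfsgLib.LocalEven
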