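import Cfsg.Agent.Lib.RootSub.SL2Model
import Mathlib.GroupTheory.Sylow
import Mathlib.Algebra.CharP.Basic

/-!
An irreducible `SL₂(F)`-group in the characteristic of `F` in which the root group acts
quadratically, or has a large fixed-point group, is the natural module.
-/

set_option autoImplicit false

namespace CfsgLib.LocalEven.SL2Natural

open Matrix CfsgLib.RootSub

variable {F : Type*} [Field F]

/-- The monomial element `!![0, t; -t⁻¹, 0]`. -/
def slW (t : F) : SpecialLinearGroup (Fin 2) F := slU t * slL (-t⁻¹) * slU t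

theorem slW_val {t : F} (ht : t ≠ 0) :
    ((slW t : SpecialLinearGroup (Fin 2) F) : Matrix (Fin 2) (Fin 2) F) = !![0, t; -t⁻¹, 0] := by
  simp [slW, slU_val, slL_val, Matrix.mul_fin_two, ht]

theorem slU_mul_slW {t : F} (ht : t ≠ 0) (x : F) : slU x * slW t = slW t * slL (-x / (t * t)) := by
  apply Subtype.ext
  simp [slU_val, slL_val, slW_val ht, Matrix.mul_fin_two]
  field_simp

theorem slL_mul_slW {t : F} (ht : t ≠ 0) (x : F) : slL x * slW t = slW t * slU (-(t * t) * x) := by
  apply Subtype.ext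
  simp [slU_val, slL_val, slW_val ht, Matrix.mul_fin_two]
  field_simp

theorem slW_neg_mul {t : F} (ht : t ≠ 0) : slW (-t) * slW t = 1 := by
  apply Subtype.ext
  simp [slW_val ht, slW_val (neg_ne_zero.mpr ht), Matrix.mul_fin_two, Matrix.one_fin_two, ht]

theorem slD_mul {a b : F} (ha : a ≠ 0) (hb : b ≠ 0) :
    slW a * slW (-1) * (slW b * slW (-1)) = slW (a * b) * slW (-1) := by
  apply Subtype.ext
  simp [slW_val ha, slW_val hb, slW_val (mul_ne_zero ha hb),
    slW_val (neg_ne_zero.mpr (one_ne_zero : (1 : F) ≠ 0)), Matrix.mul_fin_two]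
  field_simp

theorem closure_slU_slW : Subgroup.closure (Set.range (slU : F → _) ∪ {slW 1}) = ⊤ := by
  set H := Subgroup.closure (Set.range (slU : F → SpecialLinearGroup (Fin 2) F) ∪ {slW 1})
  have hU : ∀ x : F, slU x ∈ H := fun x => Subgroup.subset_closure (Or.inl ⟨x, rfl⟩)
  have hW : slW (1 : F) ∈ H := Subgroup.subset_closure (Or.inr rfl)
  have hL : ∀ x : F, slL x ∈ H := fun x => by
    rw [eq_mul_inv_of_mul_eq (slL_mul_slW (one_ne_zero : (1 : F) ≠ 0) x)]
    exact mul_mem (mul_mem hW (hU _)) (inv_mem hW)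
  rw [eq_top_iff, ← sl2_sup_eq_top, lowerUnipotent_eq, upperUnipotent_eq]
  refine sup_le ?_ ?_
  · rintro _ ⟨x, rfl⟩; exact hL _
  · rintro _ ⟨x, rfl⟩; exact hU _

section

variable {A : Type*} [AddCommGroup A] (ρ : SpecialLinearGroup (Fin 2) F →* AddMonoid.End A)

theorem map_mul_apply (g h : SpecialLinearGroup (Fin 2) F) (v : A) : ρ (g * h) v = ρ g (ρ h v) := by
  rw [map_mul]; rfl

theorem map_one_apply (v : A) : ρ 1 v = v := by
  rw [map_one]; rfl

/-- Fixed points of the upper root group. -/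
def fixU : AddSubgroup A where
  carrier := {v | ∀ t : F, ρ (slU t) v = v}
  add_mem' := fun {a b} ha hb t => by rw [map_add, ha t, hb t]
  zero_mem' := fun t => map_zero _
  neg_mem' := fun {a} ha t => by rw [map_neg, ha t]

/-- Fixed points of the lower root group. -/
def fixL : AddSubgroup A where
  carrier := {v | ∀ t : F, ρ (slL t) v = v}
  add_mem' := fun {a b} ha hb t => by rw [map_add, ha t, hb t]
  zero_mem' := fun t => map_zero _
  neg_mem' := fun {a} ha t => by rw [map_neg, ha t]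

/-- An additive subgroup invariant under the group. -/
def IsInv (W : AddSubgroup A) : Prop := ∀ g : SpecialLinearGroup (Fin 2) F, ∀ v ∈ W, ρ g v ∈ W

theorem isInv_of_gens [Finite A] {W : AddSubgroup A} (hU : ∀ t : F, ∀ v ∈ W, ρ (slU t) v ∈ W)
    (hW : ∀ v ∈ W, ρ (slW 1) v ∈ W) : IsInv ρ W := by
  intro g
  have hg : g ∈ Subgroup.closure (Set.range (slU : F → _) ∪ {slW 1}) := by
    rw [closure_slU_slW]; trivial
  induction hg using Subgroup.closure_induction with
  | mem x hx =>
    rcases hx with ⟨t, rfl⟩ | hx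
    · exact hU t
    · rw [Set.mem_singleton_iff] at hx; subst hx; exact hW
  | one => intro v hv; rwa [map_one_apply]
  | mul a b _ _ iha ihb => intro v hv; rw [map_mul_apply]; exact iha _ (ihb v hv)
  | inv a _ iha =>
    intro v hv
    obtain ⟨⟨u, hu⟩, huv⟩ := Finite.surjective_of_injective
      (f := fun u : W => (⟨ρ a u, iha u u.2⟩ : W))
      (fun u u' h => Subtype.ext (by
        have h' := congrArg (fun z : W => ρ a⁻¹ (z : A)) h
        simpa only [← map_mul_apply, inv_mul_cancel, map_one_apply] using h'))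
      ⟨v, hv⟩
    have e : ρ a u = v := congrArg Subtype.val huv
    rw [← e, ← map_mul_apply, inv_mul_cancel, map_one_apply]
    exact hu

theorem w_mem_fixU {t : F} (ht : t ≠ 0) {v : A} (hv : v ∈ fixL ρ) : ρ (slW t) v ∈ fixU ρ := fun x => by
  rw [← map_mul_apply, slU_mul_slW ht, map_mul_apply, hv]

theorem w_mem_fixL {t : F} (ht : t ≠ 0) {v : A} (hv : v ∈ fixU ρ) : ρ (slW t) v ∈ fixL ρ := fun x => by
  rw [← map_mul_apply, slL_mul_slW ht, map_mul_apply, hv]

/-- The natural module theorem. -/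
theorem exists_natural [Finite F] [Finite A] {p : ℕ} [Fact p.Prime] [CharP F p]
    (hA : ∀ a : A, p • a = 0)
    (hirr : ∀ W : AddSubgroup A, IsInv ρ W → W = ⊥ ∨ W = ⊤)
    (hnt : ∃ g v, ρ g v ≠ v)
    (hyp : (∀ (s t : F) (v : A), ρ (slU s) (ρ (slU t) v - v) = ρ (slU t) v - v) ∨
      Nat.card A ≤ Nat.card (fixU ρ) ^ 2) :
    ∃ ψ : A ≃+ (Fin 2 → F), ∀ g v, ψ (ρ g v) =
      (g : Matrix (Fin 2) (Fin 2) F).mulVec (ψ v) := by
  classical
  have hm1 : (-1 : F) ≠ 0 := neg_ne_zero.mpr one_ne_zero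
  set V0 := fixU ρ with hV0
  set V1 := fixL ρ with hV1
  have hw11 : ∀ v : A, ρ (slW (1 : F)) (ρ (slW (-1)) v) = v := fun v => by
    have h := slW_neg_mul hm1
    rw [neg_neg] at h
    rw [← map_mul_apply, h, map_one_apply]
  -- no fixed points
  have hdis : ∀ v, v ∈ V0 → v ∈ V1 → v = 0 := by
    intro v h0 h1
    have hfix : ∀ u ∈ V0 ⊓ V1, ρ (slW (1 : F)) u = u := fun u hu => by
      rw [slW, map_mul_apply, map_mul_apply, hu.1, hu.2, hu.1]
    have hinv : IsInv ρ (V0 ⊓ V1) := isInv_of_gens ρ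
      (fun t u hu => by rw [hu.1]; exact hu) (fun u hu => by rw [hfix u hu]; exact hu)
    rcases hirr _ hinv with h | h
    · exact (AddSubgroup.mem_bot).mp (h ▸ ⟨h0, h1⟩)
    · obtain ⟨g, u, hgu⟩ := hnt
      refine absurd ?_ hgu
      have hall : ∀ u : A, u ∈ V0 ⊓ V1 := fun u => h ▸ trivial
      have hg : g ∈ Subgroup.closure (Set.range (slU : F → _) ∪ {slW 1}) := by
        rw [closure_slU_slW]; trivial
      clear hgu
      induction hg using Subgroup.closure_induction generalizing u with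
      | mem x hx =>
        rcases hx with ⟨t, rfl⟩ | hx
        · exact (hall u).1 t
        · rw [Set.mem_singleton_iff] at hx; subst hx; exact hfix u (hall u)
      | one => exact map_one_apply ρ u
      | mul a b _ _ iha ihb => rw [map_mul_apply, ihb, iha]
      | inv a _ iha =>
        conv_rhs => rw [← map_one_apply ρ u, ← inv_mul_cancel a, map_mul_apply, iha u]
  have hV0V1 : ∀ a ∈ V0, ∀ b ∈ V1, ∀ a' ∈ V0, ∀ b' ∈ V1, a + b = a' + b' → a = a' ∧ b = b' := by
    intro a ha b hb a' ha' b' hb' h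
    have h' : a - a' = b' - b := by
      rw [sub_eq_sub_iff_add_eq_add, add_comm b' a']; exact h
    have h0 := hdis _ (sub_mem ha ha') (h' ▸ sub_mem hb' hb)
    have ha0 := sub_eq_zero.mp h0
    subst ha0
    exact ⟨rfl, add_left_cancel h⟩
  -- the whole group is `V0 + V1`
  have hdec : ∀ v : A, ∃ a ∈ V0, ∃ b ∈ V1, v = a + b := by
    rcases hyp with hq | hc
    · have hS : V0 ⊔ V1 = ⊤ := by
        refine (hirr _ (isInv_of_gens ρ ?_ ?_)).resolve_left fun hbot => ?_
        · intro t v hv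
          obtain ⟨a, ha, b, hb, rfl⟩ := AddSubgroup.mem_sup.mp hv
          have e : ρ (slU t) (a + b) = (a + (ρ (slU t) b - b)) + b := by
            rw [map_add, ha t]; abel
          rw [e]
          exact AddSubgroup.mem_sup.mpr ⟨_, add_mem ha (fun s => hq s t b), b, hb, rfl⟩
        · intro v hv
          obtain ⟨a, ha, b, hb, rfl⟩ := AddSubgroup.mem_sup.mp hv
          rw [map_add, add_comm]
          exact AddSubgroup.mem_sup.mpr
            ⟨_, w_mem_fixU ρ one_ne_zero hb, _, w_mem_fixL ρ one_ne_zero ha, rfl⟩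
        · -- then the root groups act trivially
          have hUt : ∀ (t : F) (v : A), ρ (slU t) v = v := fun t v =>
            sub_eq_zero.mp (AddSubgroup.mem_bot.mp
              (hbot ▸ AddSubgroup.mem_sup_left (fun s => hq s t v)))
          obtain ⟨g, u, hgu⟩ := hnt
          have hu : u ∈ V0 ⊔ V1 := AddSubgroup.mem_sup_left fun t => hUt t u
          rw [hbot, AddSubgroup.mem_bot] at hu
          exact hgu (by rw [hu, map_zero])
      intro v
      obtain ⟨a, ha, b, hb, e⟩ := AddSubgroup.mem_sup.mp (hS.ge (AddSubgroup.mem_top v))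
      exact ⟨a, ha, b, hb, e.symm⟩
    · have hinj : Function.Injective fun x : V0 × V1 => (x.1 : A) + x.2 := by
        rintro ⟨a, b⟩ ⟨a', b'⟩ h
        obtain ⟨h1, h2⟩ := hV0V1 a a.2 b b.2 a' a'.2 b' b'.2 h
        exact Prod.ext (Subtype.ext h1) (Subtype.ext h2)
      have hcard : Nat.card V1 = Nat.card V0 := by
        refine le_antisymm (Nat.card_le_card_of_injective
          (fun v : V1 => (⟨_, w_mem_fixU ρ one_ne_zero v.2⟩ : V0)) fun v v' h => Subtype.ext ?_)
          (Nat.card_le_card_of_injective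
          (fun v : V0 => (⟨_, w_mem_fixL ρ one_ne_zero v.2⟩ : V1)) fun v v' h => Subtype.ext ?_) <;>
        · have h' := congrArg (ρ (slW (-1 : F))) (congrArg Subtype.val h)
          simpa only [← map_mul_apply, slW_neg_mul (one_ne_zero : (1 : F) ≠ 0), map_one_apply] using h'
      have hb := hinj.bijective_of_nat_card_le (by rw [Nat.card_prod, hcard, ← pow_two]; exact hc)
      intro v
      obtain ⟨⟨a, b⟩, hab⟩ := hb.2 v
      exact ⟨a, a.2, b, b.2, hab.symm⟩
  -- the vectors on which `U` is quadratic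
  let X : AddSubgroup A :=
    { carrier := {v | v ∈ V1 ∧ ∀ t : F, ρ (slU t) v - v ∈ V0}
      add_mem' := fun {a b} ha hb => ⟨add_mem ha.1 hb.1, fun t => by
        rw [map_add, add_sub_add_comm]; exact add_mem (ha.2 t) (hb.2 t)⟩
      zero_mem' := ⟨zero_mem _, fun t => by rw [map_zero, sub_zero]; exact zero_mem _⟩
      neg_mem' := fun {a} ha => ⟨neg_mem ha.1, fun t => by
        rw [map_neg, ← neg_sub']; exact neg_mem (ha.2 t)⟩ }
  let Y : AddSubgroup A :=
    { carrier := {v | v ∈ V0 ∧ ∀ t : F, ρ (slL t) v - v ∈ V1}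
      add_mem' := fun {a b} ha hb => ⟨add_mem ha.1 hb.1, fun t => by
        rw [map_add, add_sub_add_comm]; exact add_mem (ha.2 t) (hb.2 t)⟩
      zero_mem' := ⟨zero_mem _, fun t => by rw [map_zero, sub_zero]; exact zero_mem _⟩
      neg_mem' := fun {a} ha => ⟨neg_mem ha.1, fun t => by
        rw [map_neg, ← neg_sub']; exact neg_mem (ha.2 t)⟩ }
  have hXY : ∀ {t : F}, t ≠ 0 → ∀ v ∈ X, ρ (slW t) v ∈ Y := fun {t} ht v hv =>
    ⟨w_mem_fixU ρ ht hv.1, fun x => by
      rw [← map_mul_apply, slL_mul_slW ht, map_mul_apply, ← map_sub]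
      exact w_mem_fixL ρ ht (hv.2 _)⟩
  have hYX : ∀ {t : F}, t ≠ 0 → ∀ v ∈ Y, ρ (slW t) v ∈ X := fun {t} ht v hv =>
    ⟨w_mem_fixL ρ ht hv.1, fun x => by
      rw [← map_mul_apply, slU_mul_slW ht, map_mul_apply, ← map_sub]
      exact w_mem_fixU ρ ht (hv.2 _)⟩
  have hkey : ∀ {t : F}, t ≠ 0 → ∀ v ∈ X, ρ (slU t) v - v = ρ (slW t) v := by
    intro t ht v hv
    set x := ρ (slU t) v - v with hx
    set y := ρ (slW t) v with hy
    have hyY : y ∈ Y := hXY ht v hv
    have e1 : y = ρ (slU t) (v + ρ (slL (-t⁻¹)) x) := by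
      rw [hy, slW, map_mul_apply, map_mul_apply, show ρ (slU t) v = v + x by rw [hx]; abel,
        map_add (ρ (slL _)), hv.1]
    have e2 : v + ρ (slL (-t⁻¹)) x = y := by
      have h := congrArg (ρ (slU (-t))) e1
      rwa [hyY.1, ← map_mul_apply, slU_neg, inv_mul_cancel, map_one_apply, eq_comm] at h
    have e3 : x = ρ (slL t⁻¹) (y - v) := by
      rw [← e2, add_sub_cancel_left, ← map_mul_apply, ← slL_add, add_neg_cancel, slL_zero,
        map_one_apply]
    rw [map_sub, hv.1] at e3
    exact sub_eq_zero.mp (hdis _ (sub_mem (hv.2 t) hyY.1)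
      (by rw [e3, sub_right_comm]; exact sub_mem (hyY.2 _) hv.1))
  have hUX : ∀ v ∈ V1, ∀ t : F, ρ (slU t) v - v ∈ V0 := by
    rcases hyp with hq | -
    · exact fun v _ t s => hq s t v
    · -- some vector of `V1` is fixed modulo `V0`
      have hX0 : X ≠ ⊥ := by
        intro hbot
        have hle : ∀ t : F, V0 ≤ V0.comap (ρ (slU t)) := fun t v hv => by
          show ρ (slU t) v ∈ V0
          rw [hv t]; exact hv
        let inst : MulAction (Multiplicative F) (A ⧸ V0) :=
          { smul := fun t q => QuotientAddGroup.map V0 V0 (ρ (slU t.toAdd)) (hle _) q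
            mul_smul := fun s t q => by
              induction q using QuotientAddGroup.induction_on with
              | _ a =>
                show ((ρ (slU (s.toAdd + t.toAdd)) a : A) : A ⧸ V0) =
                  ((ρ (slU s.toAdd) (ρ (slU t.toAdd) a) : A) : A ⧸ V0)
                rw [slU_add, map_mul_apply]
            one_smul := fun q => by
              induction q using QuotientAddGroup.induction_on with
              | _ a =>
                show ((ρ (slU 0) a : A) : A ⧸ V0) = (a : A ⧸ V0)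
                rw [slU_zero, map_one_apply] }
        have hP : IsPGroup p (Multiplicative F) := fun x => ⟨1, by
          apply Multiplicative.toAdd.injective
          rw [pow_one, toAdd_pow, toAdd_one, nsmul_eq_mul, CharP.cast_eq_zero, zero_mul]⟩
        obtain ⟨g, u, hgu⟩ := hnt
        obtain ⟨a, ha, b, hb, hab⟩ := hdec u
        have hb0 : ∃ b : A, b ∈ V1 ∧ b ≠ 0 := by
          by_contra hcon
          push Not at hcon
          obtain rfl := hcon b hb
          rw [add_zero] at hab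
          subst hab
          refine hgu ?_
          have hu0 : u = 0 := by
            have h := hcon _ (w_mem_fixL ρ (one_ne_zero : (1 : F) ≠ 0) ha)
            have h' := congrArg (ρ (slW (-1 : F))) h
            rwa [← map_mul_apply, slW_neg_mul one_ne_zero, map_one_apply, map_zero] at h'
          rw [hu0, map_zero]
        obtain ⟨b, hb, hb0⟩ := hb0
        have hbq : (b : A ⧸ V0) ≠ 0 := fun h =>
          hb0 (hdis b ((QuotientAddGroup.eq_zero_iff b).mp h) hb)
        have hdvd : p ∣ Nat.card (A ⧸ V0) := by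
          rw [← addOrderOf_eq_prime (p := p) ?_ hbq]
          · exact addOrderOf_dvd_natCard _
          · rw [← QuotientAddGroup.mk_nsmul, hA, QuotientAddGroup.mk_zero]
        have h0 : (0 : A ⧸ V0) ∈ MulAction.fixedPoints (Multiplicative F) (A ⧸ V0) := fun t => by
          show QuotientAddGroup.map V0 V0 (ρ (slU t.toAdd)) (hle _) 0 = 0
          exact map_zero _
        obtain ⟨q, hq, hne⟩ := hP.exists_fixed_point_of_prime_dvd_card_of_fixed_point _ hdvd h0
        obtain ⟨c, rfl⟩ := QuotientAddGroup.mk_surjective q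
        obtain ⟨a', ha', b', hb', rfl⟩ := hdec c
        have hb'X : b' ∈ X := ⟨hb', fun t => by
          have h : ((ρ (slU t) (a' + b') : A) : A ⧸ V0) = ((a' + b' : A) : A ⧸ V0) :=
            hq (Multiplicative.ofAdd t)
          rw [QuotientAddGroup.eq_iff_sub_mem, map_add, ha' t, add_sub_add_left_eq_sub] at h
          exact h⟩
        rw [hbot, AddSubgroup.mem_bot] at hb'X
        subst hb'X
        exact hne (by rw [add_zero]; exact ((QuotientAddGroup.eq_zero_iff a').mpr ha').symm)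
      have hinv : IsInv ρ (Y ⊔ X) := by
        refine isInv_of_gens ρ ?_ ?_
        · intro t v hv
          obtain ⟨a, ha, b, hb, rfl⟩ := AddSubgroup.mem_sup.mp hv
          rcases eq_or_ne t 0 with rfl | ht
          · rwa [slU_zero, map_one_apply]
          · have e : ρ (slU t) (a + b) = (a + ρ (slW t) b) + b := by
              rw [map_add, ha.1 t, ← hkey ht b hb]; abel
            rw [e]
            exact AddSubgroup.mem_sup.mpr ⟨_, add_mem ha (hXY ht b hb), b, hb, rfl⟩
        · intro v hv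
          obtain ⟨a, ha, b, hb, rfl⟩ := AddSubgroup.mem_sup.mp hv
          rw [map_add, add_comm]
          exact AddSubgroup.mem_sup.mpr
            ⟨_, hXY one_ne_zero b hb, _, hYX one_ne_zero a ha, rfl⟩
      intro v hv t
      have htop := (hirr _ hinv).resolve_left fun h => hX0 (le_bot_iff.mp (h ▸ le_sup_right))
      obtain ⟨a, ha, b, hb, e⟩ := AddSubgroup.mem_sup.mp (htop.ge (AddSubgroup.mem_top v))
      obtain ⟨-, rfl⟩ := hV0V1 a ha.1 b hb.1 0 (zero_mem _) v hv (by rw [e, zero_add])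
      exact hb.2 t
  -- the scalar action on `V0`
  let E : F → A → A := fun a x => ρ (slU a) (ρ (slW (-1)) x) - ρ (slW (-1)) x
  have hmem1 : ∀ x ∈ V0, ρ (slW (-1 : F)) x ∈ V1 := fun x hx => w_mem_fixL ρ hm1 hx
  have hEmem : ∀ (a : F), ∀ x ∈ V0, E a x ∈ V0 := fun a x hx => hUX _ (hmem1 x hx) a
  have hE : ∀ {a : F}, a ≠ 0 → ∀ x ∈ V0, E a x = ρ (slW a * slW (-1)) x := fun {a} ha x hx => by
    rw [map_mul_apply]
    exact hkey ha _ ⟨hmem1 x hx, hUX _ (hmem1 x hx)⟩
  have hE0 : ∀ x, E 0 x = 0 := fun x => by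
    show ρ (slU 0) _ - _ = 0
    rw [slU_zero, map_one_apply, sub_self]
  have hEx : ∀ a, E a 0 = 0 := fun a => by
    show ρ (slU a) (ρ (slW (-1)) 0) - ρ (slW (-1)) 0 = 0
    simp
  have hEadd : ∀ (a b : F), ∀ x ∈ V0, E (a + b) x = E a x + E b x := fun a b x hx => by
    have hm := hEmem b x hx a
    simp only [E] at hm ⊢
    rw [map_sub] at hm
    rw [slU_add, map_mul_apply, ← hm]
    abel
  have hEmul : ∀ (a b : F), ∀ x ∈ V0, E a (E b x) = E (a * b) x := by
    intro a b x hx
    rcases eq_or_ne a 0 with rfl | ha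
    · rw [zero_mul, hE0, hE0]
    rcases eq_or_ne b 0 with rfl | hb
    · rw [mul_zero, hE0, hEx]
    rw [hE ha _ (hEmem b x hx), hE hb x hx, hE (mul_ne_zero ha hb) x hx, ← map_mul_apply,
      slD_mul ha hb]
  have hE1 : ∀ x ∈ V0, E 1 x = x := fun x hx => by rw [hE one_ne_zero x hx, map_mul_apply, hw11]
  have hEneg : ∀ x ∈ V0, E (-1) x = -x := fun x hx =>
    eq_neg_of_add_eq_zero_left (by
      have h := hEadd (-1) 1 x hx
      rw [neg_add_cancel, hE0, hE1 x hx] at h
      exact h.symm)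
  have hEinj : ∀ {a : F}, a ≠ 0 → ∀ x ∈ V0, E a x = 0 → x = 0 := fun {a} ha x hx h => by
    rw [← hE1 x hx, ← inv_mul_cancel₀ ha, ← hEmul a⁻¹ a x hx, h, hEx]
  obtain ⟨x₀, hx₀, hx₀0⟩ : ∃ x ∈ V0, x ≠ (0 : A) := by
    by_contra hcon
    push Not at hcon
    obtain ⟨g, u, hgu⟩ := hnt
    obtain ⟨a, ha, b, hb, hab⟩ := hdec u
    have h := hcon _ (w_mem_fixU ρ (one_ne_zero : (1 : F) ≠ 0) hb)
    have h' := congrArg (ρ (slW (-1 : F))) h
    rw [← map_mul_apply, slW_neg_mul one_ne_zero, map_one_apply, map_zero] at h'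
    exact hgu (by rw [hab, hcon a ha, h', add_zero, map_zero])
  let Φ : (Fin 2 → F) →+ A :=
    { toFun := fun c => E (c 0) x₀ + ρ (slW (-1)) (E (c 1) x₀)
      map_zero' := by simp [hE0]
      map_add' := fun c d => by
        simp only [Pi.add_apply, hEadd _ _ x₀ hx₀, map_add]
        abel }
  have hΦU : ∀ (t : F) (c : Fin 2 → F),
      ρ (slU t) (Φ c) = Φ ((slU t : Matrix (Fin 2) (Fin 2) F).mulVec c) := by
    intro t c
    show ρ (slU t) (E (c 0) x₀ + ρ (slW (-1)) (E (c 1) x₀)) = E _ x₀ + ρ (slW (-1)) (E _ x₀)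
    have e0 : ((slU t : Matrix (Fin 2) (Fin 2) F).mulVec c) 0 = c 0 + t * c 1 := by
      simp [slU_val, Matrix.mulVec, dotProduct, Fin.sum_univ_two]
    have e1 : ((slU t : Matrix (Fin 2) (Fin 2) F).mulVec c) 1 = c 1 := by
      simp [slU_val, Matrix.mulVec, dotProduct, Fin.sum_univ_two]
    rw [map_add, hEmem _ x₀ hx₀ t, e0, e1, hEadd _ _ x₀ hx₀, ← hEmul t _ x₀ hx₀]
    simp only [E]
    abel
  have hΦW : ∀ c : Fin 2 → F,
      ρ (slW (-1)) (Φ c) = Φ ((slW (-1 : F) : Matrix (Fin 2) (Fin 2) F).mulVec c) := by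
    intro c
    show ρ (slW (-1)) (E (c 0) x₀ + ρ (slW (-1)) (E (c 1) x₀)) = E _ x₀ + ρ (slW (-1)) (E _ x₀)
    have e0 : ((slW (-1 : F) : Matrix (Fin 2) (Fin 2) F).mulVec c) 0 = -c 1 := by
      simp [slW_val hm1, Matrix.mulVec, dotProduct, Fin.sum_univ_two]
    have e1 : ((slW (-1 : F) : Matrix (Fin 2) (Fin 2) F).mulVec c) 1 = c 0 := by
      simp [slW_val hm1, Matrix.mulVec, dotProduct, Fin.sum_univ_two]
    rw [map_add, ← map_mul_apply ρ (slW (-1)) (slW (-1)), ← hE hm1 _ (hEmem _ x₀ hx₀),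
      hEmul _ _ x₀ hx₀, e0, e1, neg_one_mul, add_comm]
  have hΦ : ∀ (g : SpecialLinearGroup (Fin 2) F) (c : Fin 2 → F),
      ρ g (Φ c) = Φ ((g : Matrix (Fin 2) (Fin 2) F).mulVec c) := by
    intro g
    have hg : g ∈ Subgroup.closure (Set.range (slU : F → _) ∪ {slW 1}) := by
      rw [closure_slU_slW]; trivial
    induction hg using Subgroup.closure_induction with
    | mem x hx =>
      rcases hx with ⟨t, rfl⟩ | hx
      · exact hΦU t
      · rw [Set.mem_singleton_iff] at hx; subst hx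
        intro c
        have h := hΦW ((slW (1 : F) : Matrix (Fin 2) (Fin 2) F).mulVec c)
        rw [Matrix.mulVec_mulVec, show ((slW (-1 : F) : Matrix (Fin 2) (Fin 2) F) *
            (slW (1 : F) : Matrix (Fin 2) (Fin 2) F)) = ((slW (-1) * slW 1 :
            SpecialLinearGroup (Fin 2) F) : Matrix (Fin 2) (Fin 2) F) from rfl,
          slW_neg_mul one_ne_zero, show ((1 : SpecialLinearGroup (Fin 2) F) :
            Matrix (Fin 2) (Fin 2) F) = 1 from rfl, Matrix.one_mulVec] at h
        conv_lhs => rw [← h, hw11]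
    | one => intro c; rw [map_one_apply, show ((1 : SpecialLinearGroup (Fin 2) F) :
      Matrix (Fin 2) (Fin 2) F) = 1 from rfl, Matrix.one_mulVec]
    | mul a b _ _ iha ihb =>
      intro c
      rw [map_mul_apply, ihb, iha, Matrix.mulVec_mulVec]; rfl
    | inv a _ iha =>
      intro c
      have h := iha (((a⁻¹ : SpecialLinearGroup (Fin 2) F) : Matrix (Fin 2) (Fin 2) F).mulVec c)
      rw [Matrix.mulVec_mulVec, show ((a : Matrix (Fin 2) (Fin 2) F) *
          (a⁻¹ : SpecialLinearGroup (Fin 2) F)) = ((a * a⁻¹ :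
          SpecialLinearGroup (Fin 2) F) : Matrix (Fin 2) (Fin 2) F) from rfl, mul_inv_cancel,
        show ((1 : SpecialLinearGroup (Fin 2) F) : Matrix (Fin 2) (Fin 2) F) = 1 from rfl,
        Matrix.one_mulVec] at h
      conv_lhs => rw [← h, ← map_mul_apply, inv_mul_cancel, map_one_apply]
  have hinjE : ∀ a b : F, E a x₀ = E b x₀ → a = b := by
    intro a b h
    by_contra hne
    refine hx₀0 (hEinj (sub_ne_zero.mpr hne) x₀ hx₀ ?_)
    have h2 := hEadd (a - b) b x₀ hx₀
    rw [sub_add_cancel, h, right_eq_add] at h2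
    exact h2
  have hbij : Function.Bijective Φ := by
    constructor
    · intro c d h
      obtain ⟨h1, h2⟩ := hV0V1 _ (hEmem _ x₀ hx₀) _ (hmem1 _ (hEmem _ x₀ hx₀))
        _ (hEmem _ x₀ hx₀) _ (hmem1 _ (hEmem _ x₀ hx₀)) h
      have h2' := congrArg (ρ (slW (1 : F))) h2
      rw [hw11, hw11] at h2'
      funext i; fin_cases i
      · exact hinjE _ _ h1
      · exact hinjE _ _ h2'
    · refine AddMonoidHom.range_eq_top.mp ((hirr _ ?_).resolve_left fun h => hx₀0 ?_)
      · rintro g _ ⟨c, rfl⟩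
        exact ⟨_, (hΦ g c).symm⟩
      · have : Φ ![1, 0] ∈ Φ.range := ⟨_, rfl⟩
        rw [h, AddSubgroup.mem_bot] at this
        simpa [Φ, hE0, hE1 x₀ hx₀] using this
  refine ⟨(AddEquiv.ofBijective Φ hbij).symm, fun g v => ?_⟩
  rw [AddEquiv.symm_apply_eq]
  conv_lhs => rw [← (AddEquiv.ofBijective Φ hbij).apply_symm_apply v]
  exact hΦ g _

end

end CfsgLib.LocalEven.SL2Natural
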