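import Cfsg.Agent.Lib.LocalEven.Cores
import Cfsg.Prelude.Def_IsolatedElements
import Mathlib.GroupTheory.Nilpotent

/-!
Basic properties of isolated elements of prime power order.
-/

set_option autoImplicit false

namespace CfsgLib.LocalEven

open scoped Pointwise

variable {G : Type*} [Group G] [Finite G]

theorem zpowers_isPGroup {p : ℕ} {x : G} (hx : ∃ k : ℕ, orderOf x = p ^ k) :
    IsPGroup p (Subgroup.zpowers x) := by
  obtain ⟨k, hk⟩ := hx
  exact IsPGroup.of_card (n := k) (by rw [Nat.card_zpowers, hk])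

theorem isolated_central_in_pSubgroup {p : ℕ} [Fact p.Prime] {x : G} (hiso : Cfsg.IsIsolated x)
    {R : Subgroup G} (hR : IsPGroup p R) (hxR : x ∈ R) :
    R ≤ Subgroup.centralizer ({x} : Set G) := by
  by_contra hne
  have : Group.IsNilpotent R := hR.isNilpotent
  set H := (Subgroup.centralizer ({x} : Set G)).subgroupOf R with hH
  have hlt : H < ⊤ := by rwa [lt_top_iff_ne_top, Ne, hH, Subgroup.subgroupOf_eq_top]
  obtain ⟨n, hn, hnH⟩ := SetLike.exists_of_lt (normalizerCondition_of_isNilpotent H hlt)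
  apply hnH
  have hx' : (⟨x, hxR⟩ : R) ∈ H :=
    Subgroup.mem_subgroupOf.mpr (Subgroup.mem_centralizer_singleton_iff.mpr rfl)
  have h1 := (Subgroup.mem_normalizer_iff.mp hn _).mp hx'
  rw [hH, Subgroup.mem_subgroupOf, Subgroup.mem_centralizer_singleton_iff] at h1
  simp only [Subgroup.coe_mul, Subgroup.coe_inv] at h1
  have h2 := hiso n h1.symm
  rw [hH, Subgroup.mem_subgroupOf, Subgroup.mem_centralizer_singleton_iff]
  exact mul_inv_eq_iff_eq_mul.mp h2

theorem isolated_eq_of_conj_mem {p : ℕ} [Fact p.Prime] {x g : G} (hiso : Cfsg.IsIsolated x)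
    {R : Subgroup G} (hR : IsPGroup p R) (hxR : x ∈ R) (hg : g * x * g⁻¹ ∈ R) :
    g * x * g⁻¹ = x :=
  hiso g (Subgroup.mem_centralizer_singleton_iff.mp
    (isolated_central_in_pSubgroup hiso hR hxR hg)).symm

theorem isolated_mul_mem_centralizer {p : ℕ} [Fact p.Prime] {x g : G}
    (hx : ∃ k : ℕ, orderOf x = p ^ k) (hiso : Cfsg.IsIsolated x) {H : Subgroup G}
    (hxH : x ∈ H) (hgH : g * x * g⁻¹ ∈ H) :
    ∃ h ∈ H, h * g ∈ Subgroup.centralizer ({x} : Set G) := by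
  have hyp : ∃ k : ℕ, orderOf (g * x * g⁻¹) = p ^ k := by
    have : orderOf (g * x * g⁻¹) = orderOf x :=
      orderOf_injective (MulAut.conj g).toMonoidHom (MulAut.conj g).injective x
    rwa [this]
  obtain ⟨S₁, hS₁⟩ := (zpowers_isPGroup hx).comap_subtype (K := H) |>.exists_le_sylow
  obtain ⟨S₂, hS₂⟩ := (zpowers_isPGroup hyp).comap_subtype (K := H) |>.exists_le_sylow
  obtain ⟨h, hh⟩ := MulAction.exists_smul_eq H S₂ S₁
  have hxS : (⟨x, hxH⟩ : H) ∈ S₁ := hS₁ (Subgroup.mem_zpowers x)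
  have hyS : (⟨g * x * g⁻¹, hgH⟩ : H) ∈ S₂ := hS₂ (Subgroup.mem_zpowers (g * x * g⁻¹))
  have hyS' : h * (⟨g * x * g⁻¹, hgH⟩ : H) * h⁻¹ ∈ S₁ := by
    rw [← hh]
    exact Subgroup.smul_mem_pointwise_smul _ (MulAut.conj h) _ hyS
  refine ⟨h, h.2, Subgroup.mem_centralizer_singleton_iff.mpr ?_⟩
  have h1 := isolated_eq_of_conj_mem (g := (h : G) * g) hiso
    (S₁.isPGroup'.map H.subtype) ⟨_, hxS, rfl⟩
    ⟨_, hyS', by simp [mul_assoc]⟩
  exact mul_inv_eq_iff_eq_mul.mp h1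

end CfsgLib.LocalEven
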