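import Cfsg.Agent.Lib.LocalEven.Cores
import Mathlib.GroupTheory.Nilpotent
import Mathlib.GroupTheory.GroupAction.ConjAct

/-!
Elementary criteria for a subgroup to have characteristic `p`.
-/

set_option autoImplicit false

namespace CfsgLib.LocalEven

variable {G : Type*} [Group G]

theorem eq_one_of_isPGroup_of_coprime {p : ℕ} {R : Subgroup G} (hR : IsPGroup p R) {x : G}
    (hxR : x ∈ R) (hx : (orderOf x).Coprime p) : x = 1 := by
  obtain ⟨k, hk⟩ := hR ⟨x, hxR⟩
  have hxk : x ^ (p ^ k) = 1 := by simpa using congrArg Subtype.val hk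
  exact orderOf_eq_one_iff.mp
    (Nat.eq_one_of_dvd_coprimes (hx.pow_right k) dvd_rfl (orderOf_dvd_of_pow_eq_one hxk))

theorem core_characteristic (p : ℕ) (G : Type*) [Group G] :
    (Cfsg.pCore p G).Characteristic := by
  rw [Subgroup.characteristic_iff_map_le]
  intro φ
  rw [Cfsg.pCore, (Subgroup.gc_map_comap φ.toMonoidHom).l_sSup]
  refine iSup₂_le ?_
  rintro N ⟨hNn, hNp⟩
  exact le_sSup ⟨hNn.map φ.toMonoidHom φ.surjective, hNp.map _⟩

/-- A `p`-subgroup normal in a normal subgroup lies in `O_p`. -/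
theorem le_core_of_normal_normal [Finite G] {p : ℕ} {N K : Subgroup G} [hN : N.Normal] (hKN : K ≤ N)
    (hK : IsPGroup p K) (hnorm : N ≤ Subgroup.normalizer (K : Set G)) : K ≤ Cfsg.pCore p G := by
  have h1 : (K.subgroupOf N).Normal := (Subgroup.normal_subgroupOf_iff_le_normalizer hKN).mpr hnorm
  have h2 : K.subgroupOf N ≤ Cfsg.pCore p N :=
    le_core_of_normal h1 (hK.comap_subtype)
  have := core_characteristic p N
  have h3 : ((Cfsg.pCore p N).map N.subtype).Normal := inferInstance
  have h4 : (Cfsg.pCore p N).map N.subtype ≤ Cfsg.pCore p G :=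
    le_core_of_normal h3 ((core_isPGroup p N).map _)
  refine le_trans ?_ h4
  have := Subgroup.map_mono (f := N.subtype) h2
  rwa [Subgroup.map_subgroupOf_eq_of_le hKN] at this

/-- In a group of characteristic `p`, a `p'`-element fixing all its commutators with `O_p` is
trivial. -/
theorem eq_one_of_charP [Finite G] {p : ℕ}
    (hG : Subgroup.centralizer (Cfsg.pCore p G : Set G) ≤ Cfsg.pCore p G) {x : G}
    (hx : (orderOf x).Coprime p)
    (h : ∀ u ∈ Cfsg.pCore p G, x * (x * u * x⁻¹ * u⁻¹) * x⁻¹ = x * u * x⁻¹ * u⁻¹) : x = 1 := by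
  have hPn := core_normal p G
  have hPp := core_isPGroup p G
  refine eq_one_of_isPGroup_of_coprime hPp (hG ?_) hx
  rw [Subgroup.mem_centralizer_iff]
  intro u hu
  have hd : x * u * x⁻¹ * u⁻¹ ∈ Cfsg.pCore p G :=
    mul_mem (hPn.conj_mem u hu x) (inv_mem hu)
  have h1 : x * u * x⁻¹ * u⁻¹ = 1 :=
    eq_one_of_conj_eq_mul hPp hx hd (h u hu) (u := u) (by group)
  rw [mul_inv_eq_one, mul_inv_eq_iff_eq_mul] at h1
  exact h1.symm

/-- Characteristic `p` follows once the centralizer of `O_p` has no nontrivial `p'`-element. -/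
theorem charP_of_coprime_trivial [Finite G] {p : ℕ} [Fact p.Prime]
    (h : ∀ x ∈ Subgroup.centralizer (Cfsg.pCore p G : Set G), (orderOf x).Coprime p → x = 1) :
    Subgroup.centralizer (Cfsg.pCore p G : Set G) ≤ Cfsg.pCore p G := by
  have := core_normal p G
  refine le_core_of_normal inferInstance (isPGroup_of_primeOrder_trivial fun x hx => ?_)
  apply Subtype.ext
  exact h x.1 x.2 (by rwa [Subgroup.orderOf_coe])

/-- Version for a subgroup: the intersection with `O_p(G)` lies in `O_p` of the subgroup. -/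
theorem inf_core_subgroupOf_le [Finite G] {p : ℕ} (L : Subgroup G) :
    (Cfsg.pCore p G).subgroupOf L ≤ Cfsg.pCore p L :=
  have := core_normal p G
  le_core_of_normal inferInstance (core_isPGroup p G).comap_subtype

/-- Thompson's `P × Q` argument inside a group of characteristic `p`. -/
theorem eq_one_of_commute_large [Finite G] {p : ℕ} [Fact p.Prime]
    (hG : Subgroup.centralizer (Cfsg.pCore p G : Set G) ≤ Cfsg.pCore p G)
    {Q : Subgroup G} (hQ : IsPGroup p Q)
    (hC : Cfsg.pCore p G ⊓ Subgroup.centralizer (Q : Set G) ≤ Q) {x : G}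
    (hx : (orderOf x).Coprime p) (hxQ : x ∈ Subgroup.centralizer (Q : Set G)) : x = 1 := by
  have hPn := core_normal p G
  have hPp := core_isPGroup p G
  refine eq_one_of_isPGroup_of_coprime hPp (hG ?_) hx
  set P := Cfsg.pCore p G with hPdef
  set W := P ⊔ Q with hWdef
  set H := W ⊓ Subgroup.centralizer ({x} : Set G) with hHdef
  by_cases hWH : W ≤ H
  · rw [Subgroup.mem_centralizer_iff]
    intro u hu
    exact Subgroup.mem_centralizer_singleton_iff.mp
      (Subgroup.mem_inf.mp (hWH ((le_sup_left : P ≤ W) hu))).2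
  exfalso
  have hW : IsPGroup p W := hPp.to_sup_of_normal_left hQ
  have : Group.IsNilpotent W := hW.isNilpotent
  have hlt : H.subgroupOf W < ⊤ := by
    rw [lt_top_iff_ne_top, Ne, Subgroup.subgroupOf_eq_top]
    exact hWH
  obtain ⟨⟨u, huW⟩, hun, huH⟩ :=
    SetLike.exists_of_lt (normalizerCondition_of_isNilpotent (H.subgroupOf W) hlt)
  rw [Subgroup.mem_subgroupOf] at huH
  have hcomm : ∀ q ∈ Q, q * x = x * q := fun q hq => Subgroup.mem_centralizer_iff.mp hxQ q hq
  have hQH : Q ≤ H := le_inf le_sup_right fun q hq =>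
    Subgroup.mem_centralizer_singleton_iff.mpr (hcomm q hq)
  -- `u⁻¹ x u x⁻¹` lies in `P`
  have hmod : u⁻¹ * x * u * x⁻¹ ∈ P := by
    have hle : W ≤ (Subgroup.centralizer ({QuotientGroup.mk' P x} : Set (G ⧸ P))).comap
        (QuotientGroup.mk' P) := by
      refine sup_le (fun v hv => ?_) (fun q hq => ?_)
      · rw [Subgroup.mem_comap, (QuotientGroup.eq_one_iff v).mpr hv |> fun h => (show
          QuotientGroup.mk' P v = 1 from h)]
        exact one_mem _
      · rw [Subgroup.mem_comap, Subgroup.mem_centralizer_singleton_iff, ← map_mul, ← map_mul,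
          hcomm q hq]
    have hu := hle huW
    rw [Subgroup.mem_comap, Subgroup.mem_centralizer_singleton_iff, ← map_mul, ← map_mul] at hu
    rw [← QuotientGroup.eq_one_iff]
    have hu' : ((u * x : G) : G ⧸ P) = ((x * u : G) : G ⧸ P) := hu
    simp only [QuotientGroup.mk_mul] at hu'
    simp only [QuotientGroup.mk_mul, QuotientGroup.mk_inv]
    rw [mul_assoc ((u : G ⧸ P))⁻¹, ← hu']
    group
  have hfix : u⁻¹ * x * u * x⁻¹ ∈ Subgroup.centralizer (Q : Set G) := by
    rw [Subgroup.mem_centralizer_iff]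
    intro q hq
    have h1 : u * q * u⁻¹ ∈ H := by
      have := (Subgroup.mem_normalizer_iff.mp hun ⟨q, (le_sup_right : Q ≤ W) hq⟩).mp
        (Subgroup.mem_subgroupOf.mpr (hQH hq))
      simpa [Subgroup.mem_subgroupOf] using this
    have h2 := Subgroup.mem_centralizer_singleton_iff.mp h1.2
    calc q * (u⁻¹ * x * u * x⁻¹) = u⁻¹ * ((u * q * u⁻¹) * x) * u * x⁻¹ := by group
      _ = u⁻¹ * (x * (u * q * u⁻¹)) * u * x⁻¹ := by rw [h2]
      _ = u⁻¹ * x * u * (q * x⁻¹) := by group
      _ = u⁻¹ * x * u * (x⁻¹ * q) := by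
          rw [show q * x⁻¹ = x⁻¹ * q from (Commute.inv_right (hcomm q hq)).eq]
      _ = (u⁻¹ * x * u * x⁻¹) * q := by group
  have hdQ := hC ⟨hmod, hfix⟩
  have hd : x * (u⁻¹ * x * u * x⁻¹)⁻¹ * x⁻¹ = (u⁻¹ * x * u * x⁻¹)⁻¹ := by
    rw [← hcomm _ (inv_mem hdQ)]; group
  have h1 := eq_one_of_conj_eq_mul hPp hx (inv_mem hmod) hd (u := u⁻¹) (by group)
  rw [inv_eq_one] at h1
  apply huH
  refine ⟨huW, Subgroup.mem_centralizer_singleton_iff.mpr ?_⟩
  rw [mul_inv_eq_one, mul_assoc, inv_mul_eq_iff_eq_mul] at h1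
  exact h1.symm

/-- The centralizer of a self-centralizing normal subgroup of a Sylow subgroup. -/
theorem centralizer_le_of_sylow [Finite G] {p : ℕ} [Fact p.Prime]
    (hG : Subgroup.centralizer (Cfsg.pCore p G : Set G) ≤ Cfsg.pCore p G) (T : Sylow p G)
    {Q : Subgroup G} (hQT : Q ≤ T) (hQn : (T : Subgroup G) ≤ Subgroup.normalizer (Q : Set G))
    (hC : (T : Subgroup G) ⊓ Subgroup.centralizer (Q : Set G) ≤ Q) :
    Subgroup.centralizer (Q : Set G) ≤ Q := by
  have := core_normal p G
  have hPT : Cfsg.pCore p G ≤ (T : Subgroup G) := by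
    have h := (core_isPGroup p G).to_sup_of_normal_left T.isPGroup'
    exact le_sup_left.trans (T.is_maximal' h le_sup_right).le
  have hQp : IsPGroup p Q := T.isPGroup'.to_le hQT
  have hCp : IsPGroup p (Subgroup.centralizer (Q : Set G)) :=
    isPGroup_of_primeOrder_trivial fun x hx => Subtype.ext
      (eq_one_of_commute_large hG hQp
        (le_trans (inf_le_inf_right _ hPT) hC) (by rwa [Subgroup.orderOf_coe]) x.2)
  have hTC : (T : Subgroup G) ≤
      Subgroup.normalizer ((Subgroup.centralizer (Q : Set G)) : Set G) := by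
    intro t ht
    rw [Subgroup.mem_normalizer_iff]
    intro y
    have hconj : ∀ s : G, s ∈ T → ∀ z ∈ Subgroup.centralizer (Q : Set G),
        s * z * s⁻¹ ∈ Subgroup.centralizer (Q : Set G) := by
      intro s hs z hz
      rw [Subgroup.mem_centralizer_iff] at hz ⊢
      intro q hq
      have hq' : s⁻¹ * q * s ∈ Q := by
        simpa using (Subgroup.mem_normalizer_iff.mp (inv_mem (hQn hs)) q).mp hq
      calc q * (s * z * s⁻¹) = s * ((s⁻¹ * q * s) * z) * s⁻¹ := by group
        _ = s * (z * (s⁻¹ * q * s)) * s⁻¹ := by rw [hz _ hq']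
        _ = s * z * s⁻¹ * q := by group
    refine ⟨hconj t ht y, fun h => ?_⟩
    simpa [mul_assoc] using hconj t⁻¹ (inv_mem ht) _ h
  have h := T.isPGroup'.to_sup_of_normal_right' hCp hTC
  exact fun c hc => hC ⟨(T.is_maximal' h le_sup_left).le (le_sup_right (a := (T : Subgroup G)) hc), hc⟩

end CfsgLib.LocalEven
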