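import Cfsg.Prelude.Def_Solvable
import Mathlib.GroupTheory.Sylow

/-!
Minimal facts on `O_p` and `O_{p'}` used by the local-analysis files of seat helper59,
and the elementary "coprime fixed quotient" trick.
-/

set_option autoImplicit false

namespace CfsgLib.LocalEven

variable {G : Type*} [Group G]

theorem le_core_of_normal {p : ℕ} {N : Subgroup G} (hN : N.Normal) (h : IsPGroup p N) :
    N ≤ Cfsg.pCore p G :=
  le_sSup ⟨hN, h⟩

theorem core_normal (p : ℕ) (G : Type*) [Group G] : (Cfsg.pCore p G).Normal :=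
  Subgroup.sSup_normal _ fun _ h => h.1

theorem core_isPGroup (p : ℕ) (G : Type*) [Group G] [Finite G] :
    IsPGroup p (Cfsg.pCore p G) := by
  have hs : ({N : Subgroup G | N.Normal ∧ IsPGroup p N}).Nonempty :=
    ⟨⊥, inferInstance, IsPGroup.of_bot⟩
  obtain ⟨M, hM⟩ := (Set.toFinite {N : Subgroup G | N.Normal ∧ IsPGroup p N}).exists_maximal hs
  have key : ∀ N ∈ {N : Subgroup G | N.Normal ∧ IsPGroup p N}, N ≤ M := by
    rintro N ⟨hNn, hNp⟩
    obtain ⟨hMn, hMp⟩ := hM.prop
    have := hMn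
    have := hNn
    have hmem : M ⊔ N ∈ {N : Subgroup G | N.Normal ∧ IsPGroup p N} :=
      ⟨Subgroup.sup_normal M N, hMp.to_sup_of_normal_right hNp⟩
    exact le_trans le_sup_right (hM.2 hmem le_sup_left)
  exact hM.prop.2.to_le (sSup_le key)

theorem primeCore_normal (p : ℕ) (G : Type*) [Group G] : (Cfsg.pPrimeCore p G).Normal :=
  Subgroup.sSup_normal _ fun _ h => h.1

theorem le_primeCore_of_normal {p : ℕ} {N : Subgroup G} (hN : N.Normal)
    (h : (Nat.card N).Coprime p) : N ≤ Cfsg.pPrimeCore p G :=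
  le_sSup ⟨hN, h⟩

theorem primeCore_coprime (p : ℕ) (G : Type*) [Group G] [Finite G] :
    (Nat.card (Cfsg.pPrimeCore p G)).Coprime p := by
  have hs : ({N : Subgroup G | N.Normal ∧ (Nat.card N).Coprime p}).Nonempty :=
    ⟨⊥, inferInstance, by simp⟩
  obtain ⟨M, hM⟩ :=
    (Set.toFinite {N : Subgroup G | N.Normal ∧ (Nat.card N).Coprime p}).exists_maximal hs
  have key : ∀ N ∈ {N : Subgroup G | N.Normal ∧ (Nat.card N).Coprime p}, N ≤ M := by
    rintro N ⟨hNn, hNp⟩
    obtain ⟨hMn, hMp⟩ := hM.prop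
    have := hMn
    have := hNn
    have hidx : N.relIndex M * Nat.card N = Nat.card (M ⊔ N : Subgroup G) := by
      rw [← Subgroup.relIndex_sup_right (H := M) (K := N), ← Subgroup.relIndex_bot_left,
        ← Subgroup.relIndex_bot_left (H := M ⊔ N), mul_comm]
      exact Subgroup.relIndex_mul_relIndex ⊥ N (M ⊔ N) bot_le le_sup_right
    have hmem : M ⊔ N ∈ {N : Subgroup G | N.Normal ∧ (Nat.card N).Coprime p} := by
      refine ⟨Subgroup.sup_normal M N, ?_⟩
      rw [← hidx]
      exact Nat.Coprime.mul_left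
        (hMp.coprime_dvd_left (Subgroup.relIndex_dvd_card N M)) hNp
    exact le_trans le_sup_right (hM.2 hmem le_sup_left)
  exact hM.prop.2.coprime_dvd_left (Subgroup.card_dvd_of_le (sSup_le key))

/-- A finite group without elements of order prime to `p` other than `1` is a `p`-group. -/
theorem isPGroup_of_primeOrder_trivial {p : ℕ} [hp : Fact p.Prime] [Finite G]
    (h : ∀ x : G, (orderOf x).Coprime p → x = 1) : IsPGroup p G := by
  rw [IsPGroup.iff_orderOf]
  intro g
  obtain ⟨e, k, hk, hek⟩ := Nat.exists_eq_pow_mul_and_not_dvd (orderOf_pos g).ne' p hp.out.ne_one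
  refine ⟨e, ?_⟩
  have hdvd : p ^ e ∣ orderOf g := ⟨k, hek⟩
  have hord : orderOf (g ^ (p ^ e)) = k := by
    rw [orderOf_pow_of_dvd (pow_ne_zero _ hp.out.pos.ne') hdvd, hek,
      Nat.mul_div_cancel_left k (pow_pos hp.out.pos e)]
  have h1 : g ^ (p ^ e) = 1 := by
    apply h
    rw [hord]
    exact (Nat.Coprime.symm ((Nat.Prime.coprime_iff_not_dvd hp.out).mpr hk))
  exact Nat.dvd_antisymm (orderOf_dvd_of_pow_eq_one h1) hdvd

/-- If conjugation by an element `x` of order prime to `p` moves `u` by a factor `d` from a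
`p`-subgroup centralized by `x`, then `x` fixes `u`. -/
theorem eq_one_of_conj_eq_mul {p : ℕ} {R : Subgroup G}
    (hR : IsPGroup p R) {x u d : G} (hx : (orderOf x).Coprime p) (hd : d ∈ R)
    (hfix : x * d * x⁻¹ = d) (h : x * u * x⁻¹ = d * u) : d = 1 := by
  have key : ∀ n : ℕ, x ^ n * u * (x ^ n)⁻¹ = d ^ n * u := by
    intro n
    induction n with
    | zero => simp
    | succ n ih =>
      have hfixn : x * d ^ n * x⁻¹ = d ^ n := by
        have := congrArg (· ^ n) hfix
        simpa [conj_pow] using this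
      calc x ^ (n + 1) * u * (x ^ (n + 1))⁻¹
          = x * (x ^ n * u * (x ^ n)⁻¹) * x⁻¹ := by rw [pow_succ']; group
        _ = x * (d ^ n * u) * x⁻¹ := by rw [ih]
        _ = (x * d ^ n * x⁻¹) * (x * u * x⁻¹) := by group
        _ = d ^ n * (d * u) := by rw [hfixn, h]
        _ = d ^ (n + 1) * u := by rw [pow_succ]; group
  have h1 := key (orderOf x)
  rw [pow_orderOf_eq_one] at h1
  simp only [one_mul, inv_one, mul_one] at h1
  have hdn : d ^ orderOf x = 1 := (mul_eq_right).mp h1.symm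
  obtain ⟨k, hk⟩ := hR ⟨d, hd⟩
  have hdk : d ^ (p ^ k) = 1 := by simpa using congrArg Subtype.val hk
  exact pow_gcd_eq_one.mpr ⟨hdn, hdk⟩ |> (fun h2 => by
    rwa [Nat.Coprime.gcd_eq_one (hx.pow_right k), pow_one] at h2)

end CfsgLib.LocalEven
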