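import Cfsg.Agent.Lib.LocalEven.StrongEmb
import Cfsg.Agent.Lib.Solvable.CoprimeAction
import Cfsg.Agent.Lib.Transfer.PGroup
import Cfsg.Prelude.Def_LocalEven
import Mathlib.GroupTheory.SpecificGroups.Dihedral
import Mathlib.GroupTheory.Perm.Sign
/-!
Sections: `Involves`, dihedral groups of order `2p`, and `S₄`.
-/

set_option autoImplicit false

namespace CfsgLib.LocalEven

open Subgroup Cfsg

variable {G : Type*} [Group G]

theorem involves_of_surjective {H : Type*} [Group H] (K : Subgroup G) (f : K →* H)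
    (hf : Function.Surjective f) : Involves H G := by
  have h : (f.ker.map K.subtype).subgroupOf K = f.ker :=
    comap_map_eq_self_of_injective K.subtype_injective _
  have hn : ((f.ker.map K.subtype).subgroupOf K).Normal := h.symm ▸ MonoidHom.normal_ker f
  exact ⟨K, f.ker.map K.subtype, hn,
    ⟨(QuotientGroup.quotientMulEquivOfEq h).trans (QuotientGroup.quotientKerEquivOfSurjective f hf)⟩⟩

theorem exists_surjective_of_involves {H : Type*} [Group H] (h : Involves H G) :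
    ∃ (K : Subgroup G) (f : K →* H), Function.Surjective f := by
  obtain ⟨K, R, hn, ⟨e⟩⟩ := h
  exact ⟨K, e.toMonoidHom.comp (QuotientGroup.mk' _),
    e.surjective.comp (QuotientGroup.mk'_surjective _)⟩

/-- the symmetric group of degree three as a dihedral group -/
noncomputable def dihedralThreeEquiv : DihedralGroup 3 ≃* Equiv.Perm (Fin 3) := by
  refine MulEquiv.ofBijective (MonoidHom.mk' (fun g => match g with
    | .r i => (finRotate 3) ^ i.val
    | .sr i => Equiv.swap 1 2 * (finRotate 3) ^ i.val) ?_) ?_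
  · decide
  · decide

section Dihedral

variable [Finite G] {p : ℕ} [Fact p.Prime]

omit [Finite G] in
theorem coprime_two_pow (hp : p ≠ 2) (a b : ℕ) : (2 ^ a).Coprime (p ^ b) :=
  Nat.Coprime.pow a b ((Nat.coprime_primes Nat.prime_two Fact.out).2 (Ne.symm hp))

omit [Finite G] in
theorem eq_one_of_inv_eq_self (hp : p ≠ 2) {y : G} (hy : ∃ k : ℕ, orderOf y = p ^ k)
    (h : y⁻¹ = y) : y = 1 := by
  obtain ⟨k, hk⟩ := hy
  have h2 : orderOf y ∣ 2 := orderOf_dvd_of_pow_eq_one (by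
    rw [pow_two]; nth_rewrite 1 [← h]
    exact inv_mul_cancel y)
  rw [← orderOf_eq_one_iff]
  exact Nat.eq_one_of_dvd_coprimes (coprime_two_pow (p := p) hp 1 k) (by simpa using h2) (hk ▸ dvd_rfl)

/-- A surjection onto `D_p` yields an exactly inverted `p`-element with nontrivial image. -/
theorem exists_inverted (hp : p ≠ 2) {K : Subgroup G} (f : K →* DihedralGroup p)
    (hf : Function.Surjective f) :
    ∃ x y : K, (∃ k : ℕ, orderOf x = 2 ^ k) ∧ (∃ k : ℕ, orderOf y = p ^ k) ∧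
      f y ≠ 1 ∧ x * y * x⁻¹ = y⁻¹ := by
  haveI : NeZero p := ⟨(Fact.out : p.Prime).ne_zero⟩
  set Rot : Subgroup (DihedralGroup p) := zpowers (DihedralGroup.r 1)
  have hr : ∀ i : ZMod p, DihedralGroup.r i ∈ Rot := fun i =>
    ⟨(i.val : ℤ), by simp [DihedralGroup.r_one_pow]⟩
  have hRot : ∀ g ∈ Rot, ∃ i, g = DihedralGroup.r i := by
    intro g hg
    obtain ⟨k, rfl⟩ := mem_zpowers_iff.1 hg
    exact ⟨(k : ZMod p), DihedralGroup.r_one_zpow k⟩
  haveI : Rot.Normal := ⟨fun g hg d => by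
    obtain ⟨i, rfl⟩ := hRot g hg
    cases d <;> simp only [DihedralGroup.inv_r, DihedralGroup.inv_sr, DihedralGroup.r_mul_r,
      DihedralGroup.sr_mul_r, DihedralGroup.sr_mul_sr] <;> exact hr _⟩
  set L := Rot.comap f
  obtain ⟨P⟩ : Nonempty (Sylow p L) := inferInstance
  set P' := (P : Subgroup L).map L.subtype
  have hsup : normalizer (P' : Set K) ⊔ L = ⊤ := P.normalizer_sup_eq_top
  obtain ⟨n, hn, hnL⟩ : ∃ n ∈ normalizer (P' : Set K), n ∉ L := by
    by_contra h
    have hle : normalizer (P' : Set K) ≤ L := fun n hn => by_contra fun hc => h ⟨n, hn, hc⟩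
    rw [sup_eq_right.2 hle] at hsup
    obtain ⟨k, hk⟩ := hf (DihedralGroup.sr 0)
    have := hsup.ge (mem_top k)
    rw [mem_comap, hk] at this
    obtain ⟨i, hi⟩ := hRot _ this
    simp at hi
  obtain ⟨i, hi⟩ : ∃ i, f n = DihedralGroup.sr i := by
    rcases hfn : f n with i | i
    · exact absurd (mem_comap.2 (hfn ▸ hr i)) hnL
    · exact ⟨i, rfl⟩
  obtain ⟨e, o, ho, heo⟩ := Nat.exists_eq_pow_mul_and_not_dvd (orderOf_pos n).ne' 2 (by norm_num)
  set x := n ^ o
  have hxord : orderOf x = 2 ^ e := by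
    have : o ∣ orderOf n := ⟨2 ^ e, by rw [heo]; ring⟩
    rw [orderOf_pow_of_dvd (fun h => ho (by rw [h]; exact dvd_zero 2)) this, heo,
      Nat.mul_div_cancel _ (Nat.pos_of_ne_zero fun h => ho (by rw [h]; exact dvd_zero 2))]
  have hxn : x ∈ normalizer (P' : Set K) := pow_mem hn o
  have hfx : f x = DihedralGroup.sr i := by
    obtain ⟨m, rfl⟩ : Odd o := Nat.odd_iff.2 (by omega)
    rw [map_pow, hi, pow_add, pow_mul, pow_two, DihedralGroup.sr_mul_sr, sub_self,
      ← DihedralGroup.one_def, one_pow, one_mul, pow_one]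
  obtain ⟨v0, hv0, hv1⟩ : ∃ v ∈ P', f v ≠ 1 := by
    by_contra h
    let fL : L →* Rot := (f.comp L.subtype).codRestrict Rot fun z => mem_comap.1 z.2
    have hfL : Function.Surjective fL := fun ⟨d, hd⟩ => by
      obtain ⟨k, hk⟩ := hf d
      exact ⟨⟨k, mem_comap.2 (hk ▸ hd)⟩, Subtype.ext hk⟩
    have hR : Nat.card Rot = p := by
      rw [Nat.card_zpowers, DihedralGroup.orderOf_r_one]
    have h1 := (P.mapSurjective hfL).card_eq_multiplicity
    rw [hR, (Fact.out : p.Prime).factorization_self, pow_one, Sylow.coe_mapSurjective] at h1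
    have hb : (P : Subgroup L).map fL = ⊥ := by
      rw [eq_bot_iff]
      rintro _ ⟨z, hz, rfl⟩
      exact mem_bot.2 (Subtype.ext (by_contra fun hc => h ⟨z, ⟨z, hz, rfl⟩, hc⟩))
    rw [hb, card_bot] at h1
    exact (Fact.out : p.Prime).ne_one h1.symm
  have hfv : ∀ v ∈ P', ∃ j, f v = DihedralGroup.r j := by
    rintro _ ⟨z, -, rfl⟩
    exact hRot _ (mem_comap.1 z.2)
  have hPp : IsPGroup p P' := P.isPGroup'.map _
  obtain ⟨a, ha⟩ := IsPGroup.iff_card.1 hPp
  have hfx2 : f (x ^ 2) = 1 := by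
    rw [map_pow, hfx, pow_two, DihedralGroup.sr_mul_sr, sub_self, DihedralGroup.one_def]
  haveI : IsMulCommutative ↥(zpowers (x ^ 2)) := inferInstance
  obtain ⟨v, ⟨hvP, hvx⟩, hvN⟩ := Solvable.exists_fixed_of_fixed_mod (A := zpowers (x ^ 2))
    (K := P') (N := P' ⊓ f.ker) (zpowers_le.2 (pow_mem hxn 2)) (by
      rw [ha, Nat.card_zpowers]
      exact Nat.Coprime.coprime_dvd_left ((orderOf_pow_dvd 2).trans hxord.dvd) (coprime_two_pow hp _ _))
    (Or.inl inferInstance) inf_le_left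
    (le_normalizer_inf le_normalizer (le_top.trans (normalizer_eq_top f.ker).ge))
    (le_normalizer_inf (zpowers_le.2 (pow_mem hxn 2)) (le_top.trans (normalizer_eq_top f.ker).ge))
    hv0 (fun a ha => by
      have hav : a * v0 * a⁻¹ ∈ P' :=
        (mem_normalizer_iff.1 (zpowers_le.2 (pow_mem hxn 2) ha) v0).1 hv0
      refine mem_inf.2 ⟨mul_mem hav (inv_mem hv0), ?_⟩
      obtain ⟨k, rfl⟩ := mem_zpowers_iff.1 ha
      rw [MonoidHom.mem_ker, map_mul, map_mul, map_mul, map_inv, map_zpow, hfx2, one_zpow, inv_one,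
        one_mul, mul_one, map_inv, mul_inv_cancel])
  have hfv' : f v = f v0 := by
    have : f (v0⁻¹ * v) = 1 := hvN.2
    rw [map_mul, map_inv, inv_mul_eq_one] at this
    exact this.symm
  refine ⟨x, v⁻¹ * (x * v * x⁻¹), ⟨e, hxord⟩, ?_, ?_, ?_⟩
  · obtain ⟨k, hk⟩ := IsPGroup.iff_orderOf.1 hPp ⟨_, mul_mem (inv_mem hvP)
      ((mem_normalizer_iff.1 hxn v).1 hvP)⟩
    exact ⟨k, by rwa [Subgroup.orderOf_mk] at hk⟩
  · obtain ⟨j, hj⟩ := hfv v0 hv0
    simp only [map_mul, map_inv, hfx, hfv', hj, DihedralGroup.inv_r, DihedralGroup.inv_sr,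
      DihedralGroup.sr_mul_r, DihedralGroup.sr_mul_sr, DihedralGroup.r_mul_r, DihedralGroup.one_def,
      ne_eq, DihedralGroup.r.injEq]
    intro h
    apply hv1
    rw [hj, DihedralGroup.one_def]
    congr 1
    have h2 : (2 : ZMod p) * j = 0 := by linear_combination -h
    refine (mul_eq_zero.1 h2).resolve_left ?_
    intro h0
    have h0' : ((2 : ℕ) : ZMod p) = 0 := by simpa using h0
    rw [ZMod.natCast_eq_zero_iff] at h0'
    exact hp ((Nat.prime_dvd_prime_iff_eq Fact.out Nat.prime_two).1 h0')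
  · have hfix : x ^ 2 * v * (x ^ 2)⁻¹ = v := fixed_of_centralizer (mem_zpowers _) hvx
    calc x * (v⁻¹ * (x * v * x⁻¹)) * x⁻¹ = x * v⁻¹ * x⁻¹ * (x ^ 2 * v * (x ^ 2)⁻¹) := by
          rw [pow_two]; group
      _ = (v⁻¹ * (x * v * x⁻¹))⁻¹ := by rw [hfix]; group

/-- An element inverting a `p`-element gives a section `D_p`. -/
theorem involves_dihedral (hp : p ≠ 2) {x y : G} (hx : ∃ k : ℕ, orderOf x = 2 ^ k)
    (hy : ∃ k : ℕ, orderOf y = p ^ k) (hy1 : y ≠ 1) (hxy : x * y * x⁻¹ = y⁻¹) :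
    Involves (DihedralGroup p) G := by
  haveI : NeZero p := ⟨(Fact.out : p.Prime).ne_zero⟩
  obtain ⟨a, ha⟩ := hx
  obtain ⟨b, hb⟩ := hy
  have hb0 : b ≠ 0 := fun h => hy1 (orderOf_eq_one_iff.1 (by rw [hb, h, pow_zero]))
  have ha0 : a ≠ 0 := fun h => hy1 (eq_one_of_inv_eq_self hp ⟨b, hb⟩ (by
    rw [← hxy, orderOf_eq_one_iff.1 (by rw [ha, h, pow_zero] : orderOf x = 1)]; group))
  set X : G × DihedralGroup p := (x, DihedralGroup.sr 0)
  set Y : G × DihedralGroup p := (y, DihedralGroup.r 1)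
  have hXY : X * Y * X⁻¹ = Y⁻¹ := Prod.ext hxy (by
    show DihedralGroup.sr 0 * DihedralGroup.r 1 * (DihedralGroup.sr 0)⁻¹ = (DihedralGroup.r 1)⁻¹
    rw [DihedralGroup.inv_r, DihedralGroup.inv_sr, DihedralGroup.sr_mul_r, DihedralGroup.sr_mul_sr]
    congr 1; simp)
  set E := zpowers Y ⊔ zpowers X
  have hn : zpowers X ≤ normalizer (zpowers Y : Set (G × DihedralGroup p)) := by
    rw [zpowers_le, mem_normalizer_iff_map_conj_eq, MonoidHom.map_zpowers]
    change zpowers (X * Y * X⁻¹) = _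
    rw [hXY, zpowers_inv]
  have hker : ∀ z ∈ E, z.1 = 1 → z = 1 := by
    intro z hz hz1
    obtain ⟨u, hu, w, hw, rfl⟩ := (Solvable.mem_sup_of_le_normalizer hn).1 hz
    obtain ⟨i, rfl⟩ := mem_zpowers_iff.1 hu
    obtain ⟨j, rfl⟩ := mem_zpowers_iff.1 hw
    simp only [Prod.fst_mul, Prod.pow_fst, X, Y] at hz1
    have hyi : y ^ i = 1 := by
      have h1 : orderOf (y ^ i) ∣ p ^ b := hb ▸ orderOf_dvd_of_mem_zpowers ⟨i, rfl⟩
      have h2 : orderOf (y ^ i) ∣ 2 ^ a := by
        rw [mul_eq_one_iff_eq_inv.1 hz1, orderOf_inv, ← ha]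
        exact orderOf_dvd_of_mem_zpowers ⟨j, rfl⟩
      exact orderOf_eq_one_iff.1 (Nat.eq_one_of_dvd_coprimes (coprime_two_pow hp a b) h2 h1)
    rw [hyi, one_mul] at hz1
    have hi : (p : ℤ) ∣ i := by
      rw [← orderOf_dvd_iff_zpow_eq_one, hb] at hyi
      exact Int.dvd_trans (by exact_mod_cast dvd_pow_self p hb0) hyi
    have hj : (2 : ℤ) ∣ j := by
      rw [← orderOf_dvd_iff_zpow_eq_one, ha] at hz1
      exact Int.dvd_trans (by exact_mod_cast dvd_pow_self 2 ha0) hz1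
    have e1 : (DihedralGroup.r 1 : DihedralGroup p) ^ i = 1 := by
      rw [← orderOf_dvd_iff_zpow_eq_one, DihedralGroup.orderOf_r_one]; exact hi
    have e2 : (DihedralGroup.sr 0 : DihedralGroup p) ^ j = 1 := by
      rw [← orderOf_dvd_iff_zpow_eq_one, DihedralGroup.orderOf_sr]; exact hj
    refine Prod.ext ?_ ?_
    · simp only [Prod.fst_mul, Prod.pow_fst, X, Y, Prod.fst_one, hyi, one_mul, hz1]
    · simp only [Prod.snd_mul, Prod.pow_snd, X, Y, Prod.snd_one, e1, e2, one_mul]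
  have hinj : Function.Injective ((MonoidHom.fst G (DihedralGroup p)).comp E.subtype) := by
    rw [← MonoidHom.ker_eq_bot_iff, eq_bot_iff]
    intro z hz
    exact mem_bot.2 (Subtype.ext (hker z.1 z.2 hz))
  let e := MonoidHom.ofInjective hinj
  refine involves_of_surjective _
    (((MonoidHom.snd G (DihedralGroup p)).comp E.subtype).comp e.symm.toMonoidHom) ?_
  have hsurj : Function.Surjective ((MonoidHom.snd G (DihedralGroup p)).comp E.subtype) := by
    intro d
    cases d with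
    | r k => exact ⟨⟨Y ^ k.val, mem_sup_left (pow_mem (mem_zpowers _) _)⟩,
        show ((DihedralGroup.r 1 : DihedralGroup p)) ^ k.val = _ by simp [DihedralGroup.r_one_pow]⟩
    | sr k => exact ⟨⟨X * Y ^ k.val, mul_mem (mem_sup_right (mem_zpowers _))
        (mem_sup_left (pow_mem (mem_zpowers _) _))⟩,
        show DihedralGroup.sr 0 * (DihedralGroup.r 1 : DihedralGroup p) ^ k.val = _ by
          simp [DihedralGroup.r_one_pow]⟩
  exact hsurj.comp e.symm.surjective

end Dihedral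

end CfsgLib.LocalEven
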