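import Cfsg.Agent.Lib.LocalEven.Involves
import Cfsg.Agent.Lib.Solvable.CoprimeGeneration
import Mathlib.GroupTheory.GroupAction.Quotient
import Mathlib.Algebra.Module.BigOperators

/-!
No failure of factorization over an abelian group of odd order in the absence of inverted
elements of order three.
-/

set_option autoImplicit false

namespace CfsgLib.LocalEven.FFSFree

open Subgroup

variable {Γ : Type*} [Group Γ] {V : Type*} [AddCommGroup V]
  (ρ : Γ →* AddMonoid.End V)

/-- The fixed points of a subgroup. -/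
def fixed (B : Subgroup Γ) : AddSubgroup V where
  carrier := {v | ∀ b ∈ B, ρ b v = v}
  add_mem' := fun {a b} ha hb c hc => by rw [map_add, ha c hc, hb c hc]
  zero_mem' := fun c _ => map_zero _
  neg_mem' := fun {a} ha c hc => by rw [map_neg, ha c hc]

theorem apply_mul (g h : Γ) (v : V) : ρ (g * h) v = ρ g (ρ h v) := by rw [map_mul]; rfl

theorem apply_one (v : V) : ρ 1 v = v := by rw [map_one]; rfl

theorem apply_inv (g : Γ) (v : V) : ρ g⁻¹ (ρ g v) = v := by
  rw [← apply_mul, inv_mul_cancel, apply_one]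

/-- `v ↦ g v - v`. -/
def diff (g : Γ) (v : V) : V := ρ g v - v

theorem diff_add (g : Γ) (v w : V) : diff ρ g (v + w) = diff ρ g v + diff ρ g w := by
  simp only [diff, map_add]; abel

variable [Finite V] [Finite Γ]

/-- Thompson's `A × B` lemma for an elementary abelian group. -/
theorem axb (h2 : ∀ v : V, v + v = 0) {P : Subgroup Γ} (hP : IsPGroup 2 P) {k : Γ}
    (hk : Odd (orderOf k)) (hPk : ∀ b ∈ P, b * k = k * b) (hfix : ∀ v ∈ fixed ρ P, ρ k v = v)
    (v : V) : ρ k v = v := by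
  let D : V →+ V := AddMonoidHom.mk' (diff ρ k) (diff_add ρ k)
  let W : AddSubgroup V := D.range
  have hinv : ∀ b ∈ P, ∀ w ∈ W, ρ b w ∈ W := by
    rintro b hb _ ⟨u, rfl⟩
    refine ⟨ρ b u, ?_⟩
    show ρ k (ρ b u) - ρ b u = ρ b (ρ k u - u)
    rw [map_sub, ← apply_mul, ← apply_mul, hPk b hb]
  by_contra hv
  letI : MulAction P W :=
    { smul := fun b w => ⟨ρ b.1 w.1, hinv _ b.2 _ w.2⟩
      one_smul := fun w => Subtype.ext (apply_one ρ w.1)
      mul_smul := fun a b w => Subtype.ext (apply_mul ρ a.1 b.1 w.1) }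
  have hWne : W ≠ ⊥ := fun h => hv (by
    have : D v ∈ W := ⟨v, rfl⟩
    rw [h, AddSubgroup.mem_bot] at this
    exact sub_eq_zero.1 this)
  have hcard : 2 ∣ Nat.card W := by
    obtain ⟨w, hw, hw0⟩ : ∃ w ∈ W, w ≠ 0 := by
      by_contra h
      exact hWne (eq_bot_iff.2 fun w hw => AddSubgroup.mem_bot.2 (by_contra fun h0 => h ⟨w, hw, h0⟩))
    haveI : Fact (Nat.Prime 2) := ⟨Nat.prime_two⟩
    have ho : addOrderOf (⟨w, hw⟩ : W) = 2 := addOrderOf_eq_prime
      (Subtype.ext (by show 2 • w = 0; rw [two_nsmul, h2])) fun h => hw0 (congrArg Subtype.val h)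
    exact ho ▸ addOrderOf_dvd_natCard _
  haveI : Fact (Nat.Prime 2) := ⟨Nat.prime_two⟩
  obtain ⟨⟨w, u, rfl⟩, hw, hw0⟩ := hP.exists_fixed_point_of_prime_dvd_card_of_fixed_point W hcard
    (a := 0) (fun b => Subtype.ext (map_zero (ρ b.1)))
  apply hw0
  refine Subtype.ext ?_
  show (0 : V) = D u
  have hkw : ρ k (D u) = D u := hfix _ fun b hb => congrArg Subtype.val (hw ⟨b, hb⟩)
  -- powers of `k`
  have hpow : ∀ n : ℕ, ρ (k ^ n) u = u + n • D u := by
    intro n
    induction n with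
    | zero => rw [pow_zero, apply_one, zero_nsmul, add_zero]
    | succ n ih =>
      rw [pow_succ', apply_mul, ih, map_add, map_nsmul, hkw, succ_nsmul]
      have : ρ k u = u + D u := by show _ = u + (ρ k u - u); abel
      rw [this]; abel
  obtain ⟨m, hm⟩ := hk
  have h := hpow (orderOf k)
  rw [pow_orderOf_eq_one, apply_one, hm, add_nsmul, mul_nsmul, two_nsmul, one_nsmul] at h
  rw [show ∀ x : V, x + x = 0 from h2, nsmul_zero, zero_add] at h
  exact (left_eq_add.1 h).symm

/-- An element of odd prime order at least five cannot centralize a subgroup of index at most four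
without being trivial. -/
theorem fix_of_index_le_four (W : AddSubgroup V) {k : Γ} {q : ℕ} (hq : q.Prime) (h5 : 5 ≤ q)
    (hkq : k ^ q = 1) (hkW : ∀ w ∈ W, ρ k w ∈ W) (hW2 : ∀ v : V, v + v = 0) {X : AddSubgroup V}
    (hXW : X ≤ W) (hX : ∀ x ∈ X, ρ k x = x) (hidx : Nat.card W ≤ 4 * Nat.card X) :
    ∀ w ∈ W, ρ k w = w := by
  classical
  haveI : Fact q.Prime := ⟨hq⟩
  intro w hw
  by_contra hne
  let F : AddSubgroup W :=
    { carrier := {v | ρ k v.1 = v.1}
      add_mem' := fun {a b} ha hb => by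
        show ρ k (a.1 + b.1) = a.1 + b.1
        rw [map_add]; exact congrArg₂ _ ha hb
      zero_mem' := map_zero _
      neg_mem' := fun {a} ha => by
        show ρ k (-a.1) = -a.1
        rw [map_neg]; exact congrArg Neg.neg ha }
  have hpow : ∀ n : ℕ, ∀ v ∈ W, ρ (k ^ n) v ∈ W := by
    intro n
    induction n with
    | zero => intro v hv; rwa [pow_zero, apply_one]
    | succ n ih => intro v hv; rw [pow_succ', apply_mul]; exact hkW _ (ih v hv)
  have hk1 : k ≠ 1 := fun h => hne (by rw [h, apply_one])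
  have hord : orderOf k = q := orderOf_eq_prime hkq hk1
  let Y := {v : W // v ∉ F}
  letI : MulAction (zpowers k) Y :=
    { smul := fun c v => ⟨⟨ρ c.1 v.1.1, by
          obtain ⟨n, hn⟩ := (mem_zpowers_iff_mem_range_orderOf.1 c.2 |> Finset.mem_image.1)
          rw [← hn.2]; exact hpow _ _ v.1.2⟩, fun h => v.2 (by
          show ρ k v.1.1 = v.1.1
          have h' : ρ k (ρ c.1 v.1.1) = ρ c.1 v.1.1 := h
          have hcomm : k * c.1 = c.1 * k := by
            obtain ⟨n, hn⟩ := mem_zpowers_iff.1 c.2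
            rw [← hn]; exact ((Commute.refl k).zpow_right n).eq
          rw [← apply_mul, hcomm, apply_mul] at h'
          simpa [apply_inv] using congrArg (ρ c.1⁻¹) h')⟩
      one_smul := fun v => Subtype.ext (Subtype.ext (apply_one ρ _))
      mul_smul := fun a b v => Subtype.ext (Subtype.ext (apply_mul ρ a.1 b.1 _)) }
  have hfree : ∀ v : Y, MulAction.stabilizer (zpowers k) v = ⊥ := by
    intro v
    haveI : Fact (Nat.card (zpowers k)).Prime := ⟨by rw [Nat.card_zpowers, hord]; exact hq⟩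
    rcases (MulAction.stabilizer (zpowers k) v).eq_bot_or_eq_top_of_prime_card with h | h
    · exact h
    · exact absurd (congrArg (fun z : Y => z.1.1)
        (h.ge (mem_top (⟨k, mem_zpowers k⟩ : zpowers k)))) v.2
  have hY := Nat.card_congr (MulAction.selfEquivOrbitsQuotientProd hfree)
  rw [Nat.card_prod, Nat.card_zpowers, hord] at hY
  have hsum : Nat.card F + Nat.card Y = Nat.card W := by
    have := Nat.card_congr (Equiv.sumCompl fun v : W => v ∈ F)
    rwa [Nat.card_sum] at this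
  have hFW : Nat.card F * F.index = Nat.card W := F.card_mul_index
  have hXF : Nat.card X ≤ Nat.card F :=
    Nat.card_le_card_of_injective (fun x => (⟨⟨x.1, hXW x.2⟩, hX x.1 x.2⟩ : F))
      fun a b h => Subtype.ext (congrArg (fun z : F => z.1.1) h)
  have hidx4 : F.index ≤ 4 := Nat.le_of_mul_le_mul_left
    (by rw [hFW]; exact hidx.trans (by linarith)) (Nat.card_pos (α := F))
  have hne1 : F.index ≠ 1 := fun h => hne (show (⟨w, hw⟩ : W) ∈ F by
    rw [AddSubgroup.index_eq_one.1 h]; trivial)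
  have hdvd : q ∣ Nat.card F * (F.index - 1) :=
    ⟨Nat.card (Quotient (MulAction.orbitRel (zpowers k) Y)), by
      rw [Nat.mul_sub_one, hFW, ← hsum, Nat.add_sub_cancel_left, hY, mul_comm]⟩
  rcases hq.dvd_mul.1 hdvd with h | h
  · have h2 : q ∣ 2 := by
      obtain ⟨f, hf⟩ := exists_prime_addOrderOf_dvd_card' (G := F) q h
      have hd : addOrderOf f ∣ 2 := addOrderOf_dvd_of_nsmul_eq_zero
        (Subtype.ext (Subtype.ext (by show 2 • f.1.1 = (0 : V); rw [two_nsmul, hW2])))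
      exact hf ▸ hd
    have := Nat.le_of_dvd two_pos h2
    omega
  · have h0 : F.index ≠ 0 := AddSubgroup.index_ne_zero_of_finite
    have := Nat.le_of_dvd (by omega) h
    omega

/-- A unipotent element of order `2^r` on `W` whose power has image of order at least four. -/
theorem image_card_ge (h2 : ∀ v : V, v + v = 0) (b : Γ) (W : AddSubgroup V)
    (hbW : ∀ w ∈ W, ρ b w ∈ W) (r : ℕ) (hr : 1 ≤ r) (hbr : ∀ w ∈ W, ρ (b ^ 2 ^ r) w = w)
    (hi : ∀ Y : AddSubgroup V, (∀ w ∈ W, ρ (b ^ 2 ^ (r - 1)) w - w ∈ Y) → 4 ≤ Nat.card Y) :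
    ∃ T : W →+ V, (∀ w, T w = ρ b w.1 - w.1) ∧ 2 ^ (r + 1) ≤ Nat.card T.range := by
  let T : W →+ V := AddMonoidHom.mk' (fun w => diff ρ b w.1) fun a c => diff_add ρ b a.1 c.1
  refine ⟨T, fun w => rfl, ?_⟩
  let D : V →+ V := AddMonoidHom.mk' (diff ρ b) (diff_add ρ b)
  -- `Im j` is the image of `W` under `(b - 1)^j`
  let Im : ℕ → AddSubgroup V := fun j => j.rec W fun _ prev => prev.map D
  have hImW : ∀ j, Im j ≤ W := by
    intro j
    induction j with
    | zero => exact le_rfl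
    | succ j ih =>
      rintro _ ⟨w, hw, rfl⟩
      exact W.sub_mem (hbW w (ih hw)) (ih hw)
  have hadd : ∀ i j, Im (i + j) = (fun X : AddSubgroup V => X.map D)^[j] (Im i) := by
    intro i j
    induction j with
    | zero => rfl
    | succ j ih =>
      show (Im (i + j)).map D = _
      rw [Function.iterate_succ', Function.comp_apply, ih]
  have hmono : ∀ j, Im (j + 1) ≤ Im j := by
    intro j
    induction j with
    | zero => exact hImW 1
    | succ j ih => exact AddSubgroup.map_mono ih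
  -- the power of two steps
  have hiter : ∀ (s : ℕ) (v : V), D^[2 ^ s] v = ρ (b ^ 2 ^ s) v - v := by
    intro s
    induction s with
    | zero => intro v; rw [pow_zero, pow_one, Function.iterate_one]; rfl
    | succ s ih =>
      intro v
      rw [pow_succ, mul_two, Function.iterate_add_apply, ih, ih, map_sub, ← apply_mul, ← pow_add]
      have key : ∀ x : V, -x = x := fun x => neg_eq_of_add_eq_zero_left (h2 x)
      rw [sub_eq_add_neg, sub_eq_add_neg, sub_eq_add_neg, key, key, key,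
        show ∀ a c d : V, a + c + (c + d) = a + (c + c) + d from fun a c d => by abel, h2, add_zero]
      rw [sub_eq_add_neg _ v, key]
  have hImiter : ∀ (j : ℕ) (v : V), v ∈ W → D^[j] v ∈ Im j := by
    intro j v hv
    induction j with
    | zero => exact hv
    | succ j ih => rw [Function.iterate_succ_apply']; exact ⟨_, ih, rfl⟩
  have hzero : Im (2 ^ r) = ⊥ := by
    have h : ∀ j, ∀ x ∈ Im j, ∃ v ∈ W, D^[j] v = x := by
      intro j
      induction j with
      | zero => exact fun x hx => ⟨x, hx, rfl⟩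
      | succ j ih =>
        rintro _ ⟨y, hy, rfl⟩
        obtain ⟨v, hv, rfl⟩ := ih y hy
        exact ⟨v, hv, Function.iterate_succ_apply' D j v⟩
    rw [eq_bot_iff]
    intro x hx
    obtain ⟨v, hv, rfl⟩ := h _ x hx
    rw [AddSubgroup.mem_bot, hiter, hbr v hv, sub_self]
  -- strict descent
  have hdesc : ∀ j, Im j ≠ ⊥ → 2 * Nat.card ↥(Im (j + 1)) ≤ Nat.card ↥(Im j) := by
    intro j hj
    have hne : Im (j + 1) ≠ Im j := by
      intro h
      apply hj
      have hst : ∀ t, Im (j + t) = Im j := by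
        intro t
        induction t with
        | zero => rfl
        | succ t ih => show (Im (j + t)).map D = Im j; rw [ih]; exact h
      rw [← hst (2 ^ r), eq_bot_iff, ← hzero]
      intro x hx
      have hle : ∀ t, Im (2 ^ r + t) ≤ Im (2 ^ r) := by
        intro t
        induction t with
        | zero => exact le_rfl
        | succ t ih => exact (hmono (2 ^ r + t)).trans ih
      rw [add_comm] at hx
      exact hle j hx
    obtain ⟨c, hc⟩ := AddSubgroup.card_dvd_of_le (hmono j)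
    rw [hc, mul_comm]
    refine Nat.mul_le_mul_left _ ?_
    rcases c with _ | _ | c
    · exact absurd hc (by rw [mul_zero]; exact Nat.card_pos.ne')
    · exact absurd (AddSubgroup.eq_of_le_of_card_ge (hmono j) (by rw [hc, Nat.zero_add, mul_one])) hne
    · omega
  have h4 : 4 ≤ Nat.card ↥(Im (2 ^ (r - 1))) := hi _ fun w hw => by
    rw [← hiter]; exact hImiter _ _ hw
  have hchain : ∀ t, t + 1 ≤ 2 ^ (r - 1) → 2 ^ t * 4 ≤ Nat.card ↥(Im (2 ^ (r - 1) - t)) := by
    intro t
    induction t with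
    | zero => intro _; simpa using h4
    | succ t ih =>
      intro ht
      have := ih (by omega)
      have hne : Im (2 ^ (r - 1) - (t + 1)) ≠ ⊥ := by
        intro hb
        have hle : Im (2 ^ (r - 1) - t) ≤ Im (2 ^ (r - 1) - (t + 1)) := by
          rw [show 2 ^ (r - 1) - t = 2 ^ (r - 1) - (t + 1) + 1 by omega]
          exact hmono _
        rw [hb, le_bot_iff] at hle
        rw [hle, AddSubgroup.card_bot] at this
        have := Nat.one_le_two_pow (n := t)
        omega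
      have hd := hdesc _ hne
      rw [show 2 ^ (r - 1) - (t + 1) + 1 = 2 ^ (r - 1) - t by omega] at hd
      rw [pow_succ]
      linarith
  have h1 := hchain (2 ^ (r - 1) - 1) (by have := Nat.one_le_two_pow (n := r - 1); omega)
  rw [show 2 ^ (r - 1) - (2 ^ (r - 1) - 1) = 1 by have := Nat.one_le_two_pow (n := r - 1); omega] at h1
  have hT : Nat.card ↥(Im 1) ≤ Nat.card T.range := by
    refine (AddSubgroup.card_le_of_le ?_)
    rintro _ ⟨w, hw, rfl⟩
    exact ⟨⟨w, hw⟩, rfl⟩
  refine le_trans ?_ (h1.trans hT)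
  have hr' : r - 1 + 1 ≤ 2 ^ (r - 1) := Nat.lt_two_pow_self
  rw [show (4 : ℕ) = 2 ^ 2 by norm_num, ← pow_add]
  exact Nat.pow_le_pow_right two_pos (by omega)

omit [Finite V] in
theorem exists_inverted_prime (hno : ∀ x y : Γ, (∃ e, orderOf x = 2 ^ e) → orderOf y = 3 →
      x * y * x⁻¹ ≠ y⁻¹) {i y : Γ} (hi : ∃ e, orderOf i = 2 ^ e) (hy : y ≠ 1) (ho : Odd (orderOf y))
    (hiy : i * y * i⁻¹ = y⁻¹) :
    ∃ q k, q.Prime ∧ 5 ≤ q ∧ k ∈ zpowers y ∧ k ^ q = 1 ∧ k ≠ 1 ∧ i * k * i⁻¹ = k⁻¹ := by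
  obtain ⟨q, hq, hqd⟩ := Nat.exists_prime_and_dvd (fun h => hy (orderOf_eq_one_iff.1 h))
  have hord : orderOf (y ^ (orderOf y / q)) = q := orderOf_pow_orderOf_div (orderOf_pos y).ne' hqd
  have hinv : i * y ^ (orderOf y / q) * i⁻¹ = (y ^ (orderOf y / q))⁻¹ := by
    rw [← conj_pow, hiy, inv_pow]
  refine ⟨q, _, hq, ?_, pow_mem (mem_zpowers y) _, by rw [← orderOf_dvd_iff_pow_eq_one, hord],
    fun h => hq.ne_one (by rw [← hord, h, orderOf_one]), hinv⟩
  have h3 : q ≠ 3 := fun h => hno i _ hi (hord.trans h) hinv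
  have h2 : q ≠ 2 := by
    rintro rfl
    exact Nat.not_even_iff_odd.2 ho (even_iff_two_dvd.2 hqd)
  have h4 : q ≠ 4 := by rintro rfl; norm_num at hq
  have := hq.two_le
  omega

/-- The main inequality: an abelian 2-group acting faithfully on an abelian group of odd order, both
faithful on `V`, is never a best offender. -/
theorem exists_lt (h2 : ∀ v : V, v + v = 0) (hρ : Function.Injective ρ) {B L : Subgroup Γ}
    [IsMulCommutative B] (hB : IsPGroup 2 B) [IsMulCommutative L] (hL : Odd (Nat.card L))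
    (hBL : B ≤ normalizer (L : Set Γ)) (hBne : B ≠ ⊥) (hfaith : B ⊓ centralizer (L : Set Γ) = ⊥)
    (hno : ∀ x y : Γ, (∃ e, orderOf x = 2 ^ e) → orderOf y = 3 → x * y * x⁻¹ ≠ y⁻¹) :
    ∃ B0 ≤ B, Nat.card B * Nat.card (fixed ρ B) < Nat.card B0 * Nat.card (fixed ρ B0) := by
  haveI : Fact (Nat.Prime 2) := ⟨Nat.prime_two⟩
  have hBc : ∀ a ∈ B, ∀ c ∈ B, a * c = c * a := fun a ha c hc => setLike_mul_comm ha hc
  obtain ⟨B0, ⟨hB0, hB0L⟩, hmax⟩ := Set.Finite.exists_maximal (Set.toFinite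
    {X : Subgroup Γ | X ≤ B ∧ ¬ L ⊓ centralizer (X : Set Γ) ≤ centralizer (B : Set Γ)})
    ⟨⊥, bot_le, fun h => hBne (eq_bot_iff.2 fun b hb => hfaith ▸ Subgroup.mem_inf.2
      ⟨hb, fun l hl => ((h (Subgroup.mem_inf.2 ⟨hl, fun x hx => by rw [mem_bot.1 hx]; simp⟩)) b hb).symm⟩)⟩
  set L0 := L ⊓ centralizer (B0 : Set Γ)
  have hB0c : B ≤ centralizer (B0 : Set Γ) := fun b hb x hx => hBc x (hB0 hx) b hb
  have hBL0 : B ≤ normalizer (L0 : Set Γ) := fun b hb =>
    inf_normalizer_le_normalizer_inf ⟨hBL hb, le_normalizer (hB0c hb)⟩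
  have hbig : ∀ X ≤ B, ¬ X ≤ B0 → L0 ⊓ centralizer (X : Set Γ) ≤ centralizer (B : Set Γ) := by
    intro X hX hXB0
    by_contra hc
    apply hXB0
    refine le_sup_right.trans (hmax ⟨sup_le hB0 hX, fun h => hc fun y hy => h (Subgroup.mem_inf.2
      ⟨hy.1.1, ?_⟩)⟩ le_sup_left)
    have hle : B0 ⊔ X ≤ centralizer {y} := sup_le
      (fun z hz => mem_centralizer_singleton_iff.2 (hy.1.2 z hz))
      (fun z hz => mem_centralizer_singleton_iff.2 (hy.2 z hz))
    exact fun z hz => mem_centralizer_singleton_iff.1 (hle hz)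
  have hcop : (Nat.card B).Coprime (Nat.card L0) := by
    obtain ⟨e, he⟩ := hB.exists_card_eq
    rw [he]
    refine Nat.Coprime.pow_left _ (Nat.coprime_two_left.2 ?_)
    exact hL.of_dvd_nat (Subgroup.card_dvd_of_le inf_le_left)
  obtain ⟨b, hb, hBb⟩ : ∃ b ∈ B, B ≤ B0 ⊔ zpowers b := by
    by_contra hno'
    apply hB0L
    refine CfsgLib.Solvable.le_of_cyclic_quotient_centralizer_le (A := B) hBL0 hcop
      fun X hX ⟨a, ha, hXa⟩ => hbig X hX fun hle => hno' ⟨a, ha, hXa.trans (sup_le_sup_right hle _)⟩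
  classical
  have hex : ∃ r, b ^ 2 ^ r ∈ B0 := by
    obtain ⟨e, he⟩ := hB ⟨b, hb⟩
    exact ⟨e, by rw [show b ^ 2 ^ e = 1 from congrArg Subtype.val he]; exact one_mem _⟩
  obtain ⟨r, hr, hrmin⟩ : ∃ r, b ^ 2 ^ r ∈ B0 ∧ ∀ s < r, b ^ 2 ^ s ∉ B0 :=
    ⟨Nat.find hex, Nat.find_spec hex, fun s hs => Nat.find_min hex hs⟩
  have hr1 : 1 ≤ r := by
    by_contra h
    apply hB0L
    have hb0 : b ∈ B0 := by
      rw [show r = 0 by omega, pow_zero, pow_one] at hr; exact hr
    intro y hy x hx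
    exact hy.2 x (sup_le le_rfl (zpowers_le.2 hb0) (hBb hx))
  set i := b ^ 2 ^ (r - 1)
  have hiB : i ∈ B := pow_mem hb _
  have hi0 : i ∉ B0 := hrmin _ (by omega)
  have hi2 : i ^ 2 ∈ B0 := by
    show (b ^ 2 ^ (r - 1)) ^ 2 ∈ B0
    rw [← pow_mul, ← pow_succ, show r - 1 + 1 = r by omega]; exact hr
  obtain ⟨k0, hk0, hk0i⟩ : ∃ k ∈ L0, k * i ≠ i * k := by
    by_contra h
    push Not at h
    apply hB0L
    refine fun y hy => hbig (zpowers i) (zpowers_le.2 hiB) (fun hc => hi0 (hc (mem_zpowers i)))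
      (Subgroup.mem_inf.2 ⟨hy, fun z hz => ?_⟩)
    obtain ⟨n, rfl⟩ := mem_zpowers_iff.1 hz
    exact ((show Commute i y from (h y hy).symm).zpow_left n).eq
  set y := k0⁻¹ * (i * k0 * i⁻¹)
  have hyL0 : y ∈ L0 := mul_mem (inv_mem hk0) ((mem_normalizer_iff.1 (hBL0 hiB) _).1 hk0)
  have hy1 : y ≠ 1 := fun h => hk0i (by
    rw [inv_mul_eq_one] at h
    nth_rw 1 [h]
    group)
  have hiy : i * y * i⁻¹ = y⁻¹ := by
    have h := hk0.2 _ hi2
    calc i * y * i⁻¹ = (i * k0 * i⁻¹)⁻¹ * (i ^ 2 * k0 * (i ^ 2)⁻¹) := by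
          simp only [y, pow_two]; group
      _ = (i * k0 * i⁻¹)⁻¹ * k0 := by rw [h, mul_inv_cancel_right]
      _ = y⁻¹ := by simp [y, mul_assoc]
  have hio : ∃ e, orderOf i = 2 ^ e := by
    obtain ⟨e, he⟩ := IsPGroup.iff_orderOf.1 hB ⟨i, hiB⟩
    exact ⟨e, by rwa [Subgroup.orderOf_mk] at he⟩
  have hodd : ∀ z ∈ L0, Odd (orderOf z) := fun z hz =>
    hL.of_dvd_nat (Subgroup.orderOf_dvd_natCard _ (Subgroup.mem_inf.1 hz).1)
  obtain ⟨q, k, hq, hq5, hky, hkq, hk1, hik⟩ := exists_inverted_prime hno hio hy1 (hodd y hyL0) hiy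
  have hkL0 : k ∈ L0 := zpowers_le.2 hyL0 hky
  set W := fixed ρ B0
  have hkW : ∀ w ∈ W, ρ k w ∈ W := fun w hw c hc => by
    rw [← apply_mul, hkL0.2 c hc, apply_mul, hw c hc]
  have hBW : ∀ c ∈ B, ∀ w ∈ W, ρ c w ∈ W := fun c hc w hw d hd => by
    rw [← apply_mul, hBc d (hB0 hd) c hc, apply_mul, hw d hd]
  have hibig : ∀ Y : AddSubgroup V, (∀ w ∈ W, ρ i w - w ∈ Y) → 4 ≤ Nat.card Y := by
    intro Y hY
    by_contra hlt
    apply hk1
    apply hρ
    rw [map_one]
    ext v
    refine axb ρ h2 (hB.to_le hB0) (hodd k hkL0) (fun c hc => hkL0.2 c hc) ?_ v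
    -- the fixed points of `i` on `W`
    let T : W →+ Y := AddMonoidHom.mk' (fun w => ⟨ρ i w.1 - w.1, hY _ w.2⟩)
      (fun a c => Subtype.ext (diff_add ρ i a.1 c.1))
    let Z : AddSubgroup V := W ⊓ fixed ρ (zpowers i)
    have hker : Nat.card W ≤ Nat.card Z * Nat.card Y := by
      rw [← T.ker.card_mul_index, AddSubgroup.index_ker]
      refine Nat.mul_le_mul (Nat.card_le_card_of_injective (fun w => (⟨w.1.1, w.1.2, ?_⟩ : Z))
        (fun a c h => Subtype.ext (Subtype.ext (congrArg (fun z : Z => z.1) h)))) (AddSubgroup.card_le_card_addGroup _)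
      intro c hc
      obtain ⟨n, rfl⟩ := mem_zpowers_iff.1 hc
      have h0 : ρ i w.1.1 = w.1.1 := sub_eq_zero.1 (congrArg Subtype.val (w.2 : T w.1 = 0))
      induction n with
      | zero => rw [zpow_zero, apply_one]
      | succ n ih => rw [zpow_add_one, apply_mul, h0, ih (zpow_mem (mem_zpowers i) _)]
      | pred n ih =>
        rw [zpow_sub_one, apply_mul]
        conv_lhs => rw [← h0]
        rw [apply_inv, ih (zpow_mem (mem_zpowers i) _)]
    have hY2 : Nat.card Y ≤ 2 := by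
      by_contra h3
      have hc3 : Nat.card Y = 3 := by omega
      haveI : Fact (Nat.Prime 3) := ⟨Nat.prime_three⟩
      obtain ⟨f, hf⟩ := exists_prime_addOrderOf_dvd_card' (G := Y) 3 hc3.symm.dvd
      have hd : addOrderOf f ∣ 2 := addOrderOf_dvd_of_nsmul_eq_zero
        (Subtype.ext (by show 2 • f.1 = (0 : V); rw [two_nsmul, h2]))
      rw [hf] at hd
      norm_num at hd
    let Z' : AddSubgroup W := Z.addSubgroupOf W
    let kZ : AddSubgroup V := Z.map (AddMonoidHom.mk' (fun v => ρ k v) (map_add _))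
    have hkZW : kZ ≤ W := by
      rintro _ ⟨z, hz, rfl⟩; exact hkW z hz.1
    have hX : ∀ x ∈ Z ⊓ kZ, ρ k x = x := by
      rintro x ⟨hx, z, hz, rfl⟩
      have hiz : ρ i z = z := hz.2 i (mem_zpowers i)
      have hix : ρ i (ρ k z) = ρ k z := hx.2 i (mem_zpowers i)
      rw [← apply_mul, show i * k = k⁻¹ * i by rw [← hik]; group, apply_mul, hiz] at hix
      have hkk : ρ k (ρ k z) = z := by rw [← hix, ← apply_mul, mul_inv_cancel, apply_one]
      -- `k` has odd order
      obtain ⟨m, hm⟩ := hq.odd_of_ne_two (by omega)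
      have hp : ∀ n : ℕ, ρ (k ^ (2 * n)) z = z := by
        intro n
        induction n with
        | zero => rw [mul_zero, pow_zero, apply_one]
        | succ n ih => rw [mul_add, mul_one, pow_add, apply_mul, pow_two, apply_mul, hkk, ih]
      have hkz : ρ k z = z := by
        have := hp (m + 1)
        rwa [show 2 * (m + 1) = q + 1 by omega, pow_succ, hkq, one_mul] at this
      show ρ k (ρ k z) = ρ k z
      rw [hkz, hkz]
    refine fix_of_index_le_four ρ W hq hq5 hkq hkW h2 (inf_le_left.trans inf_le_left : Z ⊓ kZ ≤ W) hX ?_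
    have hkcard : Nat.card kZ = Nat.card Z :=
      AddSubgroup.card_map_of_injective fun a c h => by
        simpa [apply_inv] using congrArg (ρ k⁻¹) h
    have hr1' : Nat.card Z * Nat.card kZ ≤ Nat.card ↥(Z ⊓ kZ) * Nat.card W := by
      let φ : Z × kZ →+ W := AddMonoidHom.mk'
        (fun t => ⟨t.1.1 + t.2.1, add_mem t.1.2.1 (hkZW t.2.2)⟩)
        (fun a c => Subtype.ext (by simp only [Prod.fst_add, Prod.snd_add, AddSubgroup.coe_add]; abel))
      rw [← Nat.card_prod, ← φ.ker.card_mul_index, AddSubgroup.index_ker]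
      refine Nat.mul_le_mul (Nat.card_le_card_of_injective
        (fun t => (⟨t.1.1.1, t.1.1.2, ?_⟩ : ↥(Z ⊓ kZ))) ?_) (AddSubgroup.card_le_card_addGroup _)
      · rw [eq_neg_of_add_eq_zero_left (congrArg Subtype.val (t.2 : φ t.1 = 0))]
        exact kZ.neg_mem t.1.2.2
      · intro a c h
        have h1 : a.1.1 = c.1.1 := Subtype.ext (congrArg (fun z : ↥(Z ⊓ kZ) => z.1) h)
        have e1 := eq_neg_of_add_eq_zero_right (congrArg Subtype.val (a.2 : φ a.1 = 0))
        have e2 := eq_neg_of_add_eq_zero_right (congrArg Subtype.val (c.2 : φ c.1 = 0))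
        exact Subtype.ext (Prod.ext h1 (Subtype.ext (by rw [e1, e2, h1])))
    rw [hkcard] at hr1'
    have hz0 : 0 < Nat.card Z := Nat.card_pos
    have hW2' : Nat.card W ≤ 2 * Nat.card Z := hker.trans (by
      rw [mul_comm]; exact Nat.mul_le_mul_right _ hY2)
    have : Nat.card W * Nat.card W ≤ 4 * (Nat.card ↥(Z ⊓ kZ) * Nat.card W) :=
      (Nat.mul_le_mul hW2' hW2').trans (by linarith)
    rw [← mul_assoc] at this
    exact Nat.le_of_mul_le_mul_right this Nat.card_pos
  obtain ⟨T, hT, hTcard⟩ := image_card_ge ρ h2 b W (hBW b hb) r hr1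
    (fun w hw => hw _ hr) hibig
  refine ⟨B0, hB0, ?_⟩
  have hfixB : Nat.card (fixed ρ B) ≤ Nat.card T.ker := by
    refine Nat.card_le_card_of_injective
      (fun v => (⟨⟨v.1, fun c hc => v.2 c (hB0 hc)⟩, ?_⟩ : T.ker)) ?_
    · rw [AddMonoidHom.mem_ker, hT, v.2 b hb, sub_self]
    · exact fun a c h => Subtype.ext (congrArg (fun z : T.ker => z.1.1) h)
  have hW : Nat.card (fixed ρ B) * 2 ^ (r + 1) ≤ Nat.card W := by
    rw [← T.ker.card_mul_index, AddSubgroup.index_ker]
    exact Nat.mul_le_mul hfixB hTcard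
  have hBcard : Nat.card B ≤ Nat.card B0 * 2 ^ r := by
    rw [← Nat.card_fin (2 ^ r), ← Nat.card_prod]
    let f : B0 × Fin (2 ^ r) → B := fun t =>
      ⟨t.1.1 * b ^ (t.2 : ℕ), mul_mem (hB0 t.1.2) (pow_mem hb _)⟩
    refine Nat.card_le_card_of_surjective f fun x => ?_
    have hzn : zpowers b ≤ normalizer (B0 : Set Γ) :=
      zpowers_le.2 (centralizer_le_normalizer _ (hB0c hb))
    obtain ⟨u, hu, z, hz, huz⟩ := (CfsgLib.Solvable.mem_sup_of_le_normalizer hzn).1 (hBb x.2)
    obtain ⟨n, rfl⟩ := mem_zpowers_iff.1 hz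
    have hpos : (0 : ℤ) < ((2 ^ r : ℕ) : ℤ) := by exact_mod_cast pow_pos two_pos r
    obtain ⟨m, hm⟩ := Int.eq_ofNat_of_zero_le (Int.emod_nonneg n hpos.ne')
    have hm' : m < 2 ^ r := by
      have := Int.emod_lt_of_pos n hpos
      rw [hm] at this
      exact_mod_cast this
    refine ⟨⟨⟨u * (b ^ 2 ^ r) ^ (n / ((2 ^ r : ℕ) : ℤ)), mul_mem hu (zpow_mem hr _)⟩, ⟨m, hm'⟩⟩,
      Subtype.ext ?_⟩
    show u * (b ^ 2 ^ r) ^ (n / ((2 ^ r : ℕ) : ℤ)) * b ^ m = x
    rw [← huz, mul_assoc, ← zpow_natCast b (2 ^ r), ← zpow_mul, ← zpow_natCast b m, ← zpow_add, ← hm,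
      Int.mul_ediv_add_emod]
  have hpos1 : 0 < Nat.card B0 := Nat.card_pos
  have hpos2 : 0 < Nat.card (fixed ρ B) := Nat.card_pos
  calc Nat.card B * Nat.card (fixed ρ B) ≤ Nat.card B0 * 2 ^ r * Nat.card (fixed ρ B) :=
        Nat.mul_le_mul_right _ hBcard
    _ < Nat.card B0 * (Nat.card (fixed ρ B) * 2 ^ (r + 1)) := by
        rw [pow_succ]
        have : 0 < 2 ^ r * (Nat.card B0 * Nat.card (fixed ρ B)) :=
          Nat.mul_pos (pow_pos two_pos r) (Nat.mul_pos hpos1 hpos2)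
        linarith
    _ ≤ Nat.card B0 * Nat.card W := Nat.mul_le_mul_left _ hW

end CfsgLib.LocalEven.FFSFree
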