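import Cfsg.Agent.Lib.Transfer.ThompsonComplement
import Cfsg.Agent.Lib.LocalEven.FFSFree
import Cfsg.Agent.Lib.PLocal.QuadraticAbelian
import Cfsg.Agent.Lib.PLocal.Factorization
import Cfsg.Agent.S2759
import Mathlib.GroupTheory.NoncommCoprod

/-! Thompson's normal p-complement theorem with the abelian subgroups of largest order, for `p` odd
or `S₄`-free groups. -/

set_option autoImplicit false

open scoped commutatorElement

universe u

namespace CfsgLib.LocalEven.ThompsonA

open CfsgLib.NPC CfsgLib.PLocal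
open CfsgLib.PLoc (joinMaxAb interMaxAb IsMaxAb)
open CfsgLib.GlaubermanThompson (exists_pow_coprime eq_one_of_coprime_of_pow npc_map
  npc_normalizer_of_map npc_of_top)
open CfsgLib.ThompsonComplement (npc_centralizer_of_map center_map_injOn center_ne_bot
  normalizer_le_normalizer_center centralizer_center_eq_top)

variable {G : Type u} [Group G] [Finite G] {p : ℕ} [hp : Fact p.Prime]

omit [Finite G] in
theorem involves_of_injective {H : Type*} [Group H] {X : Type*} [Group X] (f : X →* G)
    (hf : Function.Injective f) (h : Cfsg.Involves H X) : Cfsg.Involves H G := by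
  obtain ⟨K, g, hg⟩ := exists_surjective_of_involves h
  exact involves_of_surjective (K.map f) (g.comp (K.equivMapOfInjective f hf).symm.toMonoidHom)
    (hg.comp (K.equivMapOfInjective f hf).symm.surjective)

omit [Finite G] in
theorem involves_of_quotient {H : Type*} [Group H] {X : Type*} [Group X] (f : G →* X)
    (hf : Function.Surjective f) (h : Cfsg.Involves H X) : Cfsg.Involves H G := by
  obtain ⟨K, g, hg⟩ := exists_surjective_of_involves h
  exact involves_of_surjective (K.comap f) (g.comp (f.subgroupComap K))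
    (hg.comp (f.subgroupComap_surjective_of_surjective K hf))

/-- The two hypotheses, for a `p`-subgroup. -/
def HypA (p : ℕ) {G : Type*} [Group G] (U : Subgroup G) : Prop :=
  Cfsg.HasNormalPComplement p (Subgroup.normalizer (joinMaxAb 0 U : Set G)) ∧
    Cfsg.HasNormalPComplement p
      (Subgroup.centralizer ((U ⊓ Subgroup.centralizer (U : Set G) : Subgroup G) : Set G))

theorem hypA_of_map {H : Type*} [Group H] [Finite H] (f : H →* G) (hf : Function.Injective f)
    (U : Subgroup H) (h : HypA p (U.map f)) : HypA p U := by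
  obtain ⟨h1, h2⟩ := h
  rw [CfsgLib.PLoc.joinMaxAb_map f hf] at h1
  rw [← map_inf_centralizer_self hf] at h2
  exact ⟨npc_normalizer_of_map f hf _ h1, npc_centralizer_of_map f hf _ h2⟩

theorem hypA_sylow {P : Sylow p G} (h : HypA p (P : Subgroup G)) (T : Sylow p G) :
    HypA p (T : Subgroup G) := by
  obtain ⟨g, hg⟩ := MulAction.exists_smul_eq G T P
  refine hypA_of_map (MulAut.conj g).toMonoidHom (MulAut.conj g).injective _ ?_
  rw [show (T : Subgroup G).map (MulAut.conj g).toMonoidHom = (P : Subgroup G) from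
    congrArg Sylow.toSubgroup hg]
  exact h

omit hp in
theorem joinMaxAb_map_injOn {H : Type*} [Group H] [Finite H] (f : G →* H) (U : Subgroup G)
    (hf : Function.Injective (f.comp U.subtype)) :
    (joinMaxAb 0 U).map f = joinMaxAb 0 (U.map f) := by
  have h1 := CfsgLib.PLoc.joinMaxAb_map U.subtype U.subtype_injective 0 ⊤
  have h2 := CfsgLib.PLoc.joinMaxAb_map (f.comp U.subtype) hf 0 ⊤
  rw [← MonoidHom.range_eq_map, Subgroup.range_subtype] at h1
  rw [← MonoidHom.range_eq_map, MonoidHom.range_comp, Subgroup.range_subtype, ← Subgroup.map_map,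
    ← h1] at h2
  exact h2.symm

omit hp in
theorem center_le_interMaxAb (U : Subgroup G) :
    U ⊓ Subgroup.centralizer (U : Set G) ≤ interMaxAb 0 U := by
  intro x hx
  exact Subgroup.mem_sInf.2 fun A hA => CfsgLib.PLoc.mem_of_commute hA hx.1 (pow_zero x)
    fun a ha => hx.2 a (hA.le ha)

theorem joinMaxAb_ne_bot {U : Subgroup G} (hU : IsPGroup p U) (hU1 : U ≠ ⊥) :
    joinMaxAb 0 U ≠ ⊥ := by
  intro h
  obtain ⟨A, hA⟩ := CfsgLib.PLoc.exists_isMaxAb 0 U
  exact center_ne_bot hU hU1 (le_bot_iff.1 (h ▸ ((center_le_interMaxAb U).trans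
    (CfsgLib.PLoc.interMaxAb_le hA)).trans (CfsgLib.PLoc.le_joinMaxAb hA)))

/-- Structure of a minimal counterexample. -/
theorem config_structure (P : Sylow p G) {Q : Subgroup G} [Q.Normal]
    (hQP : Q ≤ (P : Subgroup G)) (hQmax : ∀ N : Subgroup G, N.Normal → IsPGroup p N → N ≤ Q)
    (hpc : ∀ N : Subgroup G, N.Normal → (Nat.card N).Coprime p → N = ⊥)
    (hprop : ∀ H : Subgroup G, (P : Subgroup G) ≤ H → H ≠ ⊤ → Cfsg.HasNormalPComplement p H)
    {K : Subgroup G} [K.Normal] {n : ℕ} (hK : K.index = p ^ n) (hQK : Q ≤ K) (hne : K ≠ Q)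
    (hco : (Nat.card (K.map (QuotientGroup.mk' Q))).Coprime p) :
    Subgroup.centralizer (Q : Set G) ≤ Q ∧
      (∀ H : Subgroup G, (P : Subgroup G) ≤ H → H ≠ ⊤ → H = (P : Subgroup G)) ∧
      ∀ a ∈ K, ∀ b ∈ K, ⁅a, b⁆ ∈ Q := by
  have hpp := hp.out
  set f := QuotientGroup.mk' Q with hf
  have hfQ : ∀ x, f x = 1 ↔ x ∈ Q := fun x => QuotientGroup.eq_one_iff x
  have hQp : IsPGroup p Q := P.isPGroup'.to_le hQP
  set m := Nat.card (K.map f) with hm
  have hKel : ∀ x ∈ K, ∀ j : ℕ, x ^ p ^ j = 1 → x ∈ Q := by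
    intro x hx j hj
    rw [← hfQ]
    refine eq_one_of_coprime_of_pow (j := j) (by rw [← map_pow, hj, map_one]) (hco.coprime_dvd_left ?_)
    exact Subgroup.orderOf_dvd_natCard _ (Subgroup.mem_map_of_mem f hx)
  have hPK : ∀ x ∈ (P : Subgroup G), x ∈ K → x ∈ Q := fun x hx hxK => by
    obtain ⟨j, hj⟩ := P.isPGroup' ⟨x, hx⟩
    exact hKel x hxK j (congrArg Subtype.val hj)
  have hKco : ∀ g : G, Nat.Coprime (orderOf g) p → g ∈ K := fun g hg => mem_of_coprime hK hg
  -- `C_K(Q) ≤ Q`
  set M := Subgroup.centralizer (Q : Set G) ⊓ K with hM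
  have hMn : M.Normal := inferInstance
  have hMQ : M ≤ Q := by
    obtain ⟨N, hN⟩ := hasNormalPComplement_iff.1 (frobenius_criterion (G := M) (p := p)
      (fun R hR g _ _ => Subgroup.mem_centralizer_iff.2 fun r hr => Subtype.ext (by
        obtain ⟨j, hj⟩ := hR ⟨r, hr⟩
        have hrQ : (r : G) ∈ Q :=
          hKel r r.2.2 j (congrArg Subtype.val (congrArg Subtype.val hj))
        exact Subgroup.mem_centralizer_iff.1 g.2.1 r hrQ)))
    have hNn : (N.map M.subtype).Normal := by
      refine ⟨?_⟩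
      rintro _ ⟨x, hx, rfl⟩ g
      refine ⟨⟨g * (x : G) * g⁻¹, hMn.conj_mem x x.2 g⟩, (mem_iff_coprime hN).2 ?_, rfl⟩
      rw [← Subgroup.orderOf_coe]
      change Nat.Coprime (orderOf (g * (x : G) * g⁻¹)) p
      rw [show g * (x : G) * g⁻¹ = MulAut.conj g (x : G) from
        (MulAut.conj_apply g _).symm, MulEquiv.orderOf_eq, Subgroup.orderOf_coe]
      exact (mem_iff_coprime hN).1 hx
    have hN1 : N = ⊥ := (Subgroup.map_eq_bot_iff_of_injective _ M.subtype_injective).1
      (hpc _ hNn (by rw [Subgroup.card_map_of_injective M.subtype_injective]; exact hN.2.1))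
    obtain ⟨i, hi⟩ := hN.2.2
    rw [hN1, Subgroup.index_bot] at hi
    exact hQmax M hMn (IsPGroup.of_card hi)
  have hfree : ∀ g ∈ Subgroup.centralizer (Q : Set G), Nat.Coprime (orderOf g) p → g = 1 := by
    intro g hg hgo
    obtain ⟨j, hj⟩ := hQp ⟨g, hMQ ⟨hg, hKco g hgo⟩⟩
    exact eq_one_of_coprime_of_pow (congrArg Subtype.val hj) hgo
  have hCQ : Subgroup.centralizer (Q : Set G) ≤ Q := by
    refine hQmax _ inferInstance fun x => ?_
    obtain ⟨j, hj⟩ := hQp ⟨(x : G) ^ p ^ n, hMQ ⟨pow_mem x.2 _, hK ▸ K.pow_index_mem (x : G)⟩⟩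
    refine ⟨n + j, Subtype.ext ?_⟩
    rw [Subgroup.coe_pow, pow_add, pow_mul, Subgroup.coe_one]
    exact congrArg Subtype.val hj
  -- a proper subgroup containing `P` equals `P`
  have hPmax : ∀ H : Subgroup G, (P : Subgroup G) ≤ H → H ≠ ⊤ → H = (P : Subgroup G) := by
    intro H hPH hH
    refine P.is_maximal' (fun x => ?_) hPH
    obtain ⟨j, hj⟩ := exists_pow_coprime (p := p) x
    refine ⟨j, ?_⟩
    have hQH : Q ≤ H := hQP.trans hPH
    have h1 := mem_centralizer_of_hasNormalPComplement (p := p) (Q := Q.subgroupOf H)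
      (hQp.of_equiv (Subgroup.subgroupOfEquivOfLe hQH).symm)
      (hasNormalPComplement_subgroup (hprop H hPH hH) _)
      (g := x ^ p ^ j) (by rw [Subgroup.normalizer_eq_top]; exact Subgroup.mem_top _) hj
    have hc : ((x ^ p ^ j : H) : G) ∈ Subgroup.centralizer (Q : Set G) :=
      Subgroup.mem_centralizer_iff.2 fun q hq => congrArg Subtype.val
        (Subgroup.mem_centralizer_iff.1 h1 ⟨q, hQH hq⟩ (Subgroup.mem_subgroupOf.2 hq))
    exact Subtype.ext (hfree _ hc (by rw [Subgroup.orderOf_coe]; exact hj))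
  -- irreducibility
  have hirr : ∀ R : Subgroup G, Q ≤ R → R ≤ K →
      (P : Subgroup G) ≤ Subgroup.normalizer (R : Set G) → R = Q ∨ R = K := by
    intro R hQR hRK hPR
    by_cases hH : R ⊔ (P : Subgroup G) = ⊤
    · right
      have hRn : R.Normal := by
        rw [← Subgroup.normalizer_eq_top_iff, ← top_le_iff, ← hH]
        exact sup_le Subgroup.le_normalizer hPR
      refine le_antisymm hRK fun x hx => ?_
      obtain ⟨r, hr, y, hy, rfl⟩ := Subgroup.mem_sup_of_normal_left.1 (hH ▸ Subgroup.mem_top x :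
        x ∈ R ⊔ (P : Subgroup G))
      have hyK : y ∈ K := by simpa using mul_mem (inv_mem (hRK hr)) hx
      exact mul_mem hr (hQR (hPK y hy hyK))
    · left
      refine le_antisymm (fun x hx => ?_) hQR
      have hxP : x ∈ (P : Subgroup G) := by
        rw [← hPmax _ le_sup_right hH]; exact Subgroup.mem_sup_left hx
      exact hPK x hxP (hRK hx)
  -- `K / Q` is abelian
  have hKab : ∀ a ∈ K, ∀ b ∈ K, ⁅a, b⁆ ∈ Q := by
    set Kb := K.map f with hKb
    have hKb1 : Kb ≠ ⊥ := fun h => hne (le_antisymm (fun x hx => (hfQ x).1 (by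
      have h1 : f x ∈ Kb := Subgroup.mem_map_of_mem f hx
      rwa [h, Subgroup.mem_bot] at h1)) hQK)
    have hm1 : m ≠ 1 := fun h => hKb1 (Subgroup.eq_bot_of_card_eq _ h)
    obtain ⟨q, hq, hqd⟩ := Nat.exists_prime_and_dvd hm1
    have : Fact q.Prime := ⟨hq⟩
    have hKbn : Kb.Normal := Subgroup.Normal.map inferInstance f (QuotientGroup.mk'_surjective Q)
    set Pb := (P : Subgroup G).map f with hPb
    have hPbp : IsPGroup p Pb := P.isPGroup'.map f
    obtain ⟨i, hi⟩ := IsPGroup.iff_card.1 hPbp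
    have hnil : Group.IsNilpotent Pb := hPbp.isNilpotent
    obtain ⟨S, hS⟩ := CfsgLib.Solvable.exists_invariant_sylow (A := Pb) (K := Kb)
      (by rw [Subgroup.normalizer_eq_top]; exact le_top) (by rw [hi]; exact hco.symm.pow_left i)
      (Or.inl inferInstance) q
    set Sb := (S : Subgroup Kb).map Kb.subtype with hSb
    have hSbK : Sb ≤ Kb := Subgroup.map_subtype_le _
    have hSb1 : Sb ≠ ⊥ := fun h => S.ne_bot_of_dvd_card hqd
      ((Subgroup.map_eq_bot_iff_of_injective _ Kb.subtype_injective).1 h)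
    have hQker : Q = f.ker := (QuotientGroup.ker_mk' Q).symm
    have hcK : Kb.comap f = K := by
      rw [hKb, Subgroup.comap_map_eq, ← hQker, sup_eq_left.2 hQK]
    have hSK : Kb = Sb := by
      rcases hirr (Sb.comap f) (fun x hx => by
          rw [Subgroup.mem_comap, (hfQ x).2 hx]; exact one_mem _)
          (hcK ▸ Subgroup.comap_mono hSbK) (fun x hx => by
          rw [← Subgroup.comap_normalizer_eq_of_surjective _ (QuotientGroup.mk'_surjective Q)]
          exact hS (Subgroup.mem_map_of_mem f hx)) with h | h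
      · exfalso
        apply hSb1
        have := congrArg (Subgroup.map f) h
        rwa [Subgroup.map_comap_eq_self_of_surjective (QuotientGroup.mk'_surjective Q),
          (Subgroup.map_eq_bot_iff Q).2 hQker.le] at this
      · rw [hKb, ← h, Subgroup.map_comap_eq_self_of_surjective (QuotientGroup.mk'_surjective Q)]
    have hKq : IsPGroup q Kb := by rw [hSK]; exact S.isPGroup'.map _
    have : Nontrivial Kb := (Subgroup.nontrivial_iff_ne_bot _).2 hKb1
    have hRn : (Q ⊔ ⁅K, K⁆).Normal := inferInstance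
    rcases hirr (Q ⊔ ⁅K, K⁆) le_sup_left
        (sup_le hQK (Subgroup.commutator_le_right K K))
        (by rw [Subgroup.normalizer_eq_top_iff.2 hRn]; exact le_top) with h | h
    · exact fun a ha b hb =>
        h ▸ (le_sup_right : _ ≤ Q ⊔ ⁅K, K⁆) (Subgroup.commutator_mem_commutator ha hb)
    · exfalso
      apply CfsgLib.PGroup.frattini_ne_top (G := Kb)
      apply top_le_iff.1
      refine le_trans (le_of_eq ?_) (CfsgLib.PGroup.commutator_le_frattini hKq)
      apply Subgroup.map_injective Kb.subtype_injective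
      rw [Subgroup.map_subtype_commutator, ← MonoidHom.range_eq_map, Subgroup.range_subtype]
      conv_lhs => rw [hKb, ← h]
      rw [Subgroup.map_sup, Subgroup.map_commutator, (Subgroup.map_eq_bot_iff Q).2 hQker.le,
        bot_sup_eq]
  exact ⟨hCQ, hPmax, hKab⟩

omit hp in
theorem card_mul_card_le (A W : Subgroup G) (hAW : ∀ a ∈ A, ∀ w ∈ W, a * w = w * a) :
    Nat.card A * Nat.card W ≤ Nat.card ↥(A ⊓ W) * Nat.card ↥(A ⊔ W) := by
  have hcm : ∀ (a : A) (w : W), Commute (A.subtype a) (W.subtype w) := fun a w =>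
    hAW (a : G) a.2 (w : G) w.2
  let φ : A × W →* G := A.subtype.noncommCoprod W.subtype hcm
  have hr : φ.range = A ⊔ W :=
    (MonoidHom.noncommCoprod_range A.subtype W.subtype hcm).trans
      (by rw [Subgroup.range_subtype, Subgroup.range_subtype])
  rw [← Nat.card_prod, ← φ.ker.card_mul_index, Subgroup.index_ker, hr]
  refine Nat.mul_le_mul_right _ (Nat.card_le_card_of_injective
    (fun t => (⟨t.1.1.1, t.1.1.2, ?_⟩ : ↥(A ⊓ W))) ?_)
  · rw [show (t.1.1 : G) = (t.1.2 : G)⁻¹ from eq_inv_of_mul_eq_one_left t.2]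
    exact W.inv_mem t.1.2.2
  · intro a c h
    have h1 : a.1.1 = c.1.1 := Subtype.ext (congrArg (fun z : ↥(A ⊓ W) => z.1) h)
    refine Subtype.ext (Prod.ext h1 (Subtype.ext ?_))
    have ha : ((a.1.1 : G)) * a.1.2 = 1 := a.2
    have hc : ((c.1.1 : G)) * c.1.2 = 1 := c.2
    rw [eq_inv_of_mul_eq_one_right ha, eq_inv_of_mul_eq_one_right hc, h1]

omit hp in
theorem card_eq_inf_mul_map (A N : Subgroup G) [N.Normal] :
    Nat.card A = Nat.card ↥(A ⊓ N) * Nat.card ↥(A.map (QuotientGroup.mk' N)) := by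
  rw [← Subgroup.card_mul_index (N.subgroupOf A), ← Subgroup.relIndex, ← Subgroup.relIndex_ker,
    QuotientGroup.ker_mk', Nat.card_congr (Subgroup.subgroupOfEquivOfLe
      (inf_le_left : A ⊓ N ≤ A)).toEquiv.symm, Subgroup.inf_subgroupOf_left]

omit hp in
theorem no_inverted_three {V Q : Subgroup G} [Q.Normal] (hV : IsPGroup 2 V) (hVn : V.Normal)
    (hCV : Subgroup.centralizer (V : Set G) = Q)
    (hS4 : ¬ Cfsg.Involves (Equiv.Perm (Fin 4)) G) (x y : G ⧸ Q)
    (hx : ∃ e, orderOf x = 2 ^ e) (hy : orderOf y = 3) : x * y * x⁻¹ ≠ y⁻¹ := by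
  intro hxy
  haveI : Fact (Nat.Prime 3) := ⟨Nat.prime_three⟩
  obtain ⟨K, g, hg⟩ := exists_surjective_of_involves
    (involves_dihedral (p := 3) (by norm_num) hx ⟨1, by rw [hy, pow_one]⟩
      (fun h => by rw [h, orderOf_one] at hy; norm_num at hy) hxy)
  have h3 : Cfsg.Involves (Equiv.Perm (Fin 3)) (G ⧸ Q) :=
    involves_of_surjective K (dihedralThreeEquiv.toMonoidHom.comp g)
      (dihedralThreeEquiv.surjective.comp hg)
  apply hS4
  refine Cfsg.Agent.S2759.backward V hV (involves_of_quotient (QuotientGroup.lift _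
    ((QuotientGroup.mk' Q).comp (Subgroup.normalizer (V : Set G)).subtype) ?_) ?_ h3)
  · intro z hz
    rw [Subgroup.mem_subgroupOf, hCV] at hz
    exact (QuotientGroup.eq_one_iff _).2 hz
  · intro d
    obtain ⟨g, rfl⟩ := QuotientGroup.mk'_surjective Q d
    exact ⟨QuotientGroup.mk (⟨g, by rw [Subgroup.normalizer_eq_top_iff.2 hVn]; trivial⟩ :
      ↥(Subgroup.normalizer (V : Set G))), rfl⟩

omit hp in
/-- Without inverted elements of order three there is no offender outside the kernel. -/
theorem maxAb_le_kernel {V Q L : Subgroup G} [Q.Normal] [V.Normal] (hVea : Cfsg.IsElementaryAbelian 2 V)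
    (hCV : Subgroup.centralizer (V : Set G) = Q) (hS4 : ¬ Cfsg.Involves (Equiv.Perm (Fin 4)) G)
    {P : Subgroup G} (hP : IsPGroup 2 P) (hVP : V ≤ P) (hPL : P ≤ Subgroup.normalizer (L : Set G))
    (hLab : IsMulCommutative (L.map (QuotientGroup.mk' Q)))
    (hLodd : Odd (Nat.card (L.map (QuotientGroup.mk' Q))))
    (hX : P.map (QuotientGroup.mk' Q) ⊓
      Subgroup.centralizer (L.map (QuotientGroup.mk' Q) : Set (G ⧸ Q)) = ⊥)
    {A : Subgroup G} (hA : IsMaxAb 0 P A) : A ≤ Q := by
  set f := QuotientGroup.mk' Q with hf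
  by_contra hAQ
  haveI := hA.comm
  haveI := hVea.1
  haveI := hLab
  haveI : IsMulCommutative (A.map f) := Subgroup.map_isMulCommutative A (f := f)
  letI : CommGroup V :=
    { (inferInstance : Group V) with mul_comm := fun a b => Std.Commutative.comm a b }
  let ρ0 : G →* AddMonoid.End (Additive V) :=
    { toFun := fun g => MonoidHom.toAdditive (MulAut.conjNormal g : MulAut V).toMonoidHom
      map_one' := by ext v; simp; rfl
      map_mul' := fun a b => by ext v; simp; rfl }
  have hρ0 : ∀ (g : G) (v : Additive V),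
      ((Additive.toMul (ρ0 g v) : V) : G) = g * (Additive.toMul v : V) * g⁻¹ := fun g v =>
    MulAut.conjNormal_apply g (Additive.toMul v)
  have hQ1 : Q ≤ ρ0.ker := fun g hg => AddMonoidHom.ext fun v => by
    apply Additive.toMul.injective
    apply Subtype.ext
    rw [← hCV] at hg
    show ((Additive.toMul (ρ0 g v) : V) : G) = (Additive.toMul v : V)
    rw [hρ0, ← hg _ (Additive.toMul v).2, mul_inv_cancel_right]
  let ρ : G ⧸ Q →* AddMonoid.End (Additive V) := QuotientGroup.lift Q ρ0 hQ1
  have hρ : ∀ (g : G) (v : Additive V),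
      ((Additive.toMul (ρ (f g) v) : V) : G) = g * (Additive.toMul v : V) * g⁻¹ := hρ0
  have hinj : Function.Injective ρ := by
    rw [injective_iff_map_eq_one]
    intro z hz
    obtain ⟨g, rfl⟩ := QuotientGroup.mk'_surjective Q z
    refine (QuotientGroup.eq_one_iff g).2 ?_
    rw [← hCV]
    intro v hv
    have h := hρ g (Additive.ofMul ⟨v, hv⟩)
    rw [hz] at h
    exact eq_mul_inv_iff_mul_eq.1 (h : v = g * v * g⁻¹)
  have h2 : ∀ v : Additive V, v + v = 0 := fun v => Additive.toMul.injective (Subtype.ext (by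
    show ((Additive.toMul v : V) : G) * (Additive.toMul v : V) = 1
    rw [← pow_two]; exact hVea.2 _ (Additive.toMul v).2))
  haveI : Finite (Additive V) := Finite.of_equiv V Additive.ofMul
  have hBne : A.map f ≠ ⊥ := fun h => hAQ (by
    rw [Subgroup.map_eq_bot_iff, QuotientGroup.ker_mk'] at h; exact h)
  obtain ⟨B0, hB0, hlt⟩ := FFSFree.exists_lt ρ h2 hinj (B := A.map f) (L := L.map f)
    ((hP.to_le hA.le).map f) hLodd
    ((Subgroup.map_mono (hA.le.trans hPL)).trans (Subgroup.le_normalizer_map f)) hBne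
    (le_bot_iff.1 (hX ▸ inf_le_inf_right _ (Subgroup.map_mono hA.le)))
    (no_inverted_three (fun v => ⟨1, Subtype.ext (by rw [pow_one]; exact hVea.2 _ v.2)⟩)
      inferInstance hCV hS4)
  -- a competing abelian subgroup
  set A0 := A ⊓ B0.comap f with hA0
  set W := V ⊓ Subgroup.centralizer (A0 : Set G) with hW
  have hA0map : A0.map f = B0 := le_antisymm
    ((Subgroup.map_mono inf_le_right).trans (Subgroup.map_comap_le f B0)) fun z hz => by
      obtain ⟨a, ha, rfl⟩ := hB0 hz
      exact ⟨a, ⟨ha, hz⟩, rfl⟩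
  have hA0Q : A0 ⊓ Q = A ⊓ Q := le_antisymm (inf_le_inf_right _ inf_le_left) fun z hz =>
    Subgroup.mem_inf.2 ⟨Subgroup.mem_inf.2 ⟨hz.1, Subgroup.mem_comap.2 (by
      rw [show f z = 1 from (QuotientGroup.eq_one_iff z).2 hz.2]; exact one_mem _)⟩, hz.2⟩
  have hAW : ∀ a ∈ A0, ∀ w ∈ W, a * w = w * a := fun a ha w hw => hw.2 a ha
  have hD : Nat.card ↥(A0 ⊔ W) ≤ Nat.card A := by
    refine hA.max _ (sup_le (inf_le_left.trans hA.le) (inf_le_left.trans hVP)) ?_ fun a _ => pow_zero a
    rw [← Subgroup.le_centralizer_iff_isMulCommutative]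
    refine sup_le (Subgroup.le_centralizer_iff.1 (sup_le ?_ ?_))
      (Subgroup.le_centralizer_iff.1 (sup_le ?_ ?_))
    · exact fun a ha c hc => setLike_mul_comm hc.1 ha.1
    · exact inf_le_right
    · exact fun a ha w hw => (hAW a ha w hw).symm
    · exact fun a ha c hc => setLike_mul_comm hc.1 ha.1
  have hfixW : Nat.card (FFSFree.fixed ρ B0) ≤ Nat.card W := by
    refine Nat.card_le_card_of_injective
      (fun v => (⟨((Additive.toMul v.1 : V) : G), (Additive.toMul v.1).2, ?_⟩ : W)) ?_
    · intro a ha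
      have h := hρ a v.1
      rw [v.2 (f a) ha.2] at h
      exact (eq_mul_inv_iff_mul_eq.1 h).symm
    · exact fun a c h => Subtype.ext (Additive.toMul.injective (Subtype.ext (congrArg (fun z : W => z.1) h)))
  have hAV : Nat.card ↥(A0 ⊓ W) ≤ Nat.card (FFSFree.fixed ρ (A.map f)) := by
    refine Nat.card_le_card_of_injective
      (fun t => (⟨Additive.ofMul ⟨t.1, t.2.2.1⟩, ?_⟩ : FFSFree.fixed ρ (A.map f))) ?_
    · rintro _ ⟨a, ha, rfl⟩
      apply Additive.toMul.injective
      apply Subtype.ext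
      rw [hρ]
      show a * (t : G) * a⁻¹ = t
      rw [setLike_mul_comm ha t.2.1.1, mul_inv_cancel_right]
    · exact fun a c h => Subtype.ext
        (congrArg (fun z : FFSFree.fixed ρ (A.map f) => ((Additive.toMul z.1 : V) : G)) h)
  have key : Nat.card A0 * Nat.card (FFSFree.fixed ρ B0) ≤
      Nat.card A * Nat.card (FFSFree.fixed ρ (A.map f)) := by
    refine (Nat.mul_le_mul_left _ hfixW).trans ((card_mul_card_le A0 W hAW).trans ?_)
    rw [mul_comm (Nat.card A)]
    exact Nat.mul_le_mul hAV hD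
  rw [card_eq_inf_mul_map A0 Q, card_eq_inf_mul_map A Q, ← hf, hA0map, hA0Q, mul_assoc,
    mul_assoc] at key
  exact absurd (Nat.le_of_mul_le_mul_left key Nat.card_pos) (not_le.2 hlt)

/-- The two outcomes in a minimal counterexample. -/
theorem endgame (hS4 : p ≠ 2 ∨ ¬ Cfsg.Involves (Equiv.Perm (Fin 4)) G) (P : Sylow p G)
    {Q : Subgroup G} [Q.Normal] (hO : Cfsg.pCore p G = Q) (hQP : Q ≤ (P : Subgroup G))
    (hQmax : ∀ N : Subgroup G, N.Normal → IsPGroup p N → N ≤ Q)
    (hCQ : Subgroup.centralizer (Q : Set G) ≤ Q)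
    (hPmax : ∀ H : Subgroup G, (P : Subgroup G) ≤ H → H ≠ ⊤ → H = (P : Subgroup G))
    {K : Subgroup G} [K.Normal] {n : ℕ} (hK : K.index = p ^ n) (hQK : Q ≤ K)
    (hco : (Nat.card (K.map (QuotientGroup.mk' Q))).Coprime p)
    (hKab : ∀ a ∈ K, ∀ b ∈ K, ⁅a, b⁆ ∈ Q) :
    Subgroup.centralizer (((P : Subgroup G) ⊓ Subgroup.centralizer ((P : Subgroup G) : Set G) :
      Subgroup G) : Set G) = ⊤ ∨ joinMaxAb 0 (P : Subgroup G) ≤ Q := by
  by_cases hp2 : p = 2
  · subst hp2
    have hS4' := hS4.resolve_left (not_not.2 rfl)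
    set V := omegaCenterClosure 2 G with hV
    haveI : V.Normal := omegaCenterClosure_normal
    have hVea : Cfsg.IsElementaryAbelian 2 V := omegaCenterClosure_isEA (hO ▸ hCQ)
    have hVC : V ≤ Subgroup.centralizer (Q : Set G) := iSup_le fun S =>
      (omegaCenter_le_fixed _).trans (Subgroup.centralizer_le (hO ▸ CfsgLib.Solvable.pCore_le_sylow S))
    by_cases htop : (P : Subgroup G) ⊔ Subgroup.centralizer (V : Set G) = ⊤
    · left
      refine centralizer_center_eq_top P hQP hCQ ?_
      rw [eq_top_iff, ← htop]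
      exact sup_le (Subgroup.le_centralizer_iff.1 (omegaCenter_le_fixed _))
        (Subgroup.centralizer_le (le_iSup (fun S : Sylow 2 G => Cfsg.omegaOne 2
          ((S : Subgroup G) ⊓ Subgroup.centralizer ((S : Subgroup G) : Set G))) P))
    · right
      have hCP : Subgroup.centralizer (V : Set G) ≤ (P : Subgroup G) :=
        le_sup_right.trans (hPmax _ le_sup_left htop).le
      have hCV : Subgroup.centralizer (V : Set G) = Q :=
        le_antisymm (hQmax _ inferInstance (P.isPGroup'.to_le hCP)) (Subgroup.le_centralizer_iff.1 hVC)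
      set f := QuotientGroup.mk' Q with hf
      have hX : (P : Subgroup G).map f ⊓
          Subgroup.centralizer (K.map f : Set (G ⧸ Q)) = ⊥ := by
        set Pb := (P : Subgroup G).map f with hPb
        haveI hKbn : (K.map f).Normal := Subgroup.Normal.map inferInstance f (QuotientGroup.mk'_surjective Q)
        set X := Pb ⊓ Subgroup.centralizer (K.map f : Set (G ⧸ Q)) with hXdef
        have hsupb : Pb ⊔ K.map f = ⊤ := by
          have h1 : ((P : Subgroup G) ⊔ K).index = 1 := Nat.eq_one_of_dvd_coprimes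
            (((Nat.Prime.coprime_iff_not_dvd hp.out).2 P.not_dvd_index).pow_left n).symm
            (Subgroup.index_dvd_of_le le_sup_left) (hK ▸ Subgroup.index_dvd_of_le le_sup_right)
          rw [hPb, ← Subgroup.map_sup, Subgroup.index_eq_one.1 h1,
            Subgroup.map_top_of_surjective f (QuotientGroup.mk'_surjective Q)]
        have hXn : X.Normal := by
          rw [← Subgroup.normalizer_eq_top_iff, eq_top_iff, ← hsupb]
          refine sup_le (fun z hz => ?_)
            ((Subgroup.le_centralizer_iff.1 inf_le_right).trans (Subgroup.centralizer_le_normalizer _))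
          refine Subgroup.inf_normalizer_le_normalizer_inf ⟨Subgroup.le_normalizer hz, ?_⟩
          rw [Subgroup.normalizer_eq_top_iff.2 inferInstance]; trivial
        have hle : X.comap f ≤ Q := hQmax _ (hXn.comap f)
          ((P.isPGroup'.map f).to_le inf_le_left |>.comap_of_ker_isPGroup f
            (by rw [hf, QuotientGroup.ker_mk']; exact P.isPGroup'.to_le hQP))
        rw [eq_bot_iff, ← Subgroup.map_comap_eq_self_of_surjective (QuotientGroup.mk'_surjective Q) X]
        exact (Subgroup.map_mono hle).trans ((Subgroup.map_eq_bot_iff Q).2 (QuotientGroup.ker_mk' Q).ge).le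
      have hLab : IsMulCommutative (K.map f) := by
        refine IsMulCommutative.of_setLike_mul_comm ?_
        rintro _ ⟨a, ha, rfl⟩ _ ⟨b, hb, rfl⟩
        rw [← commutatorElement_eq_one_iff_mul_comm, ← map_commutatorElement]
        exact (QuotientGroup.eq_one_iff _).2 (hKab a ha b hb)
      exact sSup_le fun A hA => maxAb_le_kernel hVea hCV hS4' P.isPGroup'
        ((hVC.trans hCQ).trans hQP)
        (by rw [Subgroup.normalizer_eq_top_iff.2 inferInstance]; exact le_top) hLab
        (Nat.coprime_two_right.1 hco) hX hA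
  · subst hO
    have hst : CfsgLib.PLoc.PStableNormal p G :=
      CfsgLib.PLoc.pStableNormal_of_abelian_complement hp2 hQK (by
        rwa [← QuotientGroup.ker_mk' (Cfsg.pCore p G), Subgroup.relIndex_ker])
        (Subgroup.commutator_le.2 hKab) hK
    haveI := CfsgLib.PLoc.interMaxAb_normal hp2 hCQ hst 0 P
    set Z := interMaxAb 0 (P : Subgroup G) with hZ
    by_cases htop : (P : Subgroup G) ⊔ Subgroup.centralizer (Z : Set G) = ⊤
    · left
      rw [eq_top_iff, ← htop]
      exact sup_le (Subgroup.le_centralizer_iff.1 inf_le_right)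
        (Subgroup.centralizer_le (center_le_interMaxAb _))
    · right
      have hCP : Subgroup.centralizer (Z : Set G) ≤ (P : Subgroup G) :=
        le_sup_right.trans (hPmax _ le_sup_left htop).le
      exact (Subgroup.le_centralizer_iff.1 (CfsgLib.PLoc.interMaxAb_le_centralizer 0 _)).trans
        (hQmax _ inferInstance (P.isPGroup'.to_le hCP))


omit [Finite G] hp in
theorem npc_of_hypA_aux (p : ℕ) [hp : Fact p.Prime] :
    ∀ (n : ℕ) (G : Type u) [Group G] [Finite G], Nat.card G = n →
    (p ≠ 2 ∨ ¬ Cfsg.Involves (Equiv.Perm (Fin 4)) G) →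
    ∀ P : Sylow p G, HypA p (P : Subgroup G) → Cfsg.HasNormalPComplement p G := by
  intro n
  induction n using Nat.strong_induction_on with
  | _ n ih =>
  intro G _ _ hn hS4 P hP
  have hpp := hp.out
  by_contra hG
  have hsub : ∀ (H : Subgroup G) (S : Sylow p H), H ≠ ⊤ →
      HypA p ((S : Subgroup H).map H.subtype) → Cfsg.HasNormalPComplement p H := by
    intro H S hH hS
    refine ih (Nat.card H) ?_ H rfl (hS4.imp_right fun h hc => h (involves_of_injective H.subtype H.subtype_injective hc)) S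
      (hypA_of_map H.subtype H.subtype_injective _ hS)
    rw [← hn]
    by_contra hge
    exact hH (Subgroup.eq_top_of_le_card H (not_lt.1 hge))
  have hprop : ∀ H : Subgroup G, (P : Subgroup G) ≤ H → H ≠ ⊤ → Cfsg.HasNormalPComplement p H := by
    intro H hPH hH
    refine hsub H (P.subtype hPH) hH ?_
    rwa [Sylow.coe_subtype, Subgroup.map_subgroupOf_eq_of_le hPH]
  -- a nontrivial normal p-subgroup
  obtain ⟨Q0, hQ0p, hQ0ne, hQ0n⟩ : ∃ Q0 : Subgroup G, IsPGroup p Q0 ∧ Q0 ≠ ⊥ ∧ Q0.Normal := by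
    have hbad : {R : Subgroup G | IsPGroup p R ∧ R ≠ ⊥ ∧
        ¬ Cfsg.HasNormalPComplement p (Subgroup.normalizer (R : Set G))}.Nonempty := by
      by_contra hc
      apply hG
      refine frobenius_local fun R hR hRne => ?_
      by_contra hR'
      exact hc ⟨R, hR, hRne, hR'⟩
    obtain ⟨R, ⟨hR, hRne, hR'⟩, hmax⟩ := Set.exists_max_image _
      (fun R : Subgroup G => (Nat.card (Subgroup.normalizer (R : Set G))).factorization p)
      (Set.toFinite _) hbad
    set H := Subgroup.normalizer (R : Set G) with hHdef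
    refine ⟨R, hR, hRne, Subgroup.normalizer_eq_top_iff.1 ?_⟩
    by_contra hH
    obtain ⟨S⟩ : Nonempty (Sylow p H) := inferInstance
    set S' := (S : Subgroup H).map H.subtype with hS'
    have hS'p : IsPGroup p S' := S.isPGroup'.map _
    set r := (Nat.card H).factorization p with hr
    have hS'card : Nat.card S' = p ^ r := by
      rw [hS', Subgroup.card_map_of_injective H.subtype_injective, S.card_eq_multiplicity]
    have hRS : R ≤ S' := by
      have := (hR.of_equiv (Subgroup.subgroupOfEquivOfLe Subgroup.le_normalizer).symm).le_sylow_of_normal S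
      rw [hS', ← Subgroup.map_subgroupOf_eq_of_le (Subgroup.le_normalizer : R ≤ H)]
      exact Subgroup.map_mono this
    have hS'ne : S' ≠ ⊥ := fun h => hRne (le_bot_iff.1 (h ▸ hRS))
    obtain ⟨T, hT⟩ := hS'p.exists_le_sylow
    apply hR'
    refine hsub H S hH ⟨?_, ?_⟩
    · by_cases hr' : p ^ (r + 1) ∣ Nat.card G
      · by_contra hbadS
        have h1 := hmax (joinMaxAb 0 S')
          ⟨hS'p.to_le (CfsgLib.PLoc.joinMaxAb_le 0 S'), joinMaxAb_ne_bot hS'p hS'ne, hbadS⟩
        have h2 : p ^ (r + 1) ∣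
            Nat.card (Subgroup.normalizer (joinMaxAb 0 S' : Set G)) :=
          (Sylow.prime_pow_dvd_card_normalizer hr' hS'card).trans
            (Subgroup.card_dvd_of_le (CfsgLib.PLoc.normalizer_le_normalizer_joinMaxAb 0 S'))
        have h3 := (hpp.pow_dvd_iff_le_factorization Nat.card_pos.ne').1 h2
        omega
      · have hTS : S' = (T : Subgroup G) := by
          refine Subgroup.eq_of_le_of_card_ge hT ?_
          rw [hS'card, T.card_eq_multiplicity]
          refine Nat.pow_le_pow_right hpp.pos ?_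
          by_contra hlt
          exact hr' ((hpp.pow_dvd_iff_le_factorization Nat.card_pos.ne').2 (by omega))
        rw [← hS', hTS]
        exact (hypA_sylow hP T).1
    · set Z := (T : Subgroup G) ⊓ Subgroup.centralizer ((T : Subgroup G) : Set G) with hZ
      have hZH : Z ≤ H := (inf_le_right.trans
        ((Subgroup.centralizer_le (hRS.trans hT)).trans (Subgroup.centralizer_le_normalizer _)))
      have hZS : Z ≤ S' := by
        have h1 : IsPGroup p ↥((Z ⊔ S').subgroupOf H) :=
          (T.isPGroup'.to_le (sup_le inf_le_left hT)).comap_subtype (K := H)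
        have h2 := S.is_maximal' h1 (fun x hx => Subgroup.mem_subgroupOf.2
          (Subgroup.mem_sup_right (Subgroup.mem_map_of_mem H.subtype hx)))
        intro z hz
        have h3 : (⟨z, hZH hz⟩ : H) ∈ (S : Subgroup H) := by
          rw [← h2]; exact Subgroup.mem_subgroupOf.2 (Subgroup.mem_sup_left hz)
        exact Subgroup.mem_map_of_mem H.subtype h3
      refine hasNormalPComplement_of_le (Subgroup.centralizer_le ?_) (hypA_sylow hP T).2
      exact le_inf hZS (inf_le_right.trans (Subgroup.centralizer_le hT))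
  set Q := (P : Subgroup G).normalCore with hQdef
  have hQP : Q ≤ (P : Subgroup G) := Subgroup.normalCore_le _
  have hQn : Q.Normal := Subgroup.normalCore_normal _
  have hQmax : ∀ N : Subgroup G, N.Normal → IsPGroup p N → N ≤ Q := fun N hNn hNp =>
    Subgroup.normal_le_normalCore.2 (hNp.le_sylow_of_normal P)
  have hQne : Q ≠ ⊥ := fun h => hQ0ne (le_bot_iff.1 ((hQmax Q0 hQ0n hQ0p).trans h.le))
  -- no normal p'-subgroup
  have hpc : ∀ N : Subgroup G, N.Normal → (Nat.card N).Coprime p → N = ⊥ := by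
    intro N hNn hco
    by_contra hNne
    apply hG
    refine CfsgLib.Transfer.hasNormalPComplement_of_quotient N
      ((Nat.Prime.coprime_iff_not_dvd hpp).1 hco.symm) ?_
    have hlt : Nat.card (G ⧸ N) < n := by
      rw [← hn, ← Subgroup.card_mul_index N, ← Subgroup.index_eq_card]
      exact lt_mul_left (Nat.pos_of_ne_zero Subgroup.index_ne_zero_of_finite)
        (Subgroup.one_lt_card_iff_ne_bot N |>.2 hNne)
    have hsurj := QuotientGroup.mk'_surjective N
    refine ih _ hlt (G ⧸ N) rfl (hS4.imp_right fun h hc => h (involves_of_quotient _ hsurj hc))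
      (P.mapSurjective hsurj) ?_
    have hinj : Function.Injective ((QuotientGroup.mk' N).comp (P : Subgroup G).subtype) := by
      rw [injective_iff_map_eq_one]
      intro x hx
      rw [MonoidHom.comp_apply, QuotientGroup.mk'_apply, QuotientGroup.eq_one_iff] at hx
      obtain ⟨j, hj⟩ := P.isPGroup' x
      exact eq_one_of_coprime_of_pow hj (hco.coprime_dvd_left
        (by rw [← Subgroup.orderOf_coe]; exact Subgroup.orderOf_dvd_natCard _ hx))
    have hker : (Nat.card (QuotientGroup.mk' N).ker).Coprime p := by rwa [QuotientGroup.ker_mk']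
    rw [Sylow.coe_mapSurjective]
    constructor
    · rw [← joinMaxAb_map_injOn _ _ hinj,
        CfsgLib.PLoc.normalizer_map_eq hsurj hker (P.isPGroup'.to_le (CfsgLib.PLoc.joinMaxAb_le 0 _))]
      exact npc_map _ _ hP.1
    · rw [← center_map_injOn _ _ hinj,
        CfsgLib.PLoc.centralizer_map_eq hsurj hker (P.isPGroup'.to_le inf_le_left)]
      exact npc_map _ _ hP.2
  set J := joinMaxAb 0 (P : Subgroup G) with hJ
  have hPNJ : (P : Subgroup G) ≤ Subgroup.normalizer (J : Set G) :=
    Subgroup.le_normalizer.trans (CfsgLib.PLoc.normalizer_le_normalizer_joinMaxAb 0 _)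
  have hNtop : Subgroup.normalizer (J : Set G) ≠ ⊤ := fun h => by
    have hN := hP.1
    rw [← hJ, h] at hN
    exact hG (npc_of_top hN)
  have hQP' : Q ≠ (P : Subgroup G) := fun h => by
    apply hNtop
    rw [eq_top_iff, ← Subgroup.normalizer_eq_top_iff.2 hQn, h]
    exact CfsgLib.PLoc.normalizer_le_normalizer_joinMaxAb 0 _
  -- the quotient by `Q` has a normal p-complement
  set f := QuotientGroup.mk' Q with hf
  have hsurj := QuotientGroup.mk'_surjective Q
  have hker : f.ker = Q := QuotientGroup.ker_mk' Q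
  set Pb := (P : Subgroup G).map f with hPb
  have hPbp : IsPGroup p Pb := P.isPGroup'.map f
  have hPbne : Pb ≠ ⊥ := fun h => hQP' (le_antisymm hQP (by
    rw [hPb, Subgroup.map_eq_bot_iff, hker] at h; exact h))
  have hnormb : ∀ Xb : Subgroup (G ⧸ Q), Xb ≤ Pb → Xb ≠ ⊥ →
      Pb ≤ Subgroup.normalizer (Xb : Set (G ⧸ Q)) →
      Cfsg.HasNormalPComplement p (Subgroup.normalizer (Xb : Set (G ⧸ Q))) := by
    intro Xb hXb hXne hPX'
    set X := Xb.comap f with hXdef
    have hPX : (P : Subgroup G) ≤ Subgroup.normalizer (X : Set G) := fun x hx => by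
      rw [hXdef, ← Subgroup.comap_normalizer_eq_of_surjective _ hsurj]
      exact hPX' (Subgroup.mem_map_of_mem f hx)
    have hXp : IsPGroup p X := (hPbp.to_le hXb).comap_of_ker_isPGroup f
      (by rw [hker]; exact P.isPGroup'.to_le hQP)
    have hNX : Subgroup.normalizer (X : Set G) ≠ ⊤ := fun h => by
      have hXQ : X ≤ Q := hQmax X (Subgroup.normalizer_eq_top_iff.1 h) hXp
      apply hXne
      rw [← Subgroup.map_comap_eq_self_of_surjective hsurj Xb, ← hXdef, eq_bot_iff]
      exact (Subgroup.map_mono hXQ).trans ((Subgroup.map_eq_bot_iff Q).2 hker.ge).le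
    have h1 := npc_map f _ (hprop _ hPX hNX)
    rwa [hXdef, ← Subgroup.comap_normalizer_eq_of_surjective _ hsurj,
      Subgroup.map_comap_eq_self_of_surjective hsurj] at h1
  have hZb : Cfsg.HasNormalPComplement p (G ⧸ Q) := by
    have hlt : Nat.card (G ⧸ Q) < n := by
      rw [← hn, ← Subgroup.card_mul_index Q, ← Subgroup.index_eq_card]
      exact lt_mul_left (Nat.pos_of_ne_zero Subgroup.index_ne_zero_of_finite)
        (Subgroup.one_lt_card_iff_ne_bot Q |>.2 hQne)
    refine ih _ hlt (G ⧸ Q) rfl (hS4.imp_right fun h hc => h (involves_of_quotient _ hsurj hc))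
      (P.mapSurjective hsurj) ?_
    rw [Sylow.coe_mapSurjective]
    exact ⟨hnormb _ (CfsgLib.PLoc.joinMaxAb_le 0 _) (joinMaxAb_ne_bot hPbp hPbne)
        (Subgroup.le_normalizer.trans (CfsgLib.PLoc.normalizer_le_normalizer_joinMaxAb 0 _)),
      hasNormalPComplement_of_le (Subgroup.centralizer_le_normalizer _)
        (hnormb _ inf_le_left (center_ne_bot hPbp hPbne)
          (Subgroup.le_normalizer.trans (normalizer_le_normalizer_center _)))⟩
  obtain ⟨Kb, hKbn, hKbco, k, hkk⟩ := hasNormalPComplement_iff.1 hZb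
  set K := Kb.comap f with hKdef
  have hKidx : K.index = p ^ k := by rw [hKdef, Subgroup.index_comap_of_surjective _ hsurj, hkk]
  have hQK : Q ≤ K := hker ▸ Subgroup.ker_le_comap f Kb
  have hKQ : K ≠ Q := fun h => by
    apply hQP'
    refine le_antisymm hQP fun x hx => ?_
    have hKb : Kb = ⊥ := by
      rw [← Subgroup.map_comap_eq_self_of_surjective hsurj Kb, ← hKdef, h]
      exact (Subgroup.map_eq_bot_iff Q).2 hker.ge
    rw [hKb, Subgroup.index_bot] at hkk
    have htopp : IsPGroup p (⊤ : Subgroup G) := by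
      have := (IsPGroup.of_card (p := p) (n := k) (G := (⊤ : Subgroup (G ⧸ Q)))
        (by rw [Subgroup.card_top, hkk])).comap_of_ker_isPGroup f
          (by rw [hker]; exact P.isPGroup'.to_le hQP)
      rwa [Subgroup.comap_top] at this
    exact hQmax ⊤ inferInstance htopp (Subgroup.mem_top x)
  have hKn : K.Normal := hKbn.comap f
  have hco : (Nat.card (K.map (QuotientGroup.mk' Q))).Coprime p := by
    rwa [hKdef, ← hf, Subgroup.map_comap_eq_self_of_surjective hsurj]
  obtain ⟨hCQ, hPmax, hKab⟩ := config_structure P hQP hQmax hpc hprop hKidx hQK hKQ hco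
  have hO : Cfsg.pCore p G = Q := le_antisymm
    (hQmax _ (CfsgLib.Solvable.pCore_normal p G) (CfsgLib.Solvable.pCore_isPGroup p G))
    (CfsgLib.Solvable.le_pCore hQn (P.isPGroup'.to_le hQP))
  rcases endgame hS4 P hO hQP hQmax hCQ hPmax hKidx hQK hco hKab with h | h
  · have hC := hP.2
    rw [h] at hC
    exact hG (npc_of_top hC)
  · apply hNtop
    rw [eq_top_iff, ← Subgroup.normalizer_eq_top_iff.2 hQn, hJ,
      ← CfsgLib.PLoc.joinMaxAb_eq_of_le hQP h]
    exact CfsgLib.PLoc.normalizer_le_normalizer_joinMaxAb 0 Q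

theorem hasNormalPComplement_of_hypA (h : p ≠ 2 ∨ ¬ Cfsg.Involves (Equiv.Perm (Fin 4)) G)
    (P : Sylow p G) (hP : HypA p (P : Subgroup G)) : Cfsg.HasNormalPComplement p G :=
  npc_of_hypA_aux p _ G rfl h P hP

end CfsgLib.LocalEven.ThompsonA
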