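import Cfsg.Agent.Lib.LocalEven.Pushing
import Cfsg.Agent.Lib.PLocal.DicksonSection
import Cfsg.Agent.Lib.Linear.Simple
import Cfsg.Agent.Lib.LocalEven.PBasic

/-!
# Baumann's lemma for `PSL₂` over a group of characteristic `p`, abelian version
-/

set_option autoImplicit false
set_option linter.style.haveILetI false

open Subgroup Cfsg CfsgLib.PLoc
open scoped Pointwise commutatorElement

namespace CfsgLib.LocalEven.Baumann

variable {G : Type*} [Group G] [Finite G] {p : ℕ} [hp : Fact p.Prime]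

/-- A group of characteristic `p` with `S` in a unique maximal subgroup and `G/K ≅ PSL₂(p^n)`. -/
structure RankOne (p : ℕ) [Fact p.Prime] (S : Sylow p G) (K : Subgroup G) (F : Type) [Field F] [Fintype F]
    (n : ℕ) : Prop where
  charP : centralizer (pCore p G : Set G) ≤ pCore p G
  uniq : ∃! M : Subgroup G, IsCoatom M ∧ (S : Subgroup G) ≤ M
  one_le : 1 ≤ n
  card_field : Fintype.card F = p ^ n
  exists_hom : ∃ f : G →* Matrix.ProjectiveSpecialLinearGroup (Fin 2) F, Function.Surjective f ∧ f.ker = K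

variable {F : Type} [Field F] [Fintype F] {n : ℕ} {S : Sylow p G} {K : Subgroup G}

omit hp in
theorem card_psl_dvd (hF : Fintype.card F = p ^ n) :
    Nat.card (Matrix.ProjectiveSpecialLinearGroup (Fin 2) F) ∣ p ^ n * ((p ^ n) ^ 2 - 1) := by
  rw [← hF, ← CfsgLib.Linear.card_SL_two]
  exact Subgroup.card_quotient_dvd_card _

theorem coprime_pow_pred (hn : 1 ≤ n) (m : ℕ) : (p ^ m).Coprime ((p ^ n) ^ 2 - 1) := by
  refine Nat.Coprime.pow_left m ((Nat.Prime.coprime_iff_not_dvd hp.out).2 fun h => hp.out.not_dvd_one ?_)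
  have h1 : p ∣ (p ^ n) ^ 2 := dvd_pow (dvd_pow_self p (by omega)) two_ne_zero
  have h2 := Nat.dvd_sub h1 h
  rwa [Nat.sub_sub_self (Nat.one_le_pow _ _ (pow_pos hp.out.pos n))] at h2

theorem psl_subgroup_card_le (hn : 1 ≤ n) (hF : Fintype.card F = p ^ n)
    {U : Subgroup (Matrix.ProjectiveSpecialLinearGroup (Fin 2) F)} (hU : IsPGroup p U) :
    Nat.card U ≤ p ^ n := by
  obtain ⟨m, hm⟩ := hU.exists_card_eq
  have h := (Subgroup.card_subgroup_dvd_card U).trans (card_psl_dvd (p := p) hF)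
  rw [hm] at h ⊢
  exact Nat.le_of_dvd (pow_pos hp.out.pos n) ((coprime_pow_pred hn m).dvd_of_dvd_mul_right h)

theorem psl_not_pGroup (hn : 1 ≤ n) (hF : Fintype.card F = p ^ n) :
    ¬ IsPGroup p (Matrix.ProjectiveSpecialLinearGroup (Fin 2) F) := by
  intro h
  obtain ⟨m, hm⟩ := h.exists_card_eq
  have h1 := CfsgLib.Linear.card_PSL_mul (n := Fin 2) (F := F)
  rw [CfsgLib.Linear.card_SL_two, hm, hF, Fintype.card_fin] at h1
  have h2 : (p ^ n) ^ 2 - 1 ∣ Nat.gcd 2 (p ^ n - 1) :=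
    (coprime_pow_pred hn m).symm.dvd_of_dvd_mul_right (h1 ▸ dvd_mul_left _ _)
  have h3 := Nat.le_of_dvd (Nat.gcd_pos_of_pos_left _ two_pos) h2
  have h4 : Nat.gcd 2 (p ^ n - 1) ≤ 2 := Nat.le_of_dvd two_pos (Nat.gcd_dvd_left _ _)
  have h5 : 2 ^ 2 ≤ (p ^ n) ^ 2 := Nat.pow_le_pow_left (le_trans hp.out.two_le (le_self_pow₀ hp.out.one_le (by omega))) 2
  omega

theorem charP_of_card (hn : 1 ≤ n) (hF : Fintype.card F = p ^ n) : CharP F p := by
  obtain ⟨r, hr⟩ := CharP.exists F
  obtain ⟨k, hk1, hk2⟩ := FiniteField.card F r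
  have h : p ∣ r ^ (k : ℕ) := by rw [← hk2, hF]; exact dvd_pow_self p (by omega)
  rwa [(Nat.prime_dvd_prime_iff_eq hp.out hk1).mp (hp.out.dvd_of_dvd_pow h)]

theorem psl_normal_pGroup_bot (hn : 1 ≤ n) (hF : Fintype.card F = p ^ n)
    {N : Subgroup (Matrix.ProjectiveSpecialLinearGroup (Fin 2) F)} (hN : N.Normal) (hNp : IsPGroup p N) :
    N = ⊥ := by
  haveI := charP_of_card hn hF
  haveI := hN
  let π := QuotientGroup.mk' (Subgroup.center (Matrix.SpecialLinearGroup (Fin 2) F))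
  let hU : Multiplicative F →* Matrix.SpecialLinearGroup (Fin 2) F :=
    { toFun := fun c => dsU c.toAdd
      map_one' := dsU_zero
      map_mul' := fun a b => (dsU_mul _ _).symm }
  let hL : Multiplicative F →* Matrix.SpecialLinearGroup (Fin 2) F :=
    { toFun := fun c => dsL c.toAdd
      map_one' := dsL_zero
      map_mul' := fun a b => (dsL_mul _ _).symm }
  have hPF : IsPGroup p (Multiplicative F) :=
    IsPGroup.of_card (n := n) (by rw [Nat.card_congr Multiplicative.toAdd, Nat.card_eq_fintype_card, hF])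
  have hmem : ∀ h : Multiplicative F →* Matrix.SpecialLinearGroup (Fin 2) F, Function.Injective (π.comp h) →
      N ≤ (π.comp h).range := by
    intro h hinj
    have hcard : Nat.card (π.comp h).range = p ^ n := by
      rw [← Nat.card_congr (MonoidHom.ofInjective hinj).toEquiv, Nat.card_congr Multiplicative.toAdd,
        Nat.card_eq_fintype_card, hF]
    have hp' : IsPGroup p (π.comp h).range := IsPGroup.of_card hcard
    have hsup := psl_subgroup_card_le hn hF (IsPGroup.to_sup_of_normal_left hNp hp')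
    exact le_sup_left.trans (eq_of_le_of_card_ge le_sup_right (hsup.trans hcard.ge)).ge
  have hcen : ∀ {z : Matrix.SpecialLinearGroup (Fin 2) F}, z ∈ Subgroup.center _ →
      (z : Matrix (Fin 2) (Fin 2) F) 0 1 = 0 ∧ (z : Matrix (Fin 2) (Fin 2) F) 1 0 = 0 := by
    intro z hz
    obtain ⟨r, -, e⟩ := Matrix.SpecialLinearGroup.mem_center_iff.1 hz
    rw [← e]
    simp
  have hiU : Function.Injective (π.comp hU) := (injective_iff_map_eq_one _).2 fun c hc => by
    have := (hcen ((QuotientGroup.eq_one_iff _).1 hc)).1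
    exact Multiplicative.toAdd.injective (by simpa [hU, coe_dsU] using this)
  have hiL : Function.Injective (π.comp hL) := (injective_iff_map_eq_one _).2 fun c hc => by
    have := (hcen ((QuotientGroup.eq_one_iff _).1 hc)).2
    exact Multiplicative.toAdd.injective (by simpa [hL, coe_dsL] using this)
  refine (eq_bot_iff_forall N).2 fun x hx => ?_
  obtain ⟨a, ha⟩ := hmem hU hiU hx
  obtain ⟨b, hb⟩ := hmem hL hiL hx
  have h1 : (dsU a.toAdd)⁻¹ * dsL b.toAdd ∈ Subgroup.center _ :=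
    QuotientGroup.eq.1 (ha.trans hb.symm)
  rw [show (dsU a.toAdd)⁻¹ = dsU (-a.toAdd) from inv_eq_of_mul_eq_one_left (by
    rw [dsU_mul, neg_add_cancel, dsU_zero])] at h1
  have h2 := (hcen h1).1
  rw [Matrix.SpecialLinearGroup.coe_mul] at h2
  simp [coe_dsU, coe_dsL, Matrix.mul_apply, Fin.sum_univ_two] at h2
  rw [← ha, h2, map_one]

theorem p_dvd_card_psl (hn : 1 ≤ n) (hF : Fintype.card F = p ^ n) :
    p ∣ Nat.card (Matrix.ProjectiveSpecialLinearGroup (Fin 2) F) := by
  have h1 := CfsgLib.Linear.card_PSL_mul (n := Fin 2) (F := F)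
  rw [CfsgLib.Linear.card_SL_two, hF, Fintype.card_fin] at h1
  refine (Nat.Prime.dvd_mul hp.out).1 (h1 ▸ dvd_mul_of_dvd_left (dvd_pow_self p (by omega)) _) |>.resolve_left ?_
  intro h
  refine hp.out.not_dvd_one ?_
  have h2 : p ∣ p ^ n - 1 := h.trans (Nat.gcd_dvd_right _ _)
  have h3 := Nat.dvd_sub (dvd_pow_self p (by omega : n ≠ 0)) h2
  rwa [Nat.sub_sub_self (Nat.one_le_pow _ _ hp.out.pos)] at h3

variable (hR : RankOne p S K F n)
include hR

theorem pCore_le : pCore p G ≤ (S : Subgroup G) := CfsgLib.Solvable.pCore_le_sylow S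

theorem normal_K : K.Normal := by
  obtain ⟨f, -, rfl⟩ := hR.exists_hom
  infer_instance

theorem sup_eq_top_of {M H : Subgroup G} (hM : IsCoatom M ∧ (S : Subgroup G) ≤ M)
    (hSH : (S : Subgroup G) ≤ H) (h : ¬ H ≤ M) : H = ⊤ := by
  by_contra hne
  obtain ⟨M', hM', hHM'⟩ := (eq_top_or_exists_le_coatom H).resolve_left hne
  exact h (hR.uniq.unique ⟨hM', hSH.trans hHM'⟩ hM ▸ hHM')

/-- A normal subgroup meets `S` inside `O_p(G)` or supplements `S`. -/
theorem dichotomy {N : Subgroup G} (hN : N.Normal) :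
    (S : Subgroup G) ⊓ N ≤ pCore p G ∨ N ⊔ (S : Subgroup G) = ⊤ := by
  haveI := hN
  obtain ⟨M, hM, -⟩ := hR.uniq
  rcases eq_or_ne (N ⊔ (S : Subgroup G)) ⊤ with h | h
  · exact Or.inr h
  left
  have hNS : N ⊔ (S : Subgroup G) ≤ M := by
    by_contra hle; exact h (sup_eq_top_of hR hM le_sup_right hle)
  have hSn : (S : Subgroup G) ≤ normalizer (((S : Subgroup G) ⊓ N : Subgroup G) : Set G) :=
    fun s hs => mem_normalizer_fintype fun x hx => Subgroup.mem_inf.2
      ⟨mul_mem (mul_mem hs hx.1) (inv_mem hs), hN.conj_mem x hx.2 s⟩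
  have htop : normalizer (((S : Subgroup G) ⊓ N : Subgroup G) : Set G) = ⊤ := by
    by_contra hne
    have hle : normalizer (((S : Subgroup G) ⊓ N : Subgroup G) : Set G) ≤ M := by
      by_contra hle; exact hne (sup_eq_top_of hR hM hSn hle)
    refine hM.1.1 (top_le_iff.1 ?_)
    rw [← CfsgLib.PLoc.frattini_inf S N]
    exact sup_le hle (le_sup_left.trans hNS)
  exact le_pCore_of (normalizer_eq_top_iff.1 htop) (S.isPGroup'.to_le inf_le_left)

theorem sylow_inf_K : (S : Subgroup G) ⊓ K = pCore p G := by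
  obtain ⟨f, hfs, hfK⟩ := hR.exists_hom
  have hle : (S : Subgroup G) ⊓ K ≤ pCore p G := by
    refine (dichotomy hR (normal_K hR)).resolve_right fun h => psl_not_pGroup hR.one_le hR.card_field ?_
    have hS : ((S : Subgroup G).map f) = ⊤ := by
      have := congrArg (Subgroup.map f) h
      rwa [Subgroup.map_sup, ← hfK, (Subgroup.map_eq_bot_iff f.ker).2 le_rfl, bot_sup_eq,
        Subgroup.map_top_of_surjective f hfs] at this
    exact (hS ▸ S.isPGroup'.map f : IsPGroup p (⊤ : Subgroup _)).of_equiv Subgroup.topEquiv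
  refine le_antisymm hle (le_inf (pCore_le hR) ?_)
  haveI := CfsgLib.Solvable.pCore_normal p G
  rw [← hfK, ← Subgroup.map_eq_bot_iff]
  exact psl_normal_pGroup_bot hR.one_le hR.card_field
    (Subgroup.Normal.map inferInstance f hfs) ((CfsgLib.Solvable.pCore_isPGroup p G).map f)

/-- `Z(S)` -/
local notation "ZS" => ((S : Subgroup G) ⊓ centralizer ((S : Subgroup G) : Set G))

theorem zs_le : ZS ≤ pCore p G ⊓ centralizer (pCore p G : Set G) := fun x hx =>
  have h : x ∈ centralizer (pCore p G : Set G) := fun q hq => hx.2 q (pCore_le hR hq)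
  Subgroup.mem_inf.2 ⟨hR.charP h, h⟩

theorem closure_zs_le :
    normalClosure (ZS : Set G) ≤ pCore p G ⊓ centralizer (pCore p G : Set G) := by
  haveI := CfsgLib.Solvable.pCore_normal p G
  exact normalClosure_le_normal (zs_le hR)

theorem sup_centralizer_ne_top (hZ : ¬ (ZS).Normal) :
    centralizer (normalClosure (ZS : Set G) : Set G) ⊔ (S : Subgroup G) ≠ ⊤ := fun h => hZ (by
  rw [← normalizer_eq_top_iff, eq_top_iff, ← h]
  refine sup_le ((Subgroup.centralizer_le subset_normalClosure).trans (centralizer_le_normalizer _)) ?_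
  exact fun s hs => mem_normalizer_fintype fun z hz => by
    have e : s * z * s⁻¹ = z := by rw [hz.2 s hs, mul_inv_cancel_right]
    rw [e]; exact hz)

theorem inf_centralizer_closure_le (hZ : ¬ (ZS).Normal) :
    (S : Subgroup G) ⊓ centralizer (normalClosure (ZS : Set G) : Set G) ≤ pCore p G :=
  (dichotomy hR normal_centralizer).resolve_right (sup_centralizer_ne_top hR hZ)

theorem le_K_of_sup_ne_top (hn : 2 ≤ n) {C : Subgroup G} (hCn : C.Normal)
    (hne : C ⊔ (S : Subgroup G) ≠ ⊤) : C ≤ K := by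
  obtain ⟨f, hfs, hfK⟩ := hR.exists_hom
  haveI : IsSimpleGroup (Matrix.ProjectiveSpecialLinearGroup (Fin 2) F) :=
    CfsgLib.Linear.isSimpleGroup_PSL_fin 2 le_rfl fun _ => by
      rw [Nat.card_eq_fintype_card, hR.card_field]
      calc 4 = 2 ^ 2 := rfl
        _ ≤ p ^ 2 := Nat.pow_le_pow_left hp.out.two_le 2
        _ ≤ p ^ n := Nat.pow_le_pow_right hp.out.pos hn
  rcases (hCn.map f hfs).eq_bot_or_eq_top with h | h
  · rwa [Subgroup.map_eq_bot_iff, hfK] at h
  exfalso
  obtain ⟨M, hM, -⟩ := hR.uniq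
  have h1 : C ≤ M := by
    by_contra hle
    exact hne
      (sup_eq_top_of hR hM le_sup_right fun h => hle (le_sup_left.trans h))
  have h2 : K ≤ M := by
    by_contra hle
    have hKS : K ⊔ (S : Subgroup G) = ⊤ :=
      sup_eq_top_of hR hM le_sup_right fun h => hle (le_sup_left.trans h)
    have h4 : (S : Subgroup G).map f = ⊤ := by
      have := congrArg (Subgroup.map f) hKS
      rwa [Subgroup.map_sup, ← hfK, (Subgroup.map_eq_bot_iff f.ker).2 le_rfl, bot_sup_eq,
        Subgroup.map_top_of_surjective f hfs] at this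
    exact psl_not_pGroup hR.one_le hR.card_field
      ((h4 ▸ S.isPGroup'.map f : IsPGroup p (⊤ : Subgroup _)).of_equiv Subgroup.topEquiv)
  refine hM.1.1 (top_le_iff.1 fun x _ => ?_)
  obtain ⟨c, hc, hcx⟩ := (h ▸ mem_top (f x) : f x ∈ C.map f)
  have : c⁻¹ * x ∈ K := hfK ▸ MonoidHom.mem_ker.2 (by rw [map_mul, map_inv, hcx, inv_mul_cancel])
  simpa using mul_mem (h1 hc) (h2 this)

theorem centralizer_closure_le (hn : 2 ≤ n) (hZ : ¬ (ZS).Normal) :
    centralizer (normalClosure (ZS : Set G) : Set G) ≤ K :=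
  le_K_of_sup_ne_top hR hn normal_centralizer (sup_centralizer_ne_top hR hZ)

theorem relIndex_pCore_le : (pCore p G).relIndex (S : Subgroup G) ≤ p ^ n := by
  obtain ⟨f, -, hfK⟩ := hR.exists_hom
  rw [← sylow_inf_K hR, inf_relIndex_left, ← hfK, relIndex_ker]
  exact psl_subgroup_card_le hR.one_le hR.card_field (S.isPGroup'.map f)

theorem exists_conj_not_le {M : Subgroup G} (hM : IsCoatom M ∧ (S : Subgroup G) ≤ M) :
    ∃ g : G, ¬ (S : Subgroup G).map (MulAut.conj g).toMonoidHom ≤ M := by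
  by_contra hcon
  push Not at hcon
  set N := normalClosure ((S : Subgroup G) : Set G)
  have hNM : N ≤ M := (closure_le _).2 fun y hy => by
    obtain ⟨s, hs, hsy⟩ := Group.mem_conjugatesOfSet_iff.mp hy
    obtain ⟨c, rfl⟩ := isConj_iff.mp hsy
    exact hcon c ⟨s, hs, rfl⟩
  have hSN : (S : Subgroup G) ≤ N := le_normalClosure
  have hNS : normalizer ((S : Subgroup G) : Set G) ≤ M := by
    by_contra hle
    have h : normalizer ((S : Subgroup G) : Set G) = ⊤ := sup_eq_top_of hR hM le_normalizer hle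
    have hSQ : (S : Subgroup G) ≤ K :=
      (le_pCore_of (normalizer_eq_top_iff.1 h) S.isPGroup').trans (sylow_inf_K hR ▸ inf_le_right)
    obtain ⟨f, hfs, hfK⟩ := hR.exists_hom
    refine psl_not_pGroup hR.one_le hR.card_field ?_
    obtain ⟨m, hm⟩ : ∃ m, Nat.card (Matrix.ProjectiveSpecialLinearGroup (Fin 2) F) = m := ⟨_, rfl⟩
    have hd : ¬ p ∣ Nat.card (Matrix.ProjectiveSpecialLinearGroup (Fin 2) F) := by
      rw [← Subgroup.card_top, ← Subgroup.map_top_of_surjective f hfs, ← relIndex_ker, hfK,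
        relIndex_top_right]
      exact fun hd => S.not_dvd_index (hd.trans (Subgroup.index_dvd_of_le hSQ))
    exact absurd (p_dvd_card_psl hR.one_le hR.card_field) hd
  refine hM.1.1 (top_le_iff.1 ?_)
  haveI : N.Normal := normalClosure_normal
  rw [← CfsgLib.PLoc.frattini_inf S N, inf_eq_left.2 hSN]
  exact sup_le hNS hNM

set_option maxHeartbeats 1000000 in
/-- An abelian subgroup of largest order outside `O_p(G)` is an exact offender on `⟨Z(S)^G⟩`. -/
theorem offender_facts (hZ : ¬ (ZS).Normal) {A : Subgroup G} (hA : IsMaxAb 0 (S : Subgroup G) A)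
    (hAQ : ¬ A ≤ pCore p G) :
    (normalClosure (ZS : Set G) ⊓ A).relIndex (normalClosure (ZS : Set G)) = p ^ n ∧
      IsMaxAb 0 (S : Subgroup G) ((A ⊓ pCore p G) ⊔ normalClosure (ZS : Set G)) ∧
      A ⊔ pCore p G = (S : Subgroup G) := by
  haveI hQn := CfsgLib.Solvable.pCore_normal p G
  set Q := pCore p G with hQ
  have hQS : Q ≤ (S : Subgroup G) := pCore_le hR
  have hQp : IsPGroup p Q := CfsgLib.Solvable.pCore_isPGroup p G
  haveI := hA.comm
  obtain ⟨a, haA, haQ⟩ := SetLike.not_le_iff_exists.1 hAQ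
  obtain ⟨f, hfs, hfK⟩ := hR.exists_hom
  set Z := normalClosure (ZS : Set G) with hZdef
  haveI : Z.Normal := normalClosure_normal
  have hZQ : Z ≤ Q := (closure_zs_le hR).trans inf_le_left
  have hZC : Z ≤ centralizer (Q : Set G) := (closure_zs_le hR).trans inf_le_right
  have hfa : f a ≠ 1 := fun h => haQ ((sylow_inf_K hR).le (Subgroup.mem_inf.2 ⟨hA.le haA, hfK ▸ MonoidHom.mem_ker.2 h⟩))
  have haC : a ∉ centralizer (Z : Set G) := fun h =>
    haQ (inf_centralizer_closure_le hR hZ (Subgroup.mem_inf.2 ⟨hA.le haA, h⟩))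
  obtain ⟨ja, hja⟩ := S.isPGroup' ⟨a, hA.le haA⟩
  obtain ⟨hb1, hb2⟩ := Pushing.fix_bounds hR.one_le hR.card_field (hQp.to_le hZQ) f hfs
    (fun h => hfK ▸ centralizer_closure_le hR h hZ) ⟨ja, congrArg Subtype.val hja⟩ hfa haC
  set q := p ^ n with hq
  -- fixed points of `A` on `Z`
  have hZA : Z ⊓ A ≤ Z ⊓ centralizer ({a} : Set G) := le_inf inf_le_left fun z hz =>
    mem_centralizer_singleton_iff.2 (setLike_mul_comm hz.2 haA)
  have hrelZ : q ≤ (Z ⊓ A).relIndex Z := hb1.trans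
    (Nat.le_of_dvd (FixBound.relIndex_pos' _ _) (relIndex_dvd_of_le_left Z hZA))
  have hrelA : (A ⊓ Q).relIndex A ≤ q := by
    rw [inf_relIndex_left]
    exact (relIndex_le_of_le_right hA.le Subgroup.index_ne_zero_of_finite).trans (relIndex_pCore_le hR)
  set A' := (A ⊓ Q) ⊔ Z with hA'def
  have hA'Q : A' ≤ Q := sup_le inf_le_right hZQ
  haveI hA'c : IsMulCommutative A' := by
    rw [hA'def, sup_eq_closure]
    refine isMulCommutative_closure fun x hx y hy => ?_
    rcases hx with hx | hx <;> rcases hy with hy | hy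
    · exact setLike_mul_comm hx.1 hy.1
    · exact hZC hy x hx.2
    · exact (hZC hx y hy.2).symm
    · exact (hZC hy x (hZQ hx))
  have hle1 : Nat.card A' ≤ Nat.card A := hA.max A' (hA'Q.trans hQS) hA'c fun x _ => pow_zero x
  have hcA : Nat.card ↥(A ⊓ Q) * (A ⊓ Q).relIndex A = Nat.card A := by
    rw [← relIndex_bot_left, ← relIndex_bot_left]; exact relIndex_mul_relIndex _ _ _ bot_le inf_le_left
  have hcZ : Nat.card ↥(Z ⊓ A) * (Z ⊓ A).relIndex Z = Nat.card Z := by
    rw [← relIndex_bot_left, ← relIndex_bot_left]; exact relIndex_mul_relIndex _ _ _ bot_le inf_le_left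
  have hcA' : Nat.card A' * Nat.card ↥(Z ⊓ A) = Nat.card ↥(A ⊓ Q) * Nat.card Z := by
    have h := card_sup_mul_card_inf (H := A ⊓ Q) (N := Z) le_normalizer_of_normal
    rwa [show (A ⊓ Q) ⊓ Z = Z ⊓ A by rw [inf_assoc, inf_eq_right.2 hZQ, inf_comm]] at h
  have hA'eq : Nat.card A' = Nat.card ↥(A ⊓ Q) * (Z ⊓ A).relIndex Z := by
    refine Nat.eq_of_mul_eq_mul_right (Nat.card_pos (α := ↥(Z ⊓ A))) ?_
    rw [hcA', ← hcZ]; ring
  have hZAq : (Z ⊓ A).relIndex Z ≤ (A ⊓ Q).relIndex A :=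
    Nat.le_of_mul_le_mul_left (by rw [← hA'eq, hcA]; exact hle1) Nat.card_pos
  have hAq : (A ⊓ Q).relIndex A = q := le_antisymm hrelA (hrelZ.trans hZAq)
  have hZq : (Z ⊓ A).relIndex Z = q := le_antisymm (hZAq.trans hrelA) hrelZ
  have hA'max : IsMaxAb 0 (S : Subgroup G) A' := ⟨hA'Q.trans hQS, hA'c, fun x _ => pow_zero x,
    fun C hC hc he => (hA.max C hC hc he).trans (by rw [hA'eq, hZq, ← hAq, hcA])⟩
  -- `A` covers `S / Q`
  have hAQS : A ⊔ Q = (S : Subgroup G) := by
    refine eq_of_le_of_card_ge (sup_le hA.le hQS) ?_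
    have h := card_sup_mul_card_inf (H := A) (N := Q) le_normalizer_of_normal
    have hS : Nat.card Q * Q.relIndex (S : Subgroup G) = Nat.card (S : Subgroup G) := by
      rw [← relIndex_bot_left, ← relIndex_bot_left]; exact relIndex_mul_relIndex _ _ _ bot_le hQS
    refine Nat.le_of_mul_le_mul_right ?_ (Nat.card_pos (α := ↥(A ⊓ Q)))
    rw [h, ← hS, ← hcA, hAq]
    calc Nat.card Q * Q.relIndex (S : Subgroup G) * Nat.card ↥(A ⊓ Q)
        ≤ Nat.card Q * q * Nat.card ↥(A ⊓ Q) :=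
          Nat.mul_le_mul_right _ (Nat.mul_le_mul_left _ (relIndex_pCore_le hR))
      _ = _ := by ring
  exact ⟨hZq, hA'max, hAQS⟩

/-- The fixed points of the whole group have index at least `q²` in `⟨Z(S)^G⟩`. -/
theorem sq_le_relIndex_fixed (hZ : ¬ (ZS).Normal) {A : Subgroup G} (hA : IsMaxAb 0 (S : Subgroup G) A)
    (hAQ : ¬ A ≤ pCore p G) :
    p ^ n * p ^ n ≤ (normalClosure (ZS : Set G) ⊓ centralizer (Set.univ : Set G)).relIndex
      (normalClosure (ZS : Set G)) := by
  obtain ⟨hZq, -, -⟩ := offender_facts hR hZ hA hAQ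
  haveI hQn := CfsgLib.Solvable.pCore_normal p G
  set Q := pCore p G with hQ
  have hQS : Q ≤ (S : Subgroup G) := pCore_le hR
  have hQp : IsPGroup p Q := CfsgLib.Solvable.pCore_isPGroup p G
  haveI := hA.comm
  obtain ⟨a, haA, haQ⟩ := SetLike.not_le_iff_exists.1 hAQ
  obtain ⟨f, hfs, hfK⟩ := hR.exists_hom
  set Z := normalClosure (ZS : Set G) with hZdef
  haveI : Z.Normal := normalClosure_normal
  have hZQ : Z ≤ Q := (closure_zs_le hR).trans inf_le_left
  have hfa : f a ≠ 1 := fun h => haQ ((sylow_inf_K hR).le (Subgroup.mem_inf.2 ⟨hA.le haA, hfK ▸ MonoidHom.mem_ker.2 h⟩))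
  have haC : a ∉ centralizer (Z : Set G) := fun h =>
    haQ (inf_centralizer_closure_le hR hZ (Subgroup.mem_inf.2 ⟨hA.le haA, h⟩))
  obtain ⟨ja, hja⟩ := S.isPGroup' ⟨a, hA.le haA⟩
  obtain ⟨-, hb2⟩ := Pushing.fix_bounds hR.one_le hR.card_field (hQp.to_le hZQ) f hfs
    (fun h => hfK ▸ centralizer_closure_le hR h hZ) ⟨ja, congrArg Subtype.val hja⟩ hfa haC
  set q := p ^ n with hq
  rcases Nat.lt_or_ge n 2 with hlt | hge
  · have hn1 : n = 1 := by have := hR.one_le; omega
    obtain ⟨i, hi⟩ := (hQp.to_le hZQ).exists_card_eq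
    have hd : (Z ⊓ centralizer (Set.univ : Set G)).relIndex Z ∣ p ^ i := by
      rw [← hi, ← relIndex_bot_left]; exact relIndex_dvd_of_le_left Z bot_le
    obtain ⟨j, -, hj⟩ := (Nat.dvd_prime_pow hp.out).1 hd
    rw [hj, hq, hn1, pow_one, ← pow_two]
    refine Nat.pow_le_pow_right hp.out.pos ?_
    by_contra hj2
    apply hZ
    have hle : Z ⊓ centralizer (Set.univ : Set G) ≤ Z ⊓ A := le_inf inf_le_left fun z hz =>
      mem_of_commute hA (hQS (hZQ hz.1)) (pow_zero z) fun c _ => hz.2 c trivial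
    have heq : Z ⊓ A ≤ Z ⊓ centralizer (Set.univ : Set G) := by
      rw [← relIndex_eq_one]
      have hm := relIndex_mul_relIndex _ _ _ hle (inf_le_left : Z ⊓ A ≤ Z)
      rw [hZq, hj, hq, hn1, pow_one] at hm
      have hpp : p ^ j ≤ p := (Nat.pow_le_pow_right hp.out.pos (by omega : j ≤ 1)).trans (pow_one p).le
      have h0 : 0 < (Z ⊓ centralizer (Set.univ : Set G)).relIndex (Z ⊓ A) := FixBound.relIndex_pos' _ _
      nlinarith [hp.out.two_le]
    refine ⟨fun z hz x => ?_⟩
    have hzA : z ∈ Z ⊓ A := Subgroup.mem_inf.2 ⟨subset_normalClosure hz,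
      mem_of_commute hA hz.1 (pow_zero z) fun c hc => hz.2 c (hA.le hc)⟩
    rw [(heq hzA).2 x trivial, mul_inv_cancel_right]
    exact hz
  · refine le_trans (le_of_eq ?_) (hb2 hge)
    rw [hq, ← pow_two, ← pow_mul, mul_comm]

/-- `A` and a conjugate generate `G` over `O_p(G)`. -/
theorem gen_two {M : Subgroup G} (hM : IsCoatom M ∧ (S : Subgroup G) ≤ M) {A : Subgroup G}
    (hAQS : A ⊔ pCore p G = (S : Subgroup G)) {g : G}
    (hg : ¬ (S : Subgroup G).map (MulAut.conj g).toMonoidHom ≤ M) :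
    A ⊔ A.map (MulAut.conj g).toMonoidHom ⊔ pCore p G = ⊤ := by
  haveI hQn := CfsgLib.Solvable.pCore_normal p G
  refine sup_eq_top_of hR hM ?_ fun hle => hg ?_
  · rw [← hAQS]; exact sup_le (le_sup_left.trans le_sup_left) le_sup_right
  · refine le_trans ?_ hle
    rw [← hAQS, Subgroup.map_sup]
    refine sup_le (le_sup_right.trans le_sup_left) (le_trans ?_ le_sup_right)
    rintro _ ⟨x, hx, rfl⟩
    exact hQn.conj_mem x hx g

set_option maxHeartbeats 1000000 in
/-- `Z(J(S))` splits modulo fixed points of a subgroup generating `G` over `O_p(G)`. -/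
theorem decomposition (hZ : ¬ (ZS).Normal) {A : Subgroup G} (hA : IsMaxAb 0 (S : Subgroup G) A)
    (hAQ : ¬ A ≤ pCore p G) :
    ∃ L : Subgroup G, A ≤ L ∧ L ⊔ pCore p G = ⊤ ∧ ∀ v ∈ interMaxAb 0 (S : Subgroup G), ∃ w z : G,
      v = w * z ∧ L ≤ centralizer ({w} : Set G) ∧ (∀ t ∈ (S : Subgroup G), Commute t z) := by
  set V := interMaxAb 0 (S : Subgroup G) with hV
  haveI hQn := CfsgLib.Solvable.pCore_normal p G
  set Q := pCore p G with hQ
  have hQS : Q ≤ (S : Subgroup G) := pCore_le hR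
  have hQp : IsPGroup p Q := CfsgLib.Solvable.pCore_isPGroup p G
  haveI := hA.comm
  obtain ⟨hZq, hA'max, hAQS⟩ := offender_facts hR hZ hA hAQ
  set Z := normalClosure (ZS : Set G) with hZdef
  haveI : Z.Normal := normalClosure_normal
  have hZQ : Z ≤ Q := (closure_zs_le hR).trans inf_le_left
  have hZC : Z ≤ centralizer (Q : Set G) := (closure_zs_le hR).trans inf_le_right
  set q := p ^ n with hq
  have hA'Q : (A ⊓ Q) ⊔ Z ≤ Q := sup_le inf_le_right hZQ
  have hcZ : Nat.card ↥(Z ⊓ A) * (Z ⊓ A).relIndex Z = Nat.card Z := by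
    rw [← relIndex_bot_left, ← relIndex_bot_left]; exact relIndex_mul_relIndex _ _ _ bot_le inf_le_left
  set W := interMaxAb 0 Q with hW
  have hsub : ∀ C, IsMaxAb 0 Q C → IsMaxAb 0 (S : Subgroup G) C := fun C hC =>
    isMaxAb_sup_of_le hQS hA'max hA'Q hC
  have hVW : V ≤ W := le_sInf fun C hC => interMaxAb_le (hsub C hC)
  have hZW : Z ≤ W := le_sInf fun C hC z hz =>
    mem_of_commute hC (hZQ hz) (pow_zero z) fun c hc => hZC hz c (hC.le hc)
  have hWA' : W ≤ (A ⊓ Q) ⊔ Z := interMaxAb_le (isMaxAb_of_le hQS hA'max hA'Q)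
  haveI hWn : W.Normal := by
    rw [← normalizer_eq_top_iff, eq_top_iff]
    exact le_trans (normalizer_eq_top (H := Q)).ge
      ((normalizer_le_normalizer_joinMaxAb 0 Q).trans (normalizer_join_le_normalizer_interMaxAb 0 Q))
  have hWsup : (W ⊓ A) ⊔ Z = W := by
    refine le_antisymm (sup_le inf_le_left hZW) fun w hw => ?_
    obtain ⟨x, hx, z, hz, rfl⟩ := Subgroup.mem_sup_of_normal_right.1 (hWA' hw)
    exact mul_mem (mem_sup_left (Subgroup.mem_inf.2
      ⟨(mul_mem_cancel_right (hZW hz)).1 hw, hx.1⟩)) (mem_sup_right hz)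
  have hrelW : (W ⊓ A).relIndex W = q := by
    have h := card_sup_mul_card_inf (H := W ⊓ A) (N := Z) le_normalizer_of_normal
    rw [hWsup, show (W ⊓ A) ⊓ Z = Z ⊓ A by
      rw [inf_comm W A, inf_assoc, inf_eq_right.2 hZW, inf_comm]] at h
    have h2 : Nat.card ↥(W ⊓ A) * (W ⊓ A).relIndex W = Nat.card W := by
      rw [← relIndex_bot_left, ← relIndex_bot_left]; exact relIndex_mul_relIndex _ _ _ bot_le inf_le_left
    refine Nat.eq_of_mul_eq_mul_left (Nat.mul_pos (Nat.card_pos (α := ↥(W ⊓ A))) (Nat.card_pos (α := ↥(Z ⊓ A)))) ?_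
    rw [← hcZ, hZq, ← h2] at h
    linarith
  -- generation
  obtain ⟨M, hM, -⟩ := hR.uniq
  obtain ⟨g, hg⟩ := exists_conj_not_le hR hM
  set cg := (MulAut.conj g).toMonoidHom with hcg
  set L := A ⊔ A.map cg with hL
  have hLQ : L ⊔ Q = ⊤ := gen_two hR hM hAQS hg
  set W₀ := (W ⊓ A) ⊓ (W ⊓ A).map cg with hW₀
  have hWg : W.map cg = W := by
    refine le_antisymm ?_ fun w hw => ⟨g⁻¹ * w * g, by simpa using hWn.conj_mem w hw g⁻¹, by simp [cg, mul_assoc]⟩
    rintro _ ⟨w, hw, rfl⟩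
    exact hWn.conj_mem w hw g
  have hW₀L : L ≤ centralizer (W₀ : Set G) := by
    refine sup_le (fun x hx w hw => setLike_mul_comm hw.1.2 hx) ?_
    rintro _ ⟨x, hx, rfl⟩ w hw
    obtain ⟨y, hy, rfl⟩ := hw.2
    rw [← map_mul, ← map_mul, setLike_mul_comm hy.2 hx]
  have hW₀rel : W₀.relIndex W ≤ q * q := by
    refine relIndex_inf_le.trans (Nat.mul_le_mul hrelW.le ?_)
    refine le_of_eq ?_
    nth_rw 2 [← hWg]
    rw [relIndex_map_map_of_injective _ _ (MulAut.conj g).injective, hrelW]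
  have hZ0c : Z ⊓ W₀ ≤ Z ⊓ centralizer (Set.univ : Set G) := le_inf inf_le_left fun z hz x _ => by
    have h : (⊤ : Subgroup G) ≤ centralizer ({z} : Set G) := hLQ ▸ sup_le
      (fun l hl => mem_centralizer_singleton_iff.2 (hW₀L hl z hz.2).symm)
      (fun y hy => mem_centralizer_singleton_iff.2 (hZC hz.1 y hy))
    exact mem_centralizer_singleton_iff.1 (h (mem_top x))
  have hZ0 : q * q ≤ (Z ⊓ W₀).relIndex Z := by
    refine le_trans ?_ (Nat.le_of_dvd (FixBound.relIndex_pos' _ _) (relIndex_dvd_of_le_left Z hZ0c))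
    exact sq_le_relIndex_fixed hR hZ hA hAQ
  have hWW : W ≤ W₀ ⊔ Z := by
    refine (eq_of_le_of_card_ge (sup_le (inf_le_left.trans inf_le_left) hZW) ?_).ge
    have h := card_sup_mul_card_inf (H := W₀) (N := Z) le_normalizer_of_normal
    rw [inf_comm W₀ Z] at h
    have h2 : Nat.card W₀ * W₀.relIndex W = Nat.card W := by
      rw [← relIndex_bot_left, ← relIndex_bot_left]
      exact relIndex_mul_relIndex _ _ _ bot_le (inf_le_left.trans inf_le_left)
    have h3 : Nat.card ↥(Z ⊓ W₀) * (Z ⊓ W₀).relIndex Z = Nat.card Z := by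
      rw [← relIndex_bot_left, ← relIndex_bot_left]; exact relIndex_mul_relIndex _ _ _ bot_le inf_le_left
    refine Nat.le_of_mul_le_mul_right ?_ (Nat.card_pos (α := ↥(Z ⊓ W₀)))
    rw [h, ← h2, ← h3]
    calc Nat.card W₀ * W₀.relIndex W * Nat.card ↥(Z ⊓ W₀)
        ≤ Nat.card W₀ * (Z ⊓ W₀).relIndex Z * Nat.card ↥(Z ⊓ W₀) :=
          Nat.mul_le_mul_right _ (Nat.mul_le_mul_left _ (hW₀rel.trans hZ0))
      _ = _ := by ring
  refine ⟨L, le_sup_left, hLQ, fun v hv => ?_⟩
  obtain ⟨w, hw, z, hz, rfl⟩ := Subgroup.mem_sup_of_normal_right.1 (hWW (hVW hv))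
  have hvA : w * z ∈ A := interMaxAb_le hA hv
  have hwA : w ∈ A := hw.1.2
  have hzA : z ∈ A := (mul_mem_cancel_left hwA).1 hvA
  refine ⟨w, z, rfl, fun l hl => mem_centralizer_singleton_iff.2 (hW₀L hl w hw).symm, fun t ht => ?_⟩
  refine mem_centralizer_singleton_iff.1 ((?_ : (S : Subgroup G) ≤ centralizer ({z} : Set G)) ht)
  rw [← hAQS]
  exact sup_le (fun x hx => mem_centralizer_singleton_iff.2 (setLike_mul_comm hx hzA))
    (fun x hx => mem_centralizer_singleton_iff.2 (hZC hz x hx))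

set_option maxHeartbeats 1000000 in
/-- Baumann's lemma. -/
theorem baumann (hZ : ¬ (ZS).Normal) :
    (S : Subgroup G) ⊓ normalClosure (((S : Subgroup G) ⊓
        centralizer (interMaxAb 0 (S : Subgroup G) : Set G) : Subgroup G) : Set G) =
      (S : Subgroup G) ⊓ centralizer (interMaxAb 0 (S : Subgroup G) : Set G) := by
  set V := interMaxAb 0 (S : Subgroup G) with hV
  set B := (S : Subgroup G) ⊓ centralizer (V : Set G) with hB
  refine le_antisymm (le_inf inf_le_left ?_) (le_inf inf_le_left le_normalClosure)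
  haveI hQn := CfsgLib.Solvable.pCore_normal p G
  set Q := pCore p G with hQ
  have hQS : Q ≤ (S : Subgroup G) := pCore_le hR
  have hQp : IsPGroup p Q := CfsgLib.Solvable.pCore_isPGroup p G
  by_cases hJ : joinMaxAb 0 (S : Subgroup G) ≤ Q
  · have hVn : V.Normal := by
      have h1 : joinMaxAb 0 (S : Subgroup G) = joinMaxAb 0 Q := (joinMaxAb_eq_of_le hQS hJ).symm
      rw [← normalizer_eq_top_iff, eq_top_iff]
      refine le_trans ?_ (normalizer_join_le_normalizer_interMaxAb 0 _)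
      rw [h1]
      exact le_trans (normalizer_eq_top (H := Q)).ge (normalizer_le_normalizer_joinMaxAb 0 Q)
    haveI := hVn
    exact inf_le_right.trans (normalClosure_le_normal (N := centralizer (V : Set G)) inf_le_right)
  obtain ⟨A, hA, hAQ⟩ : ∃ A, IsMaxAb 0 (S : Subgroup G) A ∧ ¬ A ≤ Q := by
    by_contra hne
    push Not at hne
    exact hJ (sSup_le hne)
  haveI := hA.comm
  obtain ⟨L, -, hLQ, hdec⟩ := decomposition hR hZ hA hAQ
  -- conclusion
  intro s hs v hv
  obtain ⟨w, z, rfl, hlw', hzS⟩ := hdec v hv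
  have hclo : normalClosure (B : Set G) ≤ centralizer ({w} : Set G) := by
    refine (closure_le _).2 fun y hy => ?_
    obtain ⟨b, hb, hby⟩ := Group.mem_conjugatesOfSet_iff.mp hy
    obtain ⟨c, rfl⟩ := isConj_iff.mp hby
    obtain ⟨l, hl, u, hu, rfl⟩ := Subgroup.mem_sup_of_normal_right.1
      (hLQ ▸ mem_top c : c ∈ L ⊔ Q)
    have hub : u * b * u⁻¹ ∈ B := by
      refine Subgroup.mem_inf.2 ⟨mul_mem (mul_mem (hQS hu) hb.1) (inv_mem (hQS hu)), ?_⟩
      have hN : (S : Subgroup G) ≤ normalizer (centralizer (V : Set G) : Set G) :=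
        ((le_normalizer.trans (normalizer_le_normalizer_joinMaxAb 0 _)).trans
          (normalizer_join_le_normalizer_interMaxAb 0 _)).trans (normalizer_le_normalizer_centralizer V)
      exact (mem_normalizer_iff.1 (hN (hQS hu)) b).1 hb.2
    have hubw : u * b * u⁻¹ ∈ centralizer ({w} : Set G) := by
      refine mem_centralizer_singleton_iff.2 ?_
      have h1 : Commute (u * b * u⁻¹) (w * z) := (hub.2 (w * z) hv).symm
      have h2 : Commute (u * b * u⁻¹) (w * z * z⁻¹) := h1.mul_right (hzS _ hub.1).inv_right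
      rw [mul_inv_cancel_right] at h2
      exact h2
    have hlw : l ∈ centralizer ({w} : Set G) := hlw' hl
    rw [SetLike.mem_coe, show l * u * b * (l * u)⁻¹ = l * (u * b * u⁻¹) * l⁻¹ by group]
    exact mul_mem (mul_mem hlw hubw) (inv_mem hlw)
  have hsw : Commute s w := mem_centralizer_singleton_iff.1 (hclo hs.2)
  exact (hsw.mul_right (hzS s hs.1)).eq.symm


/-- `[Z(J(S)), S]` is normal when `J(S)` is not below `O_p(G)`. -/
theorem commutator_normal (hZ : ¬ (ZS).Normal) {A : Subgroup G} (hA : IsMaxAb 0 (S : Subgroup G) A)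
    (hAQ : ¬ A ≤ pCore p G) : ⁅interMaxAb 0 (S : Subgroup G), (S : Subgroup G)⁆.Normal := by
  obtain ⟨L, hAL, hLQ, hdec⟩ := decomposition hR hZ hA hAQ
  obtain ⟨-, -, hAQS⟩ := offender_facts hR hZ hA hAQ
  haveI hQn := CfsgLib.Solvable.pCore_normal p G
  set Q := pCore p G with hQ
  set V := interMaxAb 0 (S : Subgroup G)
  haveI := hA.comm
  have hQS : Q ≤ (S : Subgroup G) := pCore_le hR
  set Y := ⁅V, Q⁆ with hY
  have hQV : Q ≤ normalizer (V : Set G) := hQS.trans
    ((le_normalizer.trans (normalizer_le_normalizer_joinMaxAb 0 _)).trans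
      (normalizer_join_le_normalizer_interMaxAb 0 _))
  have hLY : L ⊔ Q ≤ normalizer (Y : Set G) := by
    refine sup_le (fun l hl => mem_normalizer_fintype ?_) (fun u hu => mem_normalizer_fintype ?_)
    · intro y hy
      refine (?_ : Y ≤ Y.comap (MulAut.conj l).toMonoidHom) hy
      refine commutator_le.2 fun v hv u hu => ?_
      obtain ⟨w, z, rfl, hlw, hzS⟩ := hdec v hv
      show l * ⁅w * z, u⁆ * l⁻¹ ∈ Y
      have h1 : ∀ u' ∈ Q, ⁅w * z, u'⁆ = ⁅w, u'⁆ := fun u' hu' => by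
        rw [commutatorElement_def, commutatorElement_def, mul_inv_rev]
        rw [show w * z * u' = w * (z * u') by group, ← (hzS u' (hQS hu')).eq]
        group
      have hlul : l * u * l⁻¹ ∈ Q := hQn.conj_mem u hu l
      have hwl : l * w * l⁻¹ = w := by
        rw [mem_centralizer_singleton_iff.1 (hlw hl), mul_inv_cancel_right]
      rw [h1 u hu, show l * ⁅w, u⁆ * l⁻¹ = ⁅l * w * l⁻¹, l * u * l⁻¹⁆ by
        simp only [commutatorElement_def]; group, hwl, ← h1 _ hlul]
      exact commutator_mem_commutator hv hlul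
    · intro y hy
      refine (?_ : Y ≤ Y.comap (MulAut.conj u).toMonoidHom) hy
      refine commutator_le.2 fun v hv u' hu' => ?_
      show u * ⁅v, u'⁆ * u⁻¹ ∈ Y
      rw [show u * ⁅v, u'⁆ * u⁻¹ = ⁅u * v * u⁻¹, u * u' * u⁻¹⁆ by
        simp only [commutatorElement_def]; group]
      exact commutator_mem_commutator ((mem_normalizer_iff.1 (hQV hu) v).1 hv) (hQn.conj_mem u' hu' u)
  rw [hLQ] at hLY
  have hYn : Y.Normal := normalizer_eq_top_iff.1 (top_le_iff.1 hLY)
  have e : ⁅V, (S : Subgroup G)⁆ = Y := by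
    refine le_antisymm (commutator_le.2 fun v hv s hs => ?_) (commutator_mono le_rfl hQS)
    obtain ⟨x, hx, u, hu, rfl⟩ := Subgroup.mem_sup_of_normal_right.1 (hAQS ▸ hs : s ∈ A ⊔ Q)
    rw [show ⁅v, x * u⁆ = ⁅v, x⁆ * (x * ⁅v, u⁆ * x⁻¹) by simp only [commutatorElement_def]; group,
      commutatorElement_eq_one_iff_mul_comm.2 (setLike_mul_comm (interMaxAb_le hA hv) hx), one_mul]
    exact hYn.conj_mem _ (commutator_mem_commutator hv hu) x
  rw [e]; exact hYn

/-- Subgroups of `Z(S)` centralised by a normal subgroup outside `O_p(G)` are central. -/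
theorem central_of_not_le {N : Subgroup G} (hN : N.Normal) (hSN : ¬ (S : Subgroup G) ⊓ N ≤ pCore p G)
    {Y : Subgroup G} (hYS : Y ≤ ZS) (hNY : N ≤ centralizer (Y : Set G)) : Y.Normal := by
  have htop : centralizer (Y : Set G) = ⊤ := by
    rw [eq_top_iff, ← (dichotomy hR hN).resolve_left hSN]
    exact sup_le hNY fun t ht y hy => ((hYS hy).2 t ht).symm
  refine ⟨fun y hy g => ?_⟩
  have hg : g ∈ centralizer (Y : Set G) := htop ▸ mem_top g
  rw [← hg y hy, mul_inv_cancel_right]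
  exact hy

theorem not_le_pCore : ¬ (S : Subgroup G) ≤ pCore p G := by
  intro h
  obtain ⟨f, hfs, hfK⟩ := hR.exists_hom
  have hSK : (S : Subgroup G) ≤ K := h.trans (sylow_inf_K hR ▸ inf_le_right)
  have hd := p_dvd_card_psl (p := p) hR.one_le hR.card_field
  rw [← Subgroup.card_top, ← Subgroup.map_top_of_surjective f hfs, ← relIndex_ker, hfK,
    relIndex_top_right] at hd
  exact S.not_dvd_index (hd.trans (Subgroup.index_dvd_of_le hSK))

theorem normal_of_zs_normal (hZ : (ZS).Normal) {Y : Subgroup G} (hYS : Y ≤ ZS) : Y.Normal := by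
  obtain ⟨T, hT⟩ : ∃ T : Subgroup G, T = ZS := ⟨_, rfl⟩
  haveI : T.Normal := hT ▸ hZ
  refine central_of_not_le hR (N := centralizer (T : Set G)) normal_centralizer ?_ hYS
    (Subgroup.centralizer_le (hT ▸ hYS))
  subst hT
  intro h
  exact not_le_pCore hR ((le_inf le_rfl fun t ht z hz => (hz.2 t ht).symm).trans h)

/-- If `J(S)` lies in `O_p(G)`, either `C_S(Z(J(S)))` is normal or all of `Z(S) ∩ Z(J(S))` is central. -/
theorem normal_or_of_join_le (hJ : joinMaxAb 0 (S : Subgroup G) ≤ pCore p G) :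
    ((S : Subgroup G) ⊓ centralizer (interMaxAb 0 (S : Subgroup G) : Set G)).Normal ∨
      ∀ Y : Subgroup G, Y ≤ ZS → Y ≤ interMaxAb 0 (S : Subgroup G) → Y.Normal := by
  haveI hQn := CfsgLib.Solvable.pCore_normal p G
  set V := interMaxAb 0 (S : Subgroup G) with hV
  have hVn : V.Normal := by
    have h1 : joinMaxAb 0 (S : Subgroup G) = joinMaxAb 0 (pCore p G) :=
      (joinMaxAb_eq_of_le (pCore_le hR) hJ).symm
    rw [← normalizer_eq_top_iff, eq_top_iff]
    refine le_trans ?_ (normalizer_join_le_normalizer_interMaxAb 0 _)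
    rw [h1]
    exact le_trans (normalizer_eq_top (H := pCore p G)).ge (normalizer_le_normalizer_joinMaxAb 0 _)
  haveI := hVn
  by_cases h : (S : Subgroup G) ⊓ centralizer (V : Set G) ≤ pCore p G
  · left
    rw [show (S : Subgroup G) ⊓ centralizer (V : Set G) = pCore p G ⊓ centralizer (V : Set G) from
      le_antisymm (le_inf h inf_le_right) (inf_le_inf_right _ (pCore_le hR))]
    infer_instance
  · right
    exact fun Y h1 h2 => central_of_not_le hR normal_centralizer h h1 (Subgroup.centralizer_le h2)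

omit hR in
/-- A subgroup of `p`-th powers cannot cover a nontrivial `p`-quotient. -/
theorem pow_divisible_false (hR : RankOne p S K F n) {Z U : Subgroup G} (hZQ : Z ≤ pCore p G)
    (hUdef : ∀ y ∈ U, ∃ z ∈ Z, z ^ p = y) (hUZ : U ≤ Z) {m : ℕ}
    (h1 : m * m ≤ (U ⊓ centralizer (Set.univ : Set G)).relIndex U)
    (h2 : (Z ⊓ centralizer (Set.univ : Set G)).relIndex Z ≤ m * m) (hm : 2 ≤ m := by
      exact (Fact.out : Nat.Prime p).two_le.trans (le_self_pow₀ (Fact.out : Nat.Prime p).one_le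
        (Nat.one_le_iff_ne_zero.1 hR.one_le))) : False := by
  set C0 := centralizer (Set.univ : Set G) with hC0
  haveI : C0.Normal := ⟨fun c hc g => by rw [hc g trivial, mul_inv_cancel_right]; exact hc⟩
  set π := QuotientGroup.mk' C0
  have hle : U.map π ≤ Z.map π := map_mono hUZ
  have hker : π.ker = C0 := QuotientGroup.ker_mk' C0
  have hU : Nat.card (U.map π) = (U ⊓ C0).relIndex U := by
    rw [inf_relIndex_left, ← relIndex_ker, hker]
  have hZ : Nat.card (Z.map π) = (Z ⊓ C0).relIndex Z := by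
    rw [inf_relIndex_left, ← relIndex_ker, hker]
  have heq : U.map π = Z.map π := eq_of_le_of_card_ge hle (by rw [hU, hZ]; exact h2.trans h1)
  have hsurj : Function.Surjective fun z : Z.map π => z ^ p := by
    rintro ⟨y, hy⟩
    rw [← heq] at hy
    obtain ⟨u, hu, rfl⟩ := hy
    obtain ⟨z, hz, rfl⟩ := hUdef u hu
    exact ⟨⟨π z, mem_map_of_mem π hz⟩, Subtype.ext (map_pow π z p).symm⟩
  have hinj := Finite.injective_iff_surjective.2 hsurj
  have hZp : IsPGroup p (Z.map π) := ((CfsgLib.Solvable.pCore_isPGroup p G).to_le hZQ).map π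
  have hcard : 2 ≤ Nat.card (Z.map π) := by
    rw [← heq, hU]
    exact le_trans (le_trans hm (Nat.le_mul_self m)) h1
  haveI : Nontrivial (Z.map π) := Finite.one_lt_card_iff_nontrivial.1 hcard
  obtain ⟨n', hn', hc⟩ := hZp.nontrivial_iff_card.mp inferInstance
  obtain ⟨y, hy⟩ := exists_prime_orderOf_dvd_card' (G := Z.map π) p (hc ▸ dvd_pow_self p (Nat.pos_iff_ne_zero.1 hn'))
  have : y = 1 := hinj (by show y ^ p = (1 : Z.map π) ^ p; rw [one_pow, ← hy, pow_orderOf_eq_one])
  rw [this, orderOf_one] at hy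
  exact (Fact.out : Nat.Prime p).ne_one hy.symm

/-- `p`-th powers of `Z(S)` are central when `J(S)` is not below `O_p(G)`. -/
theorem pow_central (hZ : ¬ (ZS).Normal) {A : Subgroup G} (hA : IsMaxAb 0 (S : Subgroup G) A)
    (hAQ : ¬ A ≤ pCore p G) {x : G} (hx : x ∈ ZS) : x ^ p ∈ center G := by
  haveI hQn := CfsgLib.Solvable.pCore_normal p G
  set Q := pCore p G with hQ
  set Z := normalClosure (ZS : Set G) with hZdef
  haveI hZn : Z.Normal := normalClosure_normal
  have hZQ : Z ≤ Q := (closure_zs_le hR).trans inf_le_left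
  have hZC : Z ≤ centralizer (Q : Set G) := (closure_zs_le hR).trans inf_le_right
  haveI hZc : IsMulCommutative Z :=
    le_centralizer_iff_isMulCommutative.1 (hZC.trans (Subgroup.centralizer_le hZQ))
  obtain ⟨hZq, -, hAQS⟩ := offender_facts hR hZ hA hAQ
  haveI := hA.comm
  let U : Subgroup G :=
    { carrier := {y | ∃ z ∈ Z, z ^ p = y}
      one_mem' := ⟨1, one_mem _, one_pow p⟩
      mul_mem' := fun {y y'} ⟨z, hz, e⟩ ⟨z', hz', e'⟩ => ⟨z * z', mul_mem hz hz', by
        rw [Commute.mul_pow (setLike_mul_comm hz hz'), e, e']⟩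
      inv_mem' := fun {y} ⟨z, hz, e⟩ => ⟨z⁻¹, inv_mem hz, by rw [inv_pow, e]⟩ }
  haveI hUn : U.Normal := ⟨fun y ⟨z, hz, e⟩ g => ⟨g * z * g⁻¹, hZn.conj_mem z hz g, by rw [conj_pow, e]⟩⟩
  have hUZ : U ≤ Z := fun y ⟨z, hz, e⟩ => e ▸ pow_mem hz p
  have hxU : x ^ p ∈ U := ⟨x, subset_normalClosure hx, rfl⟩
  have hfix : ∀ y : G, y ∈ centralizer (Set.univ : Set G) → y ∈ center G := fun y hy =>
    mem_center_iff.2 fun g => hy g trivial
  set CU := centralizer (U : Set G) with hCU
  have hCUn : CU.Normal := normal_centralizer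
  by_cases hne : CU ⊔ (S : Subgroup G) = ⊤
  · refine mem_center_iff.2 fun g => ?_
    have h : (⊤ : Subgroup G) ≤ centralizer ({x ^ p} : Set G) := hne ▸ sup_le
      (Subgroup.centralizer_le (by simpa using hxU))
      (fun t ht => mem_centralizer_singleton_iff.2 ((Commute.pow_right (hx.2 t ht) p)))
    exact mem_centralizer_singleton_iff.1 (h (mem_top g))
  have hSCU := (dichotomy hR hCUn).resolve_right hne
  obtain ⟨a, haA, haQ⟩ := SetLike.not_le_iff_exists.1 hAQ
  obtain ⟨f, hfs, hfK⟩ := hR.exists_hom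
  have hfa : f a ≠ 1 := fun h => haQ ((sylow_inf_K hR).le (Subgroup.mem_inf.2 ⟨hA.le haA, hfK ▸ MonoidHom.mem_ker.2 h⟩))
  obtain ⟨ja, hja⟩ := S.isPGroup' ⟨a, hA.le haA⟩
  obtain ⟨hb1, hb2⟩ := Pushing.fix_bounds hR.one_le hR.card_field
    ((CfsgLib.Solvable.pCore_isPGroup p G).to_le (hUZ.trans hZQ)) f hfs
    (fun h => hfK ▸ le_K_of_sup_ne_top hR h hCUn hne) ⟨ja, congrArg Subtype.val hja⟩ hfa
    (fun h => haQ (hSCU (Subgroup.mem_inf.2 ⟨hA.le haA, h⟩)))
  set Z0 := Z ⊓ centralizer (Set.univ : Set G) with hZ0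
  obtain ⟨M, hM, -⟩ := hR.uniq
  obtain ⟨g, hg⟩ := exists_conj_not_le hR hM
  have hgen := gen_two hR hM hAQS hg
  set cg := (MulAut.conj g).toMonoidHom with hcg
  have hle0 : (Z ⊓ A) ⊓ (Z ⊓ A).map cg ≤ Z0 := le_inf (inf_le_left.trans inf_le_left) fun z hz y _ => by
    have h : (⊤ : Subgroup G) ≤ centralizer ({z} : Set G) := hgen ▸ sup_le (sup_le
      (fun l hl => mem_centralizer_singleton_iff.2 (setLike_mul_comm hl hz.1.2)) (by
        rintro _ ⟨l, hl, rfl⟩
        obtain ⟨w, hw, rfl⟩ := hz.2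
        refine mem_centralizer_singleton_iff.2 ?_
        rw [← map_mul, ← map_mul, setLike_mul_comm hl hw.2]))
      (fun y hy => mem_centralizer_singleton_iff.2 (hZC hz.1.1 y hy))
    exact mem_centralizer_singleton_iff.1 (h (mem_top y))
  have hZ0le : Z0.relIndex Z ≤ p ^ n * p ^ n := by
    refine (Nat.le_of_dvd ?_ (relIndex_dvd_of_le_left Z hle0)).trans (relIndex_inf_le.trans
      (Nat.mul_le_mul hZq.le (le_of_eq ?_)))
    · exact FixBound.relIndex_pos' _ _
    · have hZg : Z.map cg = Z := by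
        refine le_antisymm ?_ fun w hw => ⟨g⁻¹ * w * g, by simpa using hZn.conj_mem w hw g⁻¹, by simp [cg, mul_assoc]⟩
        rintro _ ⟨w, hw, rfl⟩
        exact hZn.conj_mem w hw g
      nth_rw 2 [← hZg]
      rw [relIndex_map_map_of_injective _ _ (MulAut.conj g).injective, hZq]
  rcases Nat.lt_or_ge n 2 with hlt | hge
  · -- `n = 1`
    have hn1 : n = 1 := by have := hR.one_le; omega
    have hle1 : U ⊓ centralizer (Set.univ : Set G) ≤ U ⊓ A := le_inf inf_le_left fun y hy =>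
      mem_of_commute hA (pCore_le hR (hZQ (hUZ hy.1))) (pow_zero y) fun c _ => hy.2 c trivial
    have hxA : x ^ p ∈ U ⊓ A := Subgroup.mem_inf.2 ⟨hxU, pow_mem (mem_of_commute hA hx.1 (pow_zero x)
      fun c hc => hx.2 c (hA.le hc)) p⟩
    by_cases heq : U ⊓ A ≤ U ⊓ centralizer (Set.univ : Set G)
    · exact hfix _ (heq hxA).2
    exfalso
    have h1 : (U ⊓ centralizer (Set.univ : Set G)).relIndex (U ⊓ A) ≠ 1 := fun h => heq (relIndex_eq_one.1 h)
    have h2 : p ≤ (U ⊓ A).relIndex U := by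
      have h3 : U ⊓ A ≤ U ⊓ centralizer ({a} : Set G) := le_inf inf_le_left fun z hz =>
        mem_centralizer_singleton_iff.2 (setLike_mul_comm hz.2 haA)
      have h4 := hb1.trans (Nat.le_of_dvd (FixBound.relIndex_pos' _ _) (relIndex_dvd_of_le_left U h3))
      rwa [hn1, pow_one] at h4
    have h5 := relIndex_mul_relIndex _ _ _ hle1 (inf_le_left : U ⊓ A ≤ U)
    obtain ⟨i, hi⟩ := ((CfsgLib.Solvable.pCore_isPGroup p G).to_le
      ((inf_le_left : U ⊓ A ≤ U).trans (hUZ.trans hZQ))).exists_card_eq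
    have h7 : p ≤ (U ⊓ centralizer (Set.univ : Set G)).relIndex (U ⊓ A) := by
      have hd : (U ⊓ centralizer (Set.univ : Set G)).relIndex (U ⊓ A) ∣ p ^ i := by
        rw [← hi, ← relIndex_bot_left]; exact relIndex_dvd_of_le_left _ bot_le
      obtain ⟨j, -, hj⟩ := (Nat.dvd_prime_pow hp.out).1 hd
      rw [hj] at h1 ⊢
      exact le_self_pow₀ hp.out.one_le fun hj0 => h1 (by rw [hj0, pow_zero])
    have h8 : p * p ≤ (U ⊓ centralizer (Set.univ : Set G)).relIndex U := h5 ▸ Nat.mul_le_mul h7 h2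
    rw [hn1, pow_one] at hZ0le
    exact pow_divisible_false hR hZQ (fun y hy => hy) hUZ h8 hZ0le hp.out.two_le
  · exfalso
    have h8 : p ^ n * p ^ n ≤ (U ⊓ centralizer (Set.univ : Set G)).relIndex U := by
      rw [← pow_add, ← two_mul]; exact hb2 hge
    exact pow_divisible_false hR hZQ (fun y hy => hy) hUZ h8 hZ0le

end CfsgLib.LocalEven.Baumann
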