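import Cfsg.Agent.Lib.LocalEven.CLReplace
import Cfsg.Agent.Lib.LocalEven.Baumann

/-!
# Centrally large subgroups in the pushing-up situation
-/

set_option autoImplicit false
set_option linter.style.haveILetI false
set_option linter.unusedSectionVars false

open Cfsg Subgroup CfsgLib.PLoc CfsgLib.LocalEven.Baumann
open scoped commutatorElement

namespace CfsgLib.LocalEven.CLP

section Iso

variable {P : Type*} [Group P] [Finite P]

/-- Being minimal centrally large only depends on the isomorphism type. -/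
theorem mcl_of_equiv {Q X : Subgroup P} (hQ : IsMinimalCentrallyLarge Q) (e : ↥Q ≃* ↥X) :
    IsMinimalCentrallyLarge X := by
  refine mcl_of_cl_card hQ ?_ (Nat.card_congr e.toEquiv).ge
  have h : Nat.card Q * Nat.card ↥(Subgroup.center Q) = maxCentralProduct P := hQ.1
  show _ = maxCentralProduct P
  rw [← Nat.card_congr e.toEquiv, ← Nat.card_congr (Subgroup.centerCongr e).toEquiv]
  exact h

omit [Finite P] in
theorem card_omegaOneCenter_congr {p : ℕ} {Q X : Subgroup P} (e : ↥Q ≃* ↥X) :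
    Nat.card ↥(omegaOneCenter p Q) = Nat.card ↥(omegaOneCenter p X) := by
  have key : ∀ Y : Subgroup P, Nat.card ↥(omegaOneCenter p Y) =
      Nat.card {y : ↥Y // y ∈ Subgroup.center ↥Y ∧ y ^ p = 1} := fun Y => Nat.card_congr
    { toFun := fun x => ⟨⟨x.1, (mem_omegaOneCenter_iff.mp x.2).1.1⟩,
        Subgroup.mem_center_iff.mpr fun g => Subtype.ext ((mem_omegaOneCenter_iff.mp x.2).1.2 g g.2),
        Subtype.ext (mem_omegaOneCenter_iff.mp x.2).2⟩
      invFun := fun y => ⟨(y.1 : P), mem_omegaOneCenter_iff.mpr ⟨⟨y.1.2, fun g hg =>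
        congrArg Subtype.val (Subgroup.mem_center_iff.mp y.2.1 ⟨g, hg⟩)⟩,
        by have h := congrArg Subtype.val y.2.2; simpa using h⟩⟩
      left_inv := fun _ => rfl
      right_inv := fun _ => rfl }
  rw [key, key]
  refine Nat.card_congr (e.toEquiv.subtypeEquiv fun y => ?_)
  refine and_congr ⟨fun h => ?_, fun h => ?_⟩ (by
    show y ^ p = 1 ↔ (e y) ^ p = 1
    rw [← map_pow, e.map_eq_one_iff])
  · refine Subgroup.mem_center_iff.mpr fun g => e.symm.injective ?_
    simpa using Subgroup.mem_center_iff.mp h (e.symm g)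
  · refine Subgroup.mem_center_iff.mpr fun g => e.injective ?_
    simpa using Subgroup.mem_center_iff.mp h (e g)

theorem le_max_omega {p : ℕ} {R : Subgroup P} (hR : IsMinimalCentrallyLarge R) :
    Nat.card ↥(omegaOneCenter p R) ≤ maxOmegaCenterOfMinimalCL p P :=
  le_csSup (((Set.finite_range fun X : Subgroup P => Nat.card ↥(omegaOneCenter p X))).subset (by
    rintro k ⟨X, -, rfl⟩; exact ⟨X, rfl⟩)).bddAbove ⟨R, hR, rfl⟩

theorem exists_max_omega (p : ℕ) : ∃ Q : Subgroup P, IsMinimalCentrallyLarge Q ∧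
    Nat.card ↥(omegaOneCenter p Q) = maxOmegaCenterOfMinimalCL p P := by
  obtain ⟨Q, hQ⟩ := exists_minimal_cl (P := P)
  obtain ⟨R, hR, h⟩ := Nat.sSup_mem (s := {k : ℕ | ∃ Q : Subgroup P, IsMinimalCentrallyLarge Q ∧
      Nat.card ↥(omegaOneCenter p Q) = k}) ⟨_, Q, hQ, rfl⟩
    (((Set.finite_range fun X : Subgroup P => Nat.card ↥(omegaOneCenter p X))).subset (by
      rintro k ⟨X, -, rfl⟩; exact ⟨X, rfl⟩)).bddAbove
  exact ⟨R, hR, h⟩

theorem frattiniOfMinimalCLJoin_eq (p : ℕ) (S : Type*) [Group S] :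
    frattiniOfMinimalCLJoin p S = ⨆ Q : {Q : Subgroup S // IsMinimalCentrallyLarge Q ∧
      Nat.card ↥(omegaOneCenter p Q) = maxOmegaCenterOfMinimalCL p S}, frat (Q : Subgroup S) := rfl

/-- The derived subgroup of a minimal centrally large subgroup is characteristic. -/
theorem derived_characteristic {Q : Subgroup P} (hQ : IsMinimalCentrallyLarge Q) :
    (⁅Q, Q⁆).Characteristic := by
  refine Subgroup.characteristic_iff_map_eq.mpr fun φ => ?_
  rw [Subgroup.map_commutator]
  exact mcl_commutator_eq (mcl_of_equiv hQ (Q.equivMapOfInjective φ.toMonoidHom φ.injective)) hQ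

end Iso

variable {G : Type*} [Group G] [Finite G] {p : ℕ} [hp : Fact p.Prime]
variable {F : Type} [Field F] [Fintype F] {n : ℕ} {S : Sylow p G} {K : Subgroup G}

omit [Finite G] in
theorem exists_rankOne {S : Subgroup G} (hE : IsPushingUpSituation p S) :
    ∃ (P : Sylow p G) (K : Subgroup G) (F : Type) (_ : Field F) (_ : Fintype F) (n : ℕ),
      (P : Subgroup G) = S ∧ RankOne p P K F n := by
  obtain ⟨-, ⟨P, rfl⟩, hc, hu, K, hK, F, _, _, n, hF, ⟨e⟩⟩ := hE
  refine ⟨P, K, F, _, _, n, rfl, hc, hu, ?_, hF, e.toMonoidHom.comp (QuotientGroup.mk' K),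
    e.surjective.comp (QuotientGroup.mk'_surjective K), by ext x; simp⟩
  by_contra hn
  have h1 := Fintype.one_lt_card (α := F)
  rw [hF, show n = 0 by omega, pow_zero] at h1
  exact absurd h1 (lt_irrefl 1)

variable {H : Type*} [Group H]

/-- A group identified with the Sylow subgroup `S`. -/
structure Emb (S : Sylow p G) (f : H →* G) : Prop where
  inj : Function.Injective f
  range : f.range = (S : Subgroup G)

theorem emb_subtype (S : Sylow p G) : Emb S (S : Subgroup G).subtype :=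
  ⟨Subgroup.subtype_injective _, Subgroup.range_subtype _⟩

variable {f : H →* G}

theorem Emb.mem (hf : Emb S f) (x : H) : f x ∈ (S : Subgroup G) := hf.range ▸ ⟨x, rfl⟩

theorem Emb.map_comap (hf : Emb S f) {X : Subgroup G} (hX : X ≤ (S : Subgroup G)) :
    (X.comap f).map f = X := by
  rw [Subgroup.map_comap_eq, hf.range, inf_eq_right.2 hX]

theorem Emb.isPGroup (hf : Emb S f) : IsPGroup p H := S.isPGroup'.of_injective
  (f.codRestrict (S : Subgroup G) hf.mem) fun _ _ h => hf.inj (congrArg Subtype.val h)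

theorem Emb.finite (hf : Emb S f) : Finite H := Finite.of_injective f hf.inj

theorem Emb.map_center (hf : Emb S f) :
    (Subgroup.center H).map f = (S : Subgroup G) ⊓ centralizer ((S : Subgroup G) : Set G) := by
  refine le_antisymm ?_ fun x hx => ?_
  · rintro _ ⟨x, hx, rfl⟩
    refine Subgroup.mem_inf.2 ⟨hf.mem x, fun y hy => ?_⟩
    obtain ⟨y, rfl⟩ := hf.range.ge hy
    rw [← map_mul, ← map_mul, Subgroup.mem_center_iff.1 hx y]
  · obtain ⟨x, rfl⟩ := hf.range.ge hx.1
    exact ⟨x, Subgroup.mem_center_iff.2 fun y => hf.inj (by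
      rw [map_mul, map_mul]; exact hx.2 _ (hf.mem y)), rfl⟩

/-- `⟨Z(S)^G⟩`, inside `H`. -/
def zcl (S : Sylow p G) (f : H →* G) : Subgroup H :=
  (normalClosure (((S : Subgroup G) ⊓ centralizer ((S : Subgroup G) : Set G) : Subgroup G) : Set G)).comap f

/-- `O_p(G)`, inside `H`. -/
def core (p : ℕ) (f : H →* G) : Subgroup H := (pCore p G).comap f

local notation "ZS" => ((S : Subgroup G) ⊓ centralizer ((S : Subgroup G) : Set G))

theorem setup (hR : RankOne p S K F n) (hf : Emb S f) (hZ : ¬ (ZS).Normal) :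
    Setup (core p f) (zcl S f) (p ^ n) where
  le x hx := ((closure_zs_le hR).trans inf_le_left) hx
  cent x hx y hy := hf.inj (by
    rw [map_mul, map_mul]
    exact ((closure_zs_le hR).trans inf_le_right) hx (f y) hy)
  index_le := by
    rw [core, Subgroup.index_comap, hf.range]
    exact relIndex_pCore_le hR
  fix a ha := by
    obtain ⟨φ, hfs, hfK⟩ := hR.exists_hom
    haveI : (normalClosure (ZS : Set G)).Normal := normalClosure_normal
    have haQ : f a ∉ pCore p G := ha
    have hfa : φ (f a) ≠ 1 := fun h => haQ ((sylow_inf_K hR).le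
      (Subgroup.mem_inf.2 ⟨hf.mem a, hfK ▸ MonoidHom.mem_ker.2 h⟩))
    have haC : f a ∉ centralizer (normalClosure (ZS : Set G) : Set G) := fun h =>
      haQ (inf_centralizer_closure_le hR hZ (Subgroup.mem_inf.2 ⟨hf.mem a, h⟩))
    obtain ⟨j, hj⟩ := hf.isPGroup a
    have hQp : IsPGroup p (pCore p G) := CfsgLib.Solvable.pCore_isPGroup p G
    have h := (Pushing.fix_bounds hR.one_le hR.card_field
      (hQp.to_le ((closure_zs_le hR).trans inf_le_left)) φ hfs
      (fun h => hfK ▸ centralizer_closure_le hR h hZ) ⟨j, by rw [← map_pow, hj, map_one]⟩ hfa haC).1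
    rw [inf_relIndex_left] at h
    have e : centralizer ({a} : Set H) = (centralizer ({f a} : Set G)).comap f := by
      ext x
      simp only [Subgroup.mem_centralizer_singleton_iff, Subgroup.mem_comap]
      rw [← map_mul, ← map_mul]
      exact hf.inj.eq_iff.symm
    rw [e, zcl, Subgroup.relIndex_comap]
    exact h.trans_eq (congrArg _ (hf.map_comap
      (((closure_zs_le hR).trans inf_le_left).trans (Baumann.pCore_le hR))).symm)

/-- The conjugate of a subgroup of `O_p(G)`, inside `H`. -/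
def cj (f : H →* G) (g : G) (Q : Subgroup H) : Subgroup H :=
  ((Q.map f).map (MulAut.conj g).toMonoidHom).comap f

theorem cj_facts (hR : RankOne p S K F n) (hf : Emb S f) (g : G) {Q : Subgroup H} (hQ : Q ≤ core p f) :
    cj f g Q ≤ core p f ∧ Nonempty (↥Q ≃* ↥(cj f g Q)) ∧
      (cj f g Q).map f = (Q.map f).map (MulAut.conj g).toMonoidHom := by
  haveI hQn := CfsgLib.Solvable.pCore_normal p G
  have hle : (Q.map f).map (MulAut.conj g).toMonoidHom ≤ pCore p G := by
    rintro _ ⟨_, ⟨y, hy, rfl⟩, rfl⟩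
    exact hQn.conj_mem _ (hQ hy) g
  have hleS := hle.trans (Baumann.pCore_le hR)
  have hmap : (cj f g Q).map f = (Q.map f).map (MulAut.conj g).toMonoidHom := hf.map_comap hleS
  exact ⟨fun x hx => hle hx, ⟨((Q.equivMapOfInjective _ hf.inj).trans
    ((Q.map f).equivMapOfInjective _ (MulAut.conj g).injective)).trans
    ((MulEquiv.subgroupCongr hmap.symm).trans ((cj f g Q).equivMapOfInjective _ hf.inj).symm)⟩, hmap⟩

/-- A join over a conjugation invariant family inside `O_p(G)` is normal. -/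
theorem iSup_normal (hR : RankOne p S K F n) (hf : Emb S f) (𝔉 : Subgroup H → Prop)
    (h𝔉 : ∀ Q, 𝔉 Q → Q ≤ core p f) (hcj : ∀ Q, 𝔉 Q → ∀ g, 𝔉 (cj f g Q))
    (Φ : Subgroup G → Subgroup G)
    (hΦ : ∀ (g : G) (X : Subgroup G), Φ (X.map (MulAut.conj g).toMonoidHom) = (Φ X).map (MulAut.conj g).toMonoidHom) :
    (⨆ (Q) (_ : 𝔉 Q), Φ (Q.map f)).Normal := by
  refine ⟨fun x hx g => ?_⟩
  have : (⨆ (Q) (_ : 𝔉 Q), Φ (Q.map f)).map (MulAut.conj g).toMonoidHom ≤
      ⨆ (Q) (_ : 𝔉 Q), Φ (Q.map f) := by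
    rw [Subgroup.map_iSup]
    refine iSup_le fun Q => ?_
    rw [Subgroup.map_iSup]
    refine iSup_le fun hQ => ?_
    rw [← hΦ, ← (cj_facts hR hf g (h𝔉 Q hQ)).2.2]
    exact le_iSup₂_of_le (cj f g Q) (hcj Q hQ g) le_rfl
  exact this ⟨x, hx, rfl⟩

/-- `Φ(X)` for a `p`-subgroup `X`. -/
def fratIn (p : ℕ) (X : Subgroup G) : Subgroup G :=
  ⁅X, X⁆ ⊔ Subgroup.closure ((fun x : G => x ^ p) '' (X : Set G))

omit [Finite G] hp in
theorem fratIn_map {H : Type*} [Group H] (f : H →* G) (Y : Subgroup H) :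
    fratIn p (Y.map f) = (⁅Y, Y⁆ ⊔ Subgroup.closure ((fun x : H => x ^ p) '' (Y : Set H))).map f := by
  rw [fratIn, Subgroup.map_sup, Subgroup.map_commutator, MonoidHom.map_closure, Subgroup.coe_map,
    Set.image_image, Set.image_image]
  simp_rw [map_pow]

theorem frat_map [Finite H] (hf : Emb S f) (Q : Subgroup H) :
    (frat Q).map f = fratIn p (Q.map f) := by
  rw [frat_eq hf.isPGroup, fratIn_map]

variable (hR : RankOne p S K F n) (hf : Emb S f) [Finite H]
include hR hf

/-- Main result on the derived subgroup. -/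
theorem derived_main (Q : Subgroup H) (hQ : IsMinimalCentrallyLarge Q) :
    (ZS ⊓ (⁅Q, Q⁆).map f).Normal ∨ ((minimalCentrallyLargeJoin H).map f).Normal := by
  by_cases hZ : (ZS).Normal
  · exact Or.inl (normal_of_zs_normal hR hZ inf_le_left)
  have hs := setup hR hf hZ
  by_cases hall : ∀ X : Subgroup H, IsMinimalCentrallyLarge X → X ≤ core p f
  · right
    have h := iSup_normal hR hf (fun X => IsMinimalCentrallyLarge X) hall (fun X hX g => by
      obtain ⟨e⟩ := (cj_facts hR hf g (hall X hX)).2.1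
      exact mcl_of_equiv hX e) id (fun g X => rfl)
    simp only [id, ← Subgroup.map_iSup] at h
    rwa [minimalCentrallyLargeJoin, sSup_eq_iSup]
  left
  push Not at hall
  obtain ⟨X, hX, hXn⟩ := hall
  obtain ⟨-, hCn, -⟩ := replace hs hX hXn
  obtain ⟨a, haC, ha⟩ := SetLike.not_le_iff_exists.1 hCn
  obtain ⟨X₁, hX₁, hX₁le⟩ := exists_mcl_le hs
  set D := (⁅Q, Q⁆).map f with hD
  haveI hDn : D.Normal := by
    refine ⟨fun x hx g => ?_⟩
    obtain ⟨-, ⟨e⟩, hmap⟩ := cj_facts hR hf g hX₁le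
    have h1 : D.map (MulAut.conj g).toMonoidHom = D := by
      conv_rhs => rw [hD, ← mcl_commutator_eq (mcl_of_equiv hX₁ e) hQ, Subgroup.map_commutator, hmap]
      rw [hD, ← mcl_commutator_eq hX₁ hQ, Subgroup.map_commutator, Subgroup.map_commutator]
    exact h1.le ⟨x, hx, rfl⟩
  haveI : (normalClosure (ZS : Set G)).Normal := normalClosure_normal
  refine central_of_not_le hR
    (N := centralizer ((normalClosure (ZS : Set G) ⊓ D : Subgroup G) : Set G)) normal_centralizer
    (fun h => ha (h (Subgroup.mem_inf.2 ⟨hf.mem a, ?_⟩))) inf_le_left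
    (Subgroup.centralizer_le (inf_le_inf_right D le_normalClosure))
  rintro _ ⟨-, hy⟩
  rw [hD, ← mcl_commutator_eq hX hQ] at hy
  obtain ⟨y, hy, rfl⟩ := hy
  rw [← map_mul, ← map_mul, haC y (Subgroup.commutator_le_self X hy)]

omit [Finite H] in
theorem isMaxAb_map_iff {A : Subgroup H} :
    A ∈ maxAbelianSubgroups H ↔ IsMaxAb 0 (S : Subgroup G) (A.map f) := by
  constructor
  · rintro ⟨hA, hmax⟩
    haveI := hA
    refine ⟨hf.range ▸ map_le_range f A, Subgroup.map_isMulCommutative A (f := f), fun a _ => pow_zero a,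
      fun B hB hc _ => ?_⟩
    rw [← hf.map_comap hB, Subgroup.card_map_of_injective hf.inj, Subgroup.card_map_of_injective hf.inj]
    haveI := hc
    exact hmax _ (IsMulCommutative.of_setLike_mul_comm fun a ha b hb => hf.inj (by
      rw [map_mul, map_mul]; exact setLike_mul_comm (S := Subgroup G) ha hb))
  · intro h
    haveI := h.comm
    refine ⟨IsMulCommutative.of_setLike_mul_comm fun a ha b hb => hf.inj (by
      rw [map_mul, map_mul]; exact setLike_mul_comm (Subgroup.mem_map_of_mem f ha) (Subgroup.mem_map_of_mem f hb)),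
      fun B hB => ?_⟩
    haveI := hB
    have := h.max (B.map f) (hf.range ▸ map_le_range f B) (Subgroup.map_isMulCommutative B (f := f)) fun a _ => pow_zero a
    rwa [Subgroup.card_map_of_injective hf.inj, Subgroup.card_map_of_injective hf.inj] at this

omit [Finite H] in
theorem joinMaxAb_eq : joinMaxAb 0 (S : Subgroup G) = (thompsonSubgroupA H).map f := by
  rw [joinMaxAb, thompsonSubgroupA, (Subgroup.gc_map_comap f).l_sSup, ← sSup_image]
  congr 1
  ext A
  constructor
  · intro hA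
    exact ⟨A.comap f, (isMaxAb_map_iff hR hf).2 (by rwa [hf.map_comap hA.le]), hf.map_comap hA.le⟩
  · rintro ⟨B, hB, rfl⟩
    exact (isMaxAb_map_iff hR hf).1 hB

omit [Finite H] in
theorem interMaxAb_eq : interMaxAb 0 (S : Subgroup G) =
    (thompsonSubgroupA H ⊓ centralizer (thompsonSubgroupA H : Set H)).map f := by
  ext x
  rw [mem_interMaxAb_iff, joinMaxAb_eq hR hf]
  constructor
  · rintro ⟨⟨y, hy, rfl⟩, h2, -⟩
    exact ⟨y, ⟨hy, fun t ht => hf.inj (by rw [map_mul, map_mul]; exact h2 _ ⟨t, ht, rfl⟩)⟩, rfl⟩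
  · rintro ⟨y, hy, rfl⟩
    refine ⟨⟨y, hy.1, rfl⟩, ?_, pow_zero _⟩
    rintro _ ⟨t, ht, rfl⟩
    rw [← map_mul, ← map_mul, hy.2 t ht]

omit [Finite H] in
theorem le_centralizer_inter
    (h : centralizer ((thompsonSubgroupA H ⊓ centralizer (thompsonSubgroupA H : Set H) : Subgroup H) : Set H) = ⊤) :
    (S : Subgroup G) ≤ centralizer (interMaxAb 0 (S : Subgroup G) : Set G) := by
  rw [interMaxAb_eq hR hf]
  intro x hx
  obtain ⟨x, rfl⟩ := hf.range.ge hx
  rintro _ ⟨t, ht, rfl⟩
  rw [← map_mul, ← map_mul]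
  exact congrArg f ((h.ge (Subgroup.mem_top x)) t ht)

omit hf [Finite H] in
theorem exists_maxAb_not_le (hZ : ¬ (ZS).Normal)
    (hJ : (S : Subgroup G) ≤ centralizer (interMaxAb 0 (S : Subgroup G) : Set G)) :
    ∃ A, IsMaxAb 0 (S : Subgroup G) A ∧ ¬ A ≤ pCore p G := by
  by_contra hne
  push Not at hne
  rcases normal_or_of_join_le hR (sSup_le hne) with h1 | h1
  · rw [inf_eq_left.2 hJ] at h1
    exact not_le_pCore hR (le_pCore_of h1 S.isPGroup')
  · exact hZ (h1 _ le_rfl fun x hx => Subgroup.mem_sInf.2 fun A hA =>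
      mem_of_commute hA hx.1 (pow_zero x) fun a ha => hx.2 a (hA.le ha))

omit [Finite H] in
theorem zcl_split (hZ : ¬ (ZS).Normal)
    (hJ : (S : Subgroup G) ≤ centralizer (interMaxAb 0 (S : Subgroup G) : Set G)) :
    ∀ z ∈ zcl S f, ∃ e ∈ zcl S f, ∃ o ∈ zcl S f,
      e ∈ Subgroup.center H ∧ o ^ p = 1 ∧ z = e * o := by
  obtain ⟨A, hA, hAQ⟩ := exists_maxAb_not_le hR hZ hJ
  set Z := normalClosure (ZS : Set G) with hZdef
  haveI : Z.Normal := normalClosure_normal
  have hZQ : Z ≤ pCore p G := (closure_zs_le hR).trans inf_le_left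
  have hcomm : ∀ {x y : G}, x ∈ Z → y ∈ Z → Commute x y := fun hx hy =>
    (((closure_zs_le hR).trans inf_le_right) hy _ (hZQ hx))
  have key : ∀ z ∈ Z, ∃ e ∈ ZS, ∃ o ∈ Z, o ^ p = 1 ∧ z = e * o := by
    intro z hz
    rw [hZdef, normalClosure] at hz
    induction hz using Subgroup.closure_induction with
    | mem y hy =>
      obtain ⟨x, hx, hxy⟩ := Group.mem_conjugatesOfSet_iff.mp hy
      obtain ⟨c, rfl⟩ := isConj_iff.mp hxy
      have hxZ : x ∈ Z := subset_normalClosure hx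
      have hyZ : c * x * c⁻¹ ∈ Z := Subgroup.Normal.conj_mem inferInstance x hxZ c
      refine ⟨x, hx, x⁻¹ * (c * x * c⁻¹), mul_mem (inv_mem hxZ) hyZ, ?_, (mul_inv_cancel_left _ _).symm⟩
      rw [(hcomm (inv_mem hxZ) hyZ).mul_pow, inv_pow, conj_pow,
        Subgroup.mem_center_iff.1 (pow_central hR hZ hA hAQ hx) c, mul_inv_cancel_right, inv_mul_cancel]
    | one => exact ⟨1, one_mem _, 1, one_mem _, one_pow _, (one_mul 1).symm⟩
    | mul y z _ _ hy hz =>
      obtain ⟨e₁, he₁, o₁, ho₁, hp₁, rfl⟩ := hy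
      obtain ⟨e₂, he₂, o₂, ho₂, hp₂, rfl⟩ := hz
      refine ⟨e₁ * e₂, mul_mem he₁ he₂, o₁ * o₂, mul_mem ho₁ ho₂, ?_, ?_⟩
      · rw [(hcomm ho₁ ho₂).mul_pow, hp₁, hp₂, one_mul]
      · exact (hcomm ho₁ (subset_normalClosure he₂)).mul_mul_mul_comm _ _
    | inv y _ hy =>
      obtain ⟨e, he, o, ho, hp', rfl⟩ := hy
      refine ⟨e⁻¹, inv_mem he, o⁻¹, inv_mem ho, by rw [inv_pow, hp', inv_one], ?_⟩
      rw [(hcomm (subset_normalClosure he) ho).eq, mul_inv_rev]
  intro z hz
  obtain ⟨e', he, o', ho, hop, hzeo⟩ := key (f z) hz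
  obtain ⟨e, hec, rfl⟩ := hf.map_center.ge he
  obtain ⟨o, rfl⟩ := hf.range.ge (Baumann.pCore_le hR (hZQ ho))
  exact ⟨e, subset_normalClosure he, o, ho, hec, hf.inj (by rw [map_pow, hop, map_one]),
    hf.inj (by rw [map_mul, hzeo])⟩

/-- Main result on `S_Φ`. -/
theorem frattini_main (hJ : (S : Subgroup G) ≤ centralizer (interMaxAb 0 (S : Subgroup G) : Set G)) :
    (ZS).Normal ∨ ((frattiniOfMinimalCLJoin p H).map f).Normal := by
  by_cases hZ : (ZS).Normal
  · exact Or.inl hZ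
  right
  set 𝔉 : Subgroup H → Prop := fun Q => (IsMinimalCentrallyLarge Q ∧
    Nat.card ↥(omegaOneCenter p Q) = maxOmegaCenterOfMinimalCL p H) ∧ Q ≤ core p f with h𝔉
  have h := iSup_normal hR hf 𝔉 (fun Q hQ => hQ.2) (fun Q hQ g => by
    obtain ⟨hle, ⟨e⟩, -⟩ := cj_facts hR hf g hQ.2
    exact ⟨⟨mcl_of_equiv hQ.1.1 e, by rw [← card_omegaOneCenter_congr e]; exact hQ.1.2⟩, hle⟩)
    (fratIn p) (fun g X => by rw [fratIn_map, fratIn])
  simp only [← frat_map hf, ← Subgroup.map_iSup] at h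
  have heq : frattiniOfMinimalCLJoin p H = ⨆ (Q) (_ : 𝔉 Q), frat Q := by
    rw [frattiniOfMinimalCLJoin_eq]
    refine le_antisymm (iSup_le fun Q => ?_) (iSup₂_le fun Q hQ => le_iSup_of_le ⟨Q, hQ.1⟩ le_rfl)
    by_cases hle : (Q : Subgroup H) ≤ core p f
    · exact le_iSup₂_of_le (Q : Subgroup _) ⟨Q.2, hle⟩ le_rfl
    · obtain ⟨R, hR', hRle, hRc, hfr⟩ := replace_omega (setup hR hf hZ) hf.isPGroup (zcl_split hR hf hZ hJ)
        Q.2.1 hle (fun X hX => (le_max_omega hX).trans_eq Q.2.2.symm)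
      exact hfr.trans (le_iSup₂_of_le R ⟨⟨hR', hRc.trans Q.2.2⟩, hRle⟩ le_rfl)
  rwa [heq]

end CfsgLib.LocalEven.CLP
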