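import Cfsg.Agent.Lib.LocalEven.CDAbelian
import Cfsg.Agent.Lib.Transfer.PGroup
import Cfsg.Agent.Lib.PLocal.GlaubermanReplacement

/-!
# Replacing a minimal centrally large subgroup by one below a normal subgroup

`Q₀` is a subgroup of index at most `q` and `Z` a subgroup of `Q₀` centralizing it such that every
element outside `Q₀` centralizes a subgroup of index at least `q` in `Z`.
-/

set_option autoImplicit false

open Cfsg
open scoped commutatorElement

namespace CfsgLib.LocalEven.CLP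

open CfsgLib.LocEven

variable {P : Type*} [Group P] [Finite P]

omit [Finite P] in
theorem mem_omegaOne_iff {p : ℕ} {X : Subgroup P} (hX : X ≤ Subgroup.centralizer (X : Set P))
    {x : P} : x ∈ omegaOne p X ↔ x ∈ X ∧ x ^ p = 1 := by
  refine ⟨fun h => ?_, fun h => Subgroup.subset_closure h⟩
  induction h using Subgroup.closure_induction with
  | mem y hy => exact hy
  | one => exact ⟨one_mem _, one_pow _⟩
  | mul y z _ _ hy hz =>
    refine ⟨mul_mem hy.1 hz.1, ?_⟩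
    rw [Commute.mul_pow (hX hz.1 y hy.1 : Commute y z) p, hy.2, hz.2, one_mul]
  | inv y _ hy => exact ⟨inv_mem hy.1, by rw [inv_pow, hy.2, inv_one]⟩

omit [Finite P] in
theorem mem_omegaOneCenter_iff {p : ℕ} {Q : Subgroup P} {x : P} :
    x ∈ omegaOneCenter p Q ↔ (x ∈ Q ∧ x ∈ Subgroup.centralizer (Q : Set P)) ∧ x ^ p = 1 :=
  mem_omegaOne_iff (inf_le_right.trans (Subgroup.centralizer_le fun y (hy : y ∈ Q ⊓ _) => hy.1))

omit [Finite P] in
theorem card_mul_relIndex_eq {H K : Subgroup P} :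
    Nat.card ↥(H ⊓ K) * H.relIndex K = Nat.card K := by
  rw [← Subgroup.inf_relIndex_right H K, ← Subgroup.relIndex_bot_left, ← Subgroup.relIndex_bot_left]
  exact Subgroup.relIndex_mul_relIndex _ _ _ bot_le inf_le_right

/-- A centrally large subgroup of the size of a minimal one is minimal. -/
theorem mcl_of_cl_card {Q R : Subgroup P} (hQ : IsMinimalCentrallyLarge Q) (hR : IsCentrallyLarge R)
    (hc : Nat.card R ≤ Nat.card Q) : IsMinimalCentrallyLarge R := by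
  obtain ⟨X, hXR, hX⟩ := exists_minimal_cl_le hR
  have : X = R := Subgroup.eq_of_le_of_card_ge hXR (hc.trans_eq (mcl_card_eq hQ hX).1)
  exact this ▸ hX

variable {Q₀ Z : Subgroup P} {q : ℕ}

/-- The hypotheses of the replacement. -/
structure Setup (Q₀ Z : Subgroup P) (q : ℕ) : Prop where
  le : Z ≤ Q₀
  cent : Z ≤ Subgroup.centralizer (Q₀ : Set P)
  index_le : Q₀.index ≤ q
  fix : ∀ a : P, a ∉ Q₀ → q ≤ (Subgroup.centralizer ({a} : Set P)).relIndex Z

variable (h : Setup Q₀ Z q)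
include h

set_option maxHeartbeats 800000 in
/-- The replacement of a minimal centrally large subgroup outside `Q₀`. -/
theorem replace {Q : Subgroup P} (hQ : IsMinimalCentrallyLarge Q) (hQn : ¬ Q ≤ Q₀) :
    IsMinimalCentrallyLarge ((Q ⊓ Q₀) ⊔ Z) ∧ ¬ Subgroup.centralizer (Q : Set P) ≤ Q₀ ∧
      (Q ⊓ Q₀) ⊔ Subgroup.centralizer (Q : Set P) = Q ∧
      (Subgroup.centralizer (Q : Set P)).relIndex Z = q ∧
      Q₀.relIndex (Subgroup.centralizer (Q : Set P)) = q ∧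
      Subgroup.centralizer (((Q ⊓ Q₀) ⊔ Z : Subgroup P) : Set P) =
        (Subgroup.centralizer (Q : Set P) ⊓ Q₀) ⊔ Z := by
  obtain ⟨hQl, hQc⟩ := centrallyLarge_iff.mp hQ.1
  set C := Subgroup.centralizer (Q : Set P) with hC
  set R := (Q ⊓ Q₀) ⊔ Z with hR
  set D := (C ⊓ Q₀) ⊔ Z with hD
  have hDR : D ≤ R := sup_le_sup_right (inf_le_inf_right _ hQc) Z
  have hDC : D ≤ Subgroup.centralizer (R : Set P) := by
    refine sup_le ?_ ?_ <;> rw [hR, centralizer_sup] <;> refine le_inf ?_ ?_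
    · exact inf_le_left.trans (Subgroup.centralizer_le fun y (hy : y ∈ Q ⊓ Q₀) => hy.1)
    · exact inf_le_right.trans ((Subgroup.le_centralizer_iff.mp h.cent))
    · exact h.cent.trans (Subgroup.centralizer_le fun y (hy : y ∈ Q ⊓ Q₀) => hy.2)
    · exact h.cent.trans (Subgroup.centralizer_le h.le)
  -- sizes
  set a := Nat.card ↥(Q ⊓ Q₀) with ha
  set x := Q₀.relIndex Q with hx
  set c := Nat.card ↥(C ⊓ Q₀) with hc
  set y := Q₀.relIndex C with hy
  set u := Q.relIndex Z with hu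
  set w := C.relIndex Z with hw
  have eQ : a * x = Nat.card Q := by rw [ha, hx, inf_comm]; exact card_mul_relIndex_eq
  have eC : c * y = Nat.card C := by rw [hc, hy, inf_comm]; exact card_mul_relIndex_eq
  have eR : a * u ≤ Nat.card R := by
    have h1 := card_mul_card_le_card_inf_mul_sup (Q ⊓ Q₀) Z
    rw [show (Q ⊓ Q₀) ⊓ Z = Q ⊓ Z by rw [inf_assoc, inf_eq_right.mpr h.le],
      ← card_mul_relIndex_eq (H := Q) (K := Z)] at h1
    refine Nat.le_of_mul_le_mul_left ?_ (Nat.card_pos (α := ↥(Q ⊓ Z)))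
    calc Nat.card ↥(Q ⊓ Z) * (a * u) = a * (Nat.card ↥(Q ⊓ Z) * u) := by ring
      _ ≤ _ := h1
  have eD : c * w ≤ Nat.card D := by
    have h1 := card_mul_card_le_card_inf_mul_sup (C ⊓ Q₀) Z
    rw [show (C ⊓ Q₀) ⊓ Z = C ⊓ Z by rw [inf_assoc, inf_eq_right.mpr h.le],
      ← card_mul_relIndex_eq (H := C) (K := Z)] at h1
    refine Nat.le_of_mul_le_mul_left ?_ (Nat.card_pos (α := ↥(C ⊓ Z)))
    calc Nat.card ↥(C ⊓ Z) * (c * w) = c * (Nat.card ↥(C ⊓ Z) * w) := by ring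
      _ ≤ _ := h1
  have hmax : Nat.card R * Nat.card D ≤ Nat.card Q * Nat.card C := by
    refine (Nat.mul_le_mul_left _ (Nat.le_of_dvd Nat.card_pos (Subgroup.card_dvd_of_le hDC))).trans ?_
    rw [show Nat.card Q * Nat.card C = maxCentralizerProduct P from hQl]
    exact measure_le_max R
  have hxy : u * w ≤ x * y := by
    refine Nat.le_of_mul_le_mul_left ?_ (Nat.mul_pos (Nat.card_pos (α := ↥(Q ⊓ Q₀))) (Nat.card_pos (α := ↥(C ⊓ Q₀))))
    calc a * c * (u * w) = a * u * (c * w) := by ring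
      _ ≤ Nat.card R * Nat.card D := Nat.mul_le_mul eR eD
      _ ≤ Nat.card Q * Nat.card C := hmax
      _ = a * c * (x * y) := by rw [← eQ, ← eC]; ring
  have hxq : x ≤ q := ((Subgroup.relIndex_le_of_le_right (le_top : Q ≤ ⊤)
    Subgroup.index_ne_zero_of_finite).trans_eq (Subgroup.relIndex_top_right Q₀)).trans h.index_le
  have hyq : y ≤ q := ((Subgroup.relIndex_le_of_le_right (le_top : C ≤ ⊤)
    Subgroup.index_ne_zero_of_finite).trans_eq (Subgroup.relIndex_top_right Q₀)).trans h.index_le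
  have hu0 : 0 < u := Nat.pos_of_ne_zero Subgroup.index_ne_zero_of_finite
  have hfix : ∀ X : Subgroup P, ∀ b : P, b ∉ Q₀ → X ≤ Subgroup.centralizer ({b} : Set P) →
      q ≤ X.relIndex Z := fun X b hb hX => (h.fix b hb).trans (Nat.le_of_dvd
    (Nat.pos_of_ne_zero Subgroup.index_ne_zero_of_finite) (Subgroup.relIndex_dvd_of_le_left Z hX))
  obtain ⟨b, hbQ, hb⟩ := SetLike.not_le_iff_exists.mp hQn
  have hwq : q ≤ w := hfix C b hb fun z hz => Subgroup.mem_centralizer_singleton_iff.mpr (hz b hbQ).symm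
  have hclR : Nat.card Q * Nat.card C ≤ Nat.card R * Nat.card D → IsCentrallyLarge R ∧
      Subgroup.centralizer (R : Set P) = D := by
    intro hge
    have hCD : Subgroup.centralizer (R : Set P) = D := by
      refine (Subgroup.eq_of_le_of_card_ge hDC (Nat.le_of_mul_le_mul_left ?_ (Nat.card_pos (α := R)))).symm
      refine (measure_le_max R).trans ?_
      exact (show Nat.card Q * Nat.card C = maxCentralizerProduct P from hQl) ▸ hge
    refine ⟨centrallyLarge_iff.mpr ⟨isCentralizerLarge_of_max_le ?_, hCD ▸ hDR⟩, hCD⟩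
    rw [hCD, ← (show Nat.card Q * Nat.card C = maxCentralizerProduct P from hQl)]
    exact hge
  have hCn : ¬ C ≤ Q₀ := by
    intro hCle
    have hy1 : y = 1 := Subgroup.relIndex_eq_one.mpr hCle
    have hu1 : u = 1 ∧ x = w := by
      rw [hy1, mul_one] at hxy
      have h2 : w ≤ u * w := Nat.le_mul_of_pos_left w hu0
      have h3 : x = w := le_antisymm (hxq.trans hwq) (h2.trans hxy)
      refine ⟨le_antisymm (Nat.le_of_mul_le_mul_right ?_ (Nat.pos_of_ne_zero Subgroup.index_ne_zero_of_finite : 0 < w)) hu0, h3⟩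
      rw [one_mul]; exact hxy.trans_eq h3
    have hclose : Nat.card Q * Nat.card C ≤ a * u * (c * w) := by
      rw [← eQ, ← eC, hu1.1, hy1, hu1.2]; exact le_of_eq (by ring)
    have hcl := (hclR (hclose.trans (Nat.mul_le_mul eR eD))).1
    obtain ⟨X, hXR, hX⟩ := exists_minimal_cl_le hcl
    have hXQ : X ≤ Q₀ := hXR.trans (sup_le inf_le_right h.le)
    have hRQ : Z ≤ Q := Subgroup.relIndex_eq_one.mp hu1.1
    have hXQ' : X ≤ Q := hXR.trans (sup_le inf_le_left hRQ)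
    exact hQn (hQ.2 X hXQ' hX.1 ▸ hXQ)
  obtain ⟨d, hdC, hd⟩ := SetLike.not_le_iff_exists.mp hCn
  have huq : q ≤ u := hfix Q d hd fun z hz => Subgroup.mem_centralizer_singleton_iff.mpr (hdC z hz)
  have hq0 : 0 < q := lt_of_lt_of_le (Nat.pos_of_ne_zero Subgroup.index_ne_zero_of_finite) hxq
  have hall : u = q ∧ w = q ∧ x = q ∧ y = q := by
    have h1 : q * q ≤ u * w := Nat.mul_le_mul huq hwq
    have h2 : x * y ≤ q * q := Nat.mul_le_mul hxq hyq
    have h3 : u * w ≤ q * q := hxy.trans h2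
    have h4 : q * q ≤ x * y := h1.trans hxy
    exact ⟨le_antisymm (Nat.le_of_mul_le_mul_right (h3.trans (Nat.mul_le_mul_left q hwq)) (hq0.trans_le hwq)) huq,
      le_antisymm (Nat.le_of_mul_le_mul_left ((Nat.mul_le_mul_right w huq).trans h3) hq0) hwq,
      le_antisymm hxq (Nat.le_of_mul_le_mul_right (h4.trans (Nat.mul_le_mul_left x hyq)) hq0),
      le_antisymm hyq (Nat.le_of_mul_le_mul_left (h4.trans (Nat.mul_le_mul_right y hxq)) hq0)⟩
  obtain ⟨eu, ew, ex, ey⟩ := hall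
  have hge : Nat.card Q * Nat.card C ≤ a * u * (c * w) := by
    rw [← eQ, ← eC, eu, ew, ex, ey]
  obtain ⟨hcl, hCD⟩ := hclR (hge.trans (Nat.mul_le_mul eR eD))
  refine ⟨mcl_of_cl_card hQ hcl ?_, hCn, ?_, ew, ey, hCD⟩
  · have : c * w ≤ Nat.card D := eD
    refine Nat.le_of_mul_le_mul_right ?_ (Nat.card_pos (α := D))
    refine hmax.trans (Nat.mul_le_mul_left _ ?_)
    rw [← eC, ey, ← ew]; exact eD
  · refine Subgroup.eq_of_le_of_card_ge (sup_le inf_le_left hQc) ?_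
    have h1 := card_mul_card_le_card_inf_mul_sup (Q ⊓ Q₀) C
    rw [show (Q ⊓ Q₀) ⊓ C = C ⊓ Q₀ by
      rw [inf_comm Q, inf_assoc, inf_eq_right.mpr hQc, inf_comm], ← eC, ey, ← ex] at h1
    refine Nat.le_of_mul_le_mul_left ?_ (Nat.card_pos (α := ↥(C ⊓ Q₀)))
    calc c * Nat.card Q = a * (c * x) := by rw [← eQ]; ring
      _ ≤ _ := h1

/-- A minimal centrally large subgroup lies in `Q₀`. -/
theorem exists_mcl_le : ∃ Q : Subgroup P, IsMinimalCentrallyLarge Q ∧ Q ≤ Q₀ := by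
  obtain ⟨Q, hQ⟩ := exists_minimal_cl (P := P)
  by_cases hle : Q ≤ Q₀
  · exact ⟨Q, hQ, hle⟩
  · exact ⟨_, (replace h hQ hle).1, sup_le inf_le_right h.le⟩

omit h in
/-- The Frattini subgroup of `Q` inside `P`. -/
def frat (Q : Subgroup P) : Subgroup P := (frattini ↥Q).map Q.subtype

omit h in
theorem frat_eq {p : ℕ} [Fact p.Prime] (hP : IsPGroup p P) (Q : Subgroup P) :
    frat Q = ⁅Q, Q⁆ ⊔ Subgroup.closure ((fun x : P => x ^ p) '' (Q : Set P)) := by
  rw [frat, CfsgLib.Transfer.frattini_eq_commutator_sup_pow (hP.to_subgroup Q), Subgroup.map_sup,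
    Subgroup.map_subtype_commutator, MonoidHom.map_closure]
  congr 2
  ext y
  constructor
  · rintro ⟨_, ⟨x, rfl⟩, rfl⟩
    exact ⟨x, x.2, by simp⟩
  · rintro ⟨x, hx, rfl⟩
    exact ⟨_, ⟨⟨x, hx⟩, rfl⟩, by simp⟩

/-- The replacement for a largest `Ω₁` of the centre. -/
theorem replace_omega {p : ℕ} [Fact p.Prime] (hP : IsPGroup p P)
    (hZ : ∀ z ∈ Z, ∃ e ∈ Z, ∃ o ∈ Z, e ∈ Subgroup.center P ∧ o ^ p = 1 ∧ z = e * o)
    {Q : Subgroup P} (hQ : IsMinimalCentrallyLarge Q) (hQn : ¬ Q ≤ Q₀)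
    (hQm : ∀ R : Subgroup P, IsMinimalCentrallyLarge R →
      Nat.card ↥(omegaOneCenter p R) ≤ Nat.card ↥(omegaOneCenter p Q)) :
    ∃ R : Subgroup P, IsMinimalCentrallyLarge R ∧ R ≤ Q₀ ∧
      Nat.card ↥(omegaOneCenter p R) = Nat.card ↥(omegaOneCenter p Q) ∧ frat Q ≤ frat R := by
  obtain ⟨hR, -, hsup, hw, hy, hCR⟩ := replace h hQ hQn
  obtain ⟨-, hQc⟩ := centrallyLarge_iff.mp hQ.1
  set C := Subgroup.centralizer (Q : Set P) with hC
  set R := (Q ⊓ Q₀) ⊔ Z with hRdef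
  set W := omegaOneCenter p Q with hW
  set O := omegaOne p Z with hO
  have hZc : Z ≤ Subgroup.centralizer (Z : Set P) := h.cent.trans (Subgroup.centralizer_le h.le)
  have hOmem : ∀ {x}, x ∈ O ↔ x ∈ Z ∧ x ^ p = 1 := mem_omegaOne_iff hZc
  have hWC : W ≤ C := fun x hx => (mem_omegaOneCenter_iff.mp hx).1.2
  have hWR : W ⊓ Q₀ ≤ omegaOneCenter p R := by
    rintro x ⟨hx, hx0⟩
    obtain ⟨⟨hxQ, hxC⟩, hxp⟩ := mem_omegaOneCenter_iff.mp hx
    refine mem_omegaOneCenter_iff.mpr ⟨⟨Subgroup.mem_sup_left ⟨hxQ, hx0⟩, ?_⟩, hxp⟩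
    rw [hCR]; exact Subgroup.mem_sup_left ⟨hxC, hx0⟩
  have hOR : O ≤ omegaOneCenter p R := fun x hx => mem_omegaOneCenter_iff.mpr
    ⟨⟨Subgroup.mem_sup_right (hOmem.mp hx).1, by
      rw [hCR]; exact Subgroup.mem_sup_right (hOmem.mp hx).1⟩, (hOmem.mp hx).2⟩
  have hinf : (W ⊓ Q₀) ⊓ O = C ⊓ O := by
    refine le_antisymm (le_inf ((inf_le_left.trans inf_le_left).trans hWC) inf_le_right) fun x hx => ?_
    exact ⟨⟨mem_omegaOneCenter_iff.mpr ⟨⟨hQc hx.1, hx.1⟩, (hOmem.mp hx.2).2⟩,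
      h.le (hOmem.mp hx.2).1⟩, hx.2⟩
  -- `O` covers `Z` modulo `C`
  have hq : q ≤ C.relIndex O := by
    have hZsup : (C ⊓ Z) ⊔ O = Z := by
      refine le_antisymm (sup_le inf_le_right fun x hx => (hOmem.mp hx).1) fun z hz => ?_
      obtain ⟨e, he, o, ho, hec, hop, rfl⟩ := hZ z hz
      exact Subgroup.mul_mem_sup ⟨fun t _ => Subgroup.mem_center_iff.mp hec t, he⟩ (hOmem.mpr ⟨ho, hop⟩)
    have hn : C ⊓ Z ≤ Subgroup.normalizer (O : Set P) := (inf_le_right.trans (hZc.trans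
      (Subgroup.centralizer_le fun x hx => (hOmem.mp hx).1))).trans (Subgroup.centralizer_le_normalizer _)
    have h1 := CfsgLib.PLoc.card_sup_mul_card_inf hn
    rw [hZsup, show (C ⊓ Z) ⊓ O = C ⊓ O by
      rw [inf_assoc, inf_eq_right.mpr (show O ≤ Z from fun x hx => (hOmem.mp hx).1)]] at h1
    refine le_of_eq (Nat.eq_of_mul_eq_mul_left (Nat.mul_pos (Nat.card_pos (α := ↥(C ⊓ Z)))
      (Nat.card_pos (α := ↥(C ⊓ O)))) ?_)
    calc Nat.card ↥(C ⊓ Z) * Nat.card ↥(C ⊓ O) * q = Nat.card Z * Nat.card ↥(C ⊓ O) := by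
          rw [← card_mul_relIndex_eq (H := C) (K := Z), hw]; ring
      _ = Nat.card ↥(C ⊓ Z) * Nat.card O := h1
      _ = _ := by rw [← card_mul_relIndex_eq (H := C) (K := O)]; ring
  have hb : Nat.card ↥(W ⊓ Q₀) * q ≤ Nat.card ↥(omegaOneCenter p R) := by
    have h1 := card_mul_card_le_card_inf_mul_sup (W ⊓ Q₀) O
    rw [hinf, ← card_mul_relIndex_eq (H := C) (K := O)] at h1
    have h2 : Nat.card ↥(W ⊓ Q₀) * C.relIndex O ≤ Nat.card ↥((W ⊓ Q₀) ⊔ O) := by
      refine Nat.le_of_mul_le_mul_left ?_ (Nat.card_pos (α := ↥(C ⊓ O)))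
      calc Nat.card ↥(C ⊓ O) * (Nat.card ↥(W ⊓ Q₀) * C.relIndex O)
          = Nat.card ↥(W ⊓ Q₀) * (Nat.card ↥(C ⊓ O) * C.relIndex O) := by ring
        _ ≤ _ := h1
    exact ((Nat.mul_le_mul_left _ hq).trans h2).trans
      (Nat.le_of_dvd Nat.card_pos (Subgroup.card_dvd_of_le (sup_le hWR hOR)))
  have eW : Nat.card ↥(W ⊓ Q₀) * Q₀.relIndex W = Nat.card W := by
    rw [inf_comm]; exact card_mul_relIndex_eq
  have hrW : Q₀.relIndex W ≤ q :=
    hy ▸ Subgroup.relIndex_le_of_le_right hWC Subgroup.index_ne_zero_of_finite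
  have hWR' := hQm R hR
  have hrq : Q₀.relIndex W = q := le_antisymm hrW (Nat.le_of_mul_le_mul_left
    ((hb.trans hWR').trans_eq eW.symm) Nat.card_pos)
  refine ⟨R, hR, sup_le inf_le_right h.le, le_antisymm hWR' ?_, ?_⟩
  · rw [← eW, hrq]; exact hb
  · have hCW : C ≤ (C ⊓ Q₀) ⊔ W := by
      refine (Subgroup.eq_of_le_of_card_ge (sup_le inf_le_left hWC) ?_).ge
      have h1 := card_mul_card_le_card_inf_mul_sup (C ⊓ Q₀) W
      rw [show (C ⊓ Q₀) ⊓ W = W ⊓ Q₀ by rw [inf_comm C, inf_assoc, inf_eq_right.mpr hWC, inf_comm],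
        ← eW, hrq] at h1
      refine Nat.le_of_mul_le_mul_left ?_ (Nat.card_pos (α := ↥(W ⊓ Q₀)))
      calc Nat.card ↥(W ⊓ Q₀) * Nat.card C = Nat.card ↥(C ⊓ Q₀) * (Nat.card ↥(W ⊓ Q₀) * q) := by
            rw [← card_mul_relIndex_eq (H := Q₀) (K := C), hy, inf_comm Q₀ C]; ring
        _ ≤ _ := h1
    rw [frat_eq hP, frat_eq hP, mcl_commutator_eq hQ hR]
    refine sup_le le_sup_left ?_
    rw [Subgroup.closure_le]
    rintro _ ⟨x, hx, rfl⟩
    have hx' : x ∈ (Q ⊓ Q₀) ⊔ W := by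
      have : Q ≤ (Q ⊓ Q₀) ⊔ W := by
        conv_lhs => rw [← hsup]
        exact sup_le le_sup_left (hCW.trans (sup_le_sup_right (inf_le_inf_right _ hQc) _))
      exact this hx
    have hn : Q ⊓ Q₀ ≤ Subgroup.centralizer (W : Set P) :=
      inf_le_left.trans (Subgroup.le_centralizer_iff.mp hWC)
    rw [← SetLike.mem_coe, Subgroup.coe_mul_of_left_le_normalizer_right _ _
      (hn.trans (Subgroup.centralizer_le_normalizer _))] at hx'
    obtain ⟨b, hb', o, ho, rfl⟩ := hx'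
    show (b * o) ^ p ∈ _
    rw [Commute.mul_pow (hn hb' o ho).symm p, (mem_omegaOneCenter_iff.mp ho).2, mul_one]
    exact Subgroup.mem_sup_right (Subgroup.subset_closure ⟨b, Subgroup.mem_sup_left hb', rfl⟩)

end CfsgLib.LocalEven.CLP
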