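import Cfsg.Prelude.Def_BaumannBlocks
import Cfsg.Agent.Lib.LocEven.Card
import Cfsg.Agent.Lib.LocEven.Measure
import Cfsg.Agent.Lib.LocEven.Replacement

/-!
Subgroups of largest Chermak–Delgado measure and centrally large subgroups.
-/

set_option autoImplicit false

open scoped Pointwise

namespace CfsgLib.LocalEven

open CfsgLib.LocEven

variable {P : Type*} [Group P] [Finite P]

/-- If `|H||K| = |H ∩ K||L|` then `L = HK`. -/
theorem exists_mul_of_card_le {H K L : Subgroup P} (hH : H ≤ L) (hK : K ≤ L)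
    (h : Nat.card ↥(H ⊓ K) * Nat.card L ≤ Nat.card H * Nat.card K) {x : P} (hx : x ∈ L) :
    ∃ a ∈ H, ∃ b ∈ K, x = a * b := by
  have hc : ∀ A : Subgroup P, A ≤ L → Nat.card ↥(A.subgroupOf L) = Nat.card A := fun A hA =>
    Nat.card_congr (Subgroup.subgroupOfEquivOfLe hA).toEquiv
  have h' : Nat.card ↥(K.subgroupOf L) * Nat.card ↥(H.subgroupOf L) =
      Nat.card ↥(K.subgroupOf L ⊓ H.subgroupOf L) * Nat.card L := by
    rw [show K.subgroupOf L ⊓ H.subgroupOf L = (K ⊓ H).subgroupOf L from rfl, hc _ hK, hc _ hH,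
      hc _ (inf_le_left.trans hK), inf_comm, mul_comm]
    exact le_antisymm (card_mul_card_le_card_inf_mul hH hK) h
  obtain ⟨a, ha, b, hb, hab⟩ := exists_mul_of_card_eq h' ⟨x, hx⟩
  exact ⟨a, ha, b, hb, congrArg Subtype.val hab⟩

theorem coe_sup_eq_mul {H K : Subgroup P}
    (h : ∀ x ∈ H ⊔ K, ∃ a ∈ H, ∃ b ∈ K, x = a * b) :
    ((H ⊔ K : Subgroup P) : Set P) = (H : Set P) * (K : Set P) := by
  refine Set.Subset.antisymm (fun x hx => ?_) ?_
  · obtain ⟨a, ha, b, hb, rfl⟩ := h x hx
    exact Set.mul_mem_mul ha hb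
  · rintro _ ⟨a, ha, b, hb, rfl⟩
    exact Subgroup.mul_mem_sup ha hb

theorem mem_sup_mul_of_coe {H K : Subgroup P}
    (h : ((H ⊔ K : Subgroup P) : Set P) = (H : Set P) * (K : Set P)) {x : P} (hx : x ∈ H ⊔ K) :
    ∃ a ∈ H, ∃ b ∈ K, x = a * b := by
  have hx' : x ∈ (H : Set P) * (K : Set P) := h ▸ hx
  obtain ⟨a, ha, b, hb, rfl⟩ := hx'
  exact ⟨a, ha, b, hb, rfl⟩

theorem measure_le_max (H : Subgroup P) :
    Nat.card H * Nat.card ↥(Subgroup.centralizer (H : Set P)) ≤ Cfsg.maxCentralizerProduct P :=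
  le_csSup ((Set.finite_range fun R : Subgroup P =>
    Nat.card R * Nat.card ↥(Subgroup.centralizer (R : Set P))).bddAbove) ⟨H, rfl⟩

theorem exists_isCentralizerLarge : ∃ H : Subgroup P, Cfsg.IsCentralizerLarge H := by
  obtain ⟨H, hH⟩ := Nat.sSup_mem (s := {k : ℕ | ∃ R : Subgroup P,
      Nat.card R * Nat.card ↥(Subgroup.centralizer (R : Set P)) = k}) ⟨_, ⊥, rfl⟩
    ((Set.finite_range fun R : Subgroup P =>
      Nat.card R * Nat.card ↥(Subgroup.centralizer (R : Set P))).bddAbove)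
  exact ⟨H, hH⟩

theorem isCentralizerLarge_of_max_le {H : Subgroup P}
    (h : Cfsg.maxCentralizerProduct P ≤ Nat.card H * Nat.card ↥(Subgroup.centralizer (H : Set P))) :
    Cfsg.IsCentralizerLarge H :=
  le_antisymm (measure_le_max H) h

theorem maxCentralizerProduct_pos : 0 < Cfsg.maxCentralizerProduct P :=
  lt_of_lt_of_le (Nat.mul_pos Nat.card_pos Nat.card_pos) (measure_le_max (⊥ : Subgroup P))

/-- The lattice inequality with all its equalities. -/
theorem large_lattice {Q R : Subgroup P} (hQ : Cfsg.IsCentralizerLarge Q)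
    (hR : Cfsg.IsCentralizerLarge R) :
    Cfsg.IsCentralizerLarge (Q ⊔ R) ∧ Cfsg.IsCentralizerLarge (Q ⊓ R) ∧
    Nat.card Q * Nat.card R = Nat.card ↥(Q ⊓ R) * Nat.card ↥(Q ⊔ R) ∧
    Nat.card ↥(Subgroup.centralizer (Q : Set P)) * Nat.card ↥(Subgroup.centralizer (R : Set P)) =
      Nat.card ↥(Subgroup.centralizer ((Q ⊔ R : Subgroup P) : Set P)) *
        Nat.card ↥(Subgroup.centralizer ((Q ⊓ R : Subgroup P) : Set P)) := by
  have h1 := card_mul_card_le_card_inf_mul_sup Q R
  have h2 : Nat.card ↥(Subgroup.centralizer (Q : Set P)) * Nat.card ↥(Subgroup.centralizer (R : Set P)) ≤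
      Nat.card ↥(Subgroup.centralizer ((Q ⊔ R : Subgroup P) : Set P)) *
        Nat.card ↥(Subgroup.centralizer ((Q ⊓ R : Subgroup P) : Set P)) := by
    have := card_inf_centralizer_mul_le (⊤ : Subgroup P) Q R
    simpa using this
  set M := Cfsg.maxCentralizerProduct P
  have hM : 0 < M := maxCentralizerProduct_pos
  have hs := measure_le_max (Q ⊔ R)
  have hi := measure_le_max (Q ⊓ R)
  have hq : Nat.card Q * Nat.card ↥(Subgroup.centralizer (Q : Set P)) = M := hQ
  have hr : Nat.card R * Nat.card ↥(Subgroup.centralizer (R : Set P)) = M := hR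
  set q := Nat.card Q
  set r := Nat.card R
  set i := Nat.card ↥(Q ⊓ R)
  set s := Nat.card ↥(Q ⊔ R)
  set cq := Nat.card ↥(Subgroup.centralizer (Q : Set P))
  set cr := Nat.card ↥(Subgroup.centralizer (R : Set P))
  set cs := Nat.card ↥(Subgroup.centralizer ((Q ⊔ R : Subgroup P) : Set P))
  set ci := Nat.card ↥(Subgroup.centralizer ((Q ⊓ R : Subgroup P) : Set P))
  have htot : M * M = (q * r) * (cq * cr) := by rw [← Nat.mul_mul_mul_comm, hq, hr]
  have hub : (i * s) * (cs * ci) ≤ M * M := by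
    calc (i * s) * (cs * ci) = (i * ci) * (s * cs) := by ring
      _ ≤ M * M := Nat.mul_le_mul hi hs
  have hpos1 : 0 < q * r := Nat.mul_pos Nat.card_pos Nat.card_pos
  have hpos2 : 0 < cq * cr := Nat.mul_pos Nat.card_pos Nat.card_pos
  have e1 : q * r = i * s := by
    refine le_antisymm h1 (Nat.le_of_mul_le_mul_right ?_ hpos2)
    rw [← htot]
    exact (Nat.mul_le_mul_left _ h2).trans hub
  have e2 : cq * cr = cs * ci := by
    refine le_antisymm h2 (Nat.le_of_mul_le_mul_left ?_ hpos1)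
    rw [← htot, e1]
    exact hub
  have e3 : (i * ci) * (s * cs) = M * M := by rw [htot, e1, e2]; ring
  refine ⟨isCentralizerLarge_of_max_le (Nat.le_of_mul_le_mul_left (?_ : M * M ≤ M * (s * cs)) hM),
    isCentralizerLarge_of_max_le (Nat.le_of_mul_le_mul_right (?_ : M * M ≤ (i * ci) * M) hM), e1, e2⟩
  · rw [← e3]; exact Nat.mul_le_mul_right _ hi
  · rw [← e3]; exact Nat.mul_le_mul_left _ hs

theorem large_sup_coe {Q R : Subgroup P} (hQ : Cfsg.IsCentralizerLarge Q)
    (hR : Cfsg.IsCentralizerLarge R) :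
    ((Q ⊔ R : Subgroup P) : Set P) = (Q : Set P) * (R : Set P) :=
  coe_sup_eq_mul fun _ hx =>
    exists_mul_of_card_le le_sup_left le_sup_right (large_lattice hQ hR).2.2.1.ge hx

theorem large_inf_centralizer_mem {Q R : Subgroup P} (hQ : Cfsg.IsCentralizerLarge Q)
    (hR : Cfsg.IsCentralizerLarge R) {x : P}
    (hx : x ∈ Subgroup.centralizer ((Q ⊓ R : Subgroup P) : Set P)) :
    ∃ a ∈ Subgroup.centralizer (Q : Set P), ∃ b ∈ Subgroup.centralizer (R : Set P), x = a * b := by
  refine exists_mul_of_card_le (H := Subgroup.centralizer (Q : Set P))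
    (K := Subgroup.centralizer (R : Set P)) (Subgroup.centralizer_le fun y (hy : y ∈ Q ⊓ R) => hy.1)
    (Subgroup.centralizer_le fun y (hy : y ∈ Q ⊓ R) => hy.2) ?_ hx
  rw [← centralizer_sup]
  exact (large_lattice hQ hR).2.2.2.ge

theorem large_inf_centralizer {Q R : Subgroup P} (hQ : Cfsg.IsCentralizerLarge Q)
    (hR : Cfsg.IsCentralizerLarge R) :
    Subgroup.centralizer ((Q ⊓ R : Subgroup P) : Set P) =
      Subgroup.centralizer (Q : Set P) ⊔ Subgroup.centralizer (R : Set P) := by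
  refine le_antisymm (fun x hx => ?_) (sup_le (Subgroup.centralizer_le fun y (hy : y ∈ Q ⊓ R) => hy.1)
    (Subgroup.centralizer_le fun y (hy : y ∈ Q ⊓ R) => hy.2))
  obtain ⟨a, ha, b, hb, rfl⟩ := large_inf_centralizer_mem hQ hR hx
  exact Subgroup.mul_mem_sup ha hb

theorem le_double_centralizer (Q : Subgroup P) :
    Q ≤ Subgroup.centralizer ((Subgroup.centralizer (Q : Set P) : Subgroup P) : Set P) :=
  Subgroup.le_centralizer_iff.mp le_rfl

theorem large_centralizer {Q : Subgroup P} (hQ : Cfsg.IsCentralizerLarge Q) :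
    Cfsg.IsCentralizerLarge (Subgroup.centralizer (Q : Set P)) := by
  refine isCentralizerLarge_of_max_le ?_
  rw [← show _ = Cfsg.maxCentralizerProduct P from hQ, mul_comm (Nat.card Q)]
  exact Nat.mul_le_mul_left _ (Nat.le_of_dvd Nat.card_pos (Subgroup.card_dvd_of_le (le_double_centralizer Q)))

theorem large_double_centralizer {Q : Subgroup P} (hQ : Cfsg.IsCentralizerLarge Q) :
    Subgroup.centralizer ((Subgroup.centralizer (Q : Set P) : Subgroup P) : Set P) = Q := by
  refine (Subgroup.eq_of_le_of_card_ge (le_double_centralizer Q) ?_).symm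
  have h : Nat.card ↥(Subgroup.centralizer (Q : Set P)) *
      Nat.card ↥(Subgroup.centralizer ((Subgroup.centralizer (Q : Set P) : Subgroup P) : Set P)) =
      Cfsg.maxCentralizerProduct P := large_centralizer hQ
  rw [← show _ = Cfsg.maxCentralizerProduct P from hQ, mul_comm (Nat.card Q)] at h
  exact (Nat.eq_of_mul_eq_mul_left Nat.card_pos h).le

theorem large_iInf {ι : Type*} [Finite ι] [Nonempty ι] {Q : ι → Subgroup P}
    (h : ∀ i, Cfsg.IsCentralizerLarge (Q i)) : Cfsg.IsCentralizerLarge (⨅ i, Q i) := by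
  classical
  let _ : Fintype ι := Fintype.ofFinite ι
  suffices key : ∀ s : Finset ι, ∀ j, Cfsg.IsCentralizerLarge (Q j ⊓ ⨅ i ∈ s, Q i) by
    obtain ⟨j⟩ := (inferInstance : Nonempty ι)
    have hk := key Finset.univ j
    simp only [Finset.mem_univ, iInf_pos] at hk
    rwa [inf_eq_right.mpr (iInf_le Q j)] at hk
  intro s
  induction s using Finset.induction with
  | empty => intro j; simpa using h j
  | @insert a s _ ih =>
    intro j
    rw [Finset.iInf_insert]
    exact (large_lattice (h j) (ih a)).2.1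

theorem large_iSup {ι : Type*} [Finite ι] [Nonempty ι] {Q : ι → Subgroup P}
    (h : ∀ i, Cfsg.IsCentralizerLarge (Q i)) : Cfsg.IsCentralizerLarge (⨆ i, Q i) := by
  classical
  let _ : Fintype ι := Fintype.ofFinite ι
  suffices key : ∀ s : Finset ι, ∀ j, Cfsg.IsCentralizerLarge (Q j ⊔ ⨆ i ∈ s, Q i) by
    obtain ⟨j⟩ := (inferInstance : Nonempty ι)
    have hk := key Finset.univ j
    simp only [Finset.mem_univ, iSup_pos] at hk
    rwa [sup_eq_right.mpr (le_iSup Q j)] at hk
  intro s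
  induction s using Finset.induction with
  | empty => intro j; simpa using h j
  | @insert a s _ ih =>
    intro j
    rw [Finset.iSup_insert]
    exact (large_lattice (h j) (ih a)).1

omit [Finite P] in
theorem centralizer_iSup_eq {ι : Sort*} (Q : ι → Subgroup P) :
    Subgroup.centralizer ((⨆ i, Q i : Subgroup P) : Set P) =
      ⨅ i, Subgroup.centralizer (Q i : Set P) := by
  refine le_antisymm (le_iInf fun i => Subgroup.centralizer_le (le_iSup Q i)) ?_
  rw [← Subgroup.le_centralizer_iff]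
  refine iSup_le fun i => ?_
  rw [Subgroup.le_centralizer_iff]
  exact iInf_le _ i

omit [Finite P] in
theorem map_center_eq_inf (R : Subgroup P) :
    (Subgroup.center R).map R.subtype = R ⊓ Subgroup.centralizer (R : Set P) := by
  refine le_antisymm ?_ fun y hy => ?_
  · rintro _ ⟨y, hy, rfl⟩
    exact Subgroup.mem_inf.mpr ⟨y.2, Subgroup.mem_centralizer_iff.mpr fun w hw =>
      congrArg Subtype.val (Subgroup.mem_center_iff.mp hy ⟨w, hw⟩)⟩
  · exact ⟨⟨y, hy.1⟩, Subgroup.mem_center_iff.mpr fun w =>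
      Subtype.ext (Subgroup.mem_centralizer_iff.mp hy.2 w w.2), rfl⟩

omit [Finite P] in
theorem card_center_eq_inf (R : Subgroup P) :
    Nat.card ↥(Subgroup.center R) = Nat.card ↥(R ⊓ Subgroup.centralizer (R : Set P)) := by
  rw [← map_center_eq_inf, Subgroup.card_map_of_injective R.subtype_injective]

theorem exists_large_centralizer_le :
    ∃ K : Subgroup P, Cfsg.IsCentralizerLarge K ∧ Subgroup.centralizer (K : Set P) ≤ K := by
  obtain ⟨Q, hQ⟩ := exists_isCentralizerLarge (P := P)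
  refine ⟨_, (large_lattice hQ (large_centralizer hQ)).1, ?_⟩
  rw [centralizer_sup, large_double_centralizer hQ]
  exact inf_le_right.trans le_sup_left

theorem maxCentralProduct_eq : Cfsg.maxCentralProduct P = Cfsg.maxCentralizerProduct P := by
  refine le_antisymm (csSup_le ⟨_, ⊥, rfl⟩ ?_) ?_
  · rintro k ⟨R, rfl⟩
    rw [card_center_eq_inf]
    exact (Nat.mul_le_mul_left _
      (Nat.le_of_dvd Nat.card_pos (Subgroup.card_dvd_of_le inf_le_right))).trans (measure_le_max R)
  · obtain ⟨K, hK, hle⟩ := exists_large_centralizer_le (P := P)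
    refine le_csSup ((Set.finite_range fun R : Subgroup P =>
      Nat.card R * Nat.card ↥(Subgroup.center R)).bddAbove) ⟨K, ?_⟩
    rw [card_center_eq_inf, inf_eq_right.mpr hle]
    exact hK

theorem centrallyLarge_iff {Q : Subgroup P} :
    Cfsg.IsCentrallyLarge Q ↔
      Cfsg.IsCentralizerLarge Q ∧ Subgroup.centralizer (Q : Set P) ≤ Q := by
  constructor
  · intro h
    have h' : Nat.card Q * Nat.card ↥(Q ⊓ Subgroup.centralizer (Q : Set P)) =
        Cfsg.maxCentralizerProduct P := by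
      rw [← card_center_eq_inf, ← maxCentralProduct_eq]; exact h
    have hl : Cfsg.IsCentralizerLarge Q := isCentralizerLarge_of_max_le (h' ▸ Nat.mul_le_mul_left _
      (Nat.le_of_dvd Nat.card_pos (Subgroup.card_dvd_of_le inf_le_right)))
    refine ⟨hl, inf_eq_right.mp (Subgroup.eq_of_le_of_card_ge inf_le_right ?_)⟩
    exact (Nat.eq_of_mul_eq_mul_left Nat.card_pos (h'.trans hl.symm)).ge
  · rintro ⟨hl, hle⟩
    show _ = Cfsg.maxCentralProduct P
    rw [card_center_eq_inf, inf_eq_right.mpr hle, maxCentralProduct_eq]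
    exact hl

theorem cl_sup {Q R : Subgroup P} (hQ : Cfsg.IsCentrallyLarge Q) (hR : Cfsg.IsCentrallyLarge R) :
    Cfsg.IsCentrallyLarge (Q ⊔ R) := by
  rw [centrallyLarge_iff] at hQ hR ⊢
  refine ⟨(large_lattice hQ.1 hR.1).1, ?_⟩
  rw [centralizer_sup]
  exact inf_le_left.trans (hQ.2.trans le_sup_left)

theorem exists_minimal_cl_le {Y : Subgroup P} (hY : Cfsg.IsCentrallyLarge Y) :
    ∃ Q ≤ Y, Cfsg.IsMinimalCentrallyLarge Q := by
  obtain ⟨Q, hQY, hQ⟩ := (Set.toFinite {Q : Subgroup P | Cfsg.IsCentrallyLarge Q}).exists_le_minimal hY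
  exact ⟨Q, hQY, hQ.prop, fun R hR hR' => le_antisymm hR (hQ.2 hR' hR)⟩

theorem exists_minimal_cl : ∃ Q : Subgroup P, Cfsg.IsMinimalCentrallyLarge Q := by
  obtain ⟨K, hK⟩ := exists_large_centralizer_le (P := P)
  obtain ⟨Q, -, hQ⟩ := exists_minimal_cl_le (centrallyLarge_iff.mpr hK)
  exact ⟨Q, hQ⟩

theorem cl_sSup {s : Set (Subgroup P)} (hne : s.Nonempty)
    (h : ∀ Q ∈ s, Cfsg.IsCentrallyLarge Q) : Cfsg.IsCentrallyLarge (sSup s) := by
  obtain ⟨Q₀, hQ₀⟩ := hne
  have key : Cfsg.IsCentrallyLarge (Q₀ ⊔ sSup s) := by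
    suffices hk : ∀ t : Set (Subgroup P), t.Finite → t ⊆ s →
        Cfsg.IsCentrallyLarge (Q₀ ⊔ sSup t) from hk s (Set.toFinite s) le_rfl
    intro t ht
    induction t, ht using Set.Finite.induction_on with
    | empty => intro _; simpa using h Q₀ hQ₀
    | @insert a t _ _ ih =>
      intro hts
      rw [sSup_insert, sup_left_comm]
      exact cl_sup (h a (hts (Set.mem_insert a t))) (ih ((Set.subset_insert a t).trans hts))
  rwa [sup_eq_right.mpr (le_sSup hQ₀)] at key

theorem large_map_conj {Q : Subgroup P} (hQ : Cfsg.IsCentralizerLarge Q) (g : P) :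
    Cfsg.IsCentralizerLarge (Q.map (MulAut.conj g).toMonoidHom) := by
  show _ = Cfsg.maxCentralizerProduct P
  rw [centralizer_map_conj, card_map_conj, card_map_conj]
  exact hQ

end CfsgLib.LocalEven
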