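import Cfsg.Agent.Lib.LocalEven.Kieler
import Cfsg.Agent.Lib.Even.StrongEmb
import Mathlib.GroupTheory.SpecificGroups.Cyclic
import Mathlib.GroupTheory.SpecificGroups.Quaternion
/-!
Strongly `p`-embedded subgroups: equivalent forms, inheritance, rank one.
-/

set_option autoImplicit false

namespace CfsgLib.LocalEven

open Subgroup Cfsg

variable {G : Type*} [Group G] [Finite G] {p : ℕ} [Fact p.Prime]

theorem exists_normalizer_gt {C P : Subgroup G} (hP : IsPGroup p P) (hlt : C < P) :
    ∃ y ∈ P, y ∉ C ∧ y ∈ normalizer (C : Set G) := by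
  haveI : Group.IsNilpotent P := hP.isNilpotent
  have hne : C.subgroupOf P < ⊤ := by
    rw [lt_top_iff_ne_top, ne_eq, subgroupOf_eq_top]
    exact hlt.not_ge
  obtain ⟨⟨y, hyP⟩, hy, hyC⟩ :=
    SetLike.exists_of_lt (normalizerCondition_of_isNilpotent _ hne)
  refine ⟨y, hyP, hyC, ?_⟩
  rw [mem_normalizer_iff_cj]
  refine Subgroup.eq_of_le_of_card_ge ?_ (card_cj y C).ge
  rintro _ ⟨c, hc, rfl⟩
  exact (mem_normalizer_iff.1 hy ⟨c, hlt.le hc⟩).1 hc

theorem dvd_card_of_ne_bot {A : Subgroup G} (hA : IsPGroup p A) (h : A ≠ ⊥) :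
    p ∣ Nat.card A := by
  obtain ⟨k, hk, hcard⟩ :=
    hA.nontrivial_iff_card.1 ((Subgroup.nontrivial_iff_ne_bot A).2 h)
  exact hcard ▸ dvd_pow_self p (by omega)

theorem se_sylow_le {M : Subgroup G} (hM : IsStronglyPEmbedded p M) :
    ∃ P : Sylow p G, (P : Subgroup G) ≠ ⊥ ∧ (P : Subgroup G) ≤ M := by
  obtain ⟨hdvd, -, P, hP⟩ := hM
  have hPne : (P : Subgroup G) ≠ ⊥ := P.ne_bot_of_dvd_card hdvd
  exact ⟨P, hPne, le_normalizer.trans (Even.normalizer_le_of_le_core P.2 hP le_rfl hPne)⟩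

theorem ne_bot_of_not_pRankLE {Q : Subgroup G} (h : ¬ PRankLE p (1 - 1) Q) : Q ≠ ⊥ := by
  rintro rfl
  refine h fun A _ _ => ?_
  rw [Subsingleton.elim A ⊥, card_bot, Nat.sub_self, pow_zero]

theorem core_le {P M : Subgroup G}
    (h : ∀ Q ≤ P, Q ≠ ⊥ → normalizer (Q : Set G) ≤ M) : kGeneratedCore p 1 P ≤ M :=
  iSup_le fun Q => h Q.1 Q.2.1 (ne_bot_of_not_pRankLE Q.2.2)

/-- the normalizer form of strong embedding -/
theorem se_mk {M : Subgroup G} (hM : M ≠ ⊤) (hpM : p ∣ Nat.card M)
    (h : ∀ A : Subgroup G, A ≤ M → IsPGroup p A → A ≠ ⊥ → normalizer (A : Set G) ≤ M) :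
    IsStronglyPEmbedded p M := by
  obtain ⟨S, hS⟩ := exists_isSylOf (p := p) M
  have hSne : S ≠ ⊥ := by
    intro hb
    have := hS.2
    rw [hb, card_bot, eq_comm] at this
    exact absurd ((Nat.pow_eq_one.1 this).resolve_left (Fact.out : p.Prime).ne_one)
      ((Nat.Prime.factorization_pos_of_dvd Fact.out Nat.card_pos.ne' hpM).ne')
  obtain ⟨P, hSP⟩ := hS.isPGroup.exists_le_sylow
  have hPS : (P : Subgroup G) = S := by
    by_contra hne
    obtain ⟨y, hyP, hyS, hy⟩ := exists_normalizer_gt P.isPGroup' (lt_of_le_of_ne hSP (Ne.symm hne))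
    have hyM : y ∈ M := h S hS.1 hS.isPGroup hSne hy
    have := hS.of_isPGroup_ge (P.isPGroup'.to_le (inf_le_left : (P : Subgroup G) ⊓ M ≤ P))
      (le_inf hSP hS.1) inf_le_right
    exact hyS (this ▸ ⟨hyP, hyM⟩)
  exact ⟨hpM.trans (card_subgroup_dvd_card M), hM, P, core_le fun Q hQ hne =>
    h Q ((hPS ▸ hQ : Q ≤ S).trans hS.1) (P.isPGroup'.to_le hQ) hne⟩

theorem se_dvd {M : Subgroup G} (hM : IsStronglyPEmbedded p M) : p ∣ Nat.card M := by
  obtain ⟨P, hne, hle⟩ := se_sylow_le hM
  exact (dvd_card_of_ne_bot P.isPGroup' hne).trans (card_dvd_of_le hle)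

theorem se_trivial_intersection {M : Subgroup G} (hM : IsStronglyPEmbedded p M) {g : G}
    (hg : g ∉ M) : ¬ p ∣ Nat.card ↥(M ⊓ cj g M) := by
  intro hd
  have hN : ∀ {A : Subgroup G}, IsPGroup p A → A ≤ M → A ≠ ⊥ → normalizer (A : Set G) ≤ M :=
    fun hA h1 h2 => Even.normalizer_le_of_stronglyPEmbedded hM hA h1 h2
  have hN' : ∀ {A : Subgroup G}, IsPGroup p A → A ≤ cj g M → A ≠ ⊥ →
      normalizer (A : Set G) ≤ cj g M := by
    intro A hA h1 h2 x hx
    have h1' : cj g⁻¹ A ≤ M := by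
      have := cj_le_cj (g := g⁻¹) h1
      rwa [cj_cj, inv_mul_cancel, cj_one] at this
    rw [mem_cj]
    refine hN (hA.map _) h1' (fun hb => h2 ?_) ?_
    · exact (map_eq_bot_iff_of_injective _ (MulAut.conj g⁻¹).injective).1 hb
    · rw [mem_normalizer_iff_cj, cj_cj, mul_assoc, mul_inv_cancel, mul_one, ← cj_cj,
        mem_normalizer_iff_cj.1 hx]
  obtain ⟨⟨x, hxM, hxg⟩, hx⟩ := exists_prime_orderOf_dvd_card' p hd
  replace hx : orderOf x = p := by rwa [← orderOf_coe] at hx
  have hxp : IsPGroup p (zpowers x) := IsPGroup.of_card (n := 1) (by rw [Nat.card_zpowers, hx, pow_one])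
  have hxne : zpowers x ≠ ⊥ := by
    rw [Ne, zpowers_eq_bot]
    rintro rfl
    rw [orderOf_one] at hx
    exact (Fact.out : p.Prime).ne_one hx.symm
  obtain ⟨P, hP, hxP⟩ := exists_isSylOf_ge (p := p) hxp (zpowers_le.2 hxM)
  haveI : Nontrivial P := (Subgroup.nontrivial_iff_ne_bot P).2 fun hb => hxne (le_bot_iff.1 (hb ▸ hxP))
  haveI := hP.isPGroup.center_nontrivial
  obtain ⟨⟨z, hz⟩, hz1⟩ := exists_ne (1 : center P)
  have hzne : zpowers (z : G) ≠ ⊥ := by
    rw [Ne, zpowers_eq_bot]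
    exact fun h => hz1 (Subtype.ext (Subtype.ext h))
  have hzc : ∀ y ∈ P, y ∈ centralizer (zpowers (z : G) : Set G) := fun y hy => by
    refine fun w hw => ?_
    obtain ⟨k, rfl⟩ := mem_zpowers_iff.1 hw
    exact ((Commute.zpow_left (show Commute (z : G) y from
      (congrArg Subtype.val (mem_center_iff.1 hz ⟨y, hy⟩)).symm) k)).eq
  have hzM : (z : G) ∈ M := hP.1 z.2
  have hzg : (z : G) ∈ cj g M := by
    refine hN' hxp (zpowers_le.2 hxg) hxne ?_
    refine centralizer_le_normalizer _ fun w hw => ?_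
    exact (hzc w (hxP hw) _ (mem_zpowers _)).symm
  have hPg : P ≤ cj g M := fun y hy =>
    hN' ((hP.isPGroup.to_le (zpowers_le.2 z.2))) (zpowers_le.2 hzg) hzne
      (centralizer_le_normalizer _ (hzc y hy))
  have hP' : IsSylOf p (cj g⁻¹ P) M := by
    refine ⟨?_, by rw [card_cj, hP.2]⟩
    have := cj_le_cj (g := g⁻¹) hPg
    rwa [cj_cj, inv_mul_cancel, cj_one] at this
  obtain ⟨m, hm, hmP⟩ := hP'.exists_conj hP
  rw [cj_cj] at hmP
  have h2 : m * g⁻¹ ∈ M := hN hP.isPGroup hP.1 ((Subgroup.nontrivial_iff_ne_bot P).1 inferInstance)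
    (mem_normalizer_iff_cj.2 hmP)
  exact hg (inv_mem_iff.1 ((mul_mem_cancel_left hm).1 h2))

theorem normalizer_le_of_trivial_intersection {M : Subgroup G}
    (h : ∀ g : G, g ∉ M → ¬ p ∣ Nat.card ↥(M ⊓ cj g M)) {A : Subgroup G}
    (hA : A ≤ M) (hAp : IsPGroup p A) (hne : A ≠ ⊥) : normalizer (A : Set G) ≤ M := by
  intro g hg
  by_contra hgM
  refine h g hgM ((dvd_card_of_ne_bot hAp hne).trans (card_dvd_of_le (le_inf hA ?_)))
  rw [← mem_normalizer_iff_cj.1 hg]
  exact cj_le_cj hA

/-- a group with a unique subgroup of order `p` -/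
theorem exists_unique_order_p {T : Type*} [Group T] [Finite T] (hT : IsPGroup p T) (hne : Nontrivial T)
    (h : IsCyclic T ∨ ∃ n : ℕ, Nonempty (T ≃* QuaternionGroup n)) :
    ∃ z : T, z ≠ 1 ∧ z ^ p = 1 ∧ ∀ x : T, x ^ p = 1 → x ∈ zpowers z := by
  classical
  haveI : Fintype T := Fintype.ofFinite T
  obtain ⟨k, hk, hcard⟩ := hT.nontrivial_iff_card.1 hne
  obtain ⟨z, hz⟩ := exists_prime_orderOf_dvd_card' (G := T) p (hcard ▸ dvd_pow_self p (by omega))
  have hz1 : z ^ p = 1 := hz ▸ pow_orderOf_eq_one z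
  have hzne : z ≠ 1 := by
    rintro rfl
    rw [orderOf_one] at hz
    exact (Fact.out : p.Prime).ne_one hz.symm
  refine ⟨z, hzne, hz1, ?_⟩
  rcases h with hc | ⟨n, ⟨e⟩⟩
  · intro x hx
    have h1 : (Finset.univ.filter fun y : T => y ^ p = 1).card ≤ p :=
      IsCyclic.card_pow_eq_one_le (Fact.out : p.Prime).pos
    have h2 : (Finset.univ.filter fun y : T => y ∈ zpowers z) ⊆
        Finset.univ.filter fun y : T => y ^ p = 1 := by
      intro y hy
      simp only [Finset.mem_filter, Finset.mem_univ, true_and] at hy ⊢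
      obtain ⟨j, rfl⟩ := mem_zpowers_iff.1 hy
      rw [← zpow_natCast, ← zpow_mul, mul_comm, zpow_mul, zpow_natCast, hz1, one_zpow]
    have h3 : (Finset.univ.filter fun y : T => y ∈ zpowers z).card = p := by
      rw [← Fintype.card_subtype, ← Nat.card_eq_fintype_card]
      exact (Nat.card_zpowers z).trans hz
    have := (Finset.eq_of_subset_of_card_le h2 (by rw [h3]; exact h1)).ge
      (show x ∈ Finset.univ.filter fun y : T => y ^ p = 1 by simp [hx])
    simpa using this
  · rcases n with _ | n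
    · exfalso
      haveI : Finite (QuaternionGroup 0) := Finite.of_equiv T e.toEquiv
      haveI : Finite (ZMod (2 * 0)) :=
        Finite.of_injective (fun i => QuaternionGroup.a i) (fun i j h => by simpa using h)
      haveI : Finite ℤ := this
      exact not_finite ℤ
    · intro x hx
      have hp2 : p = 2 := by
        obtain ⟨j, hj⟩ := IsPGroup.iff_orderOf.1 hT (e.symm (QuaternionGroup.xa 0))
        rw [MulEquiv.orderOf_eq, QuaternionGroup.orderOf_xa] at hj
        have h2 : 2 ∣ p ^ j := ⟨2, hj.symm⟩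
        exact ((Nat.prime_dvd_prime_iff_eq Nat.prime_two Fact.out).1
          (Nat.prime_two.dvd_of_dvd_pow h2)).symm
      subst hp2
      have key : ∀ q : QuaternionGroup (n + 1), q ^ 2 = 1 → q ≠ 1 →
          q = QuaternionGroup.a ((n + 1 : ℕ) : ZMod (2 * (n + 1))) := by
        intro q hq hq1
        rcases q with i | i
        · congr 1
          rw [pow_two, QuaternionGroup.a_mul_a, QuaternionGroup.one_def] at hq
          have hii : i + i = 0 := QuaternionGroup.a.inj hq
          have hi : ((i.val + i.val : ℕ) : ZMod (2 * (n + 1))) = 0 := by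
            rw [Nat.cast_add, ZMod.natCast_zmod_val, hii]
          rw [ZMod.natCast_eq_zero_iff] at hi
          obtain ⟨c, hc⟩ := hi
          have hlt := ZMod.val_lt i
          have hc1 : c < 2 := by
            by_contra hc2
            have : 2 * (n + 1) * 2 ≤ 2 * (n + 1) * c := Nat.mul_le_mul_left _ (by omega)
            omega
          interval_cases c
          · exfalso
            apply hq1
            rw [QuaternionGroup.one_def]
            congr 1
            exact (ZMod.val_eq_zero i).1 (by omega)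
          · rw [← ZMod.natCast_zmod_val i, show i.val = n + 1 by omega]
        · exfalso
          have := orderOf_dvd_of_pow_eq_one hq
          rw [QuaternionGroup.orderOf_xa] at this
          exact absurd (Nat.le_of_dvd two_pos this) (by omega)
      by_cases hx1 : x = 1
      · rw [hx1]; exact one_mem _
      · have : x = z := e.injective ((key _ (by rw [← map_pow, hx, map_one]) (by simpa using hx1)).trans
          (key _ (by rw [← map_pow, hz1, map_one]) (by simpa using hzne)).symm)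
        rw [this]
        exact mem_zpowers z

end CfsgLib.LocalEven
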