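import Cfsg.Agent.Lib.LocalEven.Cores
import Mathlib.GroupTheory.SpecificGroups.Cyclic
import Mathlib.GroupTheory.Sylow
import Mathlib.RingTheory.Coprime.Lemmas
import Mathlib.RingTheory.Int.Basic

/-!
An element fixing a nontrivial element of a cyclic Sylow subgroup that it normalizes centralizes it.
-/

set_option autoImplicit false

namespace CfsgLib.LocalEven

variable {G : Type*} [Group G] [Finite G]

theorem coprime_fix_cyclic {p : ℕ} [hp : Fact p.Prime] {a n : G} (ha : IsPGroup p (Subgroup.zpowers a))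
    (hn : (orderOf n).Coprime p) (hna : n * a * n⁻¹ ∈ Subgroup.zpowers a) {x : G} (hx1 : x ≠ 1)
    (hxa : x ∈ Subgroup.zpowers a) (hxn : n * x * n⁻¹ = x) : n * a * n⁻¹ = a := by
  obtain ⟨r, hr⟩ := Subgroup.mem_zpowers_iff.mp hna
  obtain ⟨m, hm⟩ := Subgroup.mem_zpowers_iff.mp hxa
  -- `p` divides `r - 1`
  have hpow : ∀ j : ℤ, n * a ^ j * n⁻¹ = a ^ (r * j) := by
    intro j; rw [← conj_zpow, ← hr, ← zpow_mul]
  have hrp : (p : ℤ) ∣ r - 1 := by
    have h1 : a ^ ((r - 1) * m) = 1 := by
      have h := hpow m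
      rw [hm, hxn] at h
      rw [sub_mul, one_mul, zpow_sub, ← h, hm, mul_inv_cancel]
    obtain ⟨e, he⟩ := IsPGroup.iff_orderOf.mp ha ⟨a, Subgroup.mem_zpowers a⟩
    rw [Subgroup.orderOf_mk] at he
    by_contra hnd
    have hd := orderOf_dvd_iff_zpow_eq_one.mpr h1
    have hcop : IsCoprime ((orderOf a : ℕ) : ℤ) (r - 1) := by
      rw [he, Nat.cast_pow]
      exact IsCoprime.pow_left ((Nat.prime_iff_prime_int.mp hp.out).coprime_iff_not_dvd.mpr hnd)
    have hdm := hcop.dvd_of_dvd_mul_left hd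
    exact hx1 (by rw [← hm]; exact orderOf_dvd_iff_zpow_eq_one.mp hdm)
  obtain ⟨s, hs⟩ := hrp
  obtain ⟨e, he⟩ := ha ⟨a, Subgroup.mem_zpowers a⟩
  have he' : a ^ (p ^ e) = 1 := by simpa using congrArg Subtype.val he
  -- descend along the powers `a ^ (p ^ i)`
  have key : ∀ j, ∀ i, i + j = e → n * a ^ (p ^ i) * n⁻¹ = a ^ (p ^ i) := by
    intro j
    induction j with
    | zero => intro i hi; rw [show i = e by omega, he', mul_one, mul_inv_cancel]
    | succ j ih =>
      intro i hi
      set d := a ^ ((r - 1) * (p : ℤ) ^ i) with hd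
      have hdfix : n * d * n⁻¹ = d := by
        have h0 := ih (i + 1) (by omega)
        have hd' : d = (a ^ (p ^ (i + 1))) ^ s := by
          rw [hd, ← zpow_natCast a (p ^ (i + 1)), ← zpow_mul, hs]
          congr 1
          push_cast
          ring
        rw [hd', ← conj_zpow, h0]
      have hdu : n * a ^ (p ^ i) * n⁻¹ = d * a ^ (p ^ i) := by
        have h := hpow ((p ^ i : ℕ) : ℤ)
        rw [zpow_natCast] at h
        rw [h, hd, ← zpow_natCast a (p ^ i), ← zpow_add]
        congr 1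
        push_cast
        ring
      have hd1 : d = 1 := eq_one_of_conj_eq_mul ha hn (Subgroup.zpow_mem_zpowers a _) hdfix hdu
      rwa [hd1, one_mul] at hdu
  simpa using key e 0 (zero_add e)

/-- A cyclic Sylow subgroup is central in its normalizer once a nontrivial element of it is. -/
theorem cyclic_normalizer_le_centralizer {p : ℕ} [hp : Fact p.Prime] (P : Sylow p G)
    (hcyc : IsCyclic (P : Subgroup G)) {x : G} (hxP : x ∈ (P : Subgroup G)) (hx1 : x ≠ 1)
    (hfix : ∀ n ∈ Subgroup.normalizer ((P : Subgroup G) : Set G), n * x * n⁻¹ = x) :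
    Subgroup.normalizer ((P : Subgroup G) : Set G) ≤
      Subgroup.centralizer ((P : Subgroup G) : Set G) := by
  obtain ⟨⟨a, haP⟩, hgen⟩ := hcyc.exists_generator
  have hP : (P : Subgroup G) = Subgroup.zpowers a := by
    refine le_antisymm (fun y hy => ?_) (Subgroup.zpowers_le.mpr haP)
    obtain ⟨j, hj⟩ := Subgroup.mem_zpowers_iff.mp (hgen ⟨y, hy⟩)
    exact Subgroup.mem_zpowers_iff.mpr ⟨j, by simpa using congrArg Subtype.val hj⟩
  intro n hn
  have hC : n ∈ Subgroup.centralizer ({a} : Set G) := by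
    obtain ⟨e, k, hk, hek⟩ := Nat.exists_eq_pow_mul_and_not_dvd (orderOf_pos n).ne' p hp.out.ne_one
    have h1 : n ^ k ∈ Subgroup.centralizer ({a} : Set G) := by
      have hord : ∃ j, orderOf (n ^ k) = p ^ j := by
        have hk0 : k ≠ 0 := fun h => hk (h ▸ dvd_zero p)
        refine ⟨e, ?_⟩
        rw [orderOf_pow_of_dvd hk0 (hek ▸ dvd_mul_left k _), hek,
          Nat.mul_div_cancel _ (Nat.pos_of_ne_zero hk0)]
      obtain ⟨j, hj⟩ := hord
      have hpg : IsPGroup p (Subgroup.zpowers (n ^ k)) :=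
        IsPGroup.of_card (n := j) (by rw [Nat.card_zpowers, hj])
      have hsup := P.isPGroup'.to_sup_of_normal_left' hpg
        (Subgroup.zpowers_le.mpr (pow_mem hn k))
      have hin : n ^ k ∈ (P : Subgroup G) := by
        have := (P.is_maximal' hsup le_sup_left).le
        exact this ((le_sup_right : Subgroup.zpowers (n ^ k) ≤ _) (Subgroup.mem_zpowers _))
      rw [hP] at hin
      obtain ⟨i, hi⟩ := Subgroup.mem_zpowers_iff.mp hin
      rw [Subgroup.mem_centralizer_singleton_iff, ← hi]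
      exact (Commute.zpow_self a i).eq
    have h2 : n ^ (p ^ e) ∈ Subgroup.centralizer ({a} : Set G) := by
      rw [Subgroup.mem_centralizer_singleton_iff]
      refine mul_inv_eq_iff_eq_mul.mp ?_
      refine coprime_fix_cyclic (p := p) (hP ▸ P.isPGroup') ?_ ?_ hx1 (hP ▸ hxP)
        (hfix _ (pow_mem hn _))
      · have hd : p ^ e ∣ orderOf n := ⟨k, hek⟩
        rw [orderOf_pow_of_dvd (pow_ne_zero _ hp.out.pos.ne') hd, hek,
          Nat.mul_div_cancel_left k (pow_pos hp.out.pos e)]
        exact ((hp.out.coprime_iff_not_dvd).mpr hk).symm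
      · rw [← hP]
        exact (Subgroup.mem_normalizer_iff.mp (pow_mem hn _) a).mp haP
    have hco : Nat.Coprime (p ^ e) k := ((hp.out.coprime_iff_not_dvd).mpr hk).pow_left e
    have hb := Nat.gcd_eq_gcd_ab (p ^ e) k
    rw [hco.gcd_eq_one, Nat.cast_one] at hb
    have := mul_mem (zpow_mem h2 (Nat.gcdA (p ^ e) k)) (zpow_mem h1 (Nat.gcdB (p ^ e) k))
    rwa [← zpow_natCast, ← zpow_natCast n k, ← zpow_mul, ← zpow_mul, ← zpow_add, ← hb, zpow_one]
      at this
  rw [hP, Subgroup.zpowers_eq_closure, Subgroup.centralizer_closure]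
  exact hC

end CfsgLib.LocalEven
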