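import Cfsg.Agent.Lib.LocalEven.PBasic
import Mathlib.Algebra.BigOperators.Finprod
import Mathlib.Algebra.BigOperators.Group.Finset.Basic
import Mathlib.Tactic.Group
/-!
Averaging over the cosets of a subgroup on an abelian subgroup normalised by a group.
-/

set_option autoImplicit false

namespace CfsgLib.LocalEven

open Subgroup

variable {G : Type*} [Group G]

/-- `v` lies in `V` and is fixed by every element of `S` -/
def FixedIn (V S : Subgroup G) (v : G) : Prop := v ∈ V ∧ ∀ s ∈ S, s * v * s⁻¹ = v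

theorem exists_avg [Finite G] (V C S : Subgroup G) (hV : IsMulCommutative V)
    (hCV : C ≤ normalizer (V : Set G)) (hSC : S ≤ C) :
    ∃ N : G → G,
      (∀ v, FixedIn V S v → FixedIn V C (N v)) ∧
      (∀ v w, FixedIn V S v → FixedIn V S w → N (v * w) = N v * N w) ∧
      (∀ v, FixedIn V C v → N v = v ^ S.relIndex C) ∧
      (∀ v (U : Subgroup G), FixedIn V S v → (∀ c ∈ C, c * v * c⁻¹ * v⁻¹ ∈ U) →
        N v * (v ^ S.relIndex C)⁻¹ ∈ U) ∧
      (∀ v t, FixedIn V S v → t ∈ normalizer (V : Set G) → t ∈ normalizer (C : Set G) →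
        t ∈ normalizer (S : Set G) → N (t * v * t⁻¹) = t * N v * t⁻¹) := by
  classical
  letI : CommGroup V := { (inferInstance : Group V) with mul_comm := hV.is_comm.comm }
  haveI : Fintype (C ⧸ S.subgroupOf C) := Fintype.ofFinite _
  have hconj : ∀ c ∈ C, ∀ v ∈ V, c * v * c⁻¹ ∈ V := fun c hc v hv =>
    (mem_normalizer_iff.1 (hCV hc) v).1 hv
  let a : C ⧸ S.subgroupOf C → V → V := fun q v =>
    ⟨(q.out : G) * v * (q.out : G)⁻¹, hconj _ q.out.2 _ v.2⟩
  let N : G → G := fun v => if h : v ∈ V then ((∏ q, a q ⟨v, h⟩ : V) : G) else 1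
  have hN : ∀ v (h : v ∈ V), N v = ((∏ q, a q ⟨v, h⟩ : V) : G) := fun v h => dif_pos h
  have hrep : ∀ v : V, (∀ s ∈ S, s * (v : G) * s⁻¹ = v) → ∀ c : C,
      ((a (QuotientGroup.mk c) v : V) : G) = (c : G) * v * (c : G)⁻¹ := by
    intro v hv c
    obtain ⟨⟨s, hs⟩, he⟩ := QuotientGroup.mk_out_eq_mul (S.subgroupOf C) c
    simp only [a, he, Subgroup.coe_mul]
    have := hv (s : G) (mem_subgroupOf.1 hs)
    rw [show (c : G) * s * (v : G) * ((c : G) * s)⁻¹ = c * ((s : G) * v * (s : G)⁻¹) * (c : G)⁻¹ by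
      group, this]
  refine ⟨N, ?_, ?_, ?_, ?_, ?_⟩
  · intro v hv
    rw [hN v hv.1]
    refine ⟨SetLike.coe_mem _, fun c hc => ?_⟩
    let φ : V →* V := MonoidHom.mk' (fun w => ⟨c * w * c⁻¹, hconj c hc _ w.2⟩)
      (fun w w' => Subtype.ext (by simp only [Subgroup.coe_mul]; group))
    have : φ (∏ q, a q ⟨v, hv.1⟩) = ∏ q, a q ⟨v, hv.1⟩ := by
      rw [map_prod]
      refine Fintype.prod_equiv (MulAction.toPerm (⟨c, hc⟩ : C)) _ _ fun q => ?_
      induction q using QuotientGroup.induction_on with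
      | _ d =>
        apply Subtype.ext
        change c * ((a (QuotientGroup.mk d) ⟨v, hv.1⟩ : V) : G) * c⁻¹ =
          ((a (QuotientGroup.mk ((⟨c, hc⟩ : C) * d)) ⟨v, hv.1⟩ : V) : G)
        rw [hrep _ hv.2, hrep _ hv.2]
        simp only [Subgroup.coe_mul]
        group
    exact congrArg Subtype.val this
  · intro v w hv hw
    rw [hN v hv.1, hN w hw.1, hN (v * w) (mul_mem hv.1 hw.1), ← Subgroup.coe_mul,
      ← Finset.prod_mul_distrib]
    congr 1
    refine Finset.prod_congr rfl fun q _ => ?_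
    apply Subtype.ext
    simp only [a, Subgroup.coe_mul]
    group
  · intro v hv
    rw [hN v hv.1, Finset.prod_eq_pow_card (b := (⟨v, hv.1⟩ : V))]
    · rw [Subgroup.coe_pow, Finset.card_univ, ← Nat.card_eq_fintype_card]
      rfl
    · exact fun q _ => Subtype.ext (hv.2 _ q.out.2)
  · intro v U hv hU
    rw [hN v hv.1]
    have h : (∏ q, a q ⟨v, hv.1⟩) * ((⟨v, hv.1⟩ : V) ^ S.relIndex C)⁻¹ ∈ U.subgroupOf V := by
      have hm : S.relIndex C = (Finset.univ : Finset (C ⧸ S.subgroupOf C)).card := by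
        rw [Finset.card_univ, ← Nat.card_eq_fintype_card]; rfl
      rw [hm, ← Finset.prod_const, ← Finset.prod_inv_distrib, ← Finset.prod_mul_distrib]
      refine prod_mem fun q _ => ?_
      exact hU _ q.out.2
    exact h
  · intro v t hv htV htC htS
    have htv : t * v * t⁻¹ ∈ V := (mem_normalizer_iff.1 htV v).1 hv.1
    rw [hN v hv.1, hN _ htv]
    let σ : C →* C := MonoidHom.mk' (fun c => ⟨t * c * t⁻¹, (mem_normalizer_iff.1 htC _).1 c.2⟩)
      (fun c c' => Subtype.ext (by simp only [Subgroup.coe_mul]; group))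
    let τ : V →* V := MonoidHom.mk' (fun w => ⟨t * w * t⁻¹, (mem_normalizer_iff.1 htV _).1 w.2⟩)
      (fun w w' => Subtype.ext (by simp only [Subgroup.coe_mul]; group))
    let e : C ⧸ S.subgroupOf C → C ⧸ S.subgroupOf C := Quotient.map' σ (by
      intro x y hxy
      rw [QuotientGroup.leftRel_apply] at hxy ⊢
      rw [← map_inv, ← map_mul]
      exact mem_subgroupOf.2 ((mem_normalizer_iff.1 htS _).1 (mem_subgroupOf.1 hxy)))
    have hbij : Function.Bijective e := by
      rw [Finite.injective_iff_bijective.symm]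
      intro x y
      induction x using QuotientGroup.induction_on with
      | _ x =>
        induction y using QuotientGroup.induction_on with
        | _ y =>
          intro h
          rw [QuotientGroup.eq]
          have h' : (σ x)⁻¹ * σ y ∈ S.subgroupOf C := QuotientGroup.eq.1 h
          rw [← map_inv, ← map_mul] at h'
          exact mem_subgroupOf.2 ((mem_normalizer_iff.1 htS _).2 (mem_subgroupOf.1 h'))
    have hfix' : ∀ s ∈ S, s * (t * v * t⁻¹) * s⁻¹ = t * v * t⁻¹ := by
      intro s hs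
      have h1 : t⁻¹ * s * t ∈ S := by
        refine (mem_normalizer_iff.1 htS _).2 ?_
        rwa [show t * (t⁻¹ * s * t) * t⁻¹ = s by group]
      conv_rhs => rw [← hv.2 _ h1]
      group
    have : τ (∏ q, a q ⟨v, hv.1⟩) = ∏ q, a q ⟨t * v * t⁻¹, htv⟩ := by
      rw [map_prod]
      refine Fintype.prod_bijective e hbij _ _ fun q => ?_
      induction q using QuotientGroup.induction_on with
      | _ d =>
        apply Subtype.ext
        change t * ((a (QuotientGroup.mk d) ⟨v, hv.1⟩ : V) : G) * t⁻¹ =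
          ((a (QuotientGroup.mk (σ d)) ⟨t * v * t⁻¹, htv⟩ : V) : G)
        rw [hrep _ hv.2, hrep _ hfix']
        change t * ((d : G) * v * (d : G)⁻¹) * t⁻¹ = t * d * t⁻¹ * (t * v * t⁻¹) * (t * d * t⁻¹)⁻¹
        group
    exact (congrArg Subtype.val this).symm

end CfsgLib.LocalEven
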