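import Cfsg.Prelude.Def_BaumannBlocks
import Cfsg.Agent.Lib.PLocal.Thompson
import Cfsg.Agent.Lib.LocalEven.Cores
import Cfsg.Agent.Lib.Solvable.Core
import Cfsg.Agent.Lib.RootSub.SL2Model

/-!
# Baumann blocks

A `p`-subgroup normalized by a block `E` and by `B(T)` normalizes `E`; the module `W_E` lies in
`Ω₁(Z(O_p(G)))` and is not centralized by `J(T)`.
-/

set_option autoImplicit false
set_option linter.unusedSectionVars false
set_option linter.style.haveILetI false
open Cfsg Matrix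
open scoped commutatorElement MatrixGroups

namespace CfsgLib.LocalEven.BBlock

variable {G : Type*} [Group G] [Finite G] {p : ℕ}

theorem mem_normalizer_of_le {x : G} {L : Subgroup G} (h : ∀ y ∈ L, x * y * x⁻¹ ∈ L) :
    x ∈ Subgroup.normalizer (L : Set G) := by
  refine CfsgLib.PLocal.mem_normalizer_of_map_conj_eq (Subgroup.eq_of_le_of_card_ge ?_
    (Subgroup.card_map_of_injective (MulEquiv.injective _)).ge)
  rintro _ ⟨y, hy, rfl⟩
  exact h y hy

theorem commutator_le_of_le_normalizer {V X : Subgroup G}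
    (h : X ≤ Subgroup.normalizer (V : Set G)) : ⁅V, X⁆ ≤ V := by
  refine Subgroup.commutator_le.mpr fun v hv x hx => ?_
  have h1 := (Subgroup.mem_normalizer_iff.mp (h hx) v⁻¹).mp (inv_mem hv)
  have h2 := mul_mem hv h1
  rwa [← mul_assoc, ← mul_assoc, ← commutatorElement_def] at h2

theorem le_normalizer_commutator {V X : Subgroup G} (h : X ≤ Subgroup.normalizer (V : Set G)) :
    X ≤ Subgroup.normalizer ((⁅V, X⁆ : Subgroup G) : Set G) := by
  intro x hx
  refine CfsgLib.PLocal.mem_normalizer_of_map_conj_eq ?_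
  rw [Subgroup.map_commutator, CfsgLib.PLocal.map_conj_eq_of_mem_normalizer (h hx),
    CfsgLib.PLocal.map_conj_eq_of_mem_normalizer (Subgroup.le_normalizer hx)]

/-- `E` is generated by its elements of order prime to `p`. -/
theorem residual_induction {E : Subgroup G} (hE : pResidualOf p E = E) {R : Subgroup G}
    (h : ∀ x ∈ E, (orderOf x).Coprime p → x ∈ R) : E ≤ R := by
  intro y hy
  rw [← hE] at hy
  obtain ⟨y, hy, rfl⟩ := hy
  refine (?_ : pResidual p E ≤ R.comap E.subtype) hy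
  refine (Subgroup.closure_le _).mpr fun x hx => ?_
  exact h x x.2 (by rw [Subgroup.orderOf_coe]; exact hx)

/-- Elements of order prime to `p` of `E Q` lie in `E`, for a `p`-group `Q` normalizing `E`. -/
theorem mem_of_coprime_sup [Fact p.Prime] {E Q : Subgroup G} (hQ : IsPGroup p Q)
    (hQE : Q ≤ Subgroup.normalizer (E : Set G)) {x : G} (hx : x ∈ E ⊔ Q)
    (hcop : (orderOf x).Coprime p) : x ∈ E := by
  rw [← SetLike.mem_coe, Subgroup.coe_mul_of_right_le_normalizer_left E Q hQE] at hx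
  obtain ⟨e, he, q, hq, rfl⟩ := hx
  have key : ∀ n : ℕ, (e * q) ^ n * (q ^ n)⁻¹ ∈ E := by
    intro n
    induction n with
    | zero => simp
    | succ n ihn =>
      have h1 : (e * q) ^ (n + 1) * (q ^ (n + 1))⁻¹ =
          e * (q * ((e * q) ^ n * (q ^ n)⁻¹) * q⁻¹) := by
        rw [pow_succ', pow_succ']; group
      rw [h1]
      exact mul_mem he ((Subgroup.mem_normalizer_iff.mp (hQE hq) _).mp ihn)
  have h1 := key (orderOf (e * q))
  rw [pow_orderOf_eq_one, one_mul, inv_mem_iff] at h1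
  obtain ⟨k, hk⟩ := hQ ⟨q, hq⟩
  have hk' : q ^ p ^ k = 1 := congrArg Subtype.val hk
  obtain ⟨m, hm⟩ := exists_pow_eq_self_of_coprime (x := q) (n := orderOf (e * q))
    ((hcop.pow_right k).coprime_dvd_right (orderOf_dvd_of_pow_eq_one hk'))
  refine mul_mem he ?_
  rw [← hm]
  exact pow_mem h1 m

theorem pResidualOf_le (E : Subgroup G) : pResidualOf p E ≤ E := Subgroup.map_subtype_le _

theorem residual_sup [Fact p.Prime] {E Q : Subgroup G} (hE : pResidualOf p E = E) (hQ : IsPGroup p Q)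
    (hQE : Q ≤ Subgroup.normalizer (E : Set G)) : pResidualOf p (E ⊔ Q) = E := by
  refine le_antisymm ?_ (residual_induction hE fun x hx hcop => ?_)
  · rintro _ ⟨y, hy, rfl⟩
    refine (?_ : pResidual p ↥(E ⊔ Q) ≤ E.subgroupOf (E ⊔ Q)) hy
    refine (Subgroup.closure_le _).mpr fun x hx => Subgroup.mem_subgroupOf.mpr ?_
    exact mem_of_coprime_sup hQ hQE x.2 (by rw [Subgroup.orderOf_coe]; exact hx)
  · refine ⟨⟨x, Subgroup.mem_sup_left hx⟩, Subgroup.subset_closure ?_, rfl⟩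
    show (orderOf (⟨x, Subgroup.mem_sup_left hx⟩ : ↥(E ⊔ Q))).Coprime p
    rwa [Subgroup.orderOf_mk]

theorem le_normalizer_of_commutator_eq {E B : Subgroup G} (h : ⁅E, B⁆ = E) :
    B ≤ Subgroup.normalizer (E : Set G) := by
  intro b hb
  refine mem_normalizer_of_le fun e he => ?_
  have h1 : ⁅e⁻¹, b⁆ ∈ E := h.le (Subgroup.commutator_mem_commutator (inv_mem he) hb)
  have h2 := mul_mem he h1
  rw [commutatorElement_def, inv_inv] at h2
  simpa [mul_assoc] using h2

/-- If `B` centralizes `V` and `X` normalizes `V`, then `⁅X, B⁆` centralizes `V`. -/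
theorem commutator_le_centralizer {V X B : Subgroup G} (hX : X ≤ Subgroup.normalizer (V : Set G))
    (hB : B ≤ Subgroup.centralizer (V : Set G)) : ⁅X, B⁆ ≤ Subgroup.centralizer (V : Set G) := by
  refine Subgroup.commutator_le.mpr fun x hx b hb => ?_
  have hconj : x * b * x⁻¹ ∈ Subgroup.centralizer (V : Set G) := fun v hv => by
    have h1 : x⁻¹ * v * x ∈ V := by
      simpa using (Subgroup.mem_normalizer_iff.mp (inv_mem (hX hx)) v).mp hv
    have h2 := hB hb _ h1
    calc v * (x * b * x⁻¹) = x * (x⁻¹ * v * x * b) * x⁻¹ := by group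
      _ = x * (b * (x⁻¹ * v * x)) * x⁻¹ := by rw [h2]
      _ = x * b * x⁻¹ * v := by group
  rw [commutatorElement_def]
  exact mul_mem hconj (inv_mem (hB hb))

/-- A group generated by elements of order prime to `p` stabilizing a series of an elementary
abelian `p`-group centralizes it. -/
theorem commutator_eq_bot_of_stable [Fact p.Prime] {E V : Subgroup G} (hE : pResidualOf p E = E)
    (hV : Cfsg.IsElementaryAbelian p V) (hEV : E ≤ Subgroup.normalizer (V : Set G))
    (h : ⁅⁅V, E⁆, E⁆ = ⊥) : ⁅V, E⁆ = ⊥ := by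
  rw [Subgroup.commutator_eq_bot_iff_le_centralizer] at h ⊢
  rw [Subgroup.le_centralizer_iff]
  refine residual_induction hE fun x hx hcop v hv => ?_
  set m := ⁅v, x⁆ with hm
  have hmV : m ∈ ⁅V, E⁆ := Subgroup.commutator_mem_commutator hv hx
  have hmV' : m ∈ V := commutator_le_of_le_normalizer hEV hmV
  have hc : x * m = m * x := h hmV x hx
  have hxv : x * v * x⁻¹ = m⁻¹ * v := by rw [hm, commutatorElement_def]; group
  have hpow : ∀ n : ℕ, x ^ n * v * (x ^ n)⁻¹ = (m⁻¹) ^ n * v := by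
    intro n
    induction n with
    | zero => simp
    | succ n ihn =>
      rw [pow_succ', show x * x ^ n * v * (x * x ^ n)⁻¹ = x * (x ^ n * v * (x ^ n)⁻¹) * x⁻¹ by group,
        ihn]
      have h2 : x * (m⁻¹) ^ n = (m⁻¹) ^ n * x :=
        ((show Commute x m from hc).inv_right.pow_right n).eq
      rw [← mul_assoc, h2, mul_assoc ((m⁻¹) ^ n) x v, mul_assoc ((m⁻¹) ^ n) (x * v) x⁻¹, hxv,
        pow_succ (m⁻¹) n, ← mul_assoc]
  have h1 := hpow (orderOf x)
  rw [pow_orderOf_eq_one, one_mul, inv_one, mul_one, eq_comm, mul_eq_right, inv_pow,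
    inv_eq_one] at h1
  have hm1 : m = 1 := orderOf_eq_one_iff.mp (Nat.eq_one_of_dvd_coprimes hcop
    (orderOf_dvd_of_pow_eq_one h1) (orderOf_dvd_of_pow_eq_one (hV.2 m hmV')))
  exact commutatorElement_eq_one_iff_mul_comm.mp hm1

variable [Fact p.Prime]

theorem thompson_le_baumann (T : Subgroup G) :
    Cfsg.thompsonSubgroupOf p T ≤ Cfsg.baumannSubgroupOf p T :=
  le_inf (CfsgLib.PLocal.thompsonSubgroupOf_le p T) fun j hj z hz =>
    ((CfsgLib.PLocal.omegaOne_le p _ hz).2 j hj).symm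

/-- The Baumann subgroup does not depend on the Sylow subgroup containing it. -/
theorem baumann_eq_of_le (T P : Sylow p G) (h : Cfsg.baumannSubgroupOf p (T : Subgroup G) ≤ P) :
    Cfsg.baumannSubgroupOf p (P : Subgroup G) = Cfsg.baumannSubgroupOf p (T : Subgroup G) := by
  obtain ⟨g, hg⟩ := MulAction.exists_smul_eq G T P
  have hPT : (P : Subgroup G) = (T : Subgroup G).map (MulAut.conj g).toMonoidHom := by
    rw [← hg, Sylow.coe_subgroup_smul, Subgroup.pointwise_smul_def]; rfl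
  set J := Cfsg.thompsonSubgroupOf p (T : Subgroup G) with hJ
  have hJP : J ≤ P := (thompson_le_baumann _).trans h
  have hJle : J ≤ Cfsg.thompsonSubgroupOf p (P : Subgroup G) := by
    rw [hJ, CfsgLib.PLocal.thompsonSubgroupOf_eq, CfsgLib.PLocal.thompsonSubgroupOf_eq]
    refine sSup_le_sSup fun A hA => ?_
    have hmax := CfsgLib.PLocal.maxEAIn_sylow_subset hA
    exact CfsgLib.PLocal.maxEA_mem_maxEAIn hmax
      (((le_sSup hA).trans (CfsgLib.PLocal.thompsonSubgroupOf_eq p (T : Subgroup G)).ge).trans hJP)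
  have hJeq : Cfsg.thompsonSubgroupOf p (P : Subgroup G) = J := by
    refine (Subgroup.eq_of_le_of_card_ge hJle ?_).symm
    rw [hPT, ← CfsgLib.PLocal.thompsonSubgroupOf_conj,
      Subgroup.card_map_of_injective (MulEquiv.injective _)]
  set X := Cfsg.omegaOne p (Cfsg.centerThompsonOf p (T : Subgroup G)) with hX
  have hXeq : Cfsg.omegaOne p (Cfsg.centerThompsonOf p (P : Subgroup G)) = X := by
    rw [hX, Cfsg.centerThompsonOf, Cfsg.centerThompsonOf, hJeq]
  refine (Subgroup.eq_of_le_of_card_ge (le_inf h ?_) ?_).symm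
  · rw [hXeq]
    exact inf_le_right
  · have hmap : Cfsg.baumannSubgroupOf p (P : Subgroup G) ≤
        (Cfsg.baumannSubgroupOf p (T : Subgroup G)).map (MulAut.conj g).toMonoidHom := by
      intro x hx
      obtain ⟨hx1, hx2⟩ := hx
      rw [hPT] at hx1
      obtain ⟨t, ht, rfl⟩ := hx1
      refine ⟨t, ⟨ht, fun z hz => ?_⟩, rfl⟩
      have h2 : X.map (MulAut.conj g).toMonoidHom = X := by
        conv_rhs => rw [← hXeq]
        rw [hX, CfsgLib.PLocal.omegaOne_map (MulEquiv.injective _)]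
        congr 1
        rw [Cfsg.centerThompsonOf, Cfsg.centerThompsonOf, hPT,
          ← CfsgLib.PLocal.thompsonSubgroupOf_conj]
        ext w
        constructor
        · rintro ⟨w, ⟨hw1, hw2⟩, rfl⟩
          refine ⟨Subgroup.mem_map_of_mem _ hw1, ?_⟩
          rintro _ ⟨y, hy, rfl⟩
          rw [← map_mul, ← map_mul, hw2 y hy]
        · rintro ⟨⟨w, hw, rfl⟩, hw2⟩
          refine ⟨w, ⟨hw, fun y hy => (MulEquiv.injective (MulAut.conj g)) ?_⟩, rfl⟩
          rw [map_mul, map_mul]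
          exact hw2 _ (Subgroup.mem_map_of_mem _ hy)
      have h3 : (MulAut.conj g).toMonoidHom z ∈ X := h2.le (Subgroup.mem_map_of_mem _ hz)
      rw [← hXeq] at h3
      have h4 := hx2 _ h3
      rw [← map_mul, ← map_mul] at h4
      exact MulEquiv.injective _ h4
    calc Nat.card (Cfsg.baumannSubgroupOf p (P : Subgroup G))
        ≤ Nat.card ((Cfsg.baumannSubgroupOf p (T : Subgroup G)).map (MulAut.conj g).toMonoidHom) :=
          Nat.le_of_dvd Nat.card_pos (Subgroup.card_dvd_of_le hmap)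
      _ = _ := Subgroup.card_map_of_injective (MulEquiv.injective _)

/-- A `p`-subgroup normalized by `B(T)` normalizes `B(T)`. -/
theorem le_normalizer_baumann (T : Sylow p G) {Q : Subgroup G} (hQ : IsPGroup p Q)
    (hBQ : Cfsg.baumannSubgroupOf p (T : Subgroup G) ≤ Subgroup.normalizer (Q : Set G)) :
    Q ≤ Subgroup.normalizer (Cfsg.baumannSubgroupOf p (T : Subgroup G) : Set G) := by
  have hB : IsPGroup p (Cfsg.baumannSubgroupOf p (T : Subgroup G)) :=
    T.isPGroup'.to_le inf_le_left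
  obtain ⟨P, hP⟩ := (hB.to_sup_of_normal_right' hQ hBQ).exists_le_sylow
  have heq := baumann_eq_of_le T P (le_sup_left.trans hP)
  intro q hq
  have hqP : q ∈ (P : Subgroup G) := hP (Subgroup.mem_sup_right hq)
  rw [← heq]
  refine mem_normalizer_of_le fun b hb => Subgroup.mem_inf.mpr ⟨mul_mem (mul_mem hqP hb.1) (inv_mem hqP), ?_⟩
  set X := Cfsg.omegaOne p (Cfsg.centerThompsonOf p (P : Subgroup G)) with hX
  have hXn : q ∈ Subgroup.normalizer (X : Set G) := by
    have hJn := CfsgLib.PLocal.normalizer_le_normalizer_thompsonSubgroupOf (p := p)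
      (P : Subgroup G) (Subgroup.le_normalizer hqP)
    have hJq := CfsgLib.PLocal.map_conj_eq_of_mem_normalizer hJn
    refine CfsgLib.PLocal.mem_normalizer_of_map_conj_eq ?_
    rw [hX, CfsgLib.PLocal.omegaOne_map (MulEquiv.injective _)]
    congr 1
    refine Subgroup.eq_of_le_of_card_ge ?_
      (Subgroup.card_map_of_injective (MulEquiv.injective _)).ge
    rintro _ ⟨w, hw, rfl⟩
    refine ⟨hJq.le (Subgroup.mem_map_of_mem _ hw.1), fun y hy => ?_⟩
    obtain ⟨y, hy', rfl⟩ := hJq.ge hy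
    rw [← map_mul, ← map_mul, hw.2 y hy']
  intro z hz
  have h1 : q⁻¹ * z * q ∈ X := by
    simpa using (Subgroup.mem_normalizer_iff.mp (inv_mem hXn) z).mp hz
  have h2 := hb.2 _ h1
  calc z * (q * b * q⁻¹) = q * (q⁻¹ * z * q * b) * q⁻¹ := by group
    _ = q * (b * (q⁻¹ * z * q)) * q⁻¹ := by rw [h2]
    _ = q * b * q⁻¹ * z := by group

/-- A `p`-subgroup normalized by a block and by `B(T)` normalizes the block. -/
theorem le_normalizer_block (T : Sylow p G) {E Q : Subgroup G} (hE : pResidualOf p E = E)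
    (hEB : ⁅E, Cfsg.baumannSubgroupOf p (T : Subgroup G)⁆ = E) (hQ : IsPGroup p Q)
    (hBQ : Cfsg.baumannSubgroupOf p (T : Subgroup G) ≤ Subgroup.normalizer (Q : Set G))
    (hEQ : E ≤ Subgroup.normalizer (Q : Set G)) : Q ≤ Subgroup.normalizer (E : Set G) := by
  set B := Cfsg.baumannSubgroupOf p (T : Subgroup G) with hBdef
  have hBE := le_normalizer_of_commutator_eq hEB
  have hQB := le_normalizer_baumann T hQ hBQ
  set N1 := Q ⊓ Subgroup.normalizer (E : Set G) with hN1
  by_contra hne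
  set D := N1.subgroupOf Q with hD
  have hlt : D < ⊤ := by
    rw [lt_top_iff_ne_top, Ne, hD, Subgroup.subgroupOf_eq_top]
    exact fun h => hne (h.trans inf_le_right)
  have : Group.IsNilpotent Q := hQ.isNilpotent
  obtain ⟨u, hu, huD⟩ := SetLike.exists_of_lt (Group.normalizerCondition_of_isNilpotent D hlt)
  set N2 := Q ⊓ Subgroup.normalizer (N1 : Set G) with hN2
  have huN2 : (u : G) ∈ N2 := by
    refine ⟨u.2, mem_normalizer_of_le fun y hy => ?_⟩
    exact Subgroup.mem_subgroupOf.mp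
      ((Subgroup.mem_normalizer_iff.mp hu ⟨y, hy.1⟩).mp (Subgroup.mem_subgroupOf.mpr hy))
  apply huD
  rw [hD, Subgroup.mem_subgroupOf]
  refine ⟨u.2, ?_⟩
  have hn1 : ∀ x, x ∈ Subgroup.normalizer (Q : Set G) → x ∈ Subgroup.normalizer (E : Set G) →
      x ∈ Subgroup.normalizer (N1 : Set G) := fun x hxQ hxE =>
    mem_normalizer_of_le fun y hy => Subgroup.mem_inf.mpr ⟨(Subgroup.mem_normalizer_iff.mp hxQ y).mp hy.1,
      mul_mem (mul_mem hxE hy.2) (inv_mem hxE)⟩
  have hn2 : ∀ x, x ∈ Subgroup.normalizer (Q : Set G) → x ∈ Subgroup.normalizer (E : Set G) →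
      x ∈ Subgroup.normalizer (N2 : Set G) := fun x hxQ hxE =>
    mem_normalizer_of_le fun y hy => Subgroup.mem_inf.mpr ⟨(Subgroup.mem_normalizer_iff.mp hxQ y).mp hy.1,
      mul_mem (mul_mem (hn1 x hxQ hxE) hy.2) (inv_mem (hn1 x hxQ hxE))⟩
  -- `B` acts trivially on `N2 / N1`
  have hB0 : ∀ b ∈ B, ∀ q ∈ N2, b * q * b⁻¹ * q⁻¹ ∈ N1 := by
    intro b hb q hq
    have h1 : b * q * b⁻¹ * q⁻¹ ∈ Q :=
      mul_mem ((Subgroup.mem_normalizer_iff.mp (hBQ hb) q).mp hq.1) (inv_mem hq.1)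
    refine ⟨h1, hBE ?_⟩
    rw [show b * q * b⁻¹ * q⁻¹ = b * (q * b⁻¹ * q⁻¹) by group]
    exact mul_mem hb ((Subgroup.mem_normalizer_iff.mp (hQB hq.1) _).mp (inv_mem hb))
  -- hence so does `E`
  have hE0 : ∀ x ∈ E, ∀ q ∈ N2, x * q * x⁻¹ * q⁻¹ ∈ N1 := by
    intro x hx
    rw [← hEB, Subgroup.commutator_def] at hx
    induction hx using Subgroup.closure_induction with
    | mem y hy =>
      obtain ⟨e, he, b, hb, rfl⟩ := hy
      intro q hq
      have heN1 := hn1 e (hEQ he) (Subgroup.le_normalizer he)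
      have heN2 := hn2 e (hEQ he) (Subgroup.le_normalizer he)
      have hbN2 := hn2 b (hBQ hb) (hBE hb)
      set q1 := b⁻¹ * q * b with hq1
      have hq1N : q1 ∈ N2 := by
        simpa [hq1] using (Subgroup.mem_normalizer_iff.mp (inv_mem hbN2) q).mp hq
      set q2 := e⁻¹ * q1 * e with hq2
      have hq2N : q2 ∈ N2 := by
        simpa [hq2] using (Subgroup.mem_normalizer_iff.mp (inv_mem heN2) q1).mp hq1N
      have a1 : q1 * q⁻¹ ∈ N1 := by
        simpa [hq1] using hB0 b⁻¹ (inv_mem hb) q hq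
      have a2 := (Subgroup.mem_normalizer_iff.mp heN1 _).mp (hB0 b hb q2 hq2N)
      have h := mul_mem a2 a1
      rw [show e * (b * q2 * b⁻¹ * q2⁻¹) * e⁻¹ * (q1 * q⁻¹) =
        ⁅e, b⁆ * q * ⁅e, b⁆⁻¹ * q⁻¹ by
          rw [hq2, hq1, commutatorElement_def]; group] at h
      exact h
    | one => intro q _; simp
    | mul y z hy hz ihy ihz =>
      intro q hq
      have hzE : z ∈ E := hEB ▸ (Subgroup.commutator_def E B ▸ hz)
      have hzN2 := hn2 z (hEQ hzE) (Subgroup.le_normalizer hzE)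
      have h := mul_mem (ihy _ ((Subgroup.mem_normalizer_iff.mp hzN2 q).mp hq)) (ihz q hq)
      rw [show y * (z * q * z⁻¹) * y⁻¹ * (z * q * z⁻¹)⁻¹ * (z * q * z⁻¹ * q⁻¹) =
        y * z * q * (y * z)⁻¹ * q⁻¹ by group] at h
      exact h
    | inv y hy ihy =>
      intro q hq
      have hyE : y ∈ E := hEB ▸ (Subgroup.commutator_def E B ▸ hy)
      have hyN2 := hn2 _ (hEQ (inv_mem hyE)) (Subgroup.le_normalizer (inv_mem hyE))
      have h := inv_mem (ihy _ ((Subgroup.mem_normalizer_iff.mp hyN2 q).mp hq))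
      rw [show (y * (y⁻¹ * q * y⁻¹⁻¹) * y⁻¹ * (y⁻¹ * q * y⁻¹⁻¹)⁻¹)⁻¹ =
        y⁻¹ * q * y⁻¹⁻¹ * q⁻¹ by group] at h
      exact h
  refine mem_normalizer_of_le fun e he => ?_
  refine (residual_induction hE (R := E.comap (MulAut.conj (u : G)).toMonoidHom) fun x hx hcop => ?_) he
  show (u : G) * x * (u : G)⁻¹ ∈ E
  refine mem_of_coprime_sup (hQ.to_le (inf_le_left : N1 ≤ Q)) inf_le_right ?_ ?_
  · rw [show (u : G) * x * (u : G)⁻¹ = (x * u * x⁻¹ * (u : G)⁻¹)⁻¹ * x by group]
    exact mul_mem (Subgroup.mem_sup_right (inv_mem (hE0 x hx u huN2))) (Subgroup.mem_sup_left hx)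
  · exact ((MulAut.conj (u : G)).orderOf_eq x).symm ▸ hcop

/-! ### Irreducibility of the natural modules -/

theorem sl2_commutator_element_mem (F : Type*) [Field F] (a : F) :
    ∃ g ∈ commutator (Matrix.SpecialLinearGroup (Fin 2) F),
      (g : Matrix (Fin 2) (Fin 2) F) = !![1 + a * a, a; a, 1] := by
  set w : Matrix.SpecialLinearGroup (Fin 2) F := ⟨!![0, 1; -1, 0], by simp [det_fin_two]⟩ with hw
  refine ⟨⁅CfsgLib.RootSub.slU a, w⁆,
    Subgroup.commutator_mem_commutator (Subgroup.mem_top _) (Subgroup.mem_top _), ?_⟩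
  rw [commutatorElement_def, Matrix.SpecialLinearGroup.coe_mul, Matrix.SpecialLinearGroup.coe_mul,
    Matrix.SpecialLinearGroup.coe_mul, Matrix.SpecialLinearGroup.coe_inv,
    Matrix.SpecialLinearGroup.coe_inv, hw, CfsgLib.RootSub.slU_val]
  simp [Matrix.adjugate_fin_two, add_comm]

/-- The derived group of `SL₂(F)` is irreducible on `F²`, as a group of additive maps. -/
theorem sl2_irreducible {F : Type*} [Field F] (S : AddSubgroup (Fin 2 → F))
    (hS : ∀ g ∈ commutator (Matrix.SpecialLinearGroup (Fin 2) F), ∀ v ∈ S,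
      (g : Matrix (Fin 2) (Fin 2) F).mulVec v ∈ S) {v : Fin 2 → F} (hv : v ∈ S) (hv0 : v ≠ 0)
    (w : Fin 2 → F) : w ∈ S := by
  obtain ⟨x, hx⟩ : ∃ x : Matrix.SpecialLinearGroup (Fin 2) F,
      (x : Matrix (Fin 2) (Fin 2) F).mulVec ![0, 1] = v := by
    by_cases h1 : v 1 = 0
    · have h0 : v 0 ≠ 0 := fun h => hv0 (by ext i; fin_cases i <;> assumption)
      refine ⟨⟨!![0, v 0; -(v 0)⁻¹, 0], by simp [det_fin_two, h0]⟩, ?_⟩
      ext i; fin_cases i <;> simp [h1]
    · refine ⟨⟨!![(v 1)⁻¹, v 0; 0, v 1], by simp [det_fin_two, h1]⟩, ?_⟩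
      ext i; fin_cases i <;> simp
  let S' : AddSubgroup (Fin 2 → F) :=
    S.comap (Matrix.mulVecLin (x : Matrix (Fin 2) (Fin 2) F)).toAddMonoidHom
  have hmem : ∀ u, u ∈ S' ↔ (x : Matrix (Fin 2) (Fin 2) F).mulVec u ∈ S := fun u => Iff.rfl
  have h01 : (![0, 1] : Fin 2 → F) ∈ S' := by rw [hmem, hx]; exact hv
  have hS' : ∀ g ∈ commutator (Matrix.SpecialLinearGroup (Fin 2) F), ∀ u ∈ S',
      (g : Matrix (Fin 2) (Fin 2) F).mulVec u ∈ S' := by
    intro g hg u hu
    rw [hmem] at hu ⊢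
    have h := hS (x * g * x⁻¹) ((inferInstance : (commutator _).Normal).conj_mem g hg x) _ hu
    rwa [Matrix.mulVec_mulVec, ← Matrix.SpecialLinearGroup.coe_mul, inv_mul_cancel_right,
      Matrix.SpecialLinearGroup.coe_mul, ← Matrix.mulVec_mulVec] at h
  have ha0 : ∀ a : F, (![a, 0] : Fin 2 → F) ∈ S' := by
    intro a
    obtain ⟨g, hg, hgv⟩ := sl2_commutator_element_mem F a
    have h := sub_mem (hS' g hg _ h01) h01
    rw [hgv] at h
    convert h using 1
    ext i; fin_cases i <;> simp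
  have h0a : ∀ a : F, (![0, a] : Fin 2 → F) ∈ S' := by
    intro a
    obtain ⟨g, hg, hgv⟩ := sl2_commutator_element_mem F a
    have h := sub_mem (sub_mem (hS' g hg _ (ha0 1)) (ha0 1)) (ha0 (a * a))
    rw [hgv] at h
    convert h using 1
    ext i; fin_cases i <;> simp [Matrix.vecHead, Matrix.vecTail]
  have hall : (x⁻¹ : Matrix.SpecialLinearGroup (Fin 2) F).1.mulVec w ∈ S' := by
    have h := add_mem (ha0 ((x⁻¹).1.mulVec w 0)) (h0a ((x⁻¹).1.mulVec w 1))
    convert h using 1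
    ext i; fin_cases i <;> simp
  rw [hmem, Matrix.mulVec_mulVec, ← Matrix.SpecialLinearGroup.coe_mul, mul_inv_cancel,
    Matrix.SpecialLinearGroup.coe_one, Matrix.one_mulVec] at hall
  exact hall

/-- The alternating group of odd degree is irreducible on the even weight vectors. -/
theorem alt_irreducible {m : ℕ} (S : AddSubgroup (Fin (2 * m + 1) → ZMod 2))
    (hS : ∀ σ ∈ alternatingGroup (Fin (2 * m + 1)), ∀ v ∈ S, (fun i => v (σ⁻¹ i)) ∈ S)
    {v : Fin (2 * m + 1) → ZMod 2} (hv : v ∈ S) (hev : ∑ i, v i = 0) (hv0 : v ≠ 0)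
    (w : Fin (2 * m + 1) → ZMod 2) (hw : ∑ i, w i = 0) : w ∈ S := by
  classical
  have hz : ∀ x : ZMod 2, x = 0 ∨ x = 1 := by decide
  let e : Fin (2 * m + 1) → Fin (2 * m + 1) → ZMod 2 := fun j => Pi.single j 1
  have h3 : ∀ {i j k : Fin (2 * m + 1)}, i ≠ j → j ≠ k → i ≠ k →
      Equiv.swap i j * Equiv.swap j k ∈ alternatingGroup (Fin (2 * m + 1)) := by
    intro i j k hij hjk _
    rw [Equiv.Perm.mem_alternatingGroup, map_mul, Equiv.Perm.sign_swap hij,
      Equiv.Perm.sign_swap hjk]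
    rfl
  -- a vector of weight two
  obtain ⟨i, hi⟩ : ∃ i, v i = 1 := by
    by_contra hcon
    push Not at hcon
    exact hv0 (funext fun i => (hz (v i)).resolve_right (hcon i))
  obtain ⟨j, hj⟩ : ∃ j, v j = 0 := by
    by_contra hcon
    push Not at hcon
    have h1 : ∀ x, v x = 1 := fun x => (hz (v x)).resolve_left (hcon x)
    simp only [h1, Finset.sum_const, Finset.card_univ, Fintype.card_fin, nsmul_eq_mul, mul_one] at hev
    push_cast at hev
    rw [show (2 : ZMod 2) = 0 from rfl] at hev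
    simp at hev
  obtain ⟨k, hk, hki⟩ : ∃ k, v k = 1 ∧ k ≠ i := by
    by_contra hcon
    push Not at hcon
    have h1 : ∀ x, x ≠ i → v x = 0 := fun x hx => (hz (v x)).resolve_right fun h => hx (hcon x h)
    rw [Finset.sum_eq_single i (fun x _ hx => h1 x hx) (by simp), hi] at hev
    exact one_ne_zero hev
  have hij : i ≠ j := by rintro rfl; rw [hi] at hj; exact one_ne_zero hj
  have hjk : j ≠ k := by rintro rfl; rw [hk] at hj; exact one_ne_zero hj
  have hcyc : ∀ {a b c : Fin (2 * m + 1)}, a ≠ b → b ≠ c → a ≠ c →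
      (Equiv.swap a b * Equiv.swap b c)⁻¹ a = c ∧ (Equiv.swap a b * Equiv.swap b c)⁻¹ b = a ∧
      (Equiv.swap a b * Equiv.swap b c)⁻¹ c = b ∧
      ∀ x, x ≠ a → x ≠ b → x ≠ c → (Equiv.swap a b * Equiv.swap b c)⁻¹ x = x := by
    intro a b c hab hbc hac
    simp only [_root_.mul_inv_rev, Equiv.swap_inv, Equiv.Perm.mul_apply]
    refine ⟨?_, ?_, ?_, ?_⟩
    · rw [Equiv.swap_apply_left, Equiv.swap_apply_left]
    · rw [Equiv.swap_apply_right, Equiv.swap_apply_of_ne_of_ne hab hac]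
    · rw [Equiv.swap_apply_of_ne_of_ne hac.symm hbc.symm, Equiv.swap_apply_right]
    · intro x h1 h2 h3
      rw [Equiv.swap_apply_of_ne_of_ne h1 h2, Equiv.swap_apply_of_ne_of_ne h2 h3]
  have hpair : e j + e k ∈ S := by
    obtain ⟨c1, c2, c3, c4⟩ := hcyc hij hjk hki.symm
    have h := add_mem (hS _ (h3 hij hjk hki.symm) v hv) hv
    convert h using 1
    funext x
    simp only [e, Pi.add_apply, Pi.single_apply]
    rcases eq_or_ne x i with rfl | hxi
    · rw [c1]
      simp [hi, hk, hij, hki.symm, CharTwo.add_self_eq_zero]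
    rcases eq_or_ne x j with rfl | hxj
    · rw [c2]
      simp [hi, hj, hjk]
    rcases eq_or_ne x k with rfl | hxk
    · rw [c3]
      simp [hj, hk, hxj]
    rw [c4 x hxi hxj hxk]
    simp [hxj, hxk, CharTwo.add_self_eq_zero]
  -- all pairs through `j`
  have hall : ∀ l, l ≠ j → e l + e j ∈ S := by
    intro l hlj
    by_cases hlk : l = k
    · subst hlk
      exact add_comm (e j) (e l) ▸ hpair
    obtain ⟨c1, c2, c3, c4⟩ := hcyc hjk (Ne.symm hlk) hlj.symm
    have h := add_mem (hS _ (h3 hjk (Ne.symm hlk) hlj.symm) _ hpair) hpair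
    convert h using 1
    funext x
    simp only [e, Pi.add_apply, Pi.single_apply]
    rcases eq_or_ne x j with rfl | hxj
    · rw [c1]
      simp [hlj, hlj.symm, hlk, hjk]
    rcases eq_or_ne x k with rfl | hxk
    · rw [c2]
      simp [Ne.symm hlk, hjk, hjk.symm, CharTwo.add_self_eq_zero]
    rcases eq_or_ne x l with rfl | hxl
    · rw [c3]
      simp [hxj, hxk, hjk.symm, hjk]
    rw [c4 x hxj hxk hxl]
    simp [hxj, hxk, hxl]
  have hdec : w = ∑ x, (if w x = 1 then e x + e j else 0) := by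
    funext y
    rw [Finset.sum_apply]
    have h1 : ∀ x, (if w x = 1 then e x + e j else 0 : Fin (2 * m + 1) → ZMod 2) y =
        w x * e x y + w x * e j y := by
      intro x
      rcases hz (w x) with h | h <;> simp [h]
    simp only [h1, Finset.sum_add_distrib, ← Finset.sum_mul, hw, zero_mul, add_zero, e,
      Pi.single_apply]
    simp
  rw [hdec]
  refine sum_mem fun x _ => ?_
  split_ifs with h
  · rcases eq_or_ne x j with rfl | hxj
    · convert S.zero_mem using 1
      funext y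
      simp [CharTwo.add_self_eq_zero]
    · exact hall x hxj
  · exact S.zero_mem

/-- An `E`-invariant subgroup between `U₀` and `U` is one of them, when `E` acts on `U / U₀` as
the derived group of `SL₂(F)` on its natural module. -/
theorem section_simple_sl2 {F : Type*} [Field F] {E U U₀ L : Subgroup G}
    (hact : ActsAsSL2OnSection F (commutator (Matrix.SpecialLinearGroup (Fin 2) F)) E U U₀)
    (h0 : U₀ ≤ L) (hLU : L ≤ U) (hEL : E ≤ Subgroup.normalizer (L : Set G)) (hne : ¬ L ≤ U₀) :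
    L = U := by
  obtain ⟨-, -, ρ, ψ, hρ, -, hker, heq⟩ := hact
  let S : AddSubgroup (Fin 2 → F) := Subgroup.toAddSubgroup' ((L.subgroupOf U).map ψ)
  have hSmem : ∀ a, a ∈ S ↔ ∃ u : U, (u : G) ∈ L ∧ (ψ u).toAdd = a := by
    intro a
    constructor
    · rintro ⟨u, hu, e⟩
      exact ⟨u, Subgroup.mem_subgroupOf.mp hu, by rw [e]; rfl⟩
    · rintro ⟨u, hu, rfl⟩
      exact ⟨u, Subgroup.mem_subgroupOf.mpr hu, rfl⟩
  have hS : ∀ g ∈ commutator (Matrix.SpecialLinearGroup (Fin 2) F), ∀ v ∈ S,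
      (g : Matrix (Fin 2) (Fin 2) F).mulVec v ∈ S := by
    intro g hg v hv
    obtain ⟨u, hu, rfl⟩ := (hSmem v).mp hv
    rw [← hρ] at hg
    obtain ⟨e, rfl⟩ := hg
    obtain ⟨w, hw, hw'⟩ := heq e u
    exact (hSmem _).mpr ⟨w, hw ▸ (Subgroup.mem_normalizer_iff.mp (hEL e.2) _).mp hu, hw'⟩
  obtain ⟨l, hlL, hl0⟩ := SetLike.not_le_iff_exists.mp hne
  have hv : (ψ ⟨l, hLU hlL⟩).toAdd ∈ S := (hSmem _).mpr ⟨_, hlL, rfl⟩
  have hv0 : (ψ ⟨l, hLU hlL⟩).toAdd ≠ 0 := fun h => hl0 ((hker _).mp (toAdd_eq_zero.mp h))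
  refine le_antisymm hLU fun u hu => ?_
  obtain ⟨u', hu', he⟩ := (hSmem _).mp (sl2_irreducible S hS hv hv0 (ψ ⟨u, hu⟩).toAdd)
  have h1 : ψ (⟨u, hu⟩ * u'⁻¹) = 1 := by
    rw [map_mul, map_inv, Multiplicative.toAdd.injective he, mul_inv_cancel]
  have h2 := mul_mem (h0 ((hker _).mp h1)) hu'
  simpa using h2

/-- The same for the even weight module of an alternating group. -/
theorem section_simple_alt {m : ℕ} {E U U₀ L : Subgroup G}
    (hact : ActsAsOddPermModuleOnSection (2 * m + 1) (alternatingGroup (Fin (2 * m + 1))) E U U₀)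
    (h0 : U₀ ≤ L) (hLU : L ≤ U) (hEL : E ≤ Subgroup.normalizer (L : Set G)) (hne : ¬ L ≤ U₀) :
    L = U := by
  obtain ⟨-, -, ρ, ψ, hρ, heven, -, hker, heq⟩ := hact
  let S : AddSubgroup (Fin (2 * m + 1) → ZMod 2) := Subgroup.toAddSubgroup' ((L.subgroupOf U).map ψ)
  have hSmem : ∀ a, a ∈ S ↔ ∃ u : U, (u : G) ∈ L ∧ (ψ u).toAdd = a := by
    intro a
    constructor
    · rintro ⟨u, hu, e⟩
      exact ⟨u, Subgroup.mem_subgroupOf.mp hu, by rw [e]; rfl⟩
    · rintro ⟨u, hu, rfl⟩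
      exact ⟨u, Subgroup.mem_subgroupOf.mpr hu, rfl⟩
  have hS : ∀ σ ∈ alternatingGroup (Fin (2 * m + 1)), ∀ v ∈ S, (fun i => v (σ⁻¹ i)) ∈ S := by
    intro g hg v hv
    obtain ⟨u, hu, rfl⟩ := (hSmem v).mp hv
    rw [← hρ] at hg
    obtain ⟨e, rfl⟩ := hg
    obtain ⟨w, hw, hw'⟩ := heq e u
    exact (hSmem _).mpr ⟨w, hw ▸ (Subgroup.mem_normalizer_iff.mp (hEL e.2) _).mp hu, funext hw'⟩
  obtain ⟨l, hlL, hl0⟩ := SetLike.not_le_iff_exists.mp hne
  have hv : (ψ ⟨l, hLU hlL⟩).toAdd ∈ S := (hSmem _).mpr ⟨_, hlL, rfl⟩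
  have hv0 : (ψ ⟨l, hLU hlL⟩).toAdd ≠ 0 := fun h => hl0 ((hker _).mp (toAdd_eq_zero.mp h))
  refine le_antisymm hLU fun u hu => ?_
  obtain ⟨u', hu', he⟩ := (hSmem _).mp
    (alt_irreducible S hS hv (heven _) hv0 (ψ ⟨u, hu⟩).toAdd (heven _))
  have h1 : ψ (⟨u, hu⟩ * u'⁻¹) = 1 := by
    rw [map_mul, map_inv, Multiplicative.toAdd.injective he, mul_inv_cancel]
  have h2 := mul_mem (h0 ((hker _).mp h1)) hu'
  simpa using h2

/-- The facts of the two block lemmas about `W = [Ω₁(Z(O_p(E))), E]`. -/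
theorem block_module (hG : Subgroup.centralizer (Cfsg.pCore p G : Set G) ≤ Cfsg.pCore p G)
    (T : Sylow p G) {E : Subgroup G} (hE : Cfsg.IsBaumannBlock p (T : Subgroup G) E) :
    Cfsg.pCore p G ≤ Subgroup.normalizer (E : Set G) ∧
      ⁅Cfsg.omegaOneCenter p (Cfsg.pCoreOf p E), E⁆ ≤ Cfsg.omegaOneCenter p (Cfsg.pCore p G) ∧
      ⁅⁅Cfsg.omegaOneCenter p (Cfsg.pCoreOf p E), E⁆, E⁆ ≠ ⊥ := by
  obtain ⟨hres, hEB, -, hZ, hcase⟩ := hE
  set Q := Cfsg.pCore p G with hQdef
  haveI := core_normal p G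
  have hall : ∀ X : Subgroup G, X ≤ Subgroup.normalizer (Q : Set G) := fun X =>
    le_top.trans_eq (Subgroup.normalizer_eq_top (H := Q)).symm
  have hQE := le_normalizer_block T hres hEB (core_isPGroup p G) (hall _) (hall _)
  set V := Cfsg.omegaOneCenter p Q with hVdef
  have hVEA : Cfsg.IsElementaryAbelian p V := CfsgLib.PLocal.omegaCenter_isEA Q
  have hVQ : V ≤ Q := (CfsgLib.PLocal.omegaOne_le p _).trans inf_le_left
  have hEV : E ≤ Subgroup.normalizer (V : Set G) := by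
    intro x _
    refine CfsgLib.PLocal.mem_normalizer_of_map_conj_eq ?_
    rw [hVdef, Cfsg.omegaOneCenter, CfsgLib.PLocal.omegaOne_map (MulEquiv.injective _)]
    congr 1
    refine Subgroup.eq_of_le_of_card_ge ?_
      (Subgroup.card_map_of_injective (MulEquiv.injective _)).ge
    rintro _ ⟨w, hw, rfl⟩
    refine ⟨(core_normal p G).conj_mem w hw.1 x, fun y hy => ?_⟩
    have h1 := hw.2 (x⁻¹ * y * x) (by
      simpa using (core_normal p G).conj_mem y hy x⁻¹)
    show y * (x * w * x⁻¹) = x * w * x⁻¹ * y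
    calc y * (x * w * x⁻¹) = x * (x⁻¹ * y * x * w) * x⁻¹ := by group
      _ = x * (w * (x⁻¹ * y * x)) * x⁻¹ := by rw [h1]
      _ = x * w * x⁻¹ * y := by group
  set M1 := ⁅V, E⁆ with hM1def
  have hM1V : M1 ≤ V := commutator_le_of_le_normalizer hEV
  have hM1E : M1 ≤ E := by
    refine Subgroup.commutator_le.mpr fun v hv e he => ?_
    rw [show ⁅v, e⁆ = v * e * v⁻¹ * e⁻¹ from commutatorElement_def v e]
    exact mul_mem ((Subgroup.mem_normalizer_iff.mp (hQE (hVQ hv)) e).mp he) (inv_mem he)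
  have hM1n : E ≤ Subgroup.normalizer (M1 : Set G) := le_normalizer_commutator hEV
  have hM1EA := CfsgLib.PLocal.isEA_mono hVEA hM1V
  have hM1ne : M1 ≠ ⊥ := by
    intro h
    apply hZ
    rw [Subgroup.commutator_comm]
    refine le_bot_iff.mp (le_of_le_of_eq (Subgroup.commutator_mono ?_ le_rfl) h)
    refine (Subgroup.closure_le _).mpr fun z hz => ?_
    obtain ⟨⟨hzT, hzc⟩, hzp⟩ := hz
    have hzQ : z ∈ Subgroup.centralizer (Q : Set G) :=
      Subgroup.centralizer_le (CfsgLib.Solvable.pCore_le_sylow T) hzc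
    exact CfsgLib.PLocal.mem_omegaOne ⟨hG hzQ, hzQ⟩ hzp
  have hM2ne : ⁅M1, E⁆ ≠ ⊥ := fun h => hM1ne (commutator_eq_bot_of_stable hres hVEA hEV h)
  set O := Cfsg.pCoreOf p E with hOdef
  have hM1O : M1 ≤ O := by
    rw [hOdef, Cfsg.pCoreOf, ← Subgroup.map_subgroupOf_eq_of_le hM1E]
    refine Subgroup.map_mono (le_core_of_normal ?_ ?_)
    · exact Subgroup.normal_subgroupOf_iff_le_normalizer hM1E |>.mpr hM1n
    · exact (CfsgLib.PLocal.isEA_isPGroup hM1EA).comap_subtype
  set U := Cfsg.omegaOneCenter p O with hUdef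
  set U₀ := U ⊓ Subgroup.centralizer (E : Set G) with hU₀def
  have hUEA : Cfsg.IsElementaryAbelian p U := CfsgLib.PLocal.omegaCenter_isEA O
  have hnot : ∀ L : Subgroup G, ⁅L, E⁆ ≠ ⊥ → ¬ L ≤ U₀ := fun L hL h => hL
    (Subgroup.commutator_eq_bot_iff_le_centralizer.mpr (h.trans inf_le_right))
  have hU0n : E ≤ Subgroup.normalizer (U₀ : Set G) := fun e he => mem_normalizer_of_le fun u hu => by
    rw [show e * u * e⁻¹ = u by rw [hu.2 e he, mul_inv_cancel_right]]
    exact hu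
  have hsup : ∀ X Y : Subgroup G, E ≤ Subgroup.normalizer (X : Set G) →
      E ≤ Subgroup.normalizer (Y : Set G) → E ≤ Subgroup.normalizer ((X ⊔ Y : Subgroup G) : Set G) := by
    intro X Y hX hY e he
    refine CfsgLib.PLocal.mem_normalizer_of_map_conj_eq ?_
    rw [Subgroup.map_sup, CfsgLib.PLocal.map_conj_eq_of_mem_normalizer (hX he),
      CfsgLib.PLocal.map_conj_eq_of_mem_normalizer (hY he)]
  -- `M1` lies in `U`, and it covers `U` modulo the fixed points
  have key : M1 ≤ U ∧ M1 ⊔ U₀ = U := by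
    rcases hcase with ⟨F, iF, iFt, n, hn, -, hact, hor⟩ | ⟨-, m, -, hact, hO⟩
    · have hM1U : M1 ≤ U := by
        rcases hor with h | ⟨hp3, hact2, hOO, -, hZE, hcard, -⟩
        · exact hM1O.trans h.le
        by_contra hne
        have hUn : E ≤ Subgroup.normalizer (U : Set G) := hact.1
        have hUO : U ≤ O := hact2.2.1
        have htop : M1 ⊔ U = O := section_simple_sl2 hact2 le_sup_right (sup_le hM1O hUO)
          (hsup _ _ hM1n hUn) fun h => hne (le_sup_left.trans h)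
        have hcomm : ⁅O, O⁆ = ⊥ := by
          rw [Subgroup.commutator_eq_bot_iff_le_centralizer]
          have h1 : U ≤ Subgroup.centralizer (O : Set G) :=
            (CfsgLib.PLocal.omegaOne_le p _).trans inf_le_right
          conv_lhs => rw [← htop]
          refine sup_le ?_ h1
          rw [Subgroup.le_centralizer_iff, ← htop]
          refine sup_le (Subgroup.le_centralizer_iff_isMulCommutative.mpr hM1EA.1) ?_
          exact h1.trans (Subgroup.centralizer_le (hM1O))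
        have h1 : E ⊓ Subgroup.centralizer (E : Set G) = ⊥ := by rw [hZE, ← hOO, hcomm]
        rw [h1, Subgroup.card_bot] at hcard
        have hn0 : n ≠ 0 := by
          intro h0
          rw [h0, pow_zero] at hn
          exact (Fintype.one_lt_card (α := F)).ne' hn
        exact (Nat.one_lt_pow hn0 (by norm_num)).ne hcard
      exact ⟨hM1U, section_simple_sl2 hact le_sup_right (sup_le hM1U hact.2.1)
        (hsup _ _ hM1n hU0n) fun h => hnot _ hM2ne (le_sup_left.trans h)⟩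
    · have hM1U : M1 ≤ U := hM1O.trans hO.le
      exact ⟨hM1U, section_simple_alt hact le_sup_right (sup_le hM1U hact.2.1)
        (hsup _ _ hM1n hU0n) fun h => hnot _ hM2ne (le_sup_left.trans h)⟩
  obtain ⟨hM1U, hcov⟩ := key
  have hWM : ⁅U, E⁆ ≤ M1 := by
    refine Subgroup.commutator_le.mpr fun u hu e he => ?_
    rw [← hcov, ← SetLike.mem_coe, Subgroup.coe_mul_of_right_le_normalizer_left M1 U₀
      (fun x hx => mem_normalizer_of_le fun y hy => by
        rw [show x * y * x⁻¹ = y by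
          rw [(CfsgLib.PLocal.commute_of_mem_comm hUEA.1 hx.1 (hM1U hy)).eq, mul_inv_cancel_right]]
        exact hy)] at hu
    obtain ⟨w, hw, u0, hu0, rfl⟩ := hu
    rw [show ⁅w * u0, e⁆ = w * (u0 * e * u0⁻¹ * e⁻¹) * e * w⁻¹ * e⁻¹ by
      rw [commutatorElement_def]; group]
    rw [← hu0.2 e he, mul_inv_cancel_right, mul_inv_cancel, mul_one, mul_assoc (w * e), mul_assoc w]
    exact mul_mem hw ((Subgroup.mem_normalizer_iff.mp (hM1n he) _).mp (inv_mem hw) |> fun h => by
      simpa [mul_assoc] using h)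
  refine ⟨hQE, hWM.trans hM1V, fun h => hM2ne ?_⟩
  refine commutator_eq_bot_of_stable hres hM1EA hM1n (le_bot_iff.mp ?_)
  rw [← h]
  exact Subgroup.commutator_mono (Subgroup.commutator_mono hM1U le_rfl) le_rfl

/-- `J(T)` does not centralize `W`. -/
theorem commutator_thompson_ne_bot
    (hG : Subgroup.centralizer (Cfsg.pCore p G : Set G) ≤ Cfsg.pCore p G)
    (T : Sylow p G) {E : Subgroup G} (hE : Cfsg.IsBaumannBlock p (T : Subgroup G) E) :
    ⁅⁅Cfsg.omegaOneCenter p (Cfsg.pCoreOf p E), E⁆,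
      Cfsg.thompsonSubgroupOf p (T : Subgroup G)⁆ ≠ ⊥ := by
  obtain ⟨-, hWV, hWne⟩ := block_module hG T hE
  intro h
  set U := Cfsg.omegaOneCenter p (Cfsg.pCoreOf p E) with hUdef
  set W := ⁅U, E⁆ with hWdef
  set J := Cfsg.thompsonSubgroupOf p (T : Subgroup G) with hJdef
  have hWJ : W ≤ Subgroup.centralizer (J : Set G) :=
    Subgroup.commutator_eq_bot_iff_le_centralizer.mp h
  have hWT : W ≤ (T : Subgroup G) := hWV.trans (((CfsgLib.PLocal.omegaOne_le p _).trans
    inf_le_left).trans (CfsgLib.Solvable.pCore_le_sylow T))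
  have hWp : ∀ w ∈ W, w ^ p = 1 := fun w hw =>
    (CfsgLib.PLocal.omegaCenter_isEA (p := p) (Cfsg.pCore p G)).2 w (hWV hw)
  have hWX : W ≤ Cfsg.omegaOne p (Cfsg.centerThompsonOf p (T : Subgroup G)) := by
    intro w hw
    refine CfsgLib.PLocal.mem_omegaOne ⟨?_, hWJ hw⟩ (hWp w hw)
    obtain ⟨A, hA⟩ := CfsgLib.PLocal.exists_maxEAIn p (T : Subgroup G)
    have hAJ : A ≤ J := by
      rw [hJdef, CfsgLib.PLocal.thompsonSubgroupOf_eq]
      exact le_sSup hA
    exact hAJ (CfsgLib.PLocal.mem_maxEAIn_of_centralizing hA (hWT hw)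
      (Subgroup.centralizer_le hAJ (hWJ hw)) (hWp w hw))
  have hEW : E ≤ Subgroup.normalizer (W : Set G) := by
    refine le_normalizer_commutator fun e he => ?_
    rcases hE.2.2.2.2 with ⟨F, iF, iFt, n, -, -, hact, -⟩ | ⟨-, m, -, hact, -⟩
    exacts [hact.1 he, hact.1 he]
  have hEc : ⁅E, Cfsg.baumannSubgroupOf p (T : Subgroup G)⁆ ≤ Subgroup.centralizer (W : Set G) :=
    commutator_le_centralizer hEW fun b hb => Subgroup.centralizer_le hWX hb.2
  rw [hE.2.1] at hEc
  exact hWne (Subgroup.commutator_eq_bot_iff_le_centralizer.mpr (Subgroup.le_centralizer_iff.mp hEc))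

end CfsgLib.LocalEven.BBlock
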