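import Cfsg.Agent.Lib.LocalEven.CDBasic
import Mathlib.GroupTheory.Commutator.Basic

/-!
Centrally large subgroups against abelian subgroups of largest order, and the comparison of
minimal centrally large subgroups.
-/

set_option autoImplicit false

open scoped Pointwise commutatorElement

namespace CfsgLib.LocalEven

open CfsgLib.LocEven

variable {P : Type*} [Group P] [Finite P]

/-- A centrally large subgroup times an abelian subgroup of largest order. -/
theorem cl_maxAbelian {Q A : Subgroup P} (hQ : Cfsg.IsCentrallyLarge Q)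
    (hA : A ∈ Cfsg.maxAbelianSubgroups P) :
    Cfsg.IsCentrallyLarge (Q ⊔ A) ∧ ((Q ⊔ A : Subgroup P) : Set P) = (Q : Set P) * (A : Set P) ∧
    (Q ⊔ A) ⊓ Subgroup.centralizer ((Q ⊓ A : Subgroup P) : Set P) =
      Subgroup.centralizer (Q : Set P) ⊔ A ∧
    ((Subgroup.centralizer (Q : Set P) ⊔ A : Subgroup P) : Set P) =
      (Subgroup.centralizer (Q : Set P) : Set P) * (A : Set P) := by
  obtain ⟨hQl, hQc⟩ := centrallyLarge_iff.mp hQ
  have hCA : Subgroup.centralizer (A : Set P) = A := centralizer_eq_of_mem_maxAbelian hA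
  set Z := Subgroup.centralizer (Q : Set P) with hZ
  have hZab : Z ≤ Subgroup.centralizer (Z : Set P) := hQc.trans (le_double_centralizer Q)
  have hAab : A ≤ Subgroup.centralizer (A : Set P) := hCA.ge
  set B := Z ⊔ (Q ⊓ A) with hBdef
  have hBab : B ≤ Subgroup.centralizer (B : Set P) := by
    rw [hBdef, centralizer_sup]
    refine le_inf (sup_le hZab (inf_le_left.trans (le_double_centralizer Q))) (sup_le ?_ ?_)
    · exact Subgroup.centralizer_le fun y (hy : y ∈ Q ⊓ A) => hy.1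
    · exact inf_le_right.trans (hAab.trans (Subgroup.centralizer_le fun y (hy : y ∈ Q ⊓ A) => hy.2))
  have hBA : Nat.card B ≤ Nat.card A := hA.2 B (comm_of_le_centralizer hBab)
  have hinf : Z ⊓ (Q ⊓ A) = Z ⊓ A := by
    rw [← inf_assoc, inf_eq_left.mpr hQc]
  have hC : Subgroup.centralizer ((Q ⊔ A : Subgroup P) : Set P) = Z ⊓ A := by
    rw [centralizer_sup, hCA]
  have h1 : Nat.card Q * Nat.card A ≤ Nat.card ↥(Q ⊓ A) * Nat.card ↥(Q ⊔ A) :=
    card_mul_card_le_card_inf_mul_sup Q A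
  have h2 : Nat.card Z * Nat.card ↥(Q ⊓ A) ≤ Nat.card ↥(Z ⊓ A) * Nat.card B := by
    rw [← hinf]
    exact card_mul_card_le_card_inf_mul_sup Z (Q ⊓ A)
  have hM : Nat.card Q * Nat.card Z = Cfsg.maxCentralizerProduct P := hQl
  set i := Nat.card ↥(Q ⊓ A)
  set k := Nat.card ↥(Q ⊔ A)
  set z0 := Nat.card ↥(Z ⊓ A)
  set a := Nat.card A
  set q := Nat.card Q
  set z := Nat.card Z
  set M := Cfsg.maxCentralizerProduct P
  have hipos : 0 < i := Nat.card_pos
  have hqpos : 0 < q := Nat.card_pos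
  have hz0pos : 0 < z0 := Nat.card_pos
  have h2' : z * i ≤ z0 * a := h2.trans (Nat.mul_le_mul_left _ hBA)
  have hge : M ≤ k * z0 := by
    refine Nat.le_of_mul_le_mul_right ?_ hipos
    calc M * i = q * (z * i) := by rw [← hM, mul_assoc]
      _ ≤ q * (z0 * a) := Nat.mul_le_mul_left _ h2'
      _ = z0 * (q * a) := by ring
      _ ≤ z0 * (i * k) := Nat.mul_le_mul_left _ h1
      _ = k * z0 * i := by ring
  have hKl : Cfsg.IsCentralizerLarge (Q ⊔ A) :=
    isCentralizerLarge_of_max_le (by rw [hC]; exact hge)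
  have hKM : k * z0 = M := by
    have h : k * Nat.card ↥(Subgroup.centralizer ((Q ⊔ A : Subgroup P) : Set P)) = M := hKl
    rwa [hC] at h
  have hKcl : Cfsg.IsCentrallyLarge (Q ⊔ A) :=
    centrallyLarge_iff.mpr ⟨hKl, hC.le.trans (inf_le_right.trans le_sup_right)⟩
  have e1 : i * k ≤ q * a := by
    refine Nat.le_of_mul_le_mul_left ?_ hz0pos
    calc z0 * (i * k) = k * z0 * i := by ring
      _ = q * (z * i) := by rw [hKM, ← hM, mul_assoc]
      _ ≤ q * (z0 * a) := Nat.mul_le_mul_left _ h2'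
      _ = z0 * (q * a) := by ring
  have e2 : z0 * a ≤ z * i := by
    refine Nat.le_of_mul_le_mul_left ?_ hqpos
    calc q * (z0 * a) = z0 * (q * a) := by ring
      _ ≤ z0 * (i * k) := Nat.mul_le_mul_left _ h1
      _ = k * z0 * i := by ring
      _ = q * (z * i) := by rw [hKM, ← hM, mul_assoc]
  have hBcard : a ≤ Nat.card B := Nat.le_of_mul_le_mul_left (e2.trans h2) hz0pos
  have hBmax : B ∈ Cfsg.maxAbelianSubgroups P :=
    ⟨comm_of_le_centralizer hBab, fun X hX => (hA.2 X hX).trans hBcard⟩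
  have hCB : Subgroup.centralizer (B : Set P) = B := centralizer_eq_of_mem_maxAbelian hBmax
  have hQA : ((Q ⊔ A : Subgroup P) : Set P) = (Q : Set P) * (A : Set P) :=
    coe_sup_eq_mul fun x hx => exists_mul_of_card_le le_sup_left le_sup_right e1 hx
  have hmul : ∀ x ∈ (Q ⊔ A) ⊓ Subgroup.centralizer ((Q ⊓ A : Subgroup P) : Set P),
      ∃ u ∈ Z, ∃ v ∈ A, x = u * v := by
    intro x hx
    obtain ⟨hxK, hxC⟩ := Subgroup.mem_inf.mp hx
    obtain ⟨g, hg, v, hv, rfl⟩ := mem_sup_mul_of_coe hQA hxK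
    have hvC : v ∈ Subgroup.centralizer ((Q ⊓ A : Subgroup P) : Set P) :=
      Subgroup.centralizer_le (fun y (hy : y ∈ Q ⊓ A) => hy.2) (hAab hv)
    have hgC : g ∈ Subgroup.centralizer ((Q ⊓ A : Subgroup P) : Set P) := by
      simpa [mul_assoc] using mul_mem hxC (inv_mem hvC)
    have hgB : g ∈ B := by
      rw [← hCB, hBdef, centralizer_sup]
      exact ⟨le_double_centralizer Q hg, hgC⟩
    obtain ⟨u, hu, w, hw, rfl⟩ := exists_mul_of_card_le (H := Z) (K := Q ⊓ A) (L := B)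
      le_sup_left le_sup_right
      (by rw [hinf]; exact (Nat.mul_le_mul_left _ hBA).trans e2) hgB
    exact ⟨u, hu, w * v, mul_mem hw.2 hv, mul_assoc _ _ _⟩
  have hle : Z ⊔ A ≤ (Q ⊔ A) ⊓ Subgroup.centralizer ((Q ⊓ A : Subgroup P) : Set P) :=
    sup_le (le_inf (hQc.trans le_sup_left) (Subgroup.centralizer_le fun y (hy : y ∈ Q ⊓ A) => hy.1))
      (le_inf le_sup_right (hAab.trans (Subgroup.centralizer_le fun y (hy : y ∈ Q ⊓ A) => hy.2)))
  refine ⟨hKcl, hQA, le_antisymm (fun x hx => ?_) hle, coe_sup_eq_mul fun x hx => hmul x (hle hx)⟩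
  obtain ⟨u, hu, v, hv, rfl⟩ := hmul x hx
  exact Subgroup.mul_mem_sup hu hv

theorem cl_sup_thompson {Q : Subgroup P} (hQ : Cfsg.IsCentrallyLarge Q) :
    Cfsg.IsCentrallyLarge (Q ⊔ Cfsg.thompsonSubgroupA P) := by
  suffices hk : ∀ t : Set (Subgroup P), t.Finite → t ⊆ Cfsg.maxAbelianSubgroups P →
      Cfsg.IsCentrallyLarge (Q ⊔ sSup t) from hk _ (Set.toFinite _) le_rfl
  intro t ht
  induction t, ht using Set.Finite.induction_on with
  | empty => intro _; simpa using hQ
  | @insert a t _ _ ih =>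
    intro hts
    rw [sSup_insert, sup_left_comm, sup_comm]
    exact (cl_maxAbelian (ih ((Set.subset_insert a t).trans hts)) (hts (Set.mem_insert a t))).1

/-- A centrally large subgroup containing `J(P)` contains `C(Z(J(P)))`. -/
theorem centralizer_center_thompson_le {K : Subgroup P} (hK : Cfsg.IsCentrallyLarge K)
    (hJ : Cfsg.thompsonSubgroupA P ≤ K) :
    Subgroup.centralizer ((Cfsg.thompsonSubgroupA P ⊓
      Subgroup.centralizer (Cfsg.thompsonSubgroupA P : Set P) : Subgroup P) : Set P) ≤ K := by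
  obtain ⟨A, hA⟩ := exists_maxAbelian (G := P)
  have hAJ : A ≤ Cfsg.thompsonSubgroupA P := le_sSup hA
  have hCK : Subgroup.centralizer (K : Set P) ≤ Cfsg.thompsonSubgroupA P ⊓
      Subgroup.centralizer (Cfsg.thompsonSubgroupA P : Set P) :=
    le_inf ((Subgroup.centralizer_le (hAJ.trans hJ)).trans
      ((centralizer_eq_of_mem_maxAbelian hA).le.trans hAJ)) (Subgroup.centralizer_le hJ)
  exact (Subgroup.centralizer_le hCK).trans
    (large_double_centralizer (centrallyLarge_iff.mp hK).1).le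

theorem mcl_eq_inf_sup {Q R : Subgroup P} (hQ : Cfsg.IsMinimalCentrallyLarge Q)
    (hR : Cfsg.IsMinimalCentrallyLarge R) :
    (Q ⊓ R) ⊔ Subgroup.centralizer (Q : Set P) = Q := by
  obtain ⟨hQl, hQc⟩ := centrallyLarge_iff.mp hQ.1
  obtain ⟨hRl, hRc⟩ := centrallyLarge_iff.mp hR.1
  have hle : (Q ⊓ R) ⊔ Subgroup.centralizer (Q : Set P) ≤ Q := sup_le inf_le_left hQc
  refine hQ.2 _ hle (centrallyLarge_iff.mpr
    ⟨(large_lattice (large_lattice hQl hRl).2.1 (large_centralizer hQl)).1, ?_⟩)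
  rw [centralizer_sup, large_double_centralizer hQl]
  rintro x ⟨hx1, hx2⟩
  obtain ⟨a, ha, b, hb, rfl⟩ := large_inf_centralizer_mem hQl hRl hx1
  have hbQ : b ∈ Q := by simpa using mul_mem (inv_mem (hQc ha)) hx2
  exact mul_mem (Subgroup.mem_sup_right ha) (Subgroup.mem_sup_left ⟨hbQ, hRc hb⟩)

theorem mcl_commutator_le {Q R : Subgroup P} (hQ : Cfsg.IsMinimalCentrallyLarge Q)
    (hR : Cfsg.IsMinimalCentrallyLarge R) : ⁅Q, Q⁆ ≤ ⁅Q ⊓ R, Q ⊓ R⁆ := by
  have he := mcl_eq_inf_sup hQ hR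
  have hQl := (centrallyLarge_iff.mp hQ.1).1
  have hcoe := large_sup_coe (large_lattice hQl (centrallyLarge_iff.mp hR.1).1).2.1
    (large_centralizer hQl)
  refine Subgroup.commutator_le.mpr fun x hx y hy => ?_
  rw [← he] at hx hy
  obtain ⟨h, hh, z, hz, rfl⟩ := mem_sup_mul_of_coe hcoe hx
  obtain ⟨h', hh', z', hz', rfl⟩ := mem_sup_mul_of_coe hcoe hy
  have cz : ∀ w ∈ Q, ∀ u ∈ Subgroup.centralizer (Q : Set P), w * u = u * w :=
    fun w hw u hu => Subgroup.mem_centralizer_iff.mp hu w hw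
  have hy' : h' * z' ∈ Q := by rw [← he]; exact hy
  have e : ⁅h * z, h' * z'⁆ = ⁅h, h'⁆ := by
    simp only [commutatorElement_def]
    calc h * z * (h' * z') * (h * z)⁻¹ * (h' * z')⁻¹
        = h * (z * (h' * z') * z⁻¹) * h⁻¹ * (h' * z')⁻¹ := by group
      _ = h * (h' * z') * h⁻¹ * (h' * z')⁻¹ := by rw [← cz _ hy' z hz, mul_inv_cancel_right]
      _ = h * h' * (z' * h⁻¹ * z'⁻¹) * h'⁻¹ := by group
      _ = h * h' * h⁻¹ * h'⁻¹ := by
          rw [← cz _ (inv_mem hh.1) z' hz', mul_inv_cancel_right]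
  rw [e]
  exact Subgroup.commutator_mem_commutator hh hh'

theorem mcl_commutator_eq {Q R : Subgroup P} (hQ : Cfsg.IsMinimalCentrallyLarge Q)
    (hR : Cfsg.IsMinimalCentrallyLarge R) : ⁅Q, Q⁆ = ⁅R, R⁆ :=
  le_antisymm ((mcl_commutator_le hQ hR).trans (Subgroup.commutator_mono inf_le_right inf_le_right))
    ((mcl_commutator_le hR hQ).trans (Subgroup.commutator_mono inf_le_right inf_le_right))

theorem mcl_card_aux {Q R : Subgroup P} (hQ : Cfsg.IsMinimalCentrallyLarge Q)
    (hR : Cfsg.IsMinimalCentrallyLarge R) :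
    Nat.card Q * Nat.card Q *
        Nat.card ↥((Q ⊓ R) ⊓ Subgroup.centralizer ((Q ⊓ R : Subgroup P) : Set P)) =
      Nat.card ↥(Q ⊓ R) * Cfsg.maxCentralizerProduct P := by
  have he := mcl_eq_inf_sup hQ hR
  have hQl := (centrallyLarge_iff.mp hQ.1).1
  have hl := (large_lattice (large_lattice hQl (centrallyLarge_iff.mp hR.1).1).2.1
    (large_centralizer hQl)).2.2.1
  rw [he] at hl
  have hinf : (Q ⊓ R) ⊓ Subgroup.centralizer ((Q ⊓ R : Subgroup P) : Set P) =
      (Q ⊓ R) ⊓ Subgroup.centralizer (Q : Set P) := by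
    refine le_antisymm (le_inf inf_le_left ?_)
      (inf_le_inf_left _ (Subgroup.centralizer_le fun y (hy : y ∈ Q ⊓ R) => hy.1))
    intro x hx
    rw [← he, centralizer_sup]
    exact ⟨hx.2, le_double_centralizer Q hx.1.1⟩
  have hM : Nat.card Q * Nat.card ↥(Subgroup.centralizer (Q : Set P)) =
      Cfsg.maxCentralizerProduct P := hQl
  rw [hinf, ← hM, mul_assoc, mul_comm (Nat.card Q) (Nat.card ↥((Q ⊓ R) ⊓ _)), ← hl]
  ring

theorem mcl_card_eq {Q R : Subgroup P} (hQ : Cfsg.IsMinimalCentrallyLarge Q)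
    (hR : Cfsg.IsMinimalCentrallyLarge R) :
    Nat.card Q = Nat.card R ∧ Nat.card ↥(Subgroup.centralizer (Q : Set P)) =
      Nat.card ↥(Subgroup.centralizer (R : Set P)) := by
  have h1 := mcl_card_aux hQ hR
  have h2 := mcl_card_aux hR hQ
  rw [inf_comm R Q, ← h1] at h2
  have hqr : Nat.card Q = Nat.card R :=
    (Nat.mul_self_inj.mp (Nat.eq_of_mul_eq_mul_right Nat.card_pos h2)).symm
  refine ⟨hqr, Nat.eq_of_mul_eq_mul_left (Nat.card_pos (α := Q)) ?_⟩
  conv_rhs => rw [hqr]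
  exact ((centrallyLarge_iff.mp hQ.1).1).trans ((centrallyLarge_iff.mp hR.1).1).symm

/-- If one minimal centrally large subgroup is abelian then they are the abelian subgroups of
largest order. -/
theorem mcl_iff_maxAbelian {Q : Subgroup P} (hQ : Cfsg.IsMinimalCentrallyLarge Q)
    (hab : IsMulCommutative Q) (X : Subgroup P) :
    Cfsg.IsMinimalCentrallyLarge X ↔ X ∈ Cfsg.maxAbelianSubgroups P := by
  obtain ⟨hQl, hQc⟩ := centrallyLarge_iff.mp hQ.1
  have hCQ : Subgroup.centralizer (Q : Set P) = Q := le_antisymm hQc (le_centralizer_self hab)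
  have hM : Nat.card Q * Nat.card Q = Cfsg.maxCentralizerProduct P := by
    have h : Nat.card Q * Nat.card ↥(Subgroup.centralizer (Q : Set P)) = _ := hQl
    rwa [hCQ] at h
  have hQbot : ⁅Q, Q⁆ = ⊥ :=
    Subgroup.commutator_eq_bot_iff_le_centralizer.mpr (le_centralizer_self hab)
  have hmax : Q ∈ Cfsg.maxAbelianSubgroups P := by
    refine ⟨hab, fun B hB => Nat.mul_self_le_mul_self_iff.mp ?_⟩
    rw [hM]
    exact (Nat.mul_le_mul_left _ (Nat.le_of_dvd Nat.card_pos
      (Subgroup.card_dvd_of_le (le_centralizer_self hB)))).trans (measure_le_max B)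
  constructor
  · intro hX
    refine ⟨comm_of_le_centralizer (Subgroup.commutator_eq_bot_iff_le_centralizer.mp
      ((mcl_commutator_eq hX hQ).trans hQbot)), fun B hB => ?_⟩
    rw [(mcl_card_eq hX hQ).1]
    exact hmax.2 B hB
  · intro hX
    have hXQ : Nat.card X = Nat.card Q := le_antisymm (hmax.2 X hX.1) (hX.2 Q hab)
    have hXcl : Cfsg.IsCentrallyLarge X := by
      refine centrallyLarge_iff.mpr ⟨?_, (centralizer_eq_of_mem_maxAbelian hX).le⟩
      show _ = Cfsg.maxCentralizerProduct P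
      rw [centralizer_eq_of_mem_maxAbelian hX, hXQ, hM]
    obtain ⟨R, hRX, hR⟩ := exists_minimal_cl_le hXcl
    have : R = X := Subgroup.eq_of_le_of_card_ge hRX (hXQ.trans (mcl_card_eq hQ hR).1).le
    exact this ▸ hR

omit [Finite P] in
theorem mem_normalizer_centralizer {S : Subgroup P} {g : P}
    (hg : g ∈ Subgroup.normalizer (S : Set P)) :
    g ∈ Subgroup.normalizer ((Subgroup.centralizer (S : Set P) : Subgroup P) : Set P) := by
  refine Subgroup.mem_normalizer_iff.mpr fun x => ?_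
  simp only [SetLike.mem_coe, Subgroup.mem_centralizer_iff]
  constructor
  · intro h s hs
    have hh := h _ ((Subgroup.mem_normalizer_iff''.mp hg s).mp hs)
    calc s * (g * x * g⁻¹) = g * ((g⁻¹ * s * g) * x) * g⁻¹ := by group
      _ = g * (x * (g⁻¹ * s * g)) * g⁻¹ := by rw [hh]
      _ = g * x * g⁻¹ * s := by group
  · intro h s hs
    have hh := h _ ((Subgroup.mem_normalizer_iff.mp hg s).mp hs)
    calc s * x = g⁻¹ * ((g * s * g⁻¹) * (g * x * g⁻¹)) * g := by group
      _ = g⁻¹ * ((g * x * g⁻¹) * (g * s * g⁻¹)) * g := by rw [hh]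
      _ = x * s := by group

end CfsgLib.LocalEven
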