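import Cfsg.Agent.Lib.LocalEven.CDBasic
import Mathlib.GroupTheory.Nilpotent
import Mathlib.Order.PiLex

/-!
A replacement theorem for minimal centrally large subgroups: one of them, chosen
lexicographically along the upper central series, has its centralizer normalized by every
abelian subgroup permuting with it.
-/

set_option autoImplicit false

open scoped Pointwise

namespace CfsgLib.LocalEven

open CfsgLib.LocEven

variable {P : Type*} [Group P] [Finite P]

theorem mem_map_conj_iff {Q : Subgroup P} {g x : P} :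
    x ∈ Q.map (MulAut.conj g).toMonoidHom ↔ g⁻¹ * x * g ∈ Q := by
  refine ⟨?_, fun h => ⟨_, h, by simp [mul_assoc]⟩⟩
  rintro ⟨y, hy, rfl⟩
  simpa [mul_assoc] using hy

/-- Lexicographic weight of a subgroup along the upper central series. -/
noncomputable def flagKey (n : ℕ) (X : Subgroup P) : Lex (Fin (n + 1) → ℕ) :=
  toLex fun i => Nat.card ↥(X ⊓ Subgroup.upperCentralSeries P (i : ℕ))

theorem flagKey_lt {n : ℕ} {X Y : Subgroup P} {j : Fin (n + 1)}
    (hle : ∀ i < j, Nat.card ↥(X ⊓ Subgroup.upperCentralSeries P (i : ℕ)) ≤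
      Nat.card ↥(Y ⊓ Subgroup.upperCentralSeries P (i : ℕ)))
    (hlt : Nat.card ↥(X ⊓ Subgroup.upperCentralSeries P (j : ℕ)) <
      Nat.card ↥(Y ⊓ Subgroup.upperCentralSeries P (j : ℕ))) :
    flagKey n X < flagKey n Y := by
  classical
  set s := Finset.univ.filter (fun i : Fin (n + 1) =>
    Nat.card ↥(X ⊓ Subgroup.upperCentralSeries P (i : ℕ)) ≠
      Nat.card ↥(Y ⊓ Subgroup.upperCentralSeries P (i : ℕ))) with hs
  have hj : j ∈ s := Finset.mem_filter.mpr ⟨Finset.mem_univ _, hlt.ne⟩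
  obtain ⟨i₀, hi₀, hmin⟩ := Finset.exists_min_image s id ⟨j, hj⟩
  refine ⟨i₀, fun i hi => ?_, ?_⟩
  · by_contra hne
    exact absurd (hmin i (Finset.mem_filter.mpr ⟨Finset.mem_univ _, hne⟩)) (not_le.mpr hi)
  · rcases lt_or_eq_of_le (hmin j hj) with h | h
    · exact lt_of_le_of_ne (hle i₀ h) (Finset.mem_filter.mp hi₀).2
    · simp only [id_eq] at h
      subst h
      exact hlt

theorem le_normalizer_centralizer_of_maximal [Group.IsNilpotent P] {Q : Subgroup P}
    (hQ : Cfsg.IsMinimalCentrallyLarge Q)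
    (hmax : ∀ Q' : Subgroup P, Cfsg.IsMinimalCentrallyLarge Q' →
      flagKey (Group.nilpotencyClass P) (Subgroup.centralizer (Q' : Set P)) ≤
        flagKey (Group.nilpotencyClass P) (Subgroup.centralizer (Q : Set P)))
    {B : Subgroup P} (hB : B ≤ Subgroup.centralizer (B : Set P))
    (hQB : ((Q ⊔ B : Subgroup P) : Set P) = (Q : Set P) * (B : Set P))
    (hZB : ((Subgroup.centralizer (Q : Set P) ⊔ B : Subgroup P) : Set P) =
      (Subgroup.centralizer (Q : Set P) : Set P) * (B : Set P)) :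
    B ≤ Subgroup.normalizer ((Subgroup.centralizer (Q : Set P) : Subgroup P) : Set P) := by
  obtain ⟨hQl, hQc⟩ := centrallyLarge_iff.mp hQ.1
  set Z := Subgroup.centralizer (Q : Set P) with hZ
  have hZab : Z ≤ Subgroup.centralizer (Z : Set P) := fun z hz =>
    Subgroup.mem_centralizer_iff.mpr fun w hw =>
      Subgroup.mem_centralizer_iff.mp hz w (hQc hw)
  set N := ⨅ b : B, Z.map (MulAut.conj (b : P)).toMonoidHom with hN
  set L := ⨆ b : B, Z.map (MulAut.conj (b : P)).toMonoidHom with hL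
  set E := ⨅ b : B, Q.map (MulAut.conj (b : P)).toMonoidHom with hE
  set T := ⨆ b : B, Q.map (MulAut.conj (b : P)).toMonoidHom with hT
  have hNl : Cfsg.IsCentralizerLarge N :=
    large_iInf fun b => large_map_conj (large_centralizer hQl) _
  have hLl : Cfsg.IsCentralizerLarge L :=
    large_iSup fun b => large_map_conj (large_centralizer hQl) _
  have hTl : Cfsg.IsCentralizerLarge T := large_iSup fun b => large_map_conj hQl _
  have hCT : Subgroup.centralizer (T : Set P) = N := by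
    rw [hT, centralizer_iSup_eq]
    exact iInf_congr fun b => by rw [centralizer_map_conj]
  have hCN : Subgroup.centralizer (N : Set P) = T := hCT ▸ large_double_centralizer hTl
  have hCL : Subgroup.centralizer (L : Set P) = E := by
    rw [hL, centralizer_iSup_eq]
    exact iInf_congr fun b => by rw [centralizer_map_conj, hZ, large_double_centralizer hQl]
  have h1 : ∀ S : Subgroup P, S.map (MulAut.conj ((1 : B) : P)).toMonoidHom = S := fun S => by
    ext x; rw [mem_map_conj_iff]; simp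
  have hNZ : N ≤ Z := (iInf_le _ (1 : B)).trans (h1 Z).le
  have hEQ : E ≤ Q := (iInf_le _ (1 : B)).trans (h1 Q).le
  have hZL : Z ≤ L := le_trans (h1 Z).ge (le_iSup (fun b : B => Z.map (MulAut.conj (b : P)).toMonoidHom) 1)
  have hNL : N ≤ L := hNZ.trans hZL
  have hLN : L ≤ Subgroup.centralizer (N : Set P) := by
    refine iSup_le fun b => ?_
    rw [Subgroup.le_centralizer_iff]
    refine (iInf_le _ b).trans ?_
    rw [centralizer_map_conj]
    exact Subgroup.map_mono hZab
  have hLS : L ≤ Z ⊔ B := by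
    refine iSup_le fun b => ?_
    rintro _ ⟨z, hz, rfl⟩
    exact mul_mem (mul_mem (Subgroup.mem_sup_right b.2) (Subgroup.mem_sup_left hz))
      (inv_mem (Subgroup.mem_sup_right b.2))
  have hTS : T ≤ Q ⊔ B := by
    refine iSup_le fun b => ?_
    rintro _ ⟨z, hz, rfl⟩
    exact mul_mem (mul_mem (Subgroup.mem_sup_right b.2) (Subgroup.mem_sup_left hz))
      (inv_mem (Subgroup.mem_sup_right b.2))
  -- `B` permutes the conjugates
  have hconjN : ∀ b ∈ B, ∀ x ∈ N, b * x * b⁻¹ ∈ N := by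
    intro b hb x hx
    rw [hN, Subgroup.mem_iInf] at hx ⊢
    intro c
    have h := hx (⟨b⁻¹ * (c : P), mul_mem (inv_mem hb) c.2⟩ : B)
    rw [mem_map_conj_iff] at h ⊢
    simpa [mul_assoc] using h
  have hconjL : ∀ b ∈ B, ∀ x ∈ L, b * x * b⁻¹ ∈ L := by
    intro b hb x hx
    have hle : L.map (MulAut.conj b).toMonoidHom ≤ L := by
      rw [hL, Subgroup.map_iSup]
      refine iSup_le fun c => ?_
      refine le_trans ?_ (le_iSup (fun c : B => Z.map (MulAut.conj (c : P)).toMonoidHom)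
        ⟨b * (c : P), mul_mem hb c.2⟩)
      rintro _ ⟨_, ⟨z, hz, rfl⟩, rfl⟩
      exact ⟨z, hz, by simp [mul_assoc]⟩
    exact hle ⟨x, hx, rfl⟩
  by_contra hnot
  have hLneN : ¬ L ≤ N := by
    intro h
    have hZN : Z = N := le_antisymm (hZL.trans h) hNZ
    refine hnot fun b hb => Subgroup.mem_normalizer_iff.mpr fun x => ?_
    rw [hZN]
    exact ⟨hconjN b hb x, fun hx => by simpa [mul_assoc] using hconjN b⁻¹ (inv_mem hb) _ hx⟩
  -- the first level at which `L` leaves `N`
  set n := Group.nilpotencyClass P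
  have hex : ∃ j, ¬ L ⊓ Subgroup.upperCentralSeries P j ≤ N :=
    ⟨n, by rwa [Subgroup.upperCentralSeries_nilpotencyClass, inf_top_eq]⟩
  classical
  set j := Nat.find hex with hj
  have hjn : j ≤ n := Nat.find_min' hex (by rwa [Subgroup.upperCentralSeries_nilpotencyClass, inf_top_eq])
  have hjmin : ∀ i < j, L ⊓ Subgroup.upperCentralSeries P i ≤ N := fun i hi =>
    not_not.mp (Nat.find_min hex hi)
  have hjspec : ¬ L ⊓ Subgroup.upperCentralSeries P j ≤ N := Nat.find_spec hex
  obtain ⟨k, hk⟩ : ∃ k, j = k + 1 := by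
    refine Nat.exists_eq_succ_of_ne_zero fun h0 => hjspec ?_
    rw [h0, Subgroup.upperCentralSeries_zero, inf_bot_eq]
    exact bot_le
  -- the new centre
  set V := N ⊔ (L ⊓ B) with hV
  have hlevel : L ⊓ Subgroup.upperCentralSeries P j ≤ V := by
    rintro z ⟨hzL, hzF⟩
    obtain ⟨α, hα, β, hβ, rfl⟩ := mem_sup_mul_of_coe hZB (hLS hzL)
    have hαN : α ∈ N := by
      rw [hN, Subgroup.mem_iInf]
      intro b
      rw [mem_map_conj_iff]
      have hb : ((b : P))⁻¹ ∈ B := inv_mem b.2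
      rw [hk] at hzF
      have hcF := Subgroup.mem_upperCentralSeries_succ_iff.mp hzF (b : P)⁻¹
      rw [SetLike.mem_coe] at hzL
      have hcL : α * β * (b : P)⁻¹ * (α * β)⁻¹ * ((b : P)⁻¹)⁻¹ ∈ L := by
        simpa [mul_assoc] using mul_mem hzL (hconjL _ hb _ (inv_mem hzL))
      have hn : α * β * (b : P)⁻¹ * (α * β)⁻¹ * ((b : P)⁻¹)⁻¹ ∈ Z :=
        hNZ (hjmin k (by omega) ⟨hcL, hcF⟩)
      have hcomm : β * (b : P) = (b : P) * β := (Subgroup.mem_centralizer_iff.mp (hB b.2) β hβ)
      have e : (b : P)⁻¹ * α * (b : P) =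
          (α * β * (b : P)⁻¹ * (α * β)⁻¹ * ((b : P)⁻¹)⁻¹)⁻¹ * α := by
        have e2 : β * (b : P) * β⁻¹ = (b : P) := by rw [hcomm, mul_inv_cancel_right]
        calc (b : P)⁻¹ * α * (b : P) = (b : P)⁻¹ * α * (β * (b : P) * β⁻¹) := by rw [e2]
          _ = _ := by group
      rw [e]
      exact mul_mem (inv_mem hn) hα
    refine Subgroup.mul_mem_sup hαN ⟨?_, hβ⟩
    simpa using mul_mem (inv_mem (hNL hαN)) hzL
  have hVL : V ≤ L := sup_le hNL inf_le_left
  have hVab : V ≤ Subgroup.centralizer (V : Set P) := by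
    refine sup_le ?_ ?_
    · rw [Subgroup.le_centralizer_iff]
      exact hVL.trans hLN
    · rw [Subgroup.le_centralizer_iff]
      refine sup_le ?_ ?_
      · rw [Subgroup.le_centralizer_iff]; exact inf_le_left.trans hLN
      · exact inf_le_right.trans (hB.trans (Subgroup.centralizer_le fun y (hy : y ∈ L ⊓ B) => hy.2))
  -- measure of `V`
  have hVl : Cfsg.IsCentralizerLarge V := by
    refine isCentralizerLarge_of_max_le ?_
    set M := Cfsg.maxCentralizerProduct P with hM
    have i1 : Nat.card N * Nat.card ↥(L ⊓ B) ≤ Nat.card ↥(Z ⊓ B) * Nat.card V :=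
      (card_mul_card_le_card_inf_mul_sup N (L ⊓ B)).trans (Nat.mul_le_mul_right _
        (Nat.le_of_dvd Nat.card_pos (Subgroup.card_dvd_of_le
          (le_inf (inf_le_left.trans hNZ) (inf_le_right.trans inf_le_right)))))
    have hCV : E ⊔ (T ⊓ B) ≤ Subgroup.centralizer (V : Set P) := by
      refine sup_le (hCL ▸ Subgroup.centralizer_le hVL) ?_
      rw [Subgroup.le_centralizer_iff]
      refine sup_le ?_ ?_
      · rw [Subgroup.le_centralizer_iff]
        exact inf_le_left.trans hCN.ge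
      · exact inf_le_right.trans (hB.trans (Subgroup.centralizer_le fun y (hy : y ∈ T ⊓ B) => hy.2))
    have i2 : Nat.card E * Nat.card ↥(T ⊓ B) ≤
        Nat.card ↥(Q ⊓ B) * Nat.card ↥(Subgroup.centralizer (V : Set P)) :=
      (card_mul_card_le_card_inf_mul_sup E (T ⊓ B)).trans (Nat.mul_le_mul
        (Nat.le_of_dvd Nat.card_pos (Subgroup.card_dvd_of_le
          (le_inf (inf_le_left.trans hEQ) (inf_le_right.trans inf_le_right))))
        (Nat.le_of_dvd Nat.card_pos (Subgroup.card_dvd_of_le hCV)))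
    -- `L = Z (L ∩ B)` and `T = Q (T ∩ B)`
    have hsplit : ∀ A X : Subgroup P, A ≤ X → X ≤ A ⊔ B →
        ((A ⊔ B : Subgroup P) : Set P) = (A : Set P) * (B : Set P) →
        Nat.card X * Nat.card ↥(A ⊓ B) ≤ Nat.card A * Nat.card ↥(X ⊓ B) := by
      intro A X hAX hX hAB
      let f : A × (X ⊓ B : Subgroup P) → X := fun ab => ⟨ab.1 * ab.2, mul_mem (hAX ab.1.2) (Subgroup.mem_inf.mp ab.2.2).1⟩
      have hfib : ∀ x : X, ∀ a : (A ⊓ B : Subgroup P), ∃ ab, f ab = x := by
        intro x a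
        obtain ⟨u, hu, v, hv, huv⟩ := mem_sup_mul_of_coe hAB (hX x.2)
        refine ⟨(⟨u, hu⟩, ⟨v, Subgroup.mem_inf.mpr ⟨?_, hv⟩⟩), Subtype.ext huv.symm⟩
        have : v = u⁻¹ * x := by rw [huv]; group
        rw [this]
        exact mul_mem (inv_mem (hAX hu)) x.2
      rw [← Nat.card_prod, ← Nat.card_prod]
      choose g hg using fun x : X => hfib x 1
      refine Nat.card_le_card_of_injective (fun xa : X × (A ⊓ B : Subgroup P) =>
        ((⟨((g xa.1).1 : P) * xa.2, mul_mem (g xa.1).1.2 (Subgroup.mem_inf.mp xa.2.2).1⟩ : A),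
          (⟨(xa.2 : P)⁻¹ * (g xa.1).2, Subgroup.mem_inf.mpr
            ⟨mul_mem (inv_mem (hAX (Subgroup.mem_inf.mp xa.2.2).1)) (Subgroup.mem_inf.mp (g xa.1).2.2).1,
            mul_mem (inv_mem (Subgroup.mem_inf.mp xa.2.2).2) (Subgroup.mem_inf.mp (g xa.1).2.2).2⟩⟩ : (X ⊓ B : Subgroup P)))) ?_
      rintro ⟨x, a⟩ ⟨x', a'⟩ h
      simp only [Prod.mk.injEq, Subtype.mk.injEq] at h
      have hx : x = x' := by
        apply Subtype.ext
        have e : ∀ y : X, ∀ c : P, (y : P) = ((g y).1 * c) * (c⁻¹ * (g y).2) := fun y c => by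
          conv_lhs => rw [← hg y]
          simp [f, mul_assoc]
        rw [e x a, e x' a', h.1, h.2]
      subst hx
      exact Prod.ext rfl (Subtype.ext (mul_left_cancel h.1))
    have i3 := hsplit Z L hZL hLS hZB
    have i4 := hsplit Q T (le_trans (h1 Q).ge
      (le_iSup (fun b : B => Q.map (MulAut.conj (b : P)).toMonoidHom) 1)) hTS hQB
    have m1 : Nat.card L * Nat.card E = M := by rw [← hCL]; exact hLl
    have m2 : Nat.card T * Nat.card N = M := by rw [← hCT]; exact hTl
    have m3 : Nat.card Q * Nat.card Z = M := hQl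
    have hpos : 0 < M := maxCentralizerProduct_pos
    refine Nat.le_of_mul_le_mul_left (c := M * (Nat.card ↥(Z ⊓ B) * Nat.card ↥(Q ⊓ B))) ?_
      (Nat.mul_pos hpos (Nat.mul_pos Nat.card_pos Nat.card_pos))
    calc M * (Nat.card ↥(Z ⊓ B) * Nat.card ↥(Q ⊓ B)) * M
        = (Nat.card L * Nat.card ↥(Z ⊓ B)) * (Nat.card T * Nat.card ↥(Q ⊓ B)) *
            (Nat.card E * Nat.card N) := by
          conv_lhs => arg 1; arg 1; rw [← m1]
          rw [← m2]; ring
      _ ≤ (Nat.card Z * Nat.card ↥(L ⊓ B)) * (Nat.card Q * Nat.card ↥(T ⊓ B)) *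
            (Nat.card E * Nat.card N) := by gcongr
      _ = M * ((Nat.card N * Nat.card ↥(L ⊓ B)) * (Nat.card E * Nat.card ↥(T ⊓ B))) := by
          rw [← m3]; ring
      _ ≤ M * ((Nat.card ↥(Z ⊓ B) * Nat.card V) *
            (Nat.card ↥(Q ⊓ B) * Nat.card ↥(Subgroup.centralizer (V : Set P)))) := by gcongr
      _ = _ := by ring
  have hY : Cfsg.IsCentrallyLarge (Subgroup.centralizer (V : Set P)) :=
    centrallyLarge_iff.mpr ⟨large_centralizer hVl, (large_double_centralizer hVl).le.trans hVab⟩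
  obtain ⟨Q', hQ'Y, hQ'⟩ := exists_minimal_cl_le hY
  have hVQ' : V ≤ Subgroup.centralizer (Q' : Set P) :=
    (large_double_centralizer hVl).ge.trans (Subgroup.centralizer_le hQ'Y)
  refine absurd (hmax Q' hQ') (not_le.mpr ?_)
  refine flagKey_lt (j := ⟨j, Nat.lt_succ_of_le hjn⟩) (fun i hi => ?_) ?_
  · refine Nat.le_of_dvd Nat.card_pos (Subgroup.card_dvd_of_le (le_inf ?_ inf_le_right))
    exact ((inf_le_inf_right _ hZL).trans (hjmin i (Fin.lt_def.mp hi))).trans
      (le_sup_left.trans hVQ')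
  · refine lt_of_lt_of_le ?_ (Nat.le_of_dvd Nat.card_pos
      (Subgroup.card_dvd_of_le (le_inf (hlevel.trans hVQ') inf_le_right)))
    show Nat.card ↥(Z ⊓ Subgroup.upperCentralSeries P j) < Nat.card ↥(L ⊓ Subgroup.upperCentralSeries P j)
    by_contra hge
    have heq := Subgroup.eq_of_le_of_card_ge
      (inf_le_inf_right (Subgroup.upperCentralSeries P j) hZL) (not_lt.mp hge)
    refine hjspec fun z hz => ?_
    rw [hN, Subgroup.mem_iInf]
    intro b
    rw [mem_map_conj_iff]
    have hF : (Subgroup.upperCentralSeries P j).Normal := inferInstance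
    have hz' : (b : P)⁻¹ * z * b ∈ L ⊓ Subgroup.upperCentralSeries P j :=
      ⟨by simpa using hconjL _ (inv_mem b.2) z hz.1, by simpa using hF.conj_mem z hz.2 (b : P)⁻¹⟩
    rw [← heq] at hz'
    exact hz'.1

end CfsgLib.LocalEven
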