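import Cfsg.Agent.Lib.PLocal.DicksonSection
import Cfsg.Agent.Lib.PLocal.BaerQuad
import Cfsg.Agent.Lib.PSL2Sub.Generation

/-!
A quadratic element of a group with trivial `p`-core is centralized by an involution.
-/

set_option autoImplicit false
set_option linter.style.haveILetI false

open scoped MatrixGroups
open CfsgLib.SchurSL2 CfsgLib.PLocal CfsgLib.PLoc

namespace CfsgLib.LocalEven.EvenCentralizer

section SL2

variable {k : Type*} [Field k] {p : ℕ} [hp : Fact p.Prime] [CharP k p]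

local notation "M2" => Matrix (Fin 2) (Fin 2) k

theorem two_dvd_of_pow_eq_neg_one (hp2 : p ≠ 2) {M : SL(2, k)} {j : ℕ} (h : M ^ j = -1) :
    2 ∣ orderOf M := by
  have hne : (-1 : SL(2, k)) ≠ 1 := fun e => by
    have e0 := congrFun (congrFun (congrArg (fun x : SL(2, k) => (x : M2)) e) 0) 0
    simp at e0
    exact natCast_two_ne_zero (k := k) hp2 (by linear_combination -e0)
  have h2 : orderOf (M ^ j) = 2 := by
    rw [h]
    exact orderOf_eq_prime neg_one_sq hne
  calc 2 = orderOf (M ^ j) := h2.symm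
    _ ∣ orderOf M := orderOf_pow_dvd j

theorem two_dvd_of_trace_neg_two (hp2 : p ≠ 2) {M : SL(2, k)}
    (h : (M : M2) 0 0 + (M : M2) 1 1 = -2) : 2 ∣ orderOf M := by
  have hu : (-M) ^ p = 1 := by
    refine sl2_pow_of_sq_zero ?_
    rw [Matrix.SpecialLinearGroup.coe_neg]
    have hc := cayley M
    rw [h] at hc
    calc (-(M : M2) - 1) * (-(M : M2) - 1) = (M : M2) * (M : M2) + (2 : k) • (M : M2) + 1 := by
          rw [two_smul]; noncomm_ring
      _ = 0 := by rw [hc, neg_smul]; abel
  rw [(hp.out.odd_of_ne_two hp2).neg_pow, neg_eq_iff_eq_neg] at hu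
  exact two_dvd_of_pow_eq_neg_one hp2 hu

theorem two_dvd_of_trace_sq {M : SL(2, k)} (hp2 : p ≠ 2)
    (h : ((M : M2) 0 0 + (M : M2) 1 1) ^ 2 = (M : M2) 0 0 + (M : M2) 1 1 + 1) :
    2 ∣ orderOf M := by
  refine two_dvd_of_pow_eq_neg_one hp2 (j := 5) (Subtype.ext ?_)
  set τ := (M : M2) 0 0 + (M : M2) 1 1
  have hc : (M : M2) * M = τ • (M : M2) - 1 := cayley M
  rw [Matrix.SpecialLinearGroup.coe_pow, Matrix.SpecialLinearGroup.coe_neg,
    Matrix.SpecialLinearGroup.coe_one]
  have h3 : (M : M2) ^ 3 = τ • (M : M2) - τ • (1 : M2) := by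
    rw [pow_succ, pow_two, hc, sub_mul, smul_mul_assoc, hc, one_mul, smul_sub, smul_smul, ← pow_two,
      h, add_smul, one_smul]
    abel
  calc (M : M2) ^ 5 = (M : M2) ^ 2 * (M : M2) ^ 3 := by rw [← pow_add]
    _ = (τ * τ) • ((M : M2) * M) - (τ * τ + τ) • (M : M2) + τ • (1 : M2) := by
      rw [h3, pow_two]
      conv_lhs => rw [hc]
      simp only [mul_sub, sub_mul, smul_mul_assoc, mul_smul_comm, mul_one, one_mul, smul_sub,
        smul_smul]
      match_scalars <;> ring
    _ = (τ * τ * τ - τ * τ - τ) • (M : M2) + (τ - τ * τ) • (1 : M2) := by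
      rw [hc]
      match_scalars <;> ring
    _ = -1 := by
      rw [show τ * τ * τ - τ * τ - τ = 0 by linear_combination τ * h,
        show τ - τ * τ = -1 by linear_combination -h, zero_smul, zero_add, neg_smul, one_smul]

/-- Two non-commuting elements of order `p` give a pair of even product order. -/
theorem exists_even_product [IsAlgClosed k] [Algebra (ZMod p) k] [Algebra.IsIntegral (ZMod p) k]
    (hp2 : p ≠ 2) (X : Subgroup SL(2, k)) {u v : SL(2, k)} (huX : u ∈ X) (hvX : v ∈ X)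
    (hu : u ^ p = 1) (hv : v ^ p = 1) (hnc : ¬ Commute u v) :
    2 ∣ orderOf (u * v) ∨ ∃ x ∈ X, 2 ∣ orderOf (u * (x * u * x⁻¹)) := by
  classical
  obtain ⟨hc0, g, hgu, hgv⟩ := sl2_pair_normal_form hu hv hnc
  set c := ((u * v : SL(2, k)) : M2) 0 0 + ((u * v : SL(2, k)) : M2) 1 1 - 2 with hc
  haveI : FiniteDimensional (ZMod p) (IntermediateField.adjoin (ZMod p) ({c} : Set k)) :=
    IntermediateField.adjoin.finiteDimensional (Algebra.IsIntegral.isIntegral c)
  haveI hfin : Finite (IntermediateField.adjoin (ZMod p) ({c} : Set k)) :=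
    Module.finite_of_finite (ZMod p)
  set E := Subfield.closure ({c} : Set k)
  have hcE : c ∈ E := Subfield.subset_closure rfl
  have hle : E ≤ (IntermediateField.adjoin (ZMod p) ({c} : Set k)).toSubfield :=
    Subfield.closure_le.2
      (Set.singleton_subset_iff.2 (IntermediateField.mem_adjoin_simple_self (ZMod p) c))
  haveI : Finite E := Finite.of_injective
    (fun x => (⟨x.1, hle x.2⟩ : IntermediateField.adjoin (ZMod p) ({c} : Set k)))
    fun a b h => Subtype.ext (congrArg (fun z : IntermediateField.adjoin (ZMod p) ({c} : Set k) => (z : k)) h)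
  letI : Fintype E := Fintype.ofFinite _
  set l : E := ⟨c, hcE⟩
  have h2E : (2 : E) ≠ 0 := fun h => by
    have := congrArg E.subtype h
    rw [map_ofNat, map_zero] at this
    exact natCast_two_ne_zero (k := k) hp2 this
  by_cases h9 : Nat.card E = 9 ∧ l ^ 2 = -1
  · left
    have h3E : (3 : E) = 0 := by
      have h := FiniteField.cast_card_eq_zero E
      rw [← Nat.card_eq_fintype_card, h9.1, show ((9 : ℕ) : E) = 3 * 3 by norm_num] at h
      exact mul_self_eq_zero.1 h
    have h3 : (3 : k) = 0 := by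
      have := congrArg E.subtype h3E
      rwa [map_ofNat, map_zero] at this
    have hsq : c ^ 2 = -1 := by
      have := congrArg E.subtype h9.2
      rwa [map_pow, map_neg, map_one] at this
    refine two_dvd_of_trace_sq hp2 ?_
    rw [show ((u * v : SL(2, k)) : M2) 0 0 + ((u * v : SL(2, k)) : M2) 1 1 = c + 2 by rw [hc]; ring]
    linear_combination hsq + c * h3
  · right
    have hgen : Subfield.closure ({l} : Set E) = ⊤ := by
      refine eq_top_iff.2 fun x _ => ?_
      have hx : (x : k) ∈ (Subfield.closure ({l} : Set E)).map E.subtype := by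
        rw [RingHom.map_field_closure, Set.image_singleton]
        exact x.2
      obtain ⟨y, hy, hyx⟩ := hx
      rwa [← E.subtype.injective hyx]
    have htop := PSL2Sub.closure_eq_top h2E l (fun h => hc0 (congrArg Subtype.val h)) hgen h9
    have hcont : ∀ M : SL(2, E), g * Matrix.SpecialLinearGroup.map E.subtype M * g⁻¹ ∈ X := by
      intro M
      have hM : M ∈ Subgroup.closure ({PSL2Sub.genLower, PSL2Sub.genUpper l} : Set SL(2, E)) :=
        htop ▸ Subgroup.mem_top M
      refine (?_ : Subgroup.closure _ ≤ X.comap ((MulAut.conj g).toMonoidHom.comp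
        (Matrix.SpecialLinearGroup.map E.subtype))) hM
      rw [Subgroup.closure_le]
      rintro _ (rfl | rfl)
      · show g * Matrix.SpecialLinearGroup.map E.subtype PSL2Sub.genLower * g⁻¹ ∈ X
        rw [show (PSL2Sub.genLower (F := E)) = dsL (1 : E) from rfl, dsL_map, map_one, ← hgv,
          mul_inv_cancel_right]
        exact hvX
      · show g * Matrix.SpecialLinearGroup.map E.subtype (PSL2Sub.genUpper l) * g⁻¹ ∈ X
        rw [show PSL2Sub.genUpper l = dsU l from rfl, dsU_map,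
          show E.subtype l = c from rfl, ← hgu, mul_inv_cancel_right]
        exact huX
    have hl0 : l ≠ 0 := fun h => hc0 (congrArg Subtype.val h)
    set t : E := 2 / l with ht
    have ht0 : t ≠ 0 := div_ne_zero h2E hl0
    let W : SL(2, E) := ⟨!![0, -t⁻¹; t, 0], by simp [Matrix.det_fin_two, ht0]⟩
    set w := Matrix.SpecialLinearGroup.map E.subtype W
    have hw : (w : M2) = !![0, -(t : k)⁻¹; (t : k), 0] := by
      ext i j
      show E.subtype ((W : Matrix (Fin 2) (Fin 2) E) i j) = _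
      fin_cases i <;> fin_cases j <;> simp [W]
    refine ⟨g * w * g⁻¹, hcont W, ?_⟩
    have hwt : (t : k) = 2 / c := by
      show E.subtype (2 / l) = _
      rw [map_div₀, map_ofNat]; rfl
    have hconj : w * dsU c * w⁻¹ = dsL (-(c * (t : k) ^ 2)) := by
      rw [mul_inv_eq_iff_eq_mul]
      ext i j
      fin_cases i <;> fin_cases j <;>
        simp [hw, coe_dsU, coe_dsL, Matrix.mul_apply, Fin.sum_univ_two] <;>
        field_simp [show (t : k) ≠ 0 from fun h => ht0 (Subtype.ext h)]
    have hu' : u = g * dsU c * g⁻¹ := by rw [← hgu, mul_inv_cancel_right]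
    have e : u * (g * w * g⁻¹ * u * (g * w * g⁻¹)⁻¹) = g * (dsU c * dsL (-(c * (t : k) ^ 2))) * g⁻¹ := by
      rw [← hconj, hu']; group
    rw [e, ← MulAut.conj_apply, MulEquiv.orderOf_eq]
    refine two_dvd_of_trace_neg_two hp2 ?_
    simp [coe_dsU, coe_dsL, Matrix.mul_apply, Fin.sum_univ_two, hwt]
    field_simp
    ring

end SL2

section Ring

variable {R : Type*} [Ring R]

theorem commute_pow_sum {Γ : Type*} [Group Γ] (σ : Γ →* R) (x g : Γ)
    (h : Commute (σ x) (σ g + σ g⁻¹)) : ∀ j : ℕ, Commute (σ x) (σ (g ^ j) + σ (g ^ j)⁻¹) := by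
  have key : ∀ j : ℕ, Commute (σ x) (σ (g ^ j) + σ (g ^ j)⁻¹) ∧
      Commute (σ x) (σ (g ^ (j + 1)) + σ (g ^ (j + 1))⁻¹) := by
    intro j
    induction j with
    | zero => exact ⟨by simp, by simpa using h⟩
    | succ j ih =>
      refine ⟨ih.2, ?_⟩
      have e : σ (g ^ (j + 1 + 1)) + σ (g ^ (j + 1 + 1))⁻¹ =
          (σ (g ^ (j + 1)) + σ (g ^ (j + 1))⁻¹) * (σ g + σ g⁻¹) - (σ (g ^ j) + σ (g ^ j)⁻¹) := by
        simp only [add_mul, mul_add, ← map_mul]
        rw [show g ^ (j + 1) * g⁻¹ = g ^ j by rw [pow_succ]; group,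
          show (g ^ (j + 1))⁻¹ * g = (g ^ j)⁻¹ by rw [pow_succ']; group,
          show g ^ (j + 1) * g = g ^ (j + 1 + 1) from (pow_succ g (j + 1)).symm,
          show (g ^ (j + 1))⁻¹ * g⁻¹ = (g ^ (j + 1 + 1))⁻¹ by rw [pow_succ' g (j + 1)]; group]
        abel
      rw [e]
      exact (ih.2.mul_right h).sub_right ih.1
  exact fun j => (key j).1

/-- An involution in the cyclic group of a product of two quadratic elements commutes with both. -/
theorem commute_invol {Γ : Type*} [Group Γ] (σ : Γ →* R) (hσ : Function.Injective σ)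
    (h2 : ∀ r : R, r + r = 0 → r = 0) {a b : Γ} (ha : (σ a - 1) * (σ a - 1) = 0)
    (hb : (σ b - 1) * (σ b - 1) = 0) {j : ℕ} (hj : (a * b) ^ j * (a * b) ^ j = 1) :
    Commute a ((a * b) ^ j) := by
  have hinv : ∀ c : Γ, (σ c - 1) * (σ c - 1) = 0 → σ c⁻¹ = 1 - (σ c - 1) := by
    intro c hc
    have hd : (1 + (σ c - 1)) * (1 - (σ c - 1)) = 1 := by
      calc (1 + (σ c - 1)) * (1 - (σ c - 1)) = 1 - (σ c - 1) * (σ c - 1) := by noncomm_ring
        _ = 1 := by rw [hc, sub_zero]
    calc σ c⁻¹ = σ c⁻¹ * ((1 + (σ c - 1)) * (1 - (σ c - 1))) := by rw [hd, mul_one]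
      _ = _ := by rw [← mul_assoc, show 1 + (σ c - 1) = σ c by abel, ← map_mul, inv_mul_cancel, map_one,
            one_mul]
  set n := σ a - 1 with hn
  set m := σ b - 1 with hm
  have e : σ (a * b) + σ (a * b)⁻¹ = 2 + (n * m + m * n) := by
    rw [mul_inv_rev, map_mul, map_mul, hinv a ha, hinv b hb, show σ a = 1 + n by rw [hn]; abel,
      show σ b = 1 + m by rw [hm]; abel]
    simp only [add_sub_cancel_left]
    rw [← one_add_one_eq_two]
    noncomm_ring
  have hc : Commute (σ a) (σ (a * b) + σ (a * b)⁻¹) := by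
    rw [e, show σ a = 1 + n by rw [hn]; abel]
    refine (Commute.one_left _).add_left ((Commute.add_right (Commute.ofNat_right n 2) ?_))
    show n * (n * m + m * n) = (n * m + m * n) * n
    rw [mul_add, add_mul, ← mul_assoc n n m, ha, mul_assoc m n n, ha, zero_mul, mul_zero, add_zero,
      zero_add, mul_assoc]
  have h := commute_pow_sum σ a (a * b) hc j
  rw [inv_eq_of_mul_eq_one_right hj] at h
  apply hσ
  rw [map_mul, map_mul]
  refine eq_of_sub_eq_zero (h2 _ ?_)
  have h' : σ a * (σ ((a * b) ^ j) + σ ((a * b) ^ j)) = (σ ((a * b) ^ j) + σ ((a * b) ^ j)) * σ a := h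
  rw [mul_add, add_mul] at h'
  rw [sub_add_sub_comm, h', sub_self]

end Ring

/-- A quadratic element of a group with trivial `p`-core is centralized by an involution. -/
theorem exists_invol_commute {p : ℕ} [hp : Fact p.Prime] (hp2 : p ≠ 2) {Γ : Type*} [Group Γ]
    [Finite Γ] {A : Type*} [AddCommGroup A] [Finite A] (hA : ∀ x : A, p • x = 0)
    (ρ : Γ →* AddMonoid.End A) (hρ : Function.Injective ρ) (hcore : Cfsg.pCore p Γ = ⊥)
    {a : Γ} (ha1 : a ≠ 1) (ha : ∀ x, ρ a (ρ a x - x) = ρ a x - x) :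
    ∃ t : Γ, t ≠ 1 ∧ t * t = 1 ∧ t * a = a * t := by
  classical
  letI : Module (ZMod p) A := AddCommGroup.zmodModule hA
  haveI : CharP (AlgebraicClosure (ZMod p)) p :=
    charP_of_injective_algebraMap (algebraMap (ZMod p) (AlgebraicClosure (ZMod p))).injective p
  have hquad : ∀ c : Γ, (∀ x, ρ c (ρ c x - x) = ρ c x - x) → (ρ c - 1) * (ρ c - 1) = 0 := by
    intro c hc
    refine AddMonoidHom.ext fun x => ?_
    show ρ c (ρ c x - x) - (ρ c x - x) = 0
    rw [hc, sub_self]
  obtain ⟨g, -, hnp⟩ := PLocal.exists_pair_not_isPGroup (p := p) (H := (⊤ : Subgroup Γ))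
    (Subgroup.mem_top a) (by
      rintro ⟨z, hz, rfl⟩
      have h1 : z.1 ∈ Cfsg.pCore p Γ := by
        haveI : (Cfsg.pCore p (⊤ : Subgroup Γ)).Normal := CfsgLib.Solvable.pCore_normal p _
        refine CfsgLib.Solvable.le_pCore ((inferInstance : (Cfsg.pCore p (⊤ : Subgroup Γ)).Normal).map
          (Subgroup.topEquiv (G := Γ)).toMonoidHom (Subgroup.topEquiv (G := Γ)).surjective)
          ((CfsgLib.Solvable.pCore_isPGroup p _).map _) ⟨z, hz, rfl⟩
      rw [hcore, Subgroup.mem_bot] at h1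
      exact ha1 h1)
  set b := g * a * g⁻¹ with hb
  have hquadc : ∀ h : Γ, ∀ x, ρ (h * a * h⁻¹) (ρ (h * a * h⁻¹) x - x) = ρ (h * a * h⁻¹) x - x := by
    intro h x
    have e : ∀ y, ρ (h * a * h⁻¹) y = ρ h (ρ a (ρ h⁻¹ y)) := fun y => by
      rw [map_mul, map_mul]; rfl
    have hinv : ∀ y, ρ h⁻¹ (ρ h y) = y := fun y => by
      change (ρ h⁻¹ * ρ h) y = y
      rw [← map_mul, inv_mul_cancel, map_one]; rfl
    have hinv' : ∀ y, ρ h (ρ h⁻¹ y) = y := fun y => by
      change (ρ h * ρ h⁻¹) y = y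
      rw [← map_mul, mul_inv_cancel, map_one]; rfl
    rw [e, e, map_sub, hinv, ha (ρ h⁻¹ x), map_sub, hinv']
  set H := Subgroup.closure ({a, b} : Set Γ)
  let a' : H := ⟨a, Subgroup.subset_closure (by simp)⟩
  let b' : H := ⟨b, Subgroup.subset_closure (by simp)⟩
  have hgen : Subgroup.closure ({a', b'} : Set H) = ⊤ := by
    apply Subgroup.map_injective H.subtype_injective
    rw [MonoidHom.map_closure, ← MonoidHom.range_eq_map, Subgroup.range_subtype,
      Set.image_insert_eq, Set.image_singleton]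
    rfl
  obtain ⟨φ, hφ, hφa, hφb⟩ := PLocal.exists_hom_sl2_of_end (p := p) (ρ.comp H.subtype) hgen ha
    (hquadc g) fun hall => hnp fun h => by
      obtain ⟨i, hi⟩ := hall h
      exact ⟨i, Subtype.ext (hρ (hi.trans (map_one ρ).symm))⟩
  have hnc : ¬ Commute (φ a') (φ b') := by
    intro hc
    apply hφ
    have hgen' : φ.range = Subgroup.closure {φ a', φ b'} := by
      rw [MonoidHom.range_eq_map, ← hgen, MonoidHom.map_closure, Set.image_insert_eq,
        Set.image_singleton]
    haveI : IsMulCommutative φ.range := by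
      rw [hgen']
      refine Subgroup.isMulCommutative_closure fun x hx y hy => ?_
      rcases hx with rfl | rfl <;> rcases hy with rfl | rfl
      exacts [rfl, hc.eq, hc.eq.symm, rfl]
    rintro ⟨z, hz⟩
    refine ⟨1, Subtype.ext ?_⟩
    rw [SubgroupClass.coe_pow, OneMemClass.coe_one, pow_one]
    have hz' := hz
    rw [hgen'] at hz'
    induction hz' using Subgroup.closure_induction with
    | mem z h => rcases h with rfl | rfl <;> assumption
    | one => exact one_pow p
    | mul x y hx hy ihx ihy =>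
      have hx' : x ∈ φ.range := hgen'.symm ▸ hx
      have hy' : y ∈ φ.range := hgen'.symm ▸ hy
      rw [Commute.mul_pow (setLike_mul_comm hx' hy'), ihx hx', ihy hy', one_mul]
    | inv x hx ih => rw [inv_pow, ih (hgen'.symm ▸ hx), inv_one]
  obtain ⟨c, hc2, hceven⟩ : ∃ c : Γ, (ρ c - 1) * (ρ c - 1) = 0 ∧ 2 ∣ orderOf (a * c) := by
    haveI : Algebra.IsIntegral (ZMod p) (AlgebraicClosure (ZMod p)) :=
      Algebra.IsAlgebraic.isIntegral
    have hto : ∀ z : H, 2 ∣ orderOf (φ z) → 2 ∣ orderOf (z : Γ) := fun z hz => by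
      rw [Subgroup.orderOf_coe]; exact hz.trans (orderOf_map_dvd φ z)
    rcases exists_even_product (p := p) hp2 φ.range ⟨a', rfl⟩ ⟨b', rfl⟩ hφa hφb hnc with
      h | ⟨_, ⟨h', rfl⟩, h⟩
    · exact ⟨b, hquad _ (hquadc g), hto (a' * b') (by rw [map_mul]; exact h)⟩
    · exact ⟨(h' : Γ) * a * (h' : Γ)⁻¹, hquad _ (hquadc h'), hto (a' * (h' * a' * h'⁻¹))
        (by simpa [map_mul] using h)⟩
  obtain ⟨j, hj⟩ := hceven
  have hj0 : 0 < j := by
    have := orderOf_pos (a * c)
    omega
  have hjj : (a * c) ^ j * (a * c) ^ j = 1 := by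
    rw [← pow_add, ← two_mul, ← hj, pow_orderOf_eq_one]
  refine ⟨(a * c) ^ j, pow_ne_one_of_lt_orderOf hj0.ne' (by omega), hjj,
    (commute_invol ρ hρ (fun r hr => AddMonoidHom.ext fun x => ?_) (hquad a ha) hc2 hjj).eq.symm⟩
  show r x = 0
  have h2x : r x + r x = 0 := DFunLike.congr_fun hr x
  obtain ⟨i, hi⟩ := hp.out.odd_of_ne_two hp2
  have := hA (r x)
  rw [hi, add_nsmul, mul_comm, mul_nsmul', two_nsmul, one_nsmul] at this
  simpa [h2x] using this

end CfsgLib.LocalEven.EvenCentralizer
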