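import Cfsg.Agent.S3020
import Cfsg.Agent.Lib.LocalEven.CharP
import Cfsg.Agent.Lib.TwoFusion.ZStarPower
import Cfsg.Agent.Lib.Invol.GlaubermanZStar

/-!
# Extremely closed abelian 2-subgroups: `G = N_G(H) O(G)`

Let `θ a = O(C_G(a))` for an involution `a` of `H`. If `C_G(a) = θ a · N(H)` for all these
involutions and a four subgroup `{1, a, b, c}` of `H` is given, then the elements `g` whose
`N(H)`-part commutes with `b` are exactly those of `θ a · θ c · C_G(b)`. Hence the subgroup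
generated by `θ a`, `θ b`, `θ c` and `C_N(⟨a, b⟩)` is proper as soon as `N(H)` does not centralize
`⟨a, b⟩`, and it contains all conjugates of `H`.
-/

set_option autoImplicit false
set_option linter.style.haveILetI false
set_option linter.unusedSectionVars false
open Cfsg

universe u

namespace CfsgLib.LocalEven.EClosed

variable {G : Type u} [Group G] [Finite G]

/-- The odd core of the centralizer of `a`, inside `G`. -/
def theta (a : G) : Subgroup G :=
  (Cfsg.pPrimeCore 2 ↥(Subgroup.centralizer ({a} : Set G))).map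
    (Subgroup.centralizer ({a} : Set G)).subtype

omit [Finite G] in
theorem commute_of_mem_theta {a y : G} (hy : y ∈ theta a) : Commute a y :=
  (Subgroup.mem_centralizer_singleton_iff.mp (Subgroup.map_subtype_le _ hy)).symm

theorem odd_card_theta (a : G) : Odd (Nat.card (theta a)) := by
  rw [theta, Subgroup.card_map_of_injective (Subgroup.subtype_injective _)]
  exact Nat.coprime_two_right.mp (CfsgLib.Solvable.pPrimeCore_card_coprime 2 _)

theorem theta_conj {a c y : G} (hc : Commute a c) (hy : y ∈ theta a) :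
    c * y * c⁻¹ ∈ theta a := by
  obtain ⟨y, hy', rfl⟩ := hy
  exact ⟨_, (CfsgLib.Solvable.pPrimeCore_normal 2 _).conj_mem y hy'
    ⟨c, Subgroup.mem_centralizer_singleton_iff.mpr hc.symm.eq⟩, rfl⟩

/-- An element whose order is odd and which lies in a `2`-group is trivial. -/
theorem eq_one_of_odd {H : Subgroup G} (hH2 : IsPGroup 2 H) {x : G} (hxH : x ∈ H) {R : Subgroup G}
    (hR : Odd (Nat.card R)) (hxR : x ∈ R) : x = 1 := by
  have : Fact (Nat.Prime 2) := ⟨Nat.prime_two⟩
  refine CfsgLib.LocalEven.eq_one_of_isPGroup_of_coprime hH2 hxH ?_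
  have hd : orderOf (⟨x, hxR⟩ : R) ∣ Nat.card R := orderOf_dvd_natCard _
  rw [Subgroup.orderOf_mk] at hd
  exact (Nat.coprime_two_right.mpr hR).coprime_dvd_left hd

/-- Modulo a subgroup normalized by `c`, the powers of `o * c` are those of `c`. -/
theorem mul_pow_mem {O : Subgroup G} {o c : G} (ho : o ∈ O) (hc : ∀ y ∈ O, c * y * c⁻¹ ∈ O) :
    ∀ n : ℕ, (o * c) ^ n * (c ^ n)⁻¹ ∈ O
  | 0 => by simp
  | n + 1 => by
    have h : (o * c) ^ (n + 1) * (c ^ (n + 1))⁻¹ = o * (c * ((o * c) ^ n * (c ^ n)⁻¹) * c⁻¹) := by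
      rw [pow_succ', pow_succ']; group
    rw [h]
    exact mul_mem ho (hc _ (mul_pow_mem ho hc n))

theorem involution_pow_odd {c : G} (hc : c * c = 1) {n : ℕ} (hn : Odd n) : c ^ n = c := by
  obtain ⟨j, rfl⟩ := hn
  rw [pow_succ, pow_mul, pow_two, hc, one_pow, one_mul]

/-- If `c` inverts `y` of odd order, then `c * y` is a conjugate of `c` under `⟨y⟩`. -/
theorem exists_conj_eq_mul {c y : G} {n : ℕ} (hn : Odd n) (hy : y ^ n = 1)
    (hcy : c * y * c⁻¹ = y⁻¹) : ∃ j : ℕ, c * y = y ^ j * c * (y ^ j)⁻¹ := by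
  obtain ⟨j, rfl⟩ := hn
  refine ⟨j, ?_⟩
  have h : y ^ j * c = c * (y ^ j)⁻¹ := by
    have h2 : (c * y * c⁻¹) ^ j = (y ^ j)⁻¹ := by rw [hcy, inv_pow]
    rw [conj_pow, mul_inv_eq_iff_eq_mul] at h2
    have h3 : (y ^ j)⁻¹ * c * (y ^ j)⁻¹ = c := by rw [← h2, mul_inv_cancel_right]
    conv_lhs => rw [← h3]
    simp [mul_assoc]
  rw [h, mul_assoc, ← mul_inv_rev, ← pow_add]
  congr 1
  rw [eq_inv_iff_mul_eq_one, ← pow_succ', ← two_mul, hy]

theorem mul_mul_self_conj {g b : G} (hb : b * b = 1) : g * b * g⁻¹ * (g * b * g⁻¹) = 1 := by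
  rw [show g * b * g⁻¹ * (g * b * g⁻¹) = g * (b * b) * g⁻¹ by group, hb]
  group

variable (H : Subgroup G)

/-- The hypothesis on `H`. -/
structure EC : Prop where
  two : IsPGroup 2 H
  ab : IsMulCommutative H
  ec : Cfsg.IsExtremelyClosed H

/-- The subgroup generated by `H` and its conjugate by `g`. -/
def pair (g : G) : Subgroup G := H ⊔ H.map (MulAut.conj g).toMonoidHom

/-- The odd core of `pair H g`, inside `G`. -/
def kern (g : G) : Subgroup G := (Cfsg.pPrimeCore 2 ↥(pair H g)).map (pair H g).subtype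

variable {H}

theorem EC.comm (hE : EC H) {x y : G} (hx : x ∈ H) (hy : y ∈ H) : Commute x y :=
  congrArg Subtype.val (hE.ab.is_comm.comm (⟨x, hx⟩ : H) ⟨y, hy⟩)

theorem kern_le (g : G) : kern H g ≤ pair H g := Subgroup.map_subtype_le _

theorem odd_card_kern (g : G) : Odd (Nat.card (kern H g)) := by
  rw [kern, Subgroup.card_map_of_injective (Subgroup.subtype_injective _)]
  exact Nat.coprime_two_right.mp (CfsgLib.Solvable.pPrimeCore_card_coprime 2 _)

theorem kern_conj {g k y : G} (hk : k ∈ pair H g) (hy : y ∈ kern H g) :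
    k * y * k⁻¹ ∈ kern H g := by
  obtain ⟨y, hy', rfl⟩ := hy
  exact ⟨_, (CfsgLib.Solvable.pPrimeCore_normal 2 _).conj_mem y hy' ⟨k, hk⟩, rfl⟩

theorem conj_mem_pair {g h : G} (hh : h ∈ H) : g * h * g⁻¹ ∈ pair H g :=
  (le_sup_right : _ ≤ pair H g) ⟨h, hh, rfl⟩

theorem mem_pair {g h : G} (hh : h ∈ H) : h ∈ pair H g := (le_sup_left : _ ≤ pair H g) hh

theorem EC.decomp (hE : EC H) {g k : G} (hk : k ∈ pair H g) :
    ∃ o ∈ kern H g, ∃ h ∈ H, k = o * h := by
  have : Fact (Nat.Prime 2) := ⟨Nat.prime_two⟩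
  obtain ⟨hsup, -⟩ := Cfsg.Agent.S3020.result (p := 2) H hE.two hE.ab hE.ec g (pair H g) rfl
  haveI := CfsgLib.Solvable.pPrimeCore_normal 2 ↥(pair H g)
  have h2 : (⊤ : Subgroup ↥(pair H g)) = Cfsg.pPrimeCore 2 _ ⊔ H.subgroupOf _ := by
    apply Subgroup.map_injective (pair H g).subtype_injective
    rw [← MonoidHom.range_eq_map, Subgroup.range_subtype, Subgroup.map_sup,
      Subgroup.map_subgroupOf_eq_of_le (show H ≤ pair H g from le_sup_left), sup_comm, hsup]
  obtain ⟨o, ho, h, hh, e⟩ := Subgroup.mem_sup_of_normal_left.mp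
    (h2 ▸ Subgroup.mem_top (⟨k, hk⟩ : pair H g))
  exact ⟨o, ⟨o, ho, rfl⟩, h, Subgroup.mem_subgroupOf.mp hh, (congrArg Subtype.val e).symm⟩

theorem EC.normalizer_inter (hE : EC H) {g n : G} (hn : n ∈ Subgroup.normalizer (H : Set G))
    (hk : n ∈ pair H g) : n ∈ H :=
  (hE.ec g).le ⟨hk, hn⟩

theorem EC.kern_normalizer (hE : EC H) {g n : G} (hn : n ∈ Subgroup.normalizer (H : Set G))
    (hk : n ∈ kern H g) : n = 1 :=
  eq_one_of_odd hE.two (hE.normalizer_inter hn (kern_le g hk)) (odd_card_kern g) hk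

theorem conj_map_eq_iff (o g : G) :
    H.map (MulAut.conj o).toMonoidHom = H.map (MulAut.conj g).toMonoidHom ↔
      o⁻¹ * g ∈ Subgroup.normalizer (H : Set G) := by
  have key : ∀ a x : G, x ∈ H.map (MulAut.conj a).toMonoidHom ↔ a⁻¹ * x * a ∈ H := by
    intro a x
    constructor
    · rintro ⟨y, hy, rfl⟩
      simpa [mul_assoc] using hy
    · exact fun h => ⟨_, h, by simp [mul_assoc]⟩
  rw [SetLike.ext_iff, Subgroup.mem_normalizer_iff]
  constructor
  · intro h y
    have h1 := h (g * y * g⁻¹)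
    rw [key, key, show g⁻¹ * (g * y * g⁻¹) * g = y by group] at h1
    rw [← h1, show o⁻¹ * (g * y * g⁻¹) * o = o⁻¹ * g * y * (o⁻¹ * g)⁻¹ by group]
  · intro h x
    rw [key, key, h (g⁻¹ * x * g),
      show o⁻¹ * g * (g⁻¹ * x * g) * (o⁻¹ * g)⁻¹ = o⁻¹ * x * o by group]

/-- The two abelian Sylow subgroups of `pair H g` are conjugate under its odd core. -/
theorem EC.exists_sigma (hE : EC H) (g : G) :
    ∃ o ∈ kern H g, o⁻¹ * g ∈ Subgroup.normalizer (H : Set G) := by
  have : Fact (Nat.Prime 2) := ⟨Nat.prime_two⟩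
  set K := pair H g with hK
  set H₂ := H.map (MulAut.conj g).toMonoidHom with hH₂
  have hHK : H ≤ K := le_sup_left
  have hH₂K : H₂ ≤ K := le_sup_right
  obtain ⟨P, hP''⟩ := (hE.two.comap_subtype (K := K)).exists_le_sylow
  have hP' : H.subgroupOf K ≤ P := hP''
  have hP : (P : Subgroup K) = H.subgroupOf K := by
    refine le_antisymm (fun x hx => Subgroup.mem_subgroupOf.mpr ?_) hP'
    refine hE.normalizer_inter ?_ x.2
    refine Subgroup.le_normalizer.trans ((Cfsg.Agent.S3021.result H hE.two hE.ec).1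
      ((P : Subgroup K).map K.subtype) (P.isPGroup'.map _) ?_) ⟨x, hx, rfl⟩
    have := Subgroup.map_mono (f := K.subtype) hP'
    rwa [Subgroup.map_subgroupOf_eq_of_le hHK] at this
  obtain ⟨Q, hQ''⟩ :=
    ((hE.two.map (MulAut.conj g).toMonoidHom).comap_subtype (K := K)).exists_le_sylow
  have hQ' : H₂.subgroupOf K ≤ Q := hQ''
  have hQ : (Q : Subgroup K) = H₂.subgroupOf K := by
    refine (Subgroup.eq_of_le_of_card_ge hQ' ?_).symm
    rw [Nat.card_congr (Subgroup.subgroupOfEquivOfLe hH₂K).toEquiv, Q.card_eq_multiplicity,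
      ← P.card_eq_multiplicity, hP,
      Nat.card_congr (Subgroup.subgroupOfEquivOfLe hHK).toEquiv, hH₂,
      Subgroup.card_map_of_injective (MulEquiv.injective _)]
  obtain ⟨k, hk⟩ := MulAction.exists_smul_eq K P Q
  obtain ⟨o, ho, h, hh, e⟩ := hE.decomp k.2
  refine ⟨o, ho, (conj_map_eq_iff o g).mp (Eq.symm (Subgroup.eq_of_le_of_card_ge ?_ ?_))⟩
  · intro x hx
    have hxQ : (⟨x, hH₂K hx⟩ : K) ∈ (Q : Subgroup K) := by
      rw [hQ]; exact Subgroup.mem_subgroupOf.mpr hx
    rw [← hk] at hxQ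
    obtain ⟨y, hy, hyx⟩ := hxQ
    rw [SetLike.mem_coe, hP] at hy
    refine ⟨h * y * h⁻¹, mul_mem (mul_mem hh (Subgroup.mem_subgroupOf.mp hy)) (inv_mem hh), ?_⟩
    have h3 := congrArg Subtype.val hyx
    simpa [e, mul_assoc] using h3
  · rw [Subgroup.card_map_of_injective (MulEquiv.injective _),
      Subgroup.card_map_of_injective (MulEquiv.injective _)]

/-- `σ g` is the element of the odd core of `pair H g` conjugating `H` to its conjugate by `g`. -/
noncomputable def EC.sigma (hE : EC H) (g : G) : G := (hE.exists_sigma g).choose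

/-- `ν g` is the part of `g` in the normalizer of `H`. -/
noncomputable def EC.nu (hE : EC H) (g : G) : G := (hE.sigma g)⁻¹ * g

theorem EC.sigma_mem (hE : EC H) (g : G) : hE.sigma g ∈ kern H g :=
  (hE.exists_sigma g).choose_spec.1

theorem EC.nu_mem (hE : EC H) (g : G) : hE.nu g ∈ Subgroup.normalizer (H : Set G) :=
  (hE.exists_sigma g).choose_spec.2

theorem EC.sigma_unique (hE : EC H) {g o : G} (ho : o ∈ kern H g)
    (hn : o⁻¹ * g ∈ Subgroup.normalizer (H : Set G)) : hE.sigma g = o := by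
  have h1 : (hE.sigma g)⁻¹ * o ∈ Subgroup.normalizer (H : Set G) := by
    have := mul_mem (hE.nu_mem g) (inv_mem hn)
    simpa [EC.nu, mul_assoc] using this
  exact inv_mul_eq_one.mp (hE.kern_normalizer h1 (mul_mem (inv_mem (hE.sigma_mem g)) ho))

theorem EC.nu_of_mem (hE : EC H) {n : G} (hn : n ∈ Subgroup.normalizer (H : Set G)) :
    hE.nu n = n := by
  rw [EC.nu, hE.sigma_unique (one_mem _) (by simpa using hn), inv_one, one_mul]

/-- The conjugate of `b` by `g` is congruent to a conjugate in `H`. -/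
theorem EC.conj_eq (hE : EC H) (g b : G) :
    g * b * g⁻¹ = hE.sigma g * (hE.nu g * b * (hE.nu g)⁻¹) * (hE.sigma g)⁻¹ := by
  simp [EC.nu, mul_assoc]

theorem EC.nu_conj_mem (hE : EC H) (g : G) {b : G} (hb : b ∈ H) :
    hE.nu g * b * (hE.nu g)⁻¹ ∈ H :=
  (Subgroup.mem_normalizer_iff.mp (hE.nu_mem g) b).mp hb

theorem EC.conj_mod (hE : EC H) (g : G) {b : G} (hb : b ∈ H) :
    ∃ o ∈ kern H g, g * b * g⁻¹ = o * (hE.nu g * b * (hE.nu g)⁻¹) := by
  refine ⟨g * b * g⁻¹ * (hE.nu g * b * (hE.nu g)⁻¹)⁻¹, ?_, (inv_mul_cancel_right _ _).symm⟩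
  have hn := hE.nu_conj_mem g hb
  have e := hE.conj_eq g b
  revert hn e
  generalize hE.nu g * b * (hE.nu g)⁻¹ = h
  intro hn e
  rw [e, show hE.sigma g * h * (hE.sigma g)⁻¹ * h⁻¹ =
    hE.sigma g * (h * (hE.sigma g)⁻¹ * h⁻¹) by group]
  exact mul_mem (hE.sigma_mem g) (kern_conj (mem_pair hn) (inv_mem (hE.sigma_mem g)))

/-- The conjugates of `H` by `g` and by `g'` agree, so the odd cores agree. -/
theorem kern_congr {g g' : G} (h : g⁻¹ * g' ∈ Subgroup.normalizer (H : Set G)) :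
    kern H g = kern H g' := by
  have e : pair H g = pair H g' := by rw [pair, pair, (conj_map_eq_iff g g').mpr h]
  unfold kern
  rw [e]

theorem EC.nu_mul (hE : EC H) (g : G) {n : G} (hn : n ∈ Subgroup.normalizer (H : Set G)) :
    hE.nu (g * n) = hE.nu g * n := by
  have h1 : g⁻¹ * (g * n) ∈ Subgroup.normalizer (H : Set G) := by simpa using hn
  have h2 : hE.sigma (g * n) = hE.sigma g := by
    refine hE.sigma_unique (kern_congr h1 ▸ hE.sigma_mem g) ?_
    rw [← mul_assoc]
    exact mul_mem (hE.nu_mem g) hn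
  rw [EC.nu, EC.nu, h2, mul_assoc]

theorem exists_odd_part (G : Type u) [Group G] [Finite G] :
    ∃ k M : ℕ, Odd M ∧ Nat.card G = 2 ^ k * M :=
  Nat.exists_eq_two_pow_mul_odd Nat.card_pos.ne'

theorem pow_odd_part_eq_one {k M : ℕ} (hG : Nat.card G = 2 ^ k * M)
    {R : Subgroup G} (hR : Odd (Nat.card R)) {x : G} (hx : x ∈ R) : x ^ M = 1 := by
  rw [← orderOf_dvd_iff_pow_eq_one]
  have h1 : orderOf (⟨x, hx⟩ : R) ∣ Nat.card R := orderOf_dvd_natCard _
  rw [Subgroup.orderOf_mk] at h1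
  have h2 : orderOf x ∣ 2 ^ k * M := hG ▸ orderOf_dvd_natCard x
  exact ((Nat.coprime_two_right.mpr (hR.of_dvd_nat h1)).pow_right k).dvd_of_dvd_mul_left h2

theorem EC.eq_one_of_pow (hE : EC H) {M : ℕ} (hM : Odd M) {x : G} (hx : x ∈ H)
    (h : x ^ M = 1) : x = 1 := by
  have : Fact (Nat.Prime 2) := ⟨Nat.prime_two⟩
  refine CfsgLib.LocalEven.eq_one_of_isPGroup_of_coprime hE.two hx ?_
  exact (Nat.coprime_two_right.mpr hM).coprime_dvd_left (orderOf_dvd_of_pow_eq_one h)

/-- An element of odd order of `R H` lies in `R`. -/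
theorem EC.mem_of_sup (hE : EC H) {R : Subgroup G} (hHR : H ≤ Subgroup.normalizer (R : Set G))
    {M : ℕ} (hM : Odd M) (hR : ∀ r ∈ R, r ^ M = 1) {x : G} (hx : x ∈ R ⊔ H) (hxM : x ^ M = 1) :
    x ∈ R := by
  rw [← SetLike.mem_coe, Subgroup.coe_mul_of_right_le_normalizer_left R H hHR] at hx
  obtain ⟨r, hr, h, hh, rfl⟩ := hx
  have h1 := mul_pow_mem hr (fun y hy => (Subgroup.mem_normalizer_iff.mp (hHR hh) y).mp hy) M
  rw [hxM, one_mul, inv_mem_iff] at h1
  have h2 : h ^ M = 1 := by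
    refine hE.eq_one_of_pow hM (H.pow_mem hh M) ?_
    exact hR _ h1
  simpa [hE.eq_one_of_pow hM hh h2] using hr

theorem EC.mem_kern (hE : EC H) {M : ℕ} (hM : Odd M) {k : ℕ} (hG : Nat.card G = 2 ^ k * M)
    {g x : G} (hx : x ∈ pair H g) (hxM : x ^ M = 1) : x ∈ kern H g := by
  obtain ⟨o, ho, h, hh, rfl⟩ := hE.decomp hx
  have h1 := mul_pow_mem ho (fun y hy => kern_conj (mem_pair hh) hy) M
  rw [hxM, one_mul, inv_mem_iff] at h1
  have h2 : h ^ M = 1 := eq_one_of_odd hE.two (H.pow_mem hh M) (odd_card_kern g) h1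
  simpa [hE.eq_one_of_pow hM hh h2] using ho

/-- An element of an odd core lies in the odd core it defines itself. -/
theorem EC.self_mem_kern (hE : EC H) {g y : G} (hy : y ∈ kern H g) : y ∈ kern H y := by
  obtain ⟨k, M, hM, hG⟩ := exists_odd_part G
  have hle : pair H y ≤ pair H g := by
    refine sup_le le_sup_left ?_
    rintro _ ⟨h, hh, rfl⟩
    exact mul_mem (mul_mem (kern_le g hy) (mem_pair hh)) (inv_mem (kern_le g hy))
  have hσ : hE.sigma y ∈ kern H g :=
    hE.mem_kern hM hG (hle (kern_le y (hE.sigma_mem y)))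
      (pow_odd_part_eq_one hG (odd_card_kern y) (hE.sigma_mem y))
  have h := inv_mul_eq_one.mp
    (hE.kern_normalizer (hE.nu_mem y) (mul_mem (inv_mem hσ) hy))
  have h2 := hE.sigma_mem y
  rwa [h] at h2

/-- The centralizers of the involutions of `H` factorize. -/
def CentFact (H : Subgroup G) : Prop :=
  ∀ a ∈ H, a * a = 1 → a ≠ 1 → ∀ x : G, Commute a x →
    ∃ w ∈ theta a, ∃ n ∈ Subgroup.normalizer (H : Set G), Commute a n ∧ x = w * n

theorem EC.le_normalizer_theta (hE : EC H) {a : G} (ha : a ∈ H) :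
    H ≤ Subgroup.normalizer (theta a : Set G) := by
  intro h hh
  rw [Subgroup.mem_normalizer_iff]
  intro y
  refine ⟨fun hy => theta_conj (hE.comm ha hh) hy, fun hy => ?_⟩
  have := theta_conj (hE.comm ha (inv_mem hh)) hy
  simpa [mul_assoc] using this

/-- The odd core of a pair meets the centralizer of `a` inside `θ a`. -/
theorem EC.kern_le_theta (hE : EC H) (hC : CentFact H) {a : G} (ha : a ∈ H) (ha2 : a * a = 1)
    (ha1 : a ≠ 1) {g y : G} (hy : y ∈ kern H g) (hay : Commute a y) : y ∈ theta a := by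
  obtain ⟨k, M, hM, hG⟩ := exists_odd_part G
  obtain ⟨w, hw, n, hn, -, rfl⟩ := hC a ha ha2 ha1 y hay
  have hle : pair H (w * n) ≤ theta a ⊔ H := by
    refine sup_le le_sup_right ?_
    rintro _ ⟨h, hh, rfl⟩
    show w * n * h * (w * n)⁻¹ ∈ _
    rw [show w * n * h * (w * n)⁻¹ = w * (n * h * n⁻¹) * w⁻¹ by group]
    exact mul_mem (mul_mem (Subgroup.mem_sup_left hw)
      (Subgroup.mem_sup_right ((Subgroup.mem_normalizer_iff.mp hn h).mp hh)))
      (inv_mem (Subgroup.mem_sup_left hw))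
  exact hE.mem_of_sup (hE.le_normalizer_theta ha) hM
    (fun r hr => pow_odd_part_eq_one hG (odd_card_theta a) hr)
    (hle (kern_le _ (hE.self_mem_kern hy)))
    (pow_odd_part_eq_one hG (odd_card_kern g) hy)

variable {a b : G}

/-- If `g ∈ θ a · θ (a b) · C(b)`, then the `N(H)`-part of `g` commutes with `b`. -/
theorem EC.nu_commute_of_eq (hE : EC H) (hC : CentFact H) (ha : a ∈ H) (hb : b ∈ H)
    (ha2 : a * a = 1) (hb2 : b * b = 1) (ha1 : a ≠ 1)
    {g α γ y : G} (hα : α ∈ theta a) (hγ : γ ∈ theta (a * b)) (hy : Commute b y)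
    (hg : g = α * γ * y) : Commute (hE.nu g) b := by
  obtain ⟨k, M, hM, hG⟩ := exists_odd_part G
  set h := hE.nu g * b * (hE.nu g)⁻¹ with hh
  have hhH : h ∈ H := hE.nu_conj_mem g hb
  have hab : Commute a b := hE.comm ha hb
  have hah : Commute a h := hE.comm ha hhH
  have hh2 : h * h = 1 := mul_mul_self_conj hb2
  have hcc : a * b * (a * b) = 1 := by
    rw [hab.symm.mul_mul_mul_comm, ha2, hb2, one_mul]
  have hahah : a * h * (a * h) = 1 := by
    rw [hah.symm.mul_mul_mul_comm, ha2, hh2, one_mul]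
  have hαa : Commute a α := commute_of_mem_theta hα
  -- the odd part of `a * g b g⁻¹`
  have hv : g * b * g⁻¹ = α * (γ * b * γ⁻¹) * α⁻¹ := by
    subst hg
    rw [show α * γ * y * b * (α * γ * y)⁻¹ = α * (γ * (y * b * y⁻¹) * γ⁻¹) * α⁻¹ by group,
      ← hy.eq, mul_inv_cancel_right]
  have hw : b⁻¹ * γ * b * γ⁻¹ ∈ theta (a * b) := by
    refine mul_mem ?_ (inv_mem hγ)
    simpa using theta_conj (hE.comm (mul_mem ha hb) (inv_mem hb)) hγ
  have hd : (a * (g * b * g⁻¹)) ^ M = α * (a * b) * α⁻¹ := by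
    rw [hv, show a * (α * (γ * b * γ⁻¹) * α⁻¹) =
      a * α * (γ * b * γ⁻¹) * α⁻¹ by group, hαa.eq,
      show α * a * (γ * b * γ⁻¹) * α⁻¹ = α * ((a * b) * (b⁻¹ * γ * b * γ⁻¹)) * α⁻¹ by group,
      conj_pow, (commute_of_mem_theta hw).mul_pow, involution_pow_odd hcc hM,
      pow_odd_part_eq_one hG (odd_card_theta _) hw, mul_one]
  obtain ⟨o, ho, hoe⟩ := hE.conj_mod g hb
  rw [← hh] at hoe
  have hmod : (a * (g * b * g⁻¹)) ^ M * ((a * h) ^ M)⁻¹ ∈ kern H g := by
    rw [hoe, show a * (o * h) = a * o * a⁻¹ * (a * h) by group]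
    exact mul_pow_mem (kern_conj (mem_pair ha) ho)
      (fun z hz => kern_conj (mem_pair (mul_mem ha hhH)) hz) M
  rw [hd, involution_pow_odd hahah hM] at hmod
  have hcomm : Commute a (α * (a * b) * α⁻¹ * (a * h)⁻¹) :=
    ((hαa.mul_right ((Commute.refl a).mul_right hab)).mul_right hαa.inv_right).mul_right
      ((Commute.refl a).mul_right hah).inv_right
  have hy' := hE.kern_le_theta hC ha ha2 ha1 hmod hcomm
  have hin : a * b * (a * h)⁻¹ ∈ theta a := by
    have := mul_mem (mul_mem (inv_mem hα) hy')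
      (theta_conj ((Commute.refl a).mul_right hah) hα)
    simpa [mul_assoc] using this
  have h1 := eq_one_of_odd hE.two (mul_mem (mul_mem ha hb) (inv_mem (mul_mem ha hhH)))
    (odd_card_theta a) hin
  rw [mul_inv_eq_one, mul_right_inj, hh] at h1
  exact (mul_inv_eq_iff_eq_mul.mp h1.symm)

/-- If the `N(H)`-part of `g` commutes with `b`, then `g ∈ θ a · θ (a b) · C(b)`. -/
theorem EC.eq_of_nu_commute (hE : EC H) (hC : CentFact H) (ha : a ∈ H) (hb : b ∈ H)
    (ha2 : a * a = 1) (hb2 : b * b = 1) (ha1 : a ≠ 1) (hab1 : a ≠ b)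
    {g : G} (hg : Commute (hE.nu g) b) :
    ∃ α ∈ theta a, ∃ γ ∈ theta (a * b), ∃ y, Commute b y ∧ g = α * γ * y := by
  obtain ⟨k, M, hM, hG⟩ := exists_odd_part G
  have hab : Commute a b := hE.comm ha hb
  set c := a * b with hc
  have hcH : c ∈ H := mul_mem ha hb
  have hcc : c * c = 1 := by rw [hc, hab.symm.mul_mul_mul_comm, ha2, hb2, one_mul]
  have hc1 : c ≠ 1 := by
    intro h
    rw [hc] at h
    exact hab1 ((eq_inv_of_mul_eq_one_left h).trans (inv_eq_of_mul_eq_one_left hb2))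
  have hai : a⁻¹ = a := inv_eq_of_mul_eq_one_left ha2
  have hbi : b⁻¹ = b := inv_eq_of_mul_eq_one_left hb2
  have hci : c⁻¹ = c := inv_eq_of_mul_eq_one_left hcc
  obtain ⟨o, ho, hoe⟩ := hE.conj_mod g hb
  rw [show hE.nu g * b * (hE.nu g)⁻¹ = b by rw [hg.eq, mul_inv_cancel_right]] at hoe
  set v := g * b * g⁻¹ with hv
  have hvv : v * v = 1 := mul_mul_self_conj hb2
  have hvi : v⁻¹ = v := inv_eq_of_mul_eq_one_left hvv
  set d := a * v with hd
  set e := d ^ M with he
  have hmod : e * (c ^ M)⁻¹ ∈ kern H g := by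
    rw [he, hd, hoe, show a * (o * b) = a * o * a⁻¹ * c by rw [hc]; group]
    exact mul_pow_mem (kern_conj (mem_pair ha) ho)
      (fun z hz => kern_conj (mem_pair hcH) hz) M
  rw [involution_pow_odd hcc hM] at hmod
  have hy0 : c⁻¹ * e ∈ kern H g := by
    have := kern_conj (mem_pair (inv_mem hcH)) hmod
    simpa [mul_assoc] using this
  have hee : e * e = 1 := by
    have h1 : e * e ∈ kern H g := by
      have := mul_mem (kern_conj (mem_pair hcH) hy0) hy0
      rwa [show c * (c⁻¹ * e) * c⁻¹ * (c⁻¹ * e) = e * (c⁻¹ * c⁻¹) * e by group, ← mul_inv_rev,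
        hcc, inv_one, mul_one] at this
    have h2 : (e * e) ^ (2 ^ k) = 1 := by
      rw [he, ← pow_add, ← pow_mul,
        show (M + M) * 2 ^ k = Nat.card G * 2 by rw [hG]; ring, pow_mul, pow_card_eq_one', one_pow]
    have h3 : orderOf (e * e) ∣ Nat.gcd (2 ^ k) M := Nat.dvd_gcd (orderOf_dvd_of_pow_eq_one h2)
      (orderOf_dvd_of_pow_eq_one (pow_odd_part_eq_one hG (odd_card_kern g) h1))
    rw [((Nat.coprime_two_left.mpr hM).pow_left k).gcd_eq_one, Nat.dvd_one] at h3
    exact orderOf_eq_one_iff.mp h3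
  have hei : e⁻¹ = e := inv_eq_of_mul_eq_one_left hee
  have hda : a * d * a⁻¹ = d⁻¹ := by
    rw [hd, mul_inv_rev, hvi, ← mul_assoc a a, ha2, one_mul]
  have hdv : v * d * v⁻¹ = d⁻¹ := by
    rw [hd, hvi, mul_inv_rev, hvi, hai, mul_assoc v (a * v) v, mul_assoc a v v, hvv, mul_one]
  have hflip : ∀ x : G, x * d * x⁻¹ = d⁻¹ → Commute x e := by
    intro x hx
    refine mul_inv_eq_iff_eq_mul.mp ?_
    rw [he, ← conj_pow, hx, inv_pow, ← he, hei]
  have hae : Commute a e := hflip a hda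
  have hve : Commute v e := hflip v hdv
  have hac : Commute a c := hE.comm ha hcH
  have hy0t : c⁻¹ * e ∈ theta a :=
    hE.kern_le_theta hC ha ha2 ha1 hy0 (hac.inv_right.mul_right hae)
  obtain ⟨j, hj⟩ := exists_conj_eq_mul (c := c) hM
    (pow_odd_part_eq_one hG (odd_card_kern g) hy0) (by
      rw [mul_inv_cancel_left, hci, mul_inv_rev, hci, hei])
  rw [mul_inv_cancel_left] at hj
  set α := (c⁻¹ * e) ^ j with hα
  have hαt : α ∈ theta a := pow_mem hy0t j
  have hαa : Commute a α := commute_of_mem_theta hαt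
  set g' := α⁻¹ * g with hg'
  set v' := g' * b * g'⁻¹ with hv'
  have hv'e : v' = α⁻¹ * v * α := by rw [hv', hg', hv]; group
  have hv'c : Commute v' c := by
    have h1 := hve.eq
    rw [hj] at h1
    show v' * c = c * v'
    rw [hv'e, show α⁻¹ * v * α * c = α⁻¹ * (v * (α * c * α⁻¹)) * α by group, h1]
    group
  have hd' : (a * v') ^ M = c := by
    rw [hv'e, show a * (α⁻¹ * v * α) = a * α⁻¹ * v * α by group, hαa.inv_right.eq,
      show α⁻¹ * a * v * α = α⁻¹ * d * α⁻¹⁻¹ by rw [hd, inv_inv]; group, conj_pow, ← he, hj]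
    group
  set w := b * v' with hw
  have hv'w : v' = b * w := by rw [hw, ← mul_assoc, hb2, one_mul]
  have hwc : Commute c w := ((hE.comm hcH hb).mul_right hv'c.symm)
  have hwM : w ^ M = 1 := by
    have h1 := hwc.mul_pow M
    rw [show c * w = a * v' by rw [hc, hv'w]; group, hd', involution_pow_odd hcc hM] at h1
    exact mul_eq_left.mp h1.symm
  have hwk : w ∈ kern H g' := by
    refine hE.mem_kern hM hG ?_ hwM
    exact mul_mem (mem_pair hb) (conj_mem_pair hb)
  have hwt : w ∈ theta c := hE.kern_le_theta hC hcH hcc hc1 hwk hwc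
  obtain ⟨i, hi⟩ := exists_conj_eq_mul (c := b) hM hwM (by
    have h1 : v' * v' = 1 := mul_mul_self_conj hb2
    rw [hv'w] at h1
    rw [eq_inv_iff_mul_eq_one, hbi]
    simpa [mul_assoc] using h1)
  refine ⟨α, hαt, w ^ i, pow_mem hwt i, (w ^ i)⁻¹ * g', ?_, by rw [hg']; group⟩
  have h2 : (w ^ i)⁻¹ * g' * b * ((w ^ i)⁻¹ * g')⁻¹ = b := by
    rw [show (w ^ i)⁻¹ * g' * b * ((w ^ i)⁻¹ * g')⁻¹ = (w ^ i)⁻¹ * v' * w ^ i by
      rw [hv']; group, hv'w, hi]
    group
  exact (mul_inv_eq_iff_eq_mul.mp h2).symm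

/-- Left multiplication by `θ a` keeps the `N(H)`-part in `C(b)`. -/
theorem EC.theta_preserves (hE : EC H) (hC : CentFact H) (ha : a ∈ H) (hb : b ∈ H)
    (ha2 : a * a = 1) (hb2 : b * b = 1) (ha1 : a ≠ 1) (hab : a ≠ b)
    {x g : G} (hx : x ∈ theta a) (hg : Commute (hE.nu g) b) : Commute (hE.nu (x * g)) b := by
  obtain ⟨α, hα, γ, hγ, y, hy, rfl⟩ := hE.eq_of_nu_commute hC ha hb ha2 hb2 ha1 hab hg
  exact hE.nu_commute_of_eq hC ha hb ha2 hb2 ha1 (mul_mem hx hα) hγ hy (by group)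

theorem EC.nu_left (hE : EC H) {n : G} (hn : n ∈ Subgroup.normalizer (H : Set G)) (g : G) :
    hE.nu (n * g) = n * hE.nu g := by
  obtain ⟨k, M, hM, hG⟩ := exists_odd_part G
  have hle : pair H g ≤ (pair H (n * g)).comap (MulAut.conj n).toMonoidHom := by
    refine sup_le ?_ ?_
    · exact fun h hh => mem_pair ((Subgroup.mem_normalizer_iff.mp hn h).mp hh)
    · rintro _ ⟨h, hh, rfl⟩
      refine (le_sup_right : _ ≤ pair H (n * g)) ⟨h, hh, ?_⟩
      simp [mul_assoc]
  have h1 : n * hE.sigma g * n⁻¹ ∈ kern H (n * g) := by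
    refine hE.mem_kern hM hG (hle (kern_le g (hE.sigma_mem g))) ?_
    rw [conj_pow, pow_odd_part_eq_one hG (odd_card_kern g) (hE.sigma_mem g)]
    group
  have h2 : hE.sigma (n * g) = n * hE.sigma g * n⁻¹ := by
    refine hE.sigma_unique h1 ?_
    have := mul_mem hn (hE.nu_mem g)
    simpa [EC.nu, mul_assoc] using this
  rw [EC.nu, EC.nu, h2]
  group

/-- `N(H)` centralizes every four subgroup of `H`, if `H` generates `G` normally. -/
theorem EC.normalizer_commute (hE : EC H) (hC : CentFact H)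
    (hX : Subgroup.normalClosure (H : Set G) = ⊤) (ha : a ∈ H) (hb : b ∈ H) (ha2 : a * a = 1)
    (hb2 : b * b = 1) (ha1 : a ≠ 1) (hb1 : b ≠ 1) (hab : a ≠ b)
    {n : G} (hn : n ∈ Subgroup.normalizer (H : Set G)) : Commute n a := by
  have hc : Commute a b := hE.comm ha hb
  set c := a * b with hcdef
  have hcH : c ∈ H := mul_mem ha hb
  have hcc : c * c = 1 := by rw [hcdef, hc.symm.mul_mul_mul_comm, ha2, hb2, one_mul]
  have hca : c ≠ a := fun h => hb1 (mul_eq_left.mp h)
  have hcb : c ≠ b := fun h => ha1 (mul_eq_right.mp h)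
  have hc1 : c ≠ 1 := by
    intro h
    rw [hcdef] at h
    exact hab ((eq_inv_of_mul_eq_one_left h).trans (inv_eq_of_mul_eq_one_left hb2))
  let S : Set G := {g | Commute (hE.nu g) a ∧ Commute (hE.nu g) b}
  have hSc : ∀ g ∈ S, Commute (hE.nu g) c := fun g hg => hg.1.mul_right hg.2
  have hga : ∀ x ∈ theta a, ∀ g ∈ S, x * g ∈ S := by
    intro x hx g hg
    have h1 := hE.theta_preserves hC ha hb ha2 hb2 ha1 hab hx hg.2
    have h2 := hE.theta_preserves hC ha hcH ha2 hcc ha1 hca.symm hx (hSc g hg)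
    refine ⟨?_, h1⟩
    have := h2.mul_right h1.inv_right
    rwa [hcdef, mul_inv_cancel_right] at this
  have hgb : ∀ x ∈ theta b, ∀ g ∈ S, x * g ∈ S := by
    intro x hx g hg
    have h1 := hE.theta_preserves hC hb ha hb2 ha2 hb1 hab.symm hx hg.1
    have h2 := hE.theta_preserves hC hb hcH hb2 hcc hb1 hcb.symm hx (hSc g hg)
    refine ⟨h1, ?_⟩
    have := h1.inv_right.mul_right h2
    rwa [hcdef, inv_mul_cancel_left] at this
  have hgc : ∀ x ∈ theta c, ∀ g ∈ S, x * g ∈ S := fun x hx g hg =>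
    ⟨hE.theta_preserves hC hcH ha hcc ha2 hc1 hca hx hg.1,
      hE.theta_preserves hC hcH hb hcc hb2 hc1 hcb hx hg.2⟩
  let N0 : Subgroup G := Subgroup.normalizer (H : Set G) ⊓
    (Subgroup.centralizer ({a} : Set G) ⊓ Subgroup.centralizer ({b} : Set G))
  have hN0 : ∀ x ∈ N0, ∀ g ∈ S, x * g ∈ S := by
    rintro x ⟨hx, hxa, hxb⟩ g hg
    have h1 := hE.nu_left hx g
    refine ⟨?_, ?_⟩
    · rw [h1]; exact Commute.mul_left (Subgroup.mem_centralizer_singleton_iff.mp hxa) hg.1
    · rw [h1]; exact Commute.mul_left (Subgroup.mem_centralizer_singleton_iff.mp hxb) hg.2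
  set L := Subgroup.closure
    ((theta a : Set G) ∪ (theta b : Set G) ∪ (theta c : Set G) ∪ (N0 : Set G)) with hL
  have hLS : ∀ x ∈ L, ∀ g, g ∈ S ↔ x * g ∈ S := by
    intro x hx
    induction hx using Subgroup.closure_induction with
    | mem y hy =>
      have key : ∀ R : Subgroup G, (∀ x ∈ R, ∀ g ∈ S, x * g ∈ S) → y ∈ R →
          ∀ g, g ∈ S ↔ y * g ∈ S := fun R hR hy g => ⟨hR y hy g, fun h => by
        simpa using hR _ (inv_mem hy) _ h⟩
      rcases hy with ((hy | hy) | hy) | hy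
      exacts [key _ hga hy, key _ hgb hy, key _ hgc hy, key _ hN0 hy]
    | one => intro g; rw [one_mul]
    | mul y z _ _ hy hz =>
      intro g
      rw [mul_assoc, hz g, hy (z * g)]
    | inv y _ hy =>
      intro g
      rw [hy (y⁻¹ * g), mul_inv_cancel_left]
  have hHN0 : H ≤ N0 := fun h hh => ⟨Subgroup.le_normalizer hh,
    Subgroup.mem_centralizer_singleton_iff.mpr (hE.comm hh ha).eq,
    Subgroup.mem_centralizer_singleton_iff.mpr (hE.comm hh hb).eq⟩
  -- `G = L N(H)`
  have hLN : ∀ g : G, ∃ l ∈ L, l⁻¹ * g ∈ Subgroup.normalizer (H : Set G) := by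
    intro g
    have h1 : hE.nu (g * (hE.nu g)⁻¹) = 1 := by
      rw [hE.nu_mul g (inv_mem (hE.nu_mem g)), mul_inv_cancel]
    obtain ⟨α, hα, γ, hγ, y, hy, e⟩ := hE.eq_of_nu_commute hC ha hb ha2 hb2 ha1 hab
      (g := g * (hE.nu g)⁻¹) (h1 ▸ Commute.one_left b)
    obtain ⟨w, hw, m, hm, -, rfl⟩ := hC b hb hb2 hb1 y hy
    refine ⟨α * γ * w, mul_mem (mul_mem
      (Subgroup.subset_closure (Or.inl (Or.inl (Or.inl hα))))
      (Subgroup.subset_closure (Or.inl (Or.inr hγ))))
      (Subgroup.subset_closure (Or.inl (Or.inl (Or.inr hw)))), ?_⟩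
    have key : ∀ g' n' : G, g' * n'⁻¹ = α * γ * (w * m) → (α * γ * w)⁻¹ * g' = m * n' := by
      intro g' n' h
      rw [mul_inv_eq_iff_eq_mul.mp h]
      group
    rw [key g (hE.nu g) e]
    exact mul_mem hm (hE.nu_mem g)
  have htop : L = ⊤ := by
    rw [eq_top_iff, ← hX]
    refine (Subgroup.closure_le _).mpr ?_
    intro x hx
    obtain ⟨h, hh, hhx⟩ := Group.mem_conjugatesOfSet_iff.mp hx
    obtain ⟨g, rfl⟩ := isConj_iff.mp hhx
    obtain ⟨l, hl, hm⟩ := hLN g
    have h1 : l⁻¹ * g * h * (l⁻¹ * g)⁻¹ ∈ L :=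
      Subgroup.subset_closure (Or.inr (hHN0 ((Subgroup.mem_normalizer_iff.mp hm h).mp hh)))
    have h2 := mul_mem (mul_mem hl h1) (inv_mem hl)
    rw [show l * (l⁻¹ * g * h * (l⁻¹ * g)⁻¹) * l⁻¹ = g * h * g⁻¹ by group] at h2
    exact h2
  have h1S : (1 : G) ∈ S := by
    have e := hE.nu_of_mem (one_mem (Subgroup.normalizer (H : Set G)))
    exact ⟨e.symm ▸ Commute.one_left a, e.symm ▸ Commute.one_left b⟩
  have := ((hLS n (htop ▸ Subgroup.mem_top n) 1).mp h1S).1
  rwa [mul_one, hE.nu_of_mem hn] at this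

/-- An involution of `H` centralized by `N(H)` is isolated. -/
theorem EC.isolated (hE : EC H) {t : G} (ht : t ∈ H) (ht2 : orderOf t = 2)
    (hN : ∀ n ∈ Subgroup.normalizer (H : Set G), Commute n t) :
    Cfsg.IsIsolatedInvolution t := by
  refine ⟨ht2, fun g hg => ?_⟩
  have htt : t * t = 1 := by rw [← pow_two, ← ht2, pow_orderOf_eq_one]
  obtain ⟨o, ho, hoe⟩ := hE.conj_mod g ht
  rw [(hN _ (hE.nu_mem g)).eq, mul_inv_cancel_right] at hoe
  have hot : o = g * t * g⁻¹ * t := by rw [hoe, mul_assoc, htt, mul_one]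
  have h2 : o * o = 1 := by
    rw [hot]
    rw [hg.mul_mul_mul_comm, htt, mul_one, mul_mul_self_conj htt]
  have h1 : o = 1 := by
    obtain ⟨k, M, hM, hG⟩ := exists_odd_part G
    rw [← involution_pow_odd h2 hM]
    exact pow_odd_part_eq_one hG (odd_card_kern g) ho
  rw [hoe, h1, one_mul]

/-! ### Restriction and quotients -/

theorem mem_normalizer_of_le {x : G} {L : Subgroup G} (h : ∀ y ∈ L, x * y * x⁻¹ ∈ L) :
    x ∈ Subgroup.normalizer (L : Set G) := by
  have heq : L.map (MulAut.conj x).toMonoidHom = L :=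
    Subgroup.eq_of_le_of_card_ge (by rintro _ ⟨y, hy, rfl⟩; exact h y hy)
      (Subgroup.card_map_of_injective (MulEquiv.injective _)).ge
  rw [Subgroup.mem_normalizer_iff]
  refine fun y => ⟨h y, fun hy => ?_⟩
  rw [← heq] at hy
  obtain ⟨z, hz, hzy⟩ := hy
  simp at hzy
  rwa [← hzy]

theorem subgroupOf_normalizer {D : Subgroup G} (hD : H ≤ D) {x : D}
    (hx : x ∈ Subgroup.normalizer ((H.subgroupOf D : Subgroup D) : Set D)) :
    (x : G) ∈ Subgroup.normalizer (H : Set G) := by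
  refine mem_normalizer_of_le fun y hy => ?_
  exact Subgroup.mem_subgroupOf.mp
    ((Subgroup.mem_normalizer_iff.mp hx ⟨y, hD hy⟩).mp (Subgroup.mem_subgroupOf.mpr hy))

theorem EC.restrict (hE : EC H) {D : Subgroup G} (hD : H ≤ D) : EC (H.subgroupOf D) := by
  refine ⟨hE.two.comap_subtype, ⟨⟨fun x y => Subtype.ext (Subtype.ext
    (hE.comm (Subgroup.mem_subgroupOf.mp x.2) (Subgroup.mem_subgroupOf.mp y.2)).eq)⟩⟩, fun g => ?_⟩
  refine le_antisymm (fun x hx => Subgroup.mem_subgroupOf.mpr ?_)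
    (le_inf le_sup_left Subgroup.le_normalizer)
  obtain ⟨hx1, hx2⟩ := Subgroup.mem_inf.mp hx
  refine hE.normalizer_inter (subgroupOf_normalizer hD hx2) (g := (g : G)) ?_
  have hle : H.subgroupOf D ⊔ (H.subgroupOf D).map (MulAut.conj g).toMonoidHom ≤
      (pair H (g : G)).subgroupOf D := by
    refine sup_le (fun y hy => Subgroup.mem_subgroupOf.mpr (mem_pair hy)) ?_
    rintro _ ⟨y, hy, rfl⟩
    exact Subgroup.mem_subgroupOf.mpr (conj_mem_pair (g := (g : G)) hy)
  exact Subgroup.mem_subgroupOf.mp (hle hx1)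

variable {Q : Type u} [Group Q] [Finite Q] {f : G →* Q}

theorem EC.map_of (hE : EC H) (hf : Function.Surjective f)
    (h : ∀ g x, x ∈ pair H g → f x ∈ Subgroup.normalizer ((H.map f : Subgroup Q) : Set Q) →
      f x ∈ H.map f) : EC (H.map f) := by
  refine ⟨hE.two.map f, ⟨⟨fun x y => ?_⟩⟩, fun q => ?_⟩
  · obtain ⟨_, a, ha, rfl⟩ := x
    obtain ⟨_, b, hb, rfl⟩ := y
    exact Subtype.ext (by simpa using congrArg f (hE.comm ha hb).eq)
  obtain ⟨g, rfl⟩ := hf q
  refine le_antisymm ?_ (le_inf le_sup_left Subgroup.le_normalizer)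
  rintro z ⟨hz1, hz2⟩
  have e : H.map f ⊔ (H.map f).map (MulAut.conj (f g)).toMonoidHom = (pair H g).map f := by
    rw [pair, Subgroup.map_sup, Subgroup.map_map, Subgroup.map_map]
    congr 2
    ext x
    simp
  rw [e] at hz1
  obtain ⟨x, hx, rfl⟩ := hz1
  exact h g x hx hz2

/-- Modulo a normal subgroup of odd order, the normalizer of `H` is the normalizer of its image. -/
theorem EC.sigma_mem_ker (hE : EC H) (hodd : Odd (Nat.card f.ker)) {x : G}
    (hx : f x ∈ Subgroup.normalizer ((H.map f : Subgroup Q) : Set Q)) :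
    hE.sigma x ∈ f.ker := by
  obtain ⟨k, M, hM, hG⟩ := exists_odd_part G
  have hσ := hE.self_mem_kern (hE.sigma_mem x)
  have hle : pair H (hE.sigma x) ≤ f.ker ⊔ H := by
    rw [pair, (conj_map_eq_iff _ x).mpr (hE.nu_mem x)]
    refine sup_le le_sup_right ?_
    rintro _ ⟨h, hh, rfl⟩
    show x * h * x⁻¹ ∈ _
    have h1 := (Subgroup.mem_normalizer_iff.mp hx (f h)).mp ⟨h, hh, rfl⟩
    rw [← map_inv, ← map_mul, ← map_mul] at h1
    obtain ⟨h', hh', e⟩ := h1
    rw [← inv_mul_cancel_right (x * h * x⁻¹) h']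
    exact mul_mem (Subgroup.mem_sup_left (by
      rw [MonoidHom.mem_ker, map_mul, map_inv, ← e, mul_inv_cancel]))
      (Subgroup.mem_sup_right hh')
  exact hE.mem_of_sup (le_top.trans_eq (Subgroup.normalizer_eq_top (H := f.ker)).symm) hM
    (fun r hr => pow_odd_part_eq_one hG hodd hr) (hle (kern_le _ hσ))
    (pow_odd_part_eq_one hG (odd_card_kern x) (hE.sigma_mem x))

theorem EC.map_odd (hE : EC H) (hf : Function.Surjective f) (hodd : Odd (Nat.card f.ker)) :
    EC (H.map f) := by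
  obtain ⟨k, M, hM, hG⟩ := exists_odd_part G
  refine hE.map_of hf fun g x hx hfx => ?_
  have hs := hE.sigma_mem_ker hodd hfx
  have hle : pair H x ≤ pair H g := by
    refine sup_le le_sup_left ?_
    rintro _ ⟨h, hh, rfl⟩
    exact mul_mem (mul_mem hx (mem_pair hh)) (inv_mem hx)
  have h1 : hE.nu x ∈ H := hE.normalizer_inter (hE.nu_mem x)
    (mul_mem (inv_mem (hle (kern_le x (hE.sigma_mem x)))) hx)
  refine ⟨hE.nu x, h1, ?_⟩
  rw [EC.nu, map_mul, map_inv, MonoidHom.mem_ker.mp hs, inv_one, one_mul]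

theorem mem_normalizer_of_ker_le (hker : f.ker ≤ H) {x : G}
    (hx : f x ∈ Subgroup.normalizer ((H.map f : Subgroup Q) : Set Q)) :
    x ∈ Subgroup.normalizer (H : Set G) := by
  refine mem_normalizer_of_le fun y hy => ?_
  have h1 := (Subgroup.mem_normalizer_iff.mp hx (f y)).mp ⟨y, hy, rfl⟩
  rw [← map_inv, ← map_mul, ← map_mul] at h1
  obtain ⟨h', hh', e⟩ := h1
  rw [← inv_mul_cancel_right (x * y * x⁻¹) h']
  exact mul_mem (hker (by rw [MonoidHom.mem_ker, map_mul, map_inv, ← e, mul_inv_cancel])) hh'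

/-- **Extremely closed abelian 2-subgroups**: `G = N(H) O(G)`. -/
theorem normalizer_sup_oddCore : ∀ (G : Type u) [Group G] [Finite G] (H : Subgroup G), EC H →
    Subgroup.normalizer (H : Set G) ⊔ Cfsg.pPrimeCore 2 G = ⊤ := by
  suffices ∀ (n : ℕ) (G : Type u) [Group G] [Finite G] (H : Subgroup G), Nat.card G = n → EC H →
      Subgroup.normalizer (H : Set G) ⊔ Cfsg.pPrimeCore 2 G = ⊤ from
    fun G _ _ H hE => this _ G H rfl hE
  intro n
  induction n using Nat.strong_induction_on with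
  | _ n ih =>
    intro G _ _ H hn hE
    have : Fact (Nat.Prime 2) := ⟨Nat.prime_two⟩
    subst hn
    haveI hOn := CfsgLib.Solvable.pPrimeCore_normal 2 G
    set O := Cfsg.pPrimeCore 2 G with hO
    have hOodd : Odd (Nat.card O) :=
      Nat.coprime_two_right.mp (CfsgLib.Solvable.pPrimeCore_card_coprime 2 G)
    by_cases hO1 : O ≠ ⊥
    · -- pass to `G ⧸ O`
      have hker : (QuotientGroup.mk' O).ker = O := QuotientGroup.ker_mk' O
      have hs := QuotientGroup.mk'_surjective O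
      have hlt : Nat.card (G ⧸ O) < Nat.card G := by
        rw [Subgroup.card_eq_card_quotient_mul_card_subgroup O]
        exact lt_mul_of_one_lt_right Nat.card_pos ((Subgroup.one_lt_card_iff_ne_bot O).mpr hO1)
      have hIH := ih _ hlt (G ⧸ O) _ rfl (hE.map_odd hs (hker.symm ▸ hOodd))
      rw [CfsgLib.Solvable.pPrimeCore_quotient_eq_bot (p := 2) O rfl, sup_bot_eq] at hIH
      refine eq_top_iff.mpr fun x _ => ?_
      have hx := hE.sigma_mem_ker (hker.symm ▸ hOodd) (x := x) (hIH ▸ Subgroup.mem_top _)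
      rw [hker] at hx
      rw [← mul_inv_cancel_left (hE.sigma x) x]
      exact mul_mem (Subgroup.mem_sup_right hx) (Subgroup.mem_sup_left (hE.nu_mem x))
    push Not at hO1
    have hgoal : ∀ _ : ∀ g : G, g ∈ Subgroup.normalizer (H : Set G),
        Subgroup.normalizer (H : Set G) ⊔ O = ⊤ := fun h =>
      eq_top_iff.mpr fun g _ => Subgroup.mem_sup_left (h g)
    by_cases hHbot : H = ⊥
    · refine hgoal fun g => mem_normalizer_of_le fun y hy => ?_
      rw [hHbot, Subgroup.mem_bot] at hy ⊢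
      rw [hy, mul_one, mul_inv_cancel]
    by_cases hX : Subgroup.normalClosure (H : Set G) ≠ ⊤
    · -- pass to the normal closure
      set X := Subgroup.normalClosure (H : Set G) with hXdef
      have hHX : H ≤ X := Subgroup.subset_normalClosure
      have hlt : Nat.card X < Nat.card G :=
        lt_of_le_of_ne (Subgroup.card_le_card_group X) fun h => hX (Subgroup.eq_top_of_card_eq X h)
      have hIH := ih _ hlt X _ rfl (hE.restrict hHX)
      have hbot : Cfsg.pPrimeCore 2 X = ⊥ := by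
        have h := CfsgLib.Solvable.map_subtype_pPrimeCore_le (p := 2) X
        rw [← hO, hO1, le_bot_iff,
          Subgroup.map_eq_bot_iff_of_injective _ X.subtype_injective] at h
        exact h
      rw [hbot, sup_bot_eq] at hIH
      refine hgoal fun g => mem_normalizer_of_le fun y hy => ?_
      have hle : pair H g ≤ Subgroup.normalizer (H : Set G) := by
        refine sup_le Subgroup.le_normalizer ?_
        rintro _ ⟨h, hh, rfl⟩
        exact subgroupOf_normalizer hHX (x := ⟨_, (Subgroup.normalClosure_normal).conj_mem h (hHX hh) g⟩)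
          (hIH ▸ Subgroup.mem_top _)
      exact hE.normalizer_inter (hle (conj_mem_pair hy)) (conj_mem_pair hy)
    push Not at hX
    by_cases hcen : ∃ t ∈ H, orderOf t = 2 ∧ ∀ x : G, Commute x t
    · -- pass to the quotient by a central involution of `H`
      obtain ⟨t, htH, ht2, htc⟩ := hcen
      set Z := Subgroup.zpowers t with hZ
      have hZH : Z ≤ H := Subgroup.zpowers_le.mpr htH
      haveI : Z.Normal := ⟨fun m hm x => by
        obtain ⟨j, rfl⟩ := Subgroup.mem_zpowers_iff.mp hm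
        rw [((htc x).zpow_right j).eq, mul_inv_cancel_right]
        exact zpow_mem (Subgroup.mem_zpowers t) j⟩
      have hker : (QuotientGroup.mk' Z).ker ≤ H := (QuotientGroup.ker_mk' Z).le.trans hZH
      have hlt : Nat.card (G ⧸ Z) < Nat.card G := by
        rw [Subgroup.card_eq_card_quotient_mul_card_subgroup Z, hZ, Nat.card_zpowers, ht2]
        exact lt_mul_of_one_lt_right Nat.card_pos one_lt_two
      have hIH := ih _ hlt (G ⧸ Z) _ rfl (hE.map_of (QuotientGroup.mk'_surjective Z)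
        fun g x hx hfx => Subgroup.mem_map_of_mem _
          (hE.normalizer_inter (mem_normalizer_of_ker_le hker hfx) hx))
      rw [CfsgLib.TwoFusion.ZStarPower.oddCore_quotient_central (hO ▸ hO1) Z (hE.two.to_le hZH)
        (Subgroup.isCyclic_zpowers t), sup_bot_eq] at hIH
      exact hgoal fun g => mem_normalizer_of_ker_le hker (x := g) (hIH ▸ Subgroup.mem_top _)
    push Not at hcen
    exfalso
    obtain ⟨t, ht⟩ := exists_prime_orderOf_dvd_card' (G := H) 2 (by
      obtain ⟨m, hm⟩ := IsPGroup.iff_card.mp hE.two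
      have : m ≠ 0 := fun h => hHbot (Subgroup.card_eq_one.mp (by rw [hm, h, pow_zero]))
      rw [hm]
      exact dvd_pow_self 2 this)
    rw [← Subgroup.orderOf_coe] at ht
    have ht2 : (t : G) * t = 1 := by rw [← pow_two, ← ht, pow_orderOf_eq_one]
    have ht1 : (t : G) ≠ 1 := fun h => by rw [h, orderOf_one] at ht; omega
    have hC : CentFact H := by
      intro a ha ha2 ha1 x hx
      set C := Subgroup.centralizer ({a} : Set G) with hCdef
      have hHC : H ≤ C := fun h hh => Subgroup.mem_centralizer_singleton_iff.mpr (hE.comm hh ha).eq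
      have hlt : Nat.card C < Nat.card G := by
        refine lt_of_le_of_ne (Subgroup.card_le_card_group C) fun h => ?_
        obtain ⟨y, hy⟩ := hcen a ha (orderOf_eq_prime (by rw [pow_two, ha2]) ha1)
        exact hy (Subgroup.mem_centralizer_singleton_iff.mp
          ((Subgroup.eq_top_of_card_eq C h).ge (Subgroup.mem_top y)))
      have hIH := ih _ hlt C _ rfl (hE.restrict hHC)
      haveI := CfsgLib.Solvable.pPrimeCore_normal 2 C
      obtain ⟨m, hm, w, hw, e⟩ := Subgroup.mem_sup_of_normal_right.mp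
        (hIH ▸ Subgroup.mem_top (⟨x, Subgroup.mem_centralizer_singleton_iff.mpr hx.symm.eq⟩ : C))
      refine ⟨(m : G) * w * (m : G)⁻¹, ⟨m * w * m⁻¹,
          (CfsgLib.Solvable.pPrimeCore_normal 2 C).conj_mem w hw m, rfl⟩,
        m, subgroupOf_normalizer hHC hm, (Subgroup.mem_centralizer_singleton_iff.mp m.2).symm, ?_⟩
      rw [inv_mul_cancel_right]
      exact (congrArg Subtype.val e).symm
    have hN : ∀ m ∈ Subgroup.normalizer (H : Set G), Commute m (t : G) := by
      intro m hm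
      by_contra hne
      have hb : m * t * m⁻¹ ∈ H := (Subgroup.mem_normalizer_iff.mp hm t).mp t.2
      refine hne (hE.normalizer_commute hC hX t.2 hb ht2 (mul_mul_self_conj ht2) ht1
        (fun h => ht1 (by rw [mul_inv_eq_one, mul_eq_left] at h; exact h))
        (fun h => hne (mul_inv_eq_iff_eq_mul.mp h.symm)) hm)
    obtain ⟨y, hy⟩ := hcen t t.2 ht
    have hz := CfsgLib.Invol.zStar (hE.isolated t.2 ht hN) y
    rw [← hO, hO1, Subgroup.mem_bot, mul_inv_eq_one, mul_inv_eq_iff_eq_mul] at hz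
    exact hy hz.symm

end CfsgLib.LocalEven.EClosed
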