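import Cfsg.Agent.Lib.LocalEven.PBasic
import Mathlib.GroupTheory.GroupAction.Quotient
import Mathlib.GroupTheory.PGroup

/-!
# Lower bounds for `|V : C_V(s)|` from elements of primitive prime-power order
-/

set_option autoImplicit false

namespace CfsgLib.LocalEven.FixBound

open Subgroup

variable {G : Type*} [Group G] [Finite G] {p : ℕ} [hp : Fact p.Prime]

/-- `R` forces degree at least `N` in characteristic `p`. -/
def Primitive (p R N : ℕ) : Prop := ∀ m : ℕ, 0 < m → R ∣ p ^ m - 1 → N ≤ m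

theorem mem_of_pow_mem {d : G} {r k : ℕ} (hr : r.Prime) (hd : orderOf d = r ^ (k + 1)) {K : Subgroup G}
    {c : G} (hc : c ∈ zpowers d) (hcK : c ∈ K) (hc1 : c ≠ 1) : d ^ (r ^ k) ∈ K := by
  obtain ⟨e, rfl⟩ := mem_zpowers_iff.1 hc
  have hg : d ^ (Int.gcd e (r ^ (k + 1) : ℕ) : ℤ) ∈ K := by
    rw [Int.gcd_eq_gcd_ab, zpow_add, zpow_mul, zpow_mul, zpow_natCast, ← hd, pow_orderOf_eq_one,
      one_zpow, mul_one]
    exact zpow_mem hcK _
  have hdvd : Int.gcd e (r ^ (k + 1) : ℕ) ∣ r ^ (k + 1) :=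
    Int.natCast_dvd_natCast.1 (Int.gcd_dvd_right _ _)
  obtain ⟨i, hi, hgi⟩ := (Nat.dvd_prime_pow hr).1 hdvd
  rw [hgi, zpow_natCast] at hg
  rcases (Nat.lt_or_ge i (k + 1)) with hlt | hge
  · obtain ⟨j, rfl⟩ := Nat.exists_eq_add_of_le (Nat.lt_succ_iff.1 hlt)
    rw [pow_add, pow_mul]
    exact pow_mem hg _
  · exfalso
    obtain rfl : i = k + 1 := le_antisymm hi hge
    apply hc1
    have he : ((r ^ (k + 1) : ℕ) : ℤ) ∣ e := by rw [← hgi]; exact Int.gcd_dvd_left _ _
    rw [← orderOf_dvd_iff_zpow_eq_one, hd]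
    exact he

theorem relIndex_pos' (A B : Subgroup G) : 0 < A.relIndex B :=
  Nat.pos_of_ne_zero Subgroup.index_ne_zero_of_finite

/-- An element of order `R = r^k` acting faithfully on a `p`-group has fixed points of index at least `p^N`. -/
theorem orbit_bound {V : Subgroup G} (hV : IsPGroup p V) {d : G} (hdV : d ∈ normalizer (V : Set G))
    {r k N : ℕ} (hr : r.Prime) (hrp : r ≠ p) (hd : orderOf d = r ^ (k + 1))
    (hd' : d ^ (r ^ k) ∉ centralizer (V : Set G)) (hN : Primitive p (r ^ (k + 1)) N) :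
    p ^ N ≤ (V ⊓ centralizer ({d} : Set G)).relIndex V := by
  set d' := d ^ (r ^ k) with hd'def
  set C' := V ⊓ centralizer ({d'} : Set G) with hC'
  have hle : V ⊓ centralizer ({d} : Set G) ≤ C' := inf_le_inf_left _ fun x hx =>
    mem_centralizer_singleton_iff.2 ((Commute.pow_right (mem_centralizer_singleton_iff.1 hx) _))
  refine le_trans ?_ (Nat.le_of_dvd (relIndex_pos' _ _)
    (relIndex_dvd_of_le_left V hle))
  obtain ⟨a, ha⟩ := hV.exists_card_eq
  obtain ⟨b, hb⟩ := (hV.to_le (inf_le_left : C' ≤ V)).exists_card_eq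
  have hmul : Nat.card C' * C'.relIndex V = Nat.card V := by
    have := relIndex_mul_relIndex (⊥ : Subgroup G) C' V bot_le inf_le_left
    simpa [relIndex_bot_left] using this
  have hab : b < a := by
    by_contra h
    refine hd' fun v hv => ?_
    have hCV : C' = V := Subgroup.eq_of_le_of_card_ge inf_le_left (by
      rw [ha, hb]; exact Nat.pow_le_pow_right hp.out.pos (not_lt.1 h))
    exact (mem_centralizer_singleton_iff.1 (hCV.ge hv).2)
  obtain ⟨m, rfl⟩ := Nat.exists_eq_add_of_le hab.le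
  have hm : 0 < m := by omega
  have hrel : C'.relIndex V = p ^ m := by
    rw [ha, hb, pow_add] at hmul
    exact Nat.eq_of_mul_eq_mul_left (pow_pos hp.out.pos b) hmul
  rw [hrel]
  refine Nat.pow_le_pow_right hp.out.pos (hN m hm ?_)
  -- the free action of `⟨d⟩` on `V \ C'`
  let X := {v : V // (v : G) ∉ C'}
  have hmem : ∀ c ∈ zpowers d, ∀ v ∈ V, c * v * c⁻¹ ∈ V := fun c hc v hv =>
    (mem_normalizer_iff.1 ((zpowers_le.2 hdV) hc) v).1 hv
  have hnot : ∀ c ∈ zpowers d, ∀ v : X, c * (v.1 : G) * c⁻¹ ∉ C' := fun c hc v h => v.2 <| by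
    refine Subgroup.mem_inf.2 ⟨v.1.2, mem_centralizer_singleton_iff.2 ?_⟩
    have hcd : Commute c d' := by
      obtain ⟨e, rfl⟩ := mem_zpowers_iff.1 hc
      exact ((Commute.refl d).zpow_left e).pow_right _
    have h' : Commute (c * (v.1 : G) * c⁻¹) d' := mem_centralizer_singleton_iff.1 h.2
    have h3 : Commute (c⁻¹ * (c * (v.1 : G) * c⁻¹) * c) d' :=
      ((hcd.inv_left).mul_left h').mul_left hcd
    rwa [show c⁻¹ * (c * (v.1 : G) * c⁻¹) * c = v.1 by group] at h3
  letI : MulAction (zpowers d) X :=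
    { smul := fun c v => ⟨⟨c.1 * v.1 * c.1⁻¹, hmem _ c.2 _ v.1.2⟩, hnot _ c.2 v⟩
      one_smul := fun v => Subtype.ext (Subtype.ext (show (1 : G) * v.1 * 1⁻¹ = v.1 by simp))
      mul_smul := fun c e v => Subtype.ext (Subtype.ext (show (c.1 * e.1) * v.1 * (c.1 * e.1)⁻¹ =
        c.1 * (e.1 * v.1 * e.1⁻¹) * c.1⁻¹ by group)) }
  have hfree : ∀ v : X, MulAction.stabilizer (zpowers d) v = ⊥ := by
    intro v
    rw [eq_bot_iff]
    intro c hc
    by_contra hc1
    apply v.2
    have h1 : c.1 * v.1 * c.1⁻¹ = (v.1 : G) := congrArg (fun x : X => (x.1 : G)) hc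
    have h2 := mem_of_pow_mem hr hd c.2 (K := centralizer ({(v.1 : G)} : Set G))
      (mem_centralizer_singleton_iff.2 (mul_inv_eq_iff_eq_mul.1 h1)) fun h => hc1 (Subtype.ext h)
    exact Subgroup.mem_inf.2 ⟨v.1.2, mem_centralizer_singleton_iff.2
      (mem_centralizer_singleton_iff.1 h2).symm⟩
  have hX := Nat.card_congr (MulAction.selfEquivOrbitsQuotientProd hfree)
  rw [Nat.card_prod, Nat.card_zpowers, hd] at hX
  have hXcard : Nat.card X = p ^ b * (p ^ m - 1) := by
    classical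
    have h := Nat.card_congr (Equiv.sumCompl fun v : V => (v : G) ∈ C').symm
    have h2 : Nat.card {v : V // (v : G) ∈ C'} = p ^ b := by
      rw [← hb]
      exact Nat.card_congr ⟨fun v => ⟨v.1.1, v.2⟩, fun v => ⟨⟨v.1, v.2.1⟩, v.2⟩, fun v => rfl, fun v => rfl⟩
    rw [Nat.card_sum, h2, ha, pow_add] at h
    rw [Nat.mul_sub_one, h, Nat.add_sub_cancel_left]
  have hdvd : r ^ (k + 1) ∣ p ^ b * (p ^ m - 1) := hXcard ▸ hX ▸ dvd_mul_left _ _
  refine (Nat.Coprime.dvd_of_dvd_mul_left ?_ hdvd)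
  exact Nat.Coprime.pow _ _ ((Nat.coprime_primes hr hp.out).2 hrp)

/-- Conjugates by elements normalizing `V` have fixed point groups of the same index. -/
theorem relIndex_conj {V : Subgroup G} {g : G} (hg : g ∈ normalizer (V : Set G)) (s : G) :
    (V ⊓ centralizer ({g * s * g⁻¹} : Set G)).relIndex V =
      (V ⊓ centralizer ({s} : Set G)).relIndex V := by
  have h := relIndex_map_map_of_injective (V ⊓ centralizer ({s} : Set G)) V
    (MulAut.conj g).injective (f := (MulAut.conj g).toMonoidHom)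
  have hV : V.map (MulAut.conj g).toMonoidHom = V := mem_normalizer_iff_cj.1 hg
  rw [hV, Subgroup.map_inf _ _ _ (MulAut.conj g).injective, hV] at h
  rw [← h]
  congr 2
  ext x
  rw [mem_centralizer_singleton_iff]
  constructor
  · intro hx
    refine ⟨g⁻¹ * x * g, mem_centralizer_singleton_iff.2 ?_, by simp [mul_assoc]⟩
    show g⁻¹ * x * g * s = s * (g⁻¹ * x * g)
    calc g⁻¹ * x * g * s = g⁻¹ * (x * (g * s * g⁻¹)) * g := by group
      _ = g⁻¹ * (g * s * g⁻¹ * x) * g := by rw [hx]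
      _ = s * (g⁻¹ * x * g) := by group
  · rintro ⟨y, hy, rfl⟩
    show g * y * g⁻¹ * (g * s * g⁻¹) = g * s * g⁻¹ * (g * y * g⁻¹)
    have hy' : y * s = s * y := mem_centralizer_singleton_iff.1 hy
    calc g * y * g⁻¹ * (g * s * g⁻¹) = g * (y * s) * g⁻¹ := by group
      _ = g * (s * y) * g⁻¹ := by rw [hy']
      _ = _ := by group

/-- `R` data. -/
structure RData (p R N : ℕ) : Prop where
  isPow : ∃ r k : ℕ, r.Prime ∧ r ≠ p ∧ R = r ^ (k + 1)
  prim : Primitive p R N

/-- If conjugates of `s` generate an element of order divisible by `R`, then `|V : C_V(s)|^3 ≥ p^N`,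
and the cube can be a square if two conjugates suffice. -/
theorem prod_bound {V H : Subgroup G} (hV : IsPGroup p V) (hHV : H ≤ normalizer (V : Set G))
    (hf : H ⊓ centralizer (V : Set G) = ⊥) {R N : ℕ} (hR : RData p R N) {s : G} (hs : s ∈ H)
    (l : List G) (hl : ∀ g ∈ l, g ∈ H) {d : G}
    (hd : d ∈ closure {x : G | ∃ g ∈ l, x = g * s * g⁻¹}) (hdvd : R ∣ orderOf d) :
    p ^ N ≤ ((V ⊓ centralizer ({s} : Set G)).relIndex V) ^ l.length ∧ p ^ N ≤ Nat.card V := by
  obtain ⟨⟨r, k, hr, hrp, rfl⟩, hN⟩ := hR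
  set D := closure {x : G | ∃ g ∈ l, x = g * s * g⁻¹}
  have hDH : D ≤ H := by
    rw [closure_le]
    rintro _ ⟨g, hg, rfl⟩
    exact mul_mem (mul_mem (hl g hg) hs) (inv_mem (hl g hg))
  have hd1 : orderOf (d ^ (orderOf d / r ^ (k + 1))) = r ^ (k + 1) :=
    orderOf_pow_orderOf_div (orderOf_pos d).ne' hdvd
  set d1 := d ^ (orderOf d / r ^ (k + 1))
  have hd1D : d1 ∈ D := pow_mem hd _
  have hd' : d1 ^ (r ^ k) ∉ centralizer (V : Set G) := fun h => by
    have h1 : d1 ^ (r ^ k) ∈ H ⊓ centralizer (V : Set G) := Subgroup.mem_inf.2 ⟨pow_mem (hDH hd1D) _, h⟩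
    rw [hf, mem_bot] at h1
    have := Nat.le_of_dvd (pow_pos hr.pos _) (hd1 ▸ orderOf_dvd_of_pow_eq_one h1)
    exact absurd this (not_le.2 (Nat.pow_lt_pow_right hr.one_lt (Nat.lt_succ_self k)))
  have hob := orbit_bound hV (hHV (hDH hd1D)) hr hrp hd1 hd' hN
  refine ⟨hob.trans ?_, hob.trans (Nat.le_of_dvd Nat.card_pos ?_)⟩
  swap
  · exact (relIndex_dvd_of_le_left V bot_le).trans (by rw [relIndex_bot_left])
  -- the intersection of the fixed point groups
  have key : ∀ l' : List G, (∀ g ∈ l', g ∈ H) → ∃ W : Subgroup G, W ≤ V ∧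
      (∀ g ∈ l', W ≤ centralizer ({g * s * g⁻¹} : Set G)) ∧
      W.relIndex V ≤ ((V ⊓ centralizer ({s} : Set G)).relIndex V) ^ l'.length := by
    intro l'
    induction l' with
    | nil => exact fun _ => ⟨V, le_rfl, fun g hg => by simp at hg, by simp⟩
    | cons g l' ih =>
      intro hH
      obtain ⟨W, hWV, hWc, hWi⟩ := ih fun x hx => hH x (List.mem_cons_of_mem _ hx)
      refine ⟨(V ⊓ centralizer ({g * s * g⁻¹} : Set G)) ⊓ W, inf_le_left.trans inf_le_left,
        fun x hx => ?_, ?_⟩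
      · rcases List.mem_cons.1 hx with rfl | hx
        · exact inf_le_left.trans inf_le_right
        · exact inf_le_right.trans (hWc x hx)
      · refine relIndex_inf_le.trans ?_
        rw [relIndex_conj (hHV (hH g (List.mem_cons_self ..))), List.length_cons, pow_succ']
        exact Nat.mul_le_mul_left _ hWi
  obtain ⟨W, hWV, hWc, hWi⟩ := key l hl
  refine le_trans ?_ hWi
  refine Nat.le_of_dvd (relIndex_pos' _ _) (relIndex_dvd_of_le_left V
    (le_inf hWV fun w hw => mem_centralizer_singleton_iff.2 ?_))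
  have hle : D ≤ centralizer ({w} : Set G) := by
    rw [closure_le]
    rintro _ ⟨g, hg, rfl⟩
    exact mem_centralizer_singleton_iff.2 (mem_centralizer_singleton_iff.1 (hWc g hg hw)).symm
  exact (mem_centralizer_singleton_iff.1 (hle hd1D)).symm

/-- Transport along a surjection. -/
theorem prod_bound_of_surjective {V H : Subgroup G} (hV : IsPGroup p V)
    (hHV : H ≤ normalizer (V : Set G)) (hf : H ⊓ centralizer (V : Set G) = ⊥) {R N : ℕ}
    (hR : RData p R N) {Q : Type*} [Group Q] (f : H →* Q) (hsurj : Function.Surjective f) (s : H)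
    (l : List Q) (h : ∃ d ∈ closure {x : Q | ∃ g ∈ l, x = g * f s * g⁻¹}, R ∣ orderOf d) :
    p ^ N ≤ ((V ⊓ centralizer ({(s : G)} : Set G)).relIndex V) ^ l.length ∧ p ^ N ≤ Nat.card V := by
  obtain ⟨d, hd, hdvd⟩ := h
  choose sec hsec using hsurj
  set S := {x : H | ∃ g ∈ l, x = sec g * s * (sec g)⁻¹}
  have himg : f '' S = {x : Q | ∃ g ∈ l, x = g * f s * g⁻¹} := by
    ext x
    constructor
    · rintro ⟨_, ⟨g, hg, rfl⟩, rfl⟩
      exact ⟨g, hg, by simp [hsec]⟩
    · rintro ⟨g, hg, rfl⟩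
      exact ⟨_, ⟨g, hg, rfl⟩, by simp [hsec]⟩
  rw [← himg, ← MonoidHom.map_closure] at hd
  obtain ⟨e, he, rfl⟩ := hd
  have hes : (e : G) ∈ closure {x : G | ∃ g ∈ l.map (fun q => (sec q : G)), x = g * s * g⁻¹} := by
    refine (?_ : (closure S).map H.subtype ≤ _) ⟨e, he, rfl⟩
    rw [MonoidHom.map_closure, closure_le]
    rintro _ ⟨_, ⟨g, hg, rfl⟩, rfl⟩
    exact subset_closure ⟨sec g, List.mem_map.2 ⟨g, hg, rfl⟩, rfl⟩
  have h1 := prod_bound hV hHV hf hR s.2 (l.map fun q => (sec q : G))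
    (fun g hg => by obtain ⟨q, -, rfl⟩ := List.mem_map.1 hg; exact (sec q).2) hes
    (hdvd.trans (by rw [orderOf_coe]; exact orderOf_map_dvd f e))
  rwa [List.length_map] at h1

end CfsgLib.LocalEven.FixBound
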