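import Cfsg.Prelude.Def_Transfer
import Mathlib.Algebra.BigOperators.Group.Finset.Basic
import Mathlib.Algebra.Field.ZMod
import Mathlib.Data.ZMod.Basic
import Mathlib.GroupTheory.Sylow
import Mathlib.RingTheory.Coprime.Lemmas
import Mathlib.RingTheory.Int.Basic

/-!
A noncyclic elementary abelian group acting on an abelian group of coprime order fixes a
nontrivial element by one of its maximal subgroups.
-/

set_option autoImplicit false

namespace CfsgLib.LocalEven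

variable {G : Type*} [Group G]

theorem exists_hyperplane_fixed [Finite G] {p : ℕ} [hp : Fact p.Prime] {U Z : Subgroup G}
    (hU : Cfsg.IsElementaryAbelian p U) (hcard : p ^ 2 ≤ Nat.card U)
    (hcop : (Nat.card Z).Coprime p) (hUZ : U ≤ Subgroup.normalizer (Z : Set G)) (hZ : Z ≠ ⊥)
    (hcomm : ∀ a ∈ Z, ∀ b ∈ Z, a * b = b * a) :
    ∃ U₀ ≤ U, IsCoatom (U₀.subgroupOf U) ∧
      ∃ a ∈ Z, a ≠ 1 ∧ a ∈ Subgroup.centralizer (U₀ : Set G) := by
  classical
  have hUcomm : ∀ a ∈ U, ∀ b ∈ U, Commute a b := fun a ha b hb => by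
    show a * b = b * a
    simpa using congrArg Subtype.val (hU.1.is_comm.comm (⟨a, ha⟩ : U) ⟨b, hb⟩)
  have hUne : (⊥ : Subgroup G) ≠ U := by
    intro h
    rw [← h, Subgroup.card_bot] at hcard
    have := Nat.lt_of_lt_of_le (Nat.one_lt_pow two_ne_zero hp.out.one_lt) hcard
    omega
  obtain ⟨a₀, ha₀, ha₀1⟩ := (Subgroup.bot_or_exists_ne_one Z).resolve_left hZ
  obtain ⟨W, hW⟩ := (Set.toFinite {W : Subgroup G | W ≤ U ∧ W ≠ U ∧
      ∃ a ∈ Z, a ≠ 1 ∧ a ∈ Subgroup.centralizer (W : Set G)}).exists_maximal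
    ⟨⊥, bot_le, hUne, a₀, ha₀, ha₀1, by simp [Subgroup.mem_centralizer_iff]⟩
  obtain ⟨hWU, hWne, a, haZ, ha1, haW⟩ := hW.prop
  refine ⟨W, hWU, ?_, a, haZ, ha1, haW⟩
  refine ⟨by simpa [Subgroup.subgroupOf_eq_top] using fun h => hWne (le_antisymm hWU h), ?_⟩
  intro M hM
  by_contra hMtop
  obtain ⟨⟨u, huU⟩, huM, huW⟩ := SetLike.exists_of_lt hM
  rw [Subgroup.mem_subgroupOf] at huW
  obtain ⟨⟨v, hvU⟩, -, hvM⟩ := SetLike.exists_of_lt (lt_top_iff_ne_top.mpr hMtop)
  -- no element of the plane outside `W` fixes a nontrivial element fixed by `W`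
  have hline : ∀ l ∈ U, ∀ b ∈ Z, b ∈ Subgroup.centralizer (W : Set G) → l * b * l⁻¹ = b →
      W ⊔ Subgroup.zpowers l ≠ U → l ∉ W → b = 1 := by
    intro l hl b hbZ hbW hlb hne hlW
    by_contra hb
    refine hlW ((hW.2 (y := W ⊔ Subgroup.zpowers l)
      ⟨sup_le hWU (Subgroup.zpowers_le.mpr hl), hne, b, hbZ, hb, ?_⟩ le_sup_left)
      ((le_sup_right : _ ≤ W ⊔ Subgroup.zpowers l) (Subgroup.mem_zpowers l)))
    rw [Subgroup.mem_centralizer_iff]
    intro y hy
    have hle : W ⊔ Subgroup.zpowers l ≤ Subgroup.centralizer ({b} : Set G) :=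
      sup_le (fun w hw => Subgroup.mem_centralizer_singleton_iff.mpr
          (Subgroup.mem_centralizer_iff.mp hbW w hw))
        (Subgroup.zpowers_le.mpr (Subgroup.mem_centralizer_singleton_iff.mpr
          (mul_inv_eq_iff_eq_mul.mp hlb)))
    exact Subgroup.mem_centralizer_singleton_iff.mp (hle hy)
  -- the fixed subgroup of `W` in `Z`
  set A := Z ⊓ Subgroup.centralizer (W : Set G) with hA
  let iA : CommGroup A :=
    { (inferInstance : Group A) with
      mul_comm := fun x y => Subtype.ext (hcomm _ x.2.1 _ y.2.1) }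
  have hAinv : ∀ g ∈ U, ∀ b ∈ A, g * b * g⁻¹ ∈ A := by
    intro g hg b hb
    refine ⟨(Subgroup.mem_normalizer_iff.mp (hUZ hg) b).mp hb.1,
      Subgroup.mem_centralizer_iff.mpr fun w hw => ?_⟩
    have h1 : Commute w b := Subgroup.mem_centralizer_iff.mp hb.2 w hw
    have h2 : Commute g w := hUcomm g hg w (hWU hw)
    calc w * (g * b * g⁻¹) = g * (w * b) * g⁻¹ := by
          rw [← mul_assoc, ← mul_assoc, ← h2.eq, mul_assoc g w b]
      _ = g * (b * w) * g⁻¹ := by rw [h1.eq]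
      _ = g * b * (w * g⁻¹) := by group
      _ = g * b * g⁻¹ * w := by rw [← (h2.inv_left).eq]; group
  have hb : ∀ g ∈ U, ∀ b : A, g * (b : G) * g⁻¹ ∈ A := fun g hg b => hAinv g hg b b.2
  let c : G → A → A := fun g b => if hg : g ∈ U then ⟨g * (b : G) * g⁻¹, hb g hg b⟩ else b
  have hc : ∀ g ∈ U, ∀ b : A, (c g b : G) = g * (b : G) * g⁻¹ := fun g hg b => by
    simp only [c, dif_pos hg]
  have hcmul : ∀ g ∈ U, ∀ b b' : A, c g (b * b') = c g b * c g b' := fun g hg b b' => by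
    apply Subtype.ext
    simp only [hc g hg, Subgroup.coe_mul]
    group
  have hcc : ∀ g ∈ U, ∀ h ∈ U, ∀ b : A, c g (c h b) = c (g * h) b := fun g hg h hh b => by
    apply Subtype.ext
    rw [hc g hg, hc h hh, hc _ (mul_mem hg hh)]
    group
  have hcprod : ∀ g ∈ U, ∀ (f : ZMod p → A), c g (∏ i, f i) = ∏ i, c g (f i) := by
    intro g hg f
    exact map_prod (MonoidHom.mk' (c g) (hcmul g hg)) f Finset.univ
  have hpw : ∀ (g : G), g ∈ U → ∀ m : ℕ, g ^ m = g ^ (m % p) := fun g hg m =>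
    pow_eq_pow_mod m (hU.2 g hg)
  -- norms along a line are fixed by that line
  have hnorm : ∀ g ∈ U, ∀ b : A, g ∉ W → W ⊔ Subgroup.zpowers g ≠ U →
      ∏ i : ZMod p, c (g ^ i.val) b = 1 := by
    intro g hg b hgW hgne
    apply Subtype.ext
    refine hline g hg _ (∏ i : ZMod p, c (g ^ i.val) b).2.1 (∏ i : ZMod p, c (g ^ i.val) b).2.2
      ?_ hgne hgW
    rw [← hc g hg, hcprod g hg]
    congr 1
    rw [← Equiv.prod_comp (Equiv.addRight (1 : ZMod p)) (fun i : ZMod p => c (g ^ i.val) b)]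
    refine Finset.prod_congr rfl fun i _ => ?_
    rw [hcc g hg _ (pow_mem hg _), ← pow_succ', hpw g hg (i.val + 1), Equiv.coe_addRight,
      ZMod.val_add, ZMod.val_one]
  have hWu : W ⊔ Subgroup.zpowers u ≤ M.map U.subtype := by
    refine sup_le (fun w hw => ⟨⟨w, hWU hw⟩, hM.le (Subgroup.mem_subgroupOf.mpr hw), rfl⟩) ?_
    exact Subgroup.zpowers_le.mpr ⟨⟨u, huU⟩, huM, rfl⟩
  have hvu : v ∉ W ⊔ Subgroup.zpowers u := by
    intro h
    obtain ⟨z, hz, hzv⟩ := hWu h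
    exact hvM ((show z = ⟨v, hvU⟩ from Subtype.ext hzv) ▸ hz)
  have hvW : v ∉ W := fun h => hvu ((le_sup_left : W ≤ _) h)
  -- every line of the plane is proper
  have hproper : ∀ l ∈ U, W ⊔ Subgroup.zpowers l ≠ U ∨ (u ∈ W ⊔ Subgroup.zpowers l ∧
      v ∈ W ⊔ Subgroup.zpowers l) := fun l _ => by
    by_cases h : W ⊔ Subgroup.zpowers l = U
    · exact Or.inr (by rw [h]; exact ⟨huU, hvU⟩)
    · exact Or.inl h
  have hnoboth : ∀ l ∈ U, ¬ (u ∈ W ⊔ Subgroup.zpowers l ∧ v ∈ W ⊔ Subgroup.zpowers l) := by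
    rintro l hl ⟨h1, h2⟩
    have hn : Subgroup.zpowers l ≤ Subgroup.normalizer (W : Set G) :=
      Subgroup.zpowers_le.mpr (Subgroup.centralizer_le_normalizer _
        (Subgroup.mem_centralizer_iff.mpr fun w hw => hUcomm w (hWU hw) l hl))
    rw [← SetLike.mem_coe, Subgroup.coe_mul_of_right_le_normalizer_left W _ hn] at h1 h2
    obtain ⟨w₁, hw₁, x₁, hx₁, he₁⟩ := h1
    obtain ⟨j₁, rfl⟩ := Subgroup.mem_zpowers_iff.mp hx₁
    obtain ⟨w₂, hw₂, x₂, hx₂, he₂⟩ := h2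
    obtain ⟨j₂, rfl⟩ := Subgroup.mem_zpowers_iff.mp hx₂
    -- invert the exponent of `u` modulo `p`
    have hj₁ : ¬ (p : ℤ) ∣ j₁ := by
      rintro ⟨t, rfl⟩
      rw [zpow_mul, zpow_natCast, hU.2 l hl, one_zpow] at he₁
      refine huW (show u ∈ W from ?_)
      rw [← he₁]; simpa using hw₁
    have hlu : l ∈ W ⊔ Subgroup.zpowers u := by
      have hcop' : IsCoprime (p : ℤ) j₁ :=
        (Nat.prime_iff_prime_int.mp hp.out).coprime_iff_not_dvd.mpr hj₁
      obtain ⟨s, t, hst⟩ := hcop'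
      have hl1 : l ^ j₁ ∈ W ⊔ Subgroup.zpowers u := by
        have : l ^ j₁ = w₁⁻¹ * u := by simp only at he₁; rw [← he₁, inv_mul_cancel_left]
        rw [this]
        exact Subgroup.mul_mem_sup (inv_mem hw₁) (Subgroup.mem_zpowers u)
      have : l = (l ^ (p : ℤ)) ^ s * (l ^ j₁) ^ t := by
        rw [← zpow_mul, ← zpow_mul, ← zpow_add, mul_comm (p : ℤ) s, mul_comm j₁ t, hst, zpow_one]
      rw [this, zpow_natCast, hU.2 l hl, one_zpow, one_mul]
      exact zpow_mem hl1 t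
    apply hvu
    simp only at he₂
    rw [← he₂]
    exact mul_mem ((le_sup_left : W ≤ _) hw₂) (zpow_mem hlu j₂)
  have hall : ∀ g ∈ U, ∀ b : A, g ∉ W → ∏ i : ZMod p, c (g ^ i.val) b = 1 := fun g hg b hgW =>
    hnorm g hg b hgW ((hproper g hg).resolve_right (hnoboth g hg))
  set a' : A := ⟨a, haZ, haW⟩ with ha'
  have huv : ∀ i : ZMod p, u * v ^ i.val ∉ W := fun i h => by
    apply hvu
    by_cases hi : i.val = 0
    · rw [hi, pow_zero, mul_one] at h; exact absurd h huW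
    have hvi : v ^ i.val ∈ W ⊔ Subgroup.zpowers u := by
      have h2 := Subgroup.mul_mem_sup h (inv_mem (Subgroup.mem_zpowers u))
      rwa [(hUcomm u huU _ (pow_mem hvU _)).eq, mul_inv_cancel_right] at h2
    have hv' : ∃ m : ℕ, (v ^ i.val) ^ m = v := by
      refine ⟨(i⁻¹ : ZMod p).val, ?_⟩
      rw [← pow_mul, hpw v hvU, ← ZMod.val_mul, mul_inv_cancel₀
        (fun h0 => hi (by rw [h0, ZMod.val_zero])), ZMod.val_one, pow_one]
    obtain ⟨m, hm⟩ := hv'
    rw [← hm]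
    exact pow_mem hvi m
  have htot : ∏ i : ZMod p, ∏ j : ZMod p, c ((u * v ^ i.val) ^ j.val) a' = 1 :=
    Finset.prod_eq_one fun i _ => hall _ (mul_mem huU (pow_mem hvU _)) a' (huv i)
  rw [Finset.prod_comm] at htot
  have hinner : ∀ j : ZMod p, j ≠ 0 → ∏ i : ZMod p, c ((u * v ^ i.val) ^ j.val) a' = 1 := by
    intro j hj
    have hexp : ∀ i : ZMod p, c ((u * v ^ i.val) ^ j.val) a' =
        c (u ^ j.val) (c (v ^ (i * j).val) a') := fun i => by
      rw [hcc _ (pow_mem huU _) _ (pow_mem hvU _), (hUcomm u huU _ (pow_mem hvU _)).mul_pow,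
        ← pow_mul, hpw v hvU (i.val * j.val), ← ZMod.val_mul]
    rw [Finset.prod_congr rfl fun i _ => hexp i, ← hcprod _ (pow_mem huU _),
      (show ∏ i : ZMod p, c (v ^ (i * j).val) a' = ∏ i : ZMod p, c (v ^ i.val) a' from
        Equiv.prod_comp (Equiv.mulRight₀ j hj) (fun i : ZMod p => c (v ^ i.val) a')),
      hall v hvU a' hvW]
    exact (MonoidHom.mk' (c (u ^ j.val)) (hcmul _ (pow_mem huU _))).map_one
  rw [Finset.prod_eq_single (0 : ZMod p) (fun j _ hj => hinner j hj)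
    (fun h => absurd (Finset.mem_univ _) h)] at htot
  have hone : ∀ i : ZMod p, c ((u * v ^ i.val) ^ (0 : ZMod p).val) a' = a' := fun i => by
    apply Subtype.ext
    rw [ZMod.val_zero, pow_zero, hc 1 (one_mem U)]
    simp
  rw [Finset.prod_congr rfl fun i _ => hone i, Finset.prod_const, Finset.card_univ, ZMod.card] at htot
  have hap : a ^ p = 1 := by simpa [ha'] using congrArg Subtype.val htot
  have hd : orderOf a ∣ Nat.card Z := by
    have := orderOf_dvd_natCard (⟨a, haZ⟩ : Z)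
    rwa [Subgroup.orderOf_mk] at this
  exact ha1 (orderOf_eq_one_iff.mp
    (Nat.eq_one_of_dvd_coprimes hcop hd (orderOf_dvd_of_pow_eq_one hap)))

end CfsgLib.LocalEven
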