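import Cfsg.Agent.Lib.PLocal.ZJ

/-!
`Z(J(S)) ∩ B` is normal for a normal `p`-subgroup `B`, assuming stability only for quadratic
members of the family of abelian subgroups of largest order.
-/

set_option linter.style.haveILetI false
open Cfsg Subgroup
open scoped commutatorElement Pointwise

namespace CfsgLib.LocalEven.InvertedZJ

open CfsgLib.PLoc

variable {G : Type*} [Group G] [Finite G]

/-- `Z(J(S)) ∩ B` (intersection form) is normal for every normal `p`-subgroup `B`. -/
theorem interMaxAb_inf_normal_of_quadratic {p : ℕ} [Fact p.Prime] (hp : p ≠ 2) (e : ℕ) (S : Sylow p G)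
    (hst : ∀ (B A : Subgroup G) [B.Normal], IsPGroup p B → IsMaxAb e (S : Subgroup G) A →
      ⁅⁅B, A⁆, A⁆ = ⊥ → A ≤ stableKernel p B)
    {B : Subgroup G} (hBn : B.Normal) (hB : IsPGroup p B) :
    (interMaxAb e (S : Subgroup G) ⊓ B).Normal := by
  generalize hn : Nat.card B = n
  induction n using Nat.strong_induction_on generalizing B with
  | _ n ih =>
    subst hn
    haveI := hBn
    rcases eq_or_ne B ⊥ with rfl | hB0
    · rw [inf_bot_eq]; infer_instance
    set X := interMaxAb e (S : Subgroup G) with hX
    set T := X ⊓ B with hT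
    set B₀ := normalClosure (T : Set G) with hB₀def
    have hB₀B : B₀ ≤ B := normalClosure_le_normal fun x hx => hx.2
    rcases hB₀B.lt_or_eq with hlt | heq
    · have h := ih _ ((card_le_of_le hlt.le).lt_of_ne fun he => hlt.ne (eq_of_le_of_card_ge hlt.le he.ge))
        normalClosure_normal (hB.to_le hlt.le) rfl
      rwa [show X ⊓ B₀ = T from le_antisymm (inf_le_inf_left _ hB₀B) (le_inf inf_le_left le_normalClosure)] at h
    by_contra hTn
    have hBS : B ≤ (S : Subgroup G) := hB.le_sylow_of_normal S
    have hder := derived_ne_self_of_pgroup hB hB0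
    haveI hWn : (X ⊓ ⁅B, B⁆).Normal :=
      ih _ ((card_le_of_le hder.le).lt_of_ne fun he => hder.ne (eq_of_le_of_card_ge hder.le he.ge))
        inferInstance (hB.to_le hder.le) rfl
    have hJX : normalizer (joinMaxAb e (S : Subgroup G) : Set G) ≤ normalizer (T : Set G) := fun g hg =>
      mem_normalizer_fintype fun x hx =>
        ⟨((mem_normalizer_iff).mp (normalizer_join_le_normalizer_interMaxAb e _ hg) x).mp hx.1, hBn.conj_mem x hx.2 g⟩
    have hST : (S : Subgroup G) ≤ normalizer (T : Set G) :=
      (le_normalizer.trans (normalizer_le_normalizer_joinMaxAb e _)).trans hJX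
    have hB' : ⁅B, B⁆ ≤ X ⊓ ⁅B, B⁆ := by
      set W := X ⊓ ⁅B, B⁆
      haveI : (centralizer (B.map (QuotientGroup.mk' W) : Set (G ⧸ W))).Normal := by
        haveI := hBn.map _ (QuotientGroup.mk'_surjective W)
        infer_instance
      have hTK : B ≤ (centralizer (B.map (QuotientGroup.mk' W) : Set (G ⧸ W))).comap (QuotientGroup.mk' W) := by
        rw [← heq]
        refine normalClosure_le_normal fun t ht => ?_
        rw [SetLike.mem_coe, mem_comap]
        rintro _ ⟨y, hy, rfl⟩
        have h1 : ⁅y, t⁆ ∈ T := le_normalizer_iff_commutator_le_right.mp hST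
          (commutator_mem_commutator (hBS (heq ▸ hy)) ht)
        have h2 : ⁅y, t⁆ ∈ W := ⟨h1.1, commutator_mem_commutator (heq ▸ hy) ht.2⟩
        have h3 := (QuotientGroup.eq_one_iff _).mpr h2
        rw [← QuotientGroup.mk'_apply, map_commutatorElement] at h3
        exact commutatorElement_eq_one_iff_mul_comm.mp h3
      refine commutator_le.mpr fun x hx y hy => (QuotientGroup.eq_one_iff _).mp ?_
      rw [← QuotientGroup.mk'_apply, map_commutatorElement]
      exact commutatorElement_eq_one_iff_mul_comm.mpr (hTK hy _ ⟨x, hx, rfl⟩)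
    set L := normalCore (normalizer (T : Set G)) with hL
    haveI : L.Normal := normalCore_normal _
    obtain ⟨A, hA, hAL, hcase⟩ := exists_quadratic_or_replace hp S.isPGroup' hBS
      (L := L) (hB'.trans inf_le_left) (fun hle => hTn (normal_of_join_le S hJX hle))
    rcases hcase with hquad | ⟨A', hA', hA'L, hBA', -⟩
    · apply hAL
      refine (hst B A hB hA hquad).trans ?_
      haveI := stableKernel_normal (p := p) B
      refine normal_le_normalCore.mpr ((stableKernel_le_sup S B).trans (sup_le hST ?_))
      exact (Subgroup.centralizer_le inf_le_right).trans (centralizer_le_normalizer _)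
    · apply hBA'
      have hA'P : IsMaxAb e ((S : Subgroup G) ⊓ L) A' := isMaxAb_of_le inf_le_left hA' (le_inf hA'.le hA'L)
      rw [← heq]
      refine (conj_le_of_invariant S (K := interMaxAb e ((S : Subgroup G) ⊓ L)) ?_ ?_).trans (interMaxAb_le hA'P)
      · exact le_sInf fun C hC => inf_le_left.trans
          (interMaxAb_le (isMaxAb_sup_of_le inf_le_left hA' (le_inf hA'.le hA'L) hC))
      · exact (normalizer_le_normalizer_joinMaxAb e _).trans (normalizer_join_le_normalizer_interMaxAb e _)

end CfsgLib.LocalEven.InvertedZJ
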