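import Cfsg.Agent.Lib.PLocal.ZJ
import Mathlib.GroupTheory.Sylow

/-!
Nontrivial `q`-elements inverted inside a subgroup, and maximal `q`-subgroups of a subgroup.
-/

set_option autoImplicit false
set_option linter.style.haveILetI false

open Subgroup
open scoped Pointwise

namespace CfsgLib.LocalEven.Inverted

variable {G K : Type*} [Group G] [Group K] {q : ℕ}

/-- Some nontrivial `q`-element of `H` is inverted by an element of `H`. -/
def Bad (q : ℕ) (H : Subgroup G) : Prop :=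
  ∃ x ∈ H, x ≠ 1 ∧ (∃ k : ℕ, x ^ q ^ k = 1) ∧ ∃ g ∈ H, g * x * g⁻¹ = x⁻¹

/-- `R` is a maximal `q`-subgroup of `E`. -/
def MaxIn (q : ℕ) (E R : Subgroup G) : Prop :=
  R ≤ E ∧ IsPGroup q R ∧ ∀ S : Subgroup G, IsPGroup q S → R ≤ S → S ≤ E → S = R

theorem Bad.mono {H L : Subgroup G} (h : Bad q H) (hle : H ≤ L) : Bad q L := by
  obtain ⟨x, hx, hx1, hk, g, hg, e⟩ := h
  exact ⟨x, hle hx, hx1, hk, g, hle hg, e⟩

theorem Bad.map {H : Subgroup G} (h : Bad q H) (f : G →* K) (hf : Function.Injective f) :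
    Bad q (H.map f) := by
  obtain ⟨x, hx, hx1, ⟨k, hk⟩, g, hg, e⟩ := h
  exact ⟨f x, mem_map_of_mem f hx, fun h => hx1 (hf (h.trans (map_one f).symm)),
    ⟨k, by rw [← map_pow, hk, map_one]⟩, f g, mem_map_of_mem f hg,
    by rw [← map_inv, ← map_mul, ← map_mul, e, map_inv]⟩

theorem Bad.subtype_top {H : Subgroup G} (h : Bad q H) : Bad q (⊤ : Subgroup H) := by
  obtain ⟨x, hx, hx1, ⟨k, hk⟩, g, hg, e⟩ := h
  exact ⟨⟨x, hx⟩, mem_top _, fun h => hx1 (congrArg Subtype.val h), ⟨k, Subtype.ext hk⟩, ⟨g, hg⟩,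
    mem_top _, Subtype.ext e⟩

theorem eq_one_of_eq_inv (hqo : Odd q) {x : G} {k : ℕ} (hk : x ^ q ^ k = 1) (h : x = x⁻¹) :
    x = 1 := by
  have h2 : x ^ 2 = 1 := by rw [pow_two]; nth_rw 1 [h]; exact inv_mul_cancel x
  obtain ⟨i, hi⟩ := hqo.pow (n := k)
  rw [hi, pow_succ, pow_mul, h2, one_pow, one_mul] at hk
  exact hk

theorem mem_of_sq_mem (hqo : Odd q) {x : G} {k : ℕ} (hk : x ^ q ^ k = 1) {C : Subgroup G}
    (h : x * x ∈ C) : x ∈ C := by
  obtain ⟨i, hi⟩ := hqo.pow (n := k)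
  rw [hi, pow_succ, pow_mul, pow_two] at hk
  rw [eq_inv_of_mul_eq_one_right hk]
  exact inv_mem (pow_mem h i)

theorem exists_two_part [Finite G] (g : G) :
    ∃ m : ℕ, Odd m ∧ ∃ k : ℕ, (g ^ m) ^ 2 ^ k = 1 := by
  obtain ⟨k, m, hm, hkm⟩ := Nat.exists_eq_two_pow_mul_odd (orderOf_pos g).ne'
  exact ⟨m, hm, k, by rw [← pow_mul, mul_comm m, ← hkm, pow_orderOf_eq_one]⟩

theorem pow_conj_of_odd {x g : G} (h : g * x * g⁻¹ = x⁻¹) {m : ℕ} (hm : Odd m) :
    g ^ m * x * (g ^ m)⁻¹ = x⁻¹ := by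
  obtain ⟨i, rfl⟩ := hm
  have h2 : g * g * x * (g * g)⁻¹ = x := by
    calc g * g * x * (g * g)⁻¹ = g * (g * x * g⁻¹) * g⁻¹ := by group
      _ = g * x⁻¹ * g⁻¹ := by rw [h]
      _ = (g * x * g⁻¹)⁻¹ := by group
      _ = x := by rw [h, inv_inv]
  induction i with
  | zero => simpa using h
  | succ i ih =>
    rw [show 2 * (i + 1) + 1 = 2 + (2 * i + 1) by ring, pow_add, mul_inv_rev]
    calc g ^ 2 * g ^ (2 * i + 1) * x * ((g ^ (2 * i + 1))⁻¹ * (g ^ 2)⁻¹)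
        = g ^ 2 * (g ^ (2 * i + 1) * x * (g ^ (2 * i + 1))⁻¹) * (g ^ 2)⁻¹ := by group
      _ = (g * g * x * (g * g)⁻¹)⁻¹ := by rw [ih, pow_two]; simp [mul_assoc]
      _ = x⁻¹ := by rw [h2]

/-- A 2-element acting nontrivially on a `q`-group inverts a nontrivial element of it. -/
theorem bad_of_two_elem {H Y : Subgroup G} (hYH : Y ≤ H) (hY : IsPGroup q Y) {g : G} (hg : g ∈ H)
    (hgN : g ∈ normalizer (Y : Set G)) {k : ℕ} (hk : g ^ 2 ^ k = 1)
    (hne : ∃ y ∈ Y, g * y * g⁻¹ ≠ y) : Bad q H := by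
  induction k generalizing g with
  | zero =>
    obtain ⟨y, -, hy⟩ := hne
    rw [pow_zero, pow_one] at hk
    exact absurd (by rw [hk]; group) hy
  | succ k ih =>
    by_cases h2 : ∃ y ∈ Y, g ^ 2 * y * (g ^ 2)⁻¹ ≠ y
    · exact ih (pow_mem hg 2) (pow_mem hgN 2) (by rw [← pow_mul, ← pow_succ']; exact hk) h2
    push Not at h2
    obtain ⟨y, hy, hy'⟩ := hne
    have hz : y⁻¹ * (g * y * g⁻¹) ∈ Y := mul_mem (inv_mem hy) ((mem_normalizer_iff.1 hgN y).1 hy)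
    obtain ⟨n, hn⟩ := hY ⟨_, hz⟩
    refine ⟨_, hYH hz, fun h => hy' (inv_mul_eq_one.1 h).symm, ⟨n, congrArg Subtype.val hn⟩, g, hg, ?_⟩
    calc g * (y⁻¹ * (g * y * g⁻¹)) * g⁻¹ = g * y⁻¹ * g⁻¹ * (g ^ 2 * y * (g ^ 2)⁻¹) := by
          rw [pow_two]; group
      _ = (y⁻¹ * (g * y * g⁻¹))⁻¹ := by rw [h2 y hy]; group

section Sylow

variable [Finite G] [Fact q.Prime]

theorem MaxIn.subgroupOf {E R : Subgroup G} (h : MaxIn q E R) :
    ∃ P : Sylow q E, (P : Subgroup E) = R.subgroupOf E := by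
  refine ⟨⟨R.subgroupOf E, h.2.1.comap_subtype, fun {S} hS hle => ?_⟩, rfl⟩
  have := h.2.2 (S.map E.subtype) (hS.map _)
    (fun r hr => ⟨⟨r, h.1 hr⟩, hle hr, rfl⟩) (map_subtype_le S)
  apply map_injective E.subtype_injective
  rw [this, subgroupOf_map_subtype, inf_eq_left.2 h.1]

theorem exists_maxIn {E R : Subgroup G} (hRE : R ≤ E) (hR : IsPGroup q R) :
    ∃ S, MaxIn q E S ∧ R ≤ S := by
  obtain ⟨S, ⟨h1, h2, h3⟩, hmax⟩ := Set.exists_max_image
    {S : Subgroup G | S ≤ E ∧ IsPGroup q S ∧ R ≤ S} (fun S => Nat.card S) (Set.toFinite _)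
    ⟨R, hRE, hR, le_rfl⟩
  exact ⟨S, ⟨h1, h2, fun S' hS' hle hle' =>
    (eq_of_le_of_card_ge hle (hmax S' ⟨hle', hS', h3.trans hle⟩)).symm⟩, h3⟩

theorem MaxIn.exists_conj_le {E R S : Subgroup G} (hR : MaxIn q E R) (hSE : S ≤ E)
    (hS : IsPGroup q S) : ∃ e ∈ E, ∀ s ∈ S, e * s * e⁻¹ ∈ R := by
  obtain ⟨P, hP⟩ := hR.subgroupOf
  obtain ⟨P', hP'⟩ := (hS.comap_subtype (K := E)).exists_le_sylow
  obtain ⟨e, he⟩ := MulAction.exists_smul_eq E P' P
  refine ⟨e, e.2, fun s hs => ?_⟩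
  have h : (MulAut.conj e) • (⟨s, hSE hs⟩ : E) ∈ (MulAut.conj e) • (P' : Subgroup E) :=
    Subgroup.smul_mem_pointwise_smul _ _ _ (hP' hs)
  rw [← Sylow.pointwise_smul_def, ← Sylow.smul_def, he, hP] at h
  exact h

theorem MaxIn.card_le {E R S : Subgroup G} (hR : MaxIn q E R) (hSE : S ≤ E) (hS : IsPGroup q S) :
    Nat.card S ≤ Nat.card R := by
  obtain ⟨e, -, he⟩ := hR.exists_conj_le hSE hS
  exact Nat.card_le_card_of_injective (fun s : S => (⟨e * s * e⁻¹, he s s.2⟩ : R)) fun a b h =>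
    Subtype.ext (by simpa using congrArg Subtype.val h)

/-- Frattini argument. -/
theorem MaxIn.exists_mem_normalizer {E R : Subgroup G} (hR : MaxIn q E R) {g : G}
    (hg : g ∈ normalizer (E : Set G)) : ∃ e ∈ E, e * g ∈ normalizer (R : Set G) := by
  obtain ⟨e, heE, he⟩ := hR.exists_conj_le (S := R.map (MulAut.conj g).toMonoidHom)
    (by rintro _ ⟨r, hr, rfl⟩; exact (mem_normalizer_iff.1 hg r).1 (hR.1 hr)) (hR.2.1.map _)
  refine ⟨e, heE, mem_normalizer_fintype fun r hr => ?_⟩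
  rw [show e * g * r * (e * g)⁻¹ = e * (g * r * g⁻¹) * e⁻¹ by group]
  exact he _ ⟨r, hr, rfl⟩

theorem MaxIn.inf {E S Y : Subgroup G} (hS : MaxIn q E S) (hYE : Y ≤ E)
    (hY : E ≤ normalizer (Y : Set G)) : MaxIn q Y (S ⊓ Y) := by
  refine ⟨inf_le_right, hS.2.1.to_le inf_le_left, fun R hR hle hRY => ?_⟩
  obtain ⟨e, heE, he⟩ := hS.exists_conj_le (hRY.trans hYE) hR
  refine (eq_of_le_of_card_ge hle ?_).symm
  exact Nat.card_le_card_of_injective (fun r : R =>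
      (⟨e * r * e⁻¹, he r r.2, (mem_normalizer_iff.1 (hY heE) r).1 (hRY r.2)⟩ : ↥(S ⊓ Y)))
    fun a b h => Subtype.ext (by simpa using congrArg Subtype.val h)

/-- Lifting inverted elements along surjections. -/
theorem bad_of_quotient (hqo : Odd q) (f : G →* K) (hf : Function.Surjective f)
    (h : Bad q (⊤ : Subgroup K)) : Bad q (⊤ : Subgroup G) := by
  obtain ⟨x, -, hx1, ⟨k, hk⟩, g, -, hgx⟩ := h
  obtain ⟨g, rfl⟩ := hf g
  obtain ⟨x', rfl⟩ := hf x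
  set E := (zpowers (f x')).comap f
  have hgE : g ∈ normalizer (E : Set G) := mem_normalizer_fintype fun y hy => by
    obtain ⟨i, hi⟩ := mem_zpowers_iff.1 (show f y ∈ zpowers (f x') from hy)
    refine mem_zpowers_iff.2 ⟨-i, ?_⟩
    rw [map_mul, map_mul, map_inv, ← hi, ← conj_zpow, hgx, inv_zpow, zpow_neg]
  obtain ⟨R, hR, -⟩ := exists_maxIn (q := q) (bot_le : ⊥ ≤ E) IsPGroup.of_bot
  obtain ⟨a, m, hm, hkm⟩ := Nat.exists_eq_pow_mul_and_not_dvd (orderOf_pos x').ne' q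
    (Nat.Prime.ne_one Fact.out)
  have hx'E : x' ∈ E := mem_zpowers (f x')
  have hfm : f (x' ^ m) ≠ 1 := fun h => hx1 (by
    have hco : (orderOf (f x')).Coprime m := by
      refine Nat.Coprime.coprime_dvd_left (orderOf_dvd_of_pow_eq_one hk) ?_
      exact ((Nat.Prime.coprime_iff_not_dvd Fact.out).2 hm).pow_left k
    rw [map_pow] at h
    exact orderOf_eq_one_iff.1 (Nat.eq_one_of_dvd_coprimes hco dvd_rfl (orderOf_dvd_of_pow_eq_one h)))
  obtain ⟨e, heE, he⟩ := hR.exists_conj_le (S := zpowers (x' ^ m)) (by simp [zpowers_le, pow_mem hx'E m])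
    (IsPGroup.of_card (n := (orderOf (x' ^ m)).factorization q) (by
      rw [Nat.card_zpowers]
      obtain ⟨i, -, hi⟩ := (Nat.dvd_prime_pow (Fact.out (p := q.Prime))).1
        (orderOf_dvd_of_pow_eq_one (show (x' ^ m) ^ q ^ a = 1 by
          rw [← pow_mul, mul_comm, ← hkm, pow_orderOf_eq_one]))
      rw [hi, Nat.Prime.factorization_pow Fact.out]; simp))
  have hr := he _ (mem_zpowers _)
  set r := e * x' ^ m * e⁻¹ with hr0
  have hfr : f r ∈ zpowers (f x') ∧ f r ≠ 1 := ⟨hR.1 hr, fun h => hfm (by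
    rw [hr0, map_mul, map_mul, map_inv] at h
    exact conj_eq_one_iff.1 h)⟩
  obtain ⟨e', he'E, hn⟩ := hR.exists_mem_normalizer hgE
  set n := e' * g
  have hnr : f n * f r * (f n)⁻¹ = (f r)⁻¹ := by
    obtain ⟨i, hi⟩ := mem_zpowers_iff.1 hfr.1
    obtain ⟨j, hj⟩ := mem_zpowers_iff.1 (show f e' ∈ zpowers (f x') from he'E)
    rw [show f n = f e' * f g from map_mul f e' g, ← hi, ← hj,
      show (f x') ^ j * f g * f x' ^ i * ((f x') ^ j * f g)⁻¹ =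
        (f x') ^ j * (f g * f x' ^ i * (f g)⁻¹) * ((f x') ^ j)⁻¹ by group,
      ← conj_zpow, hgx, inv_zpow]
    rw [← zpow_neg, ← zpow_neg, ← zpow_add, ← zpow_add]
    congr 1; ring
  obtain ⟨M, hM, j, hj⟩ := exists_two_part n
  refine (bad_of_two_elem (le_top : R ≤ ⊤) hR.2.1 (mem_top (n ^ M)) (pow_mem hn M) hj
    ⟨r, hr, fun h => hfr.2 ?_⟩)
  have h' : f n ^ M * f r * (f n ^ M)⁻¹ = f r := by
    rw [← map_pow, ← map_inv, ← map_mul, ← map_mul, h]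
  rw [pow_conj_of_odd hnr hM] at h'
  obtain ⟨l, hl⟩ := hR.2.1 ⟨r, hr⟩
  exact eq_one_of_eq_inv hqo (k := l)
    (by rw [← map_pow, show r ^ q ^ l = 1 from congrArg Subtype.val hl, map_one]) h'.symm

theorem bad_of_map (hqo : Odd q) {H : Subgroup G} (f : G →* K) (h : Bad q (H.map f)) : Bad q H := by
  have := (bad_of_quotient hqo (f.subgroupMap H) (f.subgroupMap_surjective H) h.subtype_top).map
    H.subtype H.subtype_injective
  rwa [← MonoidHom.range_eq_map, range_subtype] at this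

end Sylow

end CfsgLib.LocalEven.Inverted
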