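import Cfsg.Agent.Lib.LocalEven.EvenCentralizer
import Cfsg.Agent.Lib.PLocal.ZJ
import Cfsg.Agent.Lib.Transfer.PGroup

/-!
A quadratic element outside the stable kernel of a normal `q`-subgroup is centralized by an
involution modulo the kernel of some chief factor.
-/

set_option autoImplicit false
set_option linter.style.haveILetI false

open Cfsg Subgroup CfsgLib.PLoc
open scoped commutatorElement

namespace CfsgLib.LocalEven.InvolLift

variable {G : Type*} [Group G] [Finite G] {q : ℕ} [Fact q.Prime]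

/-- For a minimal normal `q`-subgroup the stable kernel is the centralizer. -/
theorem stableKernel_le_centralizer (T : Sylow q G) {V : Subgroup G} [V.Normal] (hV : IsPGroup q V)
    (hV0 : V ≠ ⊥) (hmin : ∀ W : Subgroup G, W.Normal → W ≤ V → W ≠ ⊥ → W = V) :
    stableKernel q V ≤ centralizer (V : Set G) := by
  haveI := stableKernel_normal (p := q) V
  set F := V ⊓ centralizer (stableKernel q V : Set G) with hF
  have hVT : V ≤ (T : Subgroup G) := hV.le_sylow_of_normal T
  haveI : Group.IsNilpotent ↥(T : Subgroup G) := T.isPGroup'.isNilpotent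
  have hne : V.subgroupOf (T : Subgroup G) ≠ ⊥ := by
    rw [Ne, subgroupOf_eq_bot, disjoint_iff, inf_eq_left.2 hVT]
    exact hV0
  obtain ⟨⟨⟨v, hvT⟩, hv⟩, hv1⟩ :=
    Subgroup.ne_bot_iff_exists_ne_one.1 (CfsgLib.Transfer.inf_center_ne_bot hne)
  have hvc : v ∈ centralizer (stableKernel q V : Set G) := by
    have h1 : (T : Subgroup G) ⊔ centralizer (V : Set G) ≤ centralizer ({v} : Set G) := by
      refine sup_le (fun t ht => mem_centralizer_singleton_iff.2 ?_) (fun c hc =>
        mem_centralizer_singleton_iff.2 (hc v hv.1).symm)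
      exact congrArg Subtype.val (mem_center_iff.1 hv.2 ⟨t, ht⟩)
    intro n hn
    exact mem_centralizer_singleton_iff.1 (h1 (stableKernel_le_sup T V hn))
  have hFV : F = V := hmin F inferInstance inf_le_left fun h => by
    have h' : v ∈ F := ⟨hv.1, hvc⟩
    rw [h, mem_bot] at h'
    exact hv1 (Subtype.ext (Subtype.ext h'))
  intro n hn w hw
  rw [← hFV] at hw
  exact (hw.2 n hn).symm

theorem exists_invol_lift (hq2 : q ≠ 2) (T : Sylow q G) {B : Subgroup G} [B.Normal]
    (hB : IsPGroup q B) {a : G} (hquad : ∀ b ∈ B, a * ⁅a, b⁆ = ⁅a, b⁆ * a)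
    (ha : a ∉ stableKernel q B) :
    ∃ D : Subgroup G, D.Normal ∧ centralizer (B : Set G) ≤ D ∧
      (∀ N : Subgroup G, N.Normal → IsPGroup q N → N ≤ D) ∧ a ∉ D ∧
      ∃ t : G, t ∉ D ∧ t * t ∈ D ∧ ⁅t, a⁆ ∈ D := by
  classical
  obtain ⟨U, ⟨hUn, hUB, haU⟩, hUmin⟩ := Set.exists_min_image
    {U : Subgroup G | ∃ h : U.Normal, U ≤ B ∧ a ∉ @stableKernel G _ q U h} (fun U => Nat.card U)
    (Set.toFinite _) ⟨B, inferInstance, le_rfl, ha⟩
  haveI := hUn
  have hU : IsPGroup q U := hB.to_le hUB
  have hU0 : U ≠ ⊥ := fun h => haU (by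
    show QuotientGroup.mk' (centralizer (U : Set G)) a ∈ pCore q _
    rw [QuotientGroup.mk'_apply, (QuotientGroup.eq_one_iff a).2 (fun u hu => by
      rw [h, SetLike.mem_coe, mem_bot] at hu
      rw [hu, one_mul, mul_one])]
    exact one_mem _)
  obtain ⟨W, ⟨hWn, hWlt⟩, hWmax⟩ := Set.exists_max_image
    {W : Subgroup G | W.Normal ∧ W < U} (fun W => Nat.card W) (Set.toFinite _)
    ⟨⊥, inferInstance, bot_lt_iff_ne_bot.2 hU0⟩
  haveI := hWn
  have haW : a ∈ stableKernel q W := by_contra fun h => by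
    have := hUmin W ⟨hWn, hWlt.le.trans hUB, h⟩
    exact hWlt.ne (eq_of_le_of_card_ge hWlt.le this)
  have hWmax' : ∀ W' : Subgroup G, W'.Normal → W ≤ W' → W' < U → W' = W := fun W' h1 h2 h3 =>
    (eq_of_le_of_card_ge h2 (hWmax W' ⟨h1, h3⟩)).symm
  set π := QuotientGroup.mk' W with hπ
  have hπs : Function.Surjective π := QuotientGroup.mk'_surjective W
  set V := U.map π with hVdef
  haveI hVn : V.Normal := hUn.map _ hπs
  have hVq : IsPGroup q V := hU.map _
  have hV0 : V ≠ ⊥ := by
    rw [Ne, hVdef, Subgroup.map_eq_bot_iff, hπ, QuotientGroup.ker_mk']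
    exact hWlt.not_ge
  have hmin : ∀ W' : Subgroup (G ⧸ W), W'.Normal → W' ≤ V → W' ≠ ⊥ → W' = V := by
    intro W' h1 h2 h3
    by_contra hne
    have hle : W'.comap π ≤ U := by
      refine (comap_mono h2).trans ?_
      rw [hVdef, comap_map_eq, hπ, QuotientGroup.ker_mk']
      exact sup_le le_rfl hWlt.le
    have hWle : W ≤ W'.comap π := by
      intro w hw
      rw [mem_comap, show π w = 1 from (QuotientGroup.eq_one_iff w).2 hw]
      exact one_mem _
    have hlt : W'.comap π < U := hle.lt_of_ne fun h => hne (by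
      rw [hVdef, ← h, map_comap_eq_self_of_surjective hπs])
    apply h3
    rw [← map_comap_eq_self_of_surjective hπs W', hWmax' _ (h1.comap _) hWle hlt,
      Subgroup.map_eq_bot_iff, hπ, QuotientGroup.ker_mk']
  set C := centralizer (V : Set (G ⧸ W)) with hC
  have hker : stableKernel q V ≤ C :=
    stableKernel_le_centralizer (T.mapSurjective hπs) hVq hV0 hmin
  have hcore : pCore q ((G ⧸ W) ⧸ C) = ⊥ := by
    refine eq_bot_iff.2 fun d hd => ?_
    obtain ⟨y, rfl⟩ := QuotientGroup.mk'_surjective C d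
    exact (QuotientGroup.eq_one_iff y).2 (hker hd)
  set D := C.comap π with hD
  haveI hDn : D.Normal := Subgroup.Normal.comap inferInstance _
  have haD : a ∉ D := by
    intro haD
    haveI := stableKernel_normal (p := q) W
    refine haU (le_stableKernel_of_coprime_centralizes (E := D ⊓ stableKernel q W) ?_ ⟨haD, haW⟩)
    intro x hx hxo y hy
    refine (commute_of_stabilizes (hU.to_le hWlt.le) hxo ?_ ?_).symm
    · intro u hu
      have hxC : x ∈ centralizer (W : Set G) := by
        have hx1 : QuotientGroup.mk' (centralizer (W : Set G)) x ∈ pCore q _ := hx.2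
        obtain ⟨k, hk⟩ := (IsPGroup.iff_orderOf.mp (CfsgLib.Solvable.pCore_isPGroup q _)) ⟨_, hx1⟩
        rw [Subgroup.orderOf_mk] at hk
        have hd : orderOf (QuotientGroup.mk' (centralizer (W : Set G)) x) = 1 :=
          Nat.eq_one_of_dvd_coprimes (hxo.pow_right k) (orderOf_map_dvd _ x) (dvd_of_eq hk)
        exact (QuotientGroup.eq_one_iff x).mp (orderOf_eq_one_iff.mp hd)
      rw [← hxC u hu, mul_inv_cancel_right]
    · have h := hx.1 _ ⟨y, hy, rfl⟩
      refine (QuotientGroup.eq_one_iff _).mp ?_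
      rw [← QuotientGroup.mk'_apply, map_commutatorElement]
      exact commutatorElement_eq_one_iff_mul_comm.mpr h.symm
  -- the elementary abelian module
  haveI : Nontrivial U := (Subgroup.nontrivial_iff_ne_bot U).mpr hU0
  haveI : (frattini ↥U).Characteristic := inferInstance
  set F := (frattini ↥U).map U.subtype with hF
  haveI : F.Normal := ConjAct.normal_of_characteristic_of_normal
  have hFW : F ≤ W := by
    by_contra hFW
    have hsup : W ⊔ F = U := by
      by_contra hne
      exact hFW (le_sup_right.trans (hWmax' _ inferInstance le_sup_left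
        ((sup_le hWlt.le (map_subtype_le _)).lt_of_ne hne)).le)
    have h := frattini_nongenerating (K := W.subgroupOf U) (by
      apply map_injective U.subtype_injective
      rw [Subgroup.map_sup, subgroupOf_map_subtype, inf_eq_left.2 hWlt.le, ← MonoidHom.range_eq_map,
        range_subtype]
      exact hsup)
    exact hWlt.not_ge (subgroupOf_eq_top.1 h)
  have hVc : ∀ u ∈ V, ∀ v ∈ V, u * v = v * u := by
    rintro _ ⟨u, hu, rfl⟩ _ ⟨v, hv, rfl⟩
    refine commutatorElement_eq_one_iff_mul_comm.1 ?_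
    rw [← map_commutatorElement]
    refine (QuotientGroup.eq_one_iff _).2 (hFW ?_)
    exact ⟨⁅(⟨u, hu⟩ : U), ⟨v, hv⟩⁆, CfsgLib.PGroup.commutator_le_frattini hU
      (commutator_mem_commutator (mem_top _) (mem_top _)), map_commutatorElement U.subtype (g₁ := ⟨u, hu⟩) (g₂ := ⟨v, hv⟩)⟩
  have hVp : ∀ v : V, v ^ q = 1 := by
    rintro ⟨_, u, hu, rfl⟩
    apply Subtype.ext
    show π u ^ q = 1
    rw [← map_pow]
    exact (QuotientGroup.eq_one_iff _).2 (hFW ⟨_, CfsgLib.PGroup.pow_mem_frattini hU ⟨u, hu⟩, rfl⟩)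
  letI : CommGroup V :=
    { (inferInstance : Group V) with mul_comm := fun x y => Subtype.ext (hVc _ x.2 _ y.2) }
  let ρ₀ : (G ⧸ W) →* AddMonoid.End (Additive V) :=
    { toFun := fun g => MonoidHom.toAdditive ((MulAut.conjNormal g : MulAut V).toMonoidHom)
      map_one' := AddMonoidHom.ext fun x => congrArg Additive.ofMul
        (DFunLike.congr_fun (map_one (MulAut.conjNormal (H := V))) x.toMul)
      map_mul' := fun g h => AddMonoidHom.ext fun x => congrArg Additive.ofMul
        (DFunLike.congr_fun (map_mul (MulAut.conjNormal (H := V)) g h) x.toMul) }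
  have hρ₀ : ∀ g, ρ₀ g = 1 ↔ g ∈ C := by
    intro g
    constructor
    · intro h v hv
      have := congrArg Subtype.val (congrArg Additive.toMul
        (DFunLike.congr_fun h (Additive.ofMul (⟨v, hv⟩ : V))))
      change g * v * g⁻¹ = v at this
      exact (mul_inv_eq_iff_eq_mul.1 this).symm
    · intro h
      refine AddMonoidHom.ext fun x => congrArg Additive.ofMul (Subtype.ext ?_)
      show g * (x.toMul : V).1 * g⁻¹ = (x.toMul : V).1
      rw [← h _ x.toMul.2, mul_inv_cancel_right]
  let ρ := QuotientGroup.lift C ρ₀ fun g hg => (hρ₀ g).2 hg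
  have hρ : Function.Injective ρ := (injective_iff_map_eq_one ρ).2 fun d hd => by
    obtain ⟨g, rfl⟩ := QuotientGroup.mk'_surjective C d
    exact (QuotientGroup.eq_one_iff g).2 ((hρ₀ g).1 hd)
  set Θ := (QuotientGroup.mk' C).comp π with hΘ
  have hΘ1 : ∀ g, Θ g = 1 ↔ g ∈ D := fun g => QuotientGroup.eq_one_iff (π g)
  have hquad' : ∀ x : Additive V, ρ (Θ a) (ρ (Θ a) x - x) = ρ (Θ a) x - x := by
    intro x
    obtain ⟨u, hu, hux⟩ := (x.toMul : V).2
    refine congrArg Additive.ofMul (Subtype.ext ?_)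
    show π a * (π a * (x.toMul : V).1 * (π a)⁻¹ / (x.toMul : V).1) * (π a)⁻¹ =
      π a * (x.toMul : V).1 * (π a)⁻¹ / (x.toMul : V).1
    rw [← hux, div_eq_mul_inv, ← map_inv, ← map_inv, ← map_mul, ← map_mul, ← map_mul, ← map_mul,
      ← map_mul, show a * u * a⁻¹ * u⁻¹ = ⁅a, u⁆ from (commutatorElement_def a u).symm,
      hquad u (hUB hu), mul_inv_cancel_right]
  obtain ⟨t, ht1, ht2, hta⟩ := EvenCentralizer.exists_invol_commute hq2 (Γ := (G ⧸ W) ⧸ C)
    (A := Additive V) (fun x => congrArg Additive.ofMul (hVp x.toMul)) ρ hρ hcore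
    (a := Θ a) (fun h => haD ((hΘ1 a).1 h)) hquad'
  obtain ⟨t, rfl⟩ := ((QuotientGroup.mk'_surjective C).comp hπs) t
  refine ⟨D, hDn, fun c hc => ?_, fun N hN hNq => ?_, haD, t, fun h => ht1 ((hΘ1 t).2 h), ?_, ?_⟩
  · rintro _ ⟨u, hu, rfl⟩
    rw [← map_mul, ← map_mul, hc u (hUB hu)]
  · intro n hn
    refine (hΘ1 n).1 (mem_bot.1 (hcore ▸ ?_))
    exact le_pCore_of (hN.map Θ ((QuotientGroup.mk'_surjective C).comp hπs)) (hNq.map _)
      (mem_map_of_mem Θ hn)
  · exact (hΘ1 _).1 (by rw [map_mul]; exact ht2)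
  · exact (hΘ1 _).1 (by rw [map_commutatorElement]; exact commutatorElement_eq_one_iff_mul_comm.2 hta)

end CfsgLib.LocalEven.InvolLift
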