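import Cfsg.Agent.Lib.LocalEven.InvertedBasic
import Cfsg.Agent.Lib.LocalEven.InvolLift
import Cfsg.Agent.Lib.LocalEven.InfNormal
import Cfsg.Agent.Lib.PLocal.ZJFactorization

/-!
If a nontrivial `q`-element (`q` odd) is inverted in a finite group, then one is inverted in the
normalizer of `Z(J(T))`, `T` a Sylow `q`-subgroup.
-/

set_option autoImplicit false
set_option linter.style.haveILetI false

open Cfsg Subgroup CfsgLib.PLoc CfsgLib.LocalEven.Inverted
open scoped commutatorElement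

namespace CfsgLib.LocalEven.InvertedZJ

universe u

variable {G : Type u} [Group G] {q : ℕ}

/-- The image of `H` in `G/C` has even order. -/
def Ev (C : Subgroup G) [C.Normal] (H : Subgroup G) : Prop :=
  2 ∣ Nat.card (H.map (QuotientGroup.mk' C))

/-- The property to be proved. -/
def ZJStatement (q : ℕ) (G : Type u) [Group G] [Finite G] : Prop :=
  Bad q (⊤ : Subgroup G) → ∀ T : Sylow q G,
    Bad q (normalizer (interMaxAb 0 (T : Subgroup G) : Set G))

variable [Finite G] {C : Subgroup G} [C.Normal]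

theorem Ev.mono {H L : Subgroup G} (h : Ev C H) (hle : H ≤ L) : Ev C L :=
  h.trans (card_dvd_of_le (map_mono hle))

theorem Ev.of_le_sup {H N L : Subgroup G} (h : Ev C H) (hle : H ≤ N ⊔ L)
    (hN : N ≤ normalizer (L : Set G)) : Ev C N ∨ Ev C L := by
  have h' : 2 ∣ Nat.card ↥(N.map (QuotientGroup.mk' C) ⊔ L.map (QuotientGroup.mk' C)) := by
    rw [← Subgroup.map_sup]; exact h.mono hle
  have e := card_sup_mul_card_inf (H := N.map (QuotientGroup.mk' C)) (N := L.map (QuotientGroup.mk' C))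
    ((map_mono hN).trans (le_normalizer_map _))
  exact Nat.prime_two.dvd_mul.1 (e ▸ h'.mul_right _)

theorem ev_of_mem {H : Subgroup G} {g : G} (hg : g ∈ H)
    (h : ∀ n : ℕ, g ^ n ∈ C → 2 ∣ n) : Ev C H := by
  have h1 := Subgroup.orderOf_dvd_natCard (H.map (QuotientGroup.mk' C)) (mem_map_of_mem (QuotientGroup.mk' C) hg)
  refine (h _ ((QuotientGroup.eq_one_iff _).1 ?_)).trans h1
  rw [← QuotientGroup.mk'_apply, map_pow, pow_orderOf_eq_one]

theorem ev_of_bad (hqo : Odd q) (hC : ¬ Bad q C) {H : Subgroup G} (h : Bad q H) : Ev C H := by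
  obtain ⟨x, hx, hx1, ⟨k, hk⟩, g, hg, hgx⟩ := h
  obtain ⟨m, hm, j, hj⟩ := exists_two_part g
  have hgx' := pow_conj_of_odd hgx hm
  refine ev_of_mem (pow_mem hg m) fun n hn => ?_
  by_contra hn2
  have hn' : Odd n := Nat.not_even_iff_odd.1 fun h => hn2 h.two_dvd
  have hgn := pow_conj_of_odd hgx' hn'
  set y := (g ^ m) ^ n
  have hxx : x * x ∈ C := by
    rw [show x * x = x * y * x⁻¹ * y⁻¹ from by
      rw [show x * y * x⁻¹ * y⁻¹ = x * (y * x⁻¹ * y⁻¹) by group,
        show y * x⁻¹ * y⁻¹ = (y * x * y⁻¹)⁻¹ by group, hgn, inv_inv]]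
    exact mul_mem (Subgroup.Normal.conj_mem inferInstance _ hn x) (inv_mem hn)
  exact hC ⟨x, mem_of_sq_mem hqo hk hxx, hx1, ⟨k, hk⟩, y, hn, hgn⟩

variable [Fact q.Prime]

theorem bad_of_ev {Q : Subgroup G} [Q.Normal] (hQ : IsPGroup q Q) {H : Subgroup G} (hQH : Q ≤ H)
    (h : Ev (centralizer (Q : Set G)) H) : Bad q H := by
  haveI : Fact (Nat.Prime 2) := ⟨Nat.prime_two⟩
  obtain ⟨⟨_, g, hg, rfl⟩, hy⟩ := exists_prime_orderOf_dvd_card' 2 h
  obtain ⟨m, hm, k, hk⟩ := exists_two_part g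
  refine bad_of_two_elem hQH hQ (pow_mem hg m)
    (mem_normalizer_fintype fun z hz => Subgroup.Normal.conj_mem inferInstance z hz _) hk ?_
  by_contra hne
  push Not at hne
  have hgC : g ^ m ∈ centralizer (Q : Set G) := fun z hz => (mul_inv_eq_iff_eq_mul.1 (hne z hz)).symm
  have h1 : (QuotientGroup.mk' (centralizer (Q : Set G)) g) ^ m = 1 := by
    rw [← map_pow]; exact (QuotientGroup.eq_one_iff _).2 hgC
  replace hy : orderOf (QuotientGroup.mk' (centralizer (Q : Set G)) g) = 2 :=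
    (Subgroup.orderOf_coe _).trans hy
  obtain ⟨i, rfl⟩ := hm
  have h2 := orderOf_dvd_of_pow_eq_one h1
  rw [hy] at h2
  omega

omit [Fact q.Prime] [C.Normal] in
theorem normalizer_le_sup {Q S : Subgroup G} [Q.Normal] :
    normalizer (S : Set G) ≤ normalizer ((Q ⊔ S : Subgroup G) : Set G) := by
  intro g hg
  rw [mem_normalizer_iff_map_conj_eq] at hg ⊢
  rw [Subgroup.map_sup, hg]
  congr 1
  exact mem_normalizer_iff_map_conj_eq.1 (normalizer_eq_top (H := Q) ▸ mem_top g)

/-- Reduction to a proper subgroup. -/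
theorem bad_inf_normalizer (ih : ∀ (G' : Type u) [Group G'] [Finite G'],
      Nat.card G' < Nat.card G → ZJStatement q G')
    {M S : Subgroup G} (hM : M ≠ ⊤) (hS : MaxIn q M S) (hbad : Bad q M) :
    Bad q (M ⊓ normalizer (interMaxAb 0 S : Set G)) := by
  have hlt : Nat.card M < Nat.card G :=
    (card_le_card_group M).lt_of_ne fun h => hM (eq_top_of_card_eq M h)
  obtain ⟨P, hP⟩ := hS.subgroupOf
  refine ((ih M hlt hbad.subtype_top P).map M.subtype M.subtype_injective).mono (le_inf ?_ ?_)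
  · exact map_subtype_le _
  · refine (le_normalizer_map M.subtype).trans ?_
    rw [← interMaxAb_map M.subtype M.subtype_injective, hP, subgroupOf_map_subtype,
      inf_eq_left.2 hS.1]

theorem exists_sylow_isMaxAb {T₁ T₂ : Sylow q G} {A : Subgroup G}
    (hA : IsMaxAb 0 (T₁ : Subgroup G) A) (hAT : A ≤ (T₂ : Subgroup G)) :
    IsMaxAb 0 (T₂ : Subgroup G) A := by
  obtain ⟨g, hg⟩ := MulAction.exists_smul_eq G T₁ T₂
  have h : IsMaxAb 0 (T₂ : Subgroup G) (A.map (MulAut.conj g).toMonoidHom) := by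
    rw [← hg, Sylow.coe_subgroup_smul, Subgroup.pointwise_smul_def]
    exact (isMaxAb_map_iff _ (MulAut.conj g).injective 0 _ A).2 hA
  refine ⟨hAT, hA.comm, hA.exp, fun B hB hc he => ?_⟩
  rw [← card_map_of_injective (f := (MulAut.conj g).toMonoidHom) (MulAut.conj g).injective (K := A)]
  exact h.max B hB hc he

section Local

variable (ih : ∀ (G' : Type u) [Group G'] [Finite G'], Nat.card G' < Nat.card G → ZJStatement q G')
  (hnot : ∀ T : Sylow q G, ¬ Bad q (normalizer (interMaxAb 0 (T : Subgroup G) : Set G)))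

include ih hnot

theorem not_bad_overgroup {H : Subgroup G} (T : Sylow q G) (hTH : (T : Subgroup G) ≤ H)
    (hH : H ≠ ⊤) : ¬ Bad q H := fun h => hnot T
  ((bad_inf_normalizer ih hH (S := (T : Subgroup G))
    ⟨hTH, T.isPGroup', fun _ hS hle _ => T.is_maximal' hS hle⟩ h).mono inf_le_right)

theorem exists_normal_pgroup (hqo : Odd q) (hbad : Bad q (⊤ : Subgroup G)) :
    Cfsg.pCore q G ≠ ⊥ := by
  intro hQ
  obtain ⟨x, -, hx1, ⟨k, hk⟩, g, -, hgx⟩ := hbad
  obtain ⟨S, ⟨R, hR, hR0, hS, hSN, hbadR⟩, hmax⟩ := Set.exists_max_image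
    {S : Subgroup G | ∃ R : Subgroup G, IsPGroup q R ∧ R ≠ ⊥ ∧ IsPGroup q S ∧
      S ≤ normalizer (R : Set G) ∧ Bad q (normalizer (R : Set G))}
    (fun S => Nat.card S) (Set.toFinite _) ⟨⊥, zpowers x, fun ⟨y, hy⟩ => by
      obtain ⟨i, rfl⟩ := mem_zpowers_iff.1 hy
      refine ⟨k, Subtype.ext ?_⟩
      show (x ^ i) ^ q ^ k = 1
      rw [← zpow_natCast, ← zpow_mul, mul_comm, zpow_mul, zpow_natCast, hk, one_zpow],
      fun h => hx1 (zpowers_eq_bot.1 h), IsPGroup.of_bot, bot_le,
      ⟨x, le_normalizer (mem_zpowers x), hx1, ⟨k, hk⟩, g, mem_normalizer_fintype (fun y hy => by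
        obtain ⟨i, rfl⟩ := mem_zpowers_iff.1 hy
        rw [← conj_zpow, hgx]
        exact zpow_mem (inv_mem (mem_zpowers x)) i), hgx⟩⟩
  set M := normalizer (R : Set G) with hMdef
  have hM : M ≠ ⊤ := fun h => hR0 (le_bot_iff.1 (hQ ▸ le_pCore_of (normalizer_eq_top_iff.1 h) hR))
  have hSmax : MaxIn q M S := ⟨hSN, hS, fun S' hS' hle hle' => (eq_of_le_of_card_ge hle
    (hmax S' ⟨R, hR, hR0, hS', hle', hbadR⟩)).symm⟩
  have hS0 : S ≠ ⊥ := fun h => hR0 (by
    obtain ⟨e, -, he⟩ := hSmax.exists_conj_le (le_normalizer : R ≤ M) hR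
    refine (eq_bot_iff_forall R).2 fun r hr => ?_
    have := he r hr
    rw [h, mem_bot] at this
    exact conj_eq_one_iff.1 this)
  have hZ0 : interMaxAb 0 S ≠ ⊥ := centerJ_zero_eq S ▸ centerJ_ne_bot (Or.inl rfl) hS hS0
  have hbadZ := (bad_inf_normalizer ih hM hSmax hbadR).mono
    (inf_le_right : _ ≤ normalizer (interMaxAb 0 S : Set G))
  obtain ⟨T, hT⟩ := hS.exists_le_sylow
  rcases hT.eq_or_lt with h | h
  · exact hnot T (h ▸ hbadZ)
  · have hlt := lt_inf_normalizer_of_pgroup T.isPGroup' h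
    refine absurd (hmax _ ⟨interMaxAb 0 S, hS.to_le fun z hz => joinMaxAb_le 0 S (mem_interMaxAb_iff.1 hz).1,
      hZ0, T.isPGroup'.to_le inf_le_left, inf_le_right.trans
        ((normalizer_le_normalizer_joinMaxAb 0 S).trans (normalizer_join_le_normalizer_interMaxAb 0 S)),
      hbadZ⟩) (not_le.2 ((card_le_of_le hlt.le).lt_of_ne fun e => hlt.ne (eq_of_le_of_card_ge hlt.le e.ge)))

variable (hqo : Odd q) {Q : Subgroup G} [Q.Normal] (hQ : IsPGroup q Q)
  (hQmax : ∀ N : Subgroup G, N.Normal → IsPGroup q N → N ≤ Q)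
  (hC : ¬ Bad q (centralizer (Q : Set G)))

include hqo hQ hQmax hC

theorem not_ev_local {R : Subgroup G} (hR : IsPGroup q R) (hQR : Q ≤ R)
    (hRN : normalizer (R : Set G) ≠ ⊤) {T₁ : Sylow q G} {A : Subgroup G}
    (hA : IsMaxAb 0 (T₁ : Subgroup G) A) (hAR : A ≤ normalizer (R : Set G)) (hAQ : ¬ A ≤ Q) :
    ¬ Ev (centralizer (Q : Set G)) (normalizer (R : Set G)) := by
  intro hev
  obtain ⟨S, ⟨hS, R, T₁, A, hR, hQR, hRN, hA, hAS, hAQ, hSN, hev⟩, hmax⟩ := Set.exists_max_image
    {S : Subgroup G | IsPGroup q S ∧ ∃ (R : Subgroup G) (T₁ : Sylow q G) (A : Subgroup G),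
      IsPGroup q R ∧ Q ≤ R ∧ normalizer (R : Set G) ≠ ⊤ ∧ IsMaxAb 0 (T₁ : Subgroup G) A ∧
      A ≤ S ∧ ¬ A ≤ Q ∧ S ≤ normalizer (R : Set G) ∧
      Ev (centralizer (Q : Set G)) (normalizer (R : Set G))}
    (fun S => Nat.card S) (Set.toFinite _)
    ⟨A, T₁.isPGroup'.to_le hA.le, R, T₁, A, hR, hQR, hRN, hA, le_rfl, hAQ, hAR, hev⟩
  set M := normalizer (R : Set G) with hMdef
  have hSmax : MaxIn q M S := ⟨hSN, hS, fun S' hS' hle hle' => (eq_of_le_of_card_ge hle
    (hmax S' ⟨hS', R, T₁, A, hR, hQR, hRN, hA, hAS.trans hle, hAQ, hle', hev⟩)).symm⟩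
  have hbadM : Bad q M := bad_of_ev hQ (hQR.trans le_normalizer) hev
  obtain ⟨T, hT⟩ := hS.exists_le_sylow
  have hA'' : IsMaxAb 0 (T : Subgroup G) A := exists_sylow_isMaxAb hA (hAS.trans hT)
  set Z := interMaxAb 0 S with hZ
  set K := M ⊓ normalizer (Z : Set G) with hK
  set L := M ⊓ centralizer (Z : Set G) with hL
  have hXZ : interMaxAb 0 (T : Subgroup G) ≤ Z :=
    le_sInf fun B hB => interMaxAb_le (isMaxAb_sup_of_le hT hA'' hAS hB)
  have hNX : normalizer (interMaxAb 0 (T : Subgroup G) : Set G) ≠ ⊤ := fun h =>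
    hnot T (h ▸ hbadM.mono le_top)
  have hTX : (T : Subgroup G) ≤ normalizer (interMaxAb 0 (T : Subgroup G) : Set G) :=
    (le_normalizer.trans (normalizer_le_normalizer_joinMaxAb 0 _)).trans
      (normalizer_join_le_normalizer_interMaxAb 0 _)
  have hLnot : ¬ Ev (centralizer (Q : Set G)) L := fun h => by
    have hev' := h.mono ((inf_le_right.trans (Subgroup.centralizer_le hXZ)).trans
      (centralizer_le_normalizer _))
    exact not_bad_overgroup ih hnot T hTX hNX
      (bad_of_ev hQ ((hQ.le_sylow_of_normal T).trans hTX) hev')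
  have hevK : Ev (centralizer (Q : Set G)) K :=
    ev_of_bad hqo hC (bad_inf_normalizer ih hRN hSmax hbadM)
  have hSK : S ≤ K := le_inf hSN
    ((le_normalizer.trans (normalizer_le_normalizer_joinMaxAb 0 _)).trans
      (normalizer_join_le_normalizer_interMaxAb 0 _))
  have hKL : K ≤ normalizer (L : Set G) := fun g hg => mem_normalizer_fintype fun c hc =>
    Subgroup.mem_inf.2 ⟨mul_mem (mul_mem hg.1 hc.1) (inv_mem hg.1),
      (mem_normalizer_iff.1 (normalizer_le_normalizer_centralizer Z hg.2) c).1 hc.2⟩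
  have hLK : L ≤ K := inf_le_inf_left _ (centralizer_le_normalizer _)
  have hSKmax : MaxIn q K S := ⟨hSK, hS, fun S' hS' hle hle' => hSmax.2.2 S' hS' hle (hle'.trans inf_le_left)⟩
  have hSC : MaxIn q L (S ⊓ L) := hSKmax.inf hLK hKL
  set SC := S ⊓ L with hSCdef
  have hfr : K ≤ (K ⊓ normalizer (SC : Set G)) ⊔ L := by
    intro g hg
    obtain ⟨e, he, heg⟩ := hSC.exists_mem_normalizer (hKL hg)
    have : g = e⁻¹ * (e * g) := by group
    rw [this]
    exact mul_mem (mem_sup_right (inv_mem he)) (mem_sup_left ⟨mul_mem (hLK he) hg, heg⟩)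
  have hevN : Ev (centralizer (Q : Set G)) (normalizer ((Q ⊔ SC : Subgroup G) : Set G)) :=
    ((hevK.of_le_sup hfr (inf_le_left.trans hKL)).resolve_right hLnot).mono
      (inf_le_right.trans normalizer_le_sup)
  rcases hT.eq_or_lt with h | h
  · exact not_bad_overgroup ih hnot T (h ▸ hSN) hRN hbadM
  haveI := hA.comm
  have hASC : A ≤ SC := le_inf hAS (le_inf (hAS.trans hSN) fun a ha z hz =>
    setLike_mul_comm (interMaxAb_le (isMaxAb_of_le hT hA'' hAS) hz) ha)
  have hR' : IsPGroup q ↥(Q ⊔ SC) := IsPGroup.to_sup_of_normal_left hQ (hS.to_le inf_le_left)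
  have hR'N : normalizer ((Q ⊔ SC : Subgroup G) : Set G) ≠ ⊤ := fun htop => hAQ
    (hASC.trans (le_sup_right.trans (hQmax _ (normalizer_eq_top_iff.1 htop) hR')))
  have hlt := lt_inf_normalizer_of_pgroup T.isPGroup' h
  have hNS : normalizer (S : Set G) ≤ normalizer ((Q ⊔ SC : Subgroup G) : Set G) := by
    refine le_trans (fun g hg => ?_) normalizer_le_sup
    refine mem_normalizer_fintype fun c hc => ?_
    have hgc : g * c * g⁻¹ ∈ S := (mem_normalizer_iff.1 hg c).1 hc.1
    exact ⟨hgc, hSN hgc, (mem_normalizer_iff.1 (normalizer_le_normalizer_centralizer Z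
      (normalizer_join_le_normalizer_interMaxAb 0 S (normalizer_le_normalizer_joinMaxAb 0 S hg))) c).1 hc.2.2⟩
  exact absurd (hmax _ ⟨T.isPGroup'.to_le inf_le_left, Q ⊔ SC, T₁, A, hR', le_sup_left, hR'N, hA,
    hAS.trans hlt.le, hAQ, inf_le_right.trans hNS, hevN⟩)
    (not_le.2 ((card_le_of_le hlt.le).lt_of_ne fun e => hlt.ne (eq_of_le_of_card_ge hlt.le e.ge)))

theorem mem_stableKernel_of_quadratic (hq2 : q ≠ 2) {T : Sylow q G} {A B : Subgroup G} [B.Normal]
    (hB : IsPGroup q B) (hA : IsMaxAb 0 (T : Subgroup G) A) {a : G} (ha : a ∈ A)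
    (hquad : ∀ b ∈ B, a * ⁅a, b⁆ = ⁅a, b⁆ * a) : a ∈ stableKernel q B := by
  by_contra hcon
  haveI := hA.comm
  obtain ⟨D, hDn, hCD, hcore, haD, t, htD, htt, hta⟩ := InvolLift.exists_invol_lift hq2 T hB hquad hcon
  haveI := hDn
  have hQD : Q ≤ D := hcore Q inferInstance hQ
  have hCQD : centralizer (Q : Set G) ≤ D :=
    (Subgroup.centralizer_le (hQmax B inferInstance hB)).trans hCD
  set Y := zpowers a ⊔ D with hY
  have hAY : A ≤ normalizer (Y : Set G) := fun c hc => by
    refine normalizer_le_sup (Q := D) (S := zpowers a) ?_ |> fun h => by rwa [hY, sup_comm]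
    refine mem_normalizer_fintype fun y hy => ?_
    rw [show c * y * c⁻¹ = y by rw [setLike_mul_comm hc (zpowers_le.2 ha hy), mul_inv_cancel_right]]
    exact hy
  obtain ⟨S, hS, hAS⟩ := exists_maxIn (q := q) (le_sup_left : A ≤ A ⊔ Y) (T.isPGroup'.to_le hA.le)
  have hYn : A ⊔ Y ≤ normalizer (Y : Set G) := sup_le hAY le_normalizer
  have hR : MaxIn q Y (S ⊓ Y) := hS.inf le_sup_right hYn
  have hQR : Q ≤ S ⊓ Y := by
    refine le_inf ?_ (hQD.trans le_sup_right)
    obtain ⟨e, -, he⟩ := hS.exists_conj_le (hQD.trans (le_sup_right.trans le_sup_right)) hQ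
    intro z hz
    have := he (e⁻¹ * z * e) (by simpa using (inferInstance : Q.Normal).conj_mem z hz e⁻¹)
    simpa [mul_assoc] using this
  have haR : a ∈ S ⊓ Y := ⟨hAS ha, mem_sup_left (mem_zpowers a)⟩
  have hRN : normalizer ((S ⊓ Y : Subgroup G) : Set G) ≠ ⊤ := fun h =>
    haD (hcore _ (normalizer_eq_top_iff.1 h) hR.2.1 haR)
  have hAR : A ≤ normalizer ((S ⊓ Y : Subgroup G) : Set G) := fun c hc =>
    mem_normalizer_fintype fun y hy => Subgroup.mem_inf.2 ⟨mul_mem (mul_mem (hAS hc) hy.1) (inv_mem (hAS hc)),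
      (mem_normalizer_iff.1 (hAY hc) y).1 hy.2⟩
  have haQ : ¬ A ≤ Q := fun h => haD (hQD (h ha))
  refine not_ev_local ih hnot hqo hQ hQmax hC hR.2.1 hQR hRN hA hAR haQ ?_
  have htY : t ∈ normalizer (Y : Set G) := mem_normalizer_fintype fun y hy => by
    refine (?_ : Y ≤ Y.comap (MulAut.conj t).toMonoidHom) hy
    rw [hY]
    refine sup_le (zpowers_le.2 ?_) fun d hd => mem_sup_right (hDn.conj_mem d hd t)
    show t * a * t⁻¹ ∈ zpowers a ⊔ D
    rw [show t * a * t⁻¹ = ⁅t, a⁆ * a by rw [commutatorElement_def]; group]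
    exact mul_mem (mem_sup_right hta) (mem_sup_left (mem_zpowers a))
  obtain ⟨e, heY, hn⟩ := hR.exists_mem_normalizer htY
  obtain ⟨k, hk⟩ := T.isPGroup' ⟨a, hA.le ha⟩
  have hk' : a ^ q ^ k = 1 := congrArg Subtype.val hk
  refine ev_of_mem (pow_mem hn (q ^ k)) fun n hnC => ?_
  obtain ⟨z, hz, d, hd, rfl⟩ := Subgroup.mem_sup_of_normal_right.1 heY
  obtain ⟨i, rfl⟩ := mem_zpowers_iff.1 hz
  set π := QuotientGroup.mk' D
  have hπd : π d = 1 := (QuotientGroup.eq_one_iff d).2 hd
  have hπt : π t ^ 2 = 1 := by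
    rw [pow_two, ← map_mul]; exact (QuotientGroup.eq_one_iff _).2 htt
  have hcomm : Commute (π a) (π t) := by
    refine (commutatorElement_eq_one_iff_mul_comm.1 ?_).symm
    rw [← map_commutatorElement]; exact (QuotientGroup.eq_one_iff _).2 hta
  have hpow : π ((a ^ i * d * t) ^ q ^ k) = π t := by
    rw [map_pow, map_mul, map_mul, hπd, mul_one, map_zpow, (hcomm.zpow_left i).mul_pow,
      ← zpow_natCast (π a ^ i), ← zpow_mul, mul_comm, zpow_mul, zpow_natCast, ← map_pow, hk', map_one,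
      one_zpow, one_mul]
    obtain ⟨j, hj⟩ := hqo.pow (n := k)
    rw [hj, pow_succ, pow_mul, hπt, one_pow, one_mul]
  have h1 : π t ^ n = 1 := by
    rw [← hpow, ← map_pow]; exact (QuotientGroup.eq_one_iff _).2 (hCQD hnC)
  have ht1 : π t ≠ 1 := fun h => htD ((QuotientGroup.eq_one_iff _).1 h)
  rw [← orderOf_eq_prime hπt ht1]
  exact orderOf_dvd_of_pow_eq_one h1

end Local

/-- The main theorem. -/
theorem zjStatement (q : ℕ) [Fact q.Prime] (hq2 : q ≠ 2) :
    ∀ (n : ℕ) (G : Type u) [Group G] [Finite G], Nat.card G = n → ZJStatement q G := by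
  intro n
  induction n using Nat.strong_induction_on with
  | _ n IH =>
    intro G _ _ hn hbad T
    subst hn
    have hqo : Odd q := (Fact.out : q.Prime).odd_of_ne_two hq2
    have ih : ∀ (G' : Type u) [Group G'] [Finite G'], Nat.card G' < Nat.card G → ZJStatement q G' :=
      fun G' _ _ h => IH _ h G' rfl
    by_contra hnotT
    have hnot : ∀ T' : Sylow q G, ¬ Bad q (normalizer (interMaxAb 0 (T' : Subgroup G) : Set G)) := by
      intro T' h
      obtain ⟨g, hg⟩ := MulAction.exists_smul_eq G T' T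
      refine hnotT ((h.map (MulAut.conj g).toMonoidHom (MulAut.conj g).injective).mono
        ((le_normalizer_map _).trans ?_))
      rw [← interMaxAb_map _ (MulAut.conj g).injective, ← hg, Sylow.coe_subgroup_smul,
        Subgroup.pointwise_smul_def]
      exact le_rfl
    set X := interMaxAb 0 (T : Subgroup G) with hX
    set Q := Cfsg.pCore q G with hQdef
    haveI : Q.Normal := CfsgLib.Solvable.pCore_normal q G
    have hQ : IsPGroup q Q := CfsgLib.Solvable.pCore_isPGroup q G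
    have hQmax : ∀ N : Subgroup G, N.Normal → IsPGroup q N → N ≤ Q := fun N h1 h2 =>
      le_pCore_of h1 h2
    have hQ0 : Q ≠ ⊥ := exists_normal_pgroup ih hnot hqo hbad
    have hQT : Q ≤ (T : Subgroup G) := hQ.le_sylow_of_normal T
    -- nothing is inverted in `G / Q`
    have hquot : ¬ Bad q (⊤ : Subgroup (G ⧸ Q)) := by
      intro hb
      have hlt : Nat.card (G ⧸ Q) < Nat.card G := by
        rw [card_eq_card_quotient_mul_card_subgroup Q]
        exact lt_mul_of_one_lt_right Nat.card_pos ((one_lt_card_iff_ne_bot Q).2 hQ0)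
      set π := QuotientGroup.mk' Q
      have hπs : Function.Surjective π := QuotientGroup.mk'_surjective Q
      have h := ih (G ⧸ Q) hlt hb (T.mapSurjective hπs)
      rw [Sylow.coe_mapSurjective] at h
      set Tb := (T : Subgroup G).map π
      set N := normalizer (interMaxAb 0 Tb : Set (G ⧸ Q))
      have hH : N.comap π ≠ ⊤ := by
        intro htop
        have hN : N = ⊤ := by rw [← map_comap_eq_self_of_surjective hπs N, htop, map_top_of_surjective π hπs]
        have hTb : Tb ≠ ⊥ := by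
          obtain ⟨x, -, hx1, ⟨k, hk⟩, -⟩ := hb
          intro h0
          have hcard : ¬ q ∣ Nat.card (G ⧸ Q) := by
            have := (T.mapSurjective hπs).not_dvd_index
            rwa [Sylow.coe_mapSurjective, show (T : Subgroup G).map π = ⊥ from h0, index_bot] at this
          obtain ⟨i, -, hi⟩ := (Nat.dvd_prime_pow (Fact.out (p := q.Prime))).1 (orderOf_dvd_of_pow_eq_one hk)
          rcases Nat.eq_zero_or_pos i with rfl | hi0
          · exact hx1 (orderOf_eq_one_iff.1 (by rw [hi, pow_zero]))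
          · exact hcard ((dvd_pow_self q hi0.ne').trans (hi ▸ orderOf_dvd_natCard x))
        have hXb : interMaxAb 0 Tb ≠ ⊥ := centerJ_zero_eq Tb ▸ centerJ_ne_bot (Or.inl rfl) (T.isPGroup'.map π) hTb
        refine hXb (le_bot_iff.1 ?_)
        rw [← CfsgLib.Solvable.pCore_quotient_eq_bot (p := q) Q rfl]
        exact le_pCore_of (normalizer_eq_top_iff.1 hN) ((T.isPGroup'.map π).to_le fun z hz =>
          joinMaxAb_le 0 Tb (mem_interMaxAb_iff.1 hz).1)
      refine not_bad_overgroup ih hnot T (fun t ht => ?_) hH (bad_of_map hqo π ?_)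
      · exact (le_normalizer.trans (normalizer_le_normalizer_joinMaxAb 0 Tb)).trans
          (normalizer_join_le_normalizer_interMaxAb 0 Tb) (mem_map_of_mem π ht)
      · rwa [map_comap_eq_self_of_surjective hπs]
    have hC : ¬ Bad q (centralizer (Q : Set G)) := by
      rintro ⟨x, hx, hx1, ⟨k, hk⟩, g, hg, hgx⟩
      refine hquot ⟨QuotientGroup.mk' Q x, mem_top _, fun h => hx1 ?_, ⟨k, by rw [← map_pow, hk, map_one]⟩,
        QuotientGroup.mk' Q g, mem_top _, by rw [← map_inv, ← map_mul, ← map_mul, hgx, map_inv]⟩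
      have hxQ : x ∈ Q := (QuotientGroup.eq_one_iff x).1 h
      refine eq_one_of_eq_inv hqo hk ?_
      rw [← hgx, ← hg x hxQ, mul_inv_cancel_right]
    have hquadA : ∀ (B A : Subgroup G) [B.Normal], IsPGroup q B → IsMaxAb 0 (T : Subgroup G) A →
        ⁅⁅B, A⁆, A⁆ = ⊥ → A ≤ stableKernel q B := fun B A _ hB hA h a ha =>
      mem_stableKernel_of_quadratic ih hnot hqo hQ hQmax hC hq2 hB hA ha fun b hb => by
        have h1 := commutator_mem_commutator (commutator_mem_commutator hb ha) ha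
        rw [h, mem_bot, commutatorElement_eq_one_iff_mul_comm] at h1
        rw [← commutatorElement_inv b a]
        exact (Commute.inv_left h1).eq.symm
    have hTX : (T : Subgroup G) ≤ normalizer (X : Set G) :=
      (le_normalizer.trans (normalizer_le_normalizer_joinMaxAb 0 _)).trans
        (normalizer_join_le_normalizer_interMaxAb 0 _)
    obtain ⟨A, hA⟩ := exists_isMaxAb 0 (T : Subgroup G)
    haveI := hA.comm
    have hXT : X ≤ (T : Subgroup G) := (interMaxAb_le hA).trans hA.le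
    have hXD : X ≤ stableKernel q Q := fun a ha =>
      mem_stableKernel_of_quadratic ih hnot hqo hQ hQmax hC hq2 hQ hA (interMaxAb_le hA ha) fun b hb => by
        have h1 : ⁅a, b⁆ ∈ X := by
          rw [commutatorElement_def, show a * b * a⁻¹ * b⁻¹ = a * (b * a⁻¹ * b⁻¹) by group]
          exact mul_mem ha ((mem_normalizer_iff.1 (hTX (hQT hb)) _).1 (inv_mem ha))
        exact setLike_mul_comm (interMaxAb_le hA ha) (interMaxAb_le hA h1)
    haveI hDn := stableKernel_normal (p := q) Q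
    set D := stableKernel q Q with hDdef
    have hevD : ¬ Ev (centralizer (Q : Set G)) D := fun h => by
      unfold Ev at h
      rw [hDdef, stableKernel, map_comap_eq_self_of_surjective (QuotientGroup.mk'_surjective _)] at h
      obtain ⟨j, hj⟩ := IsPGroup.iff_card.1 (CfsgLib.Solvable.pCore_isPGroup q (G ⧸ centralizer (Q : Set G)))
      rw [hj] at h
      exact hq2 ((Nat.prime_dvd_prime_iff_eq Nat.prime_two Fact.out).1 (Nat.prime_two.dvd_of_dvd_pow h)).symm
    have hTD : ((T : Subgroup G) ⊓ D).Normal := by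
      by_contra hcon
      have hne : normalizer (((T : Subgroup G) ⊓ D : Subgroup G) : Set G) ≠ ⊤ := fun h =>
        hcon (normalizer_eq_top_iff.1 h)
      have hev : Ev (centralizer (Q : Set G))
          (normalizer (((T : Subgroup G) ⊓ D : Subgroup G) : Set G) ⊔ D) := by
        rw [frattini_inf T D]; exact ev_of_bad hqo hC hbad
      have hN := (hev.of_le_sup le_rfl le_normalizer_of_normal).resolve_right hevD
      have hTN : (T : Subgroup G) ≤ normalizer (((T : Subgroup G) ⊓ D : Subgroup G) : Set G) :=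
        fun t ht => mem_normalizer_fintype fun y hy =>
          Subgroup.mem_inf.2 ⟨mul_mem (mul_mem ht hy.1) (inv_mem ht), hDn.conj_mem y hy.2 t⟩
      exact not_bad_overgroup ih hnot T hTN hne (bad_of_ev hQ (hQT.trans hTN) hN)
    have hXQ : X ≤ Q := fun x hx => hQmax _ hTD (T.isPGroup'.to_le inf_le_left) ⟨hXT hx, hXD hx⟩
    have hXn := interMaxAb_inf_normal_of_quadratic hq2 0 T hquadA (inferInstance : Q.Normal) hQ
    rw [show X ⊓ Q = X from inf_eq_left.2 hXQ] at hXn
    exact hnotT (by rw [normalizer_eq_top_iff.2 hXn]; exact hbad)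

end CfsgLib.LocalEven.InvertedZJ
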