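import Mathlib.FieldTheory.ChevalleyWarning
import Mathlib.LinearAlgebra.Matrix.Charpoly.Minpoly
import Mathlib.LinearAlgebra.Matrix.Charpoly.Coeff
import Mathlib.RingTheory.Polynomial.GaussLemma
import Mathlib.RingTheory.Polynomial.RationalRoot
import Mathlib.RingTheory.Polynomial.UniqueFactorization
import Mathlib.Algebra.MvPolynomial.Equiv
import Mathlib.Algebra.MvPolynomial.NoZeroDivisors
import Mathlib.RingTheory.PowerBasis
import Mathlib.LinearAlgebra.Dimension.Finrank

/-!
A finite special Jordan division algebra is commutative: an `n`-dimensional space of `n × n`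
matrices over `ZMod p`, containing `1`, closed under `(a, b) ↦ a * b * a`, all of whose nonzero
members are invertible, is commutative.
-/

set_option autoImplicit false

namespace CfsgLib.LocalEven.Jordan

open Matrix

theorem sum_mul_mul_sum_mem {ι L A : Type*} [CommRing L] [Ring A] [Algebra L A]
    (Sp : Submodule L A) (M : ι → A) (c : ι → L)
    (h1 : ∀ i j, M i * M j * M i ∈ Sp)
    (h2 : ∀ i k j, M i * M j * M k + M k * M j * M i ∈ Sp) (j : ι) (s : Finset ι) :
    (∑ i ∈ s, c i • M i) * M j * (∑ i ∈ s, c i • M i) ∈ Sp := by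
  classical
  induction s using Finset.induction with
  | empty => simp
  | @insert a s ha ih =>
    rw [Finset.sum_insert ha]
    set y := ∑ i ∈ s, c i • M i with hy
    have e : (c a • M a + y) * M j * (c a • M a + y) = (c a * c a) • (M a * M j * M a) +
        c a • (M a * M j * y + y * M j * M a) + y * M j * y := by
      simp only [add_mul, mul_add, smul_mul_assoc, mul_smul_comm, smul_smul, smul_add]
      abel
    have hcross : M a * M j * y + y * M j * M a =
        ∑ k ∈ s, c k • (M a * M j * M k + M k * M j * M a) := by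
      simp only [hy, Finset.mul_sum, Finset.sum_mul, ← Finset.sum_add_distrib, mul_smul_comm,
        smul_mul_assoc, smul_add]
    rw [e, hcross]
    exact add_mem (add_mem (Sp.smul_mem _ (h1 a j))
      (Sp.smul_mem _ (Submodule.sum_mem _ fun k _ => Sp.smul_mem _ (h2 a k j)))) ih

/-- The main commutativity theorem. -/
theorem commute_of_jordan {p n : ℕ} [Fact p.Prime]
    (S : Submodule (ZMod p) (Matrix (Fin n) (Fin n) (ZMod p)))
    (hdim : Module.finrank (ZMod p) S = n) (hone : (1 : Matrix (Fin n) (Fin n) (ZMod p)) ∈ S)
    (haba : ∀ a ∈ S, ∀ b ∈ S, a * b * a ∈ S) (hdet : ∀ a ∈ S, a ≠ 0 → a.det ≠ 0)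
    {a b : Matrix (Fin n) (Fin n) (ZMod p)} (ha : a ∈ S) (hb : b ∈ S) : a * b = b * a := by
  classical
  rcases Nat.eq_zero_or_pos n with hn | hn
  · subst hn
    exact Matrix.ext fun i => i.elim0
  let bs := Module.finBasisOfFinrankEq (ZMod p) S hdim
  let M : Fin n → Matrix (Fin n) (Fin n) (ZMod p) := fun i => (bs i : _)
  have hspan : ∀ m ∈ S, ∃ c : Fin n → ZMod p, m = ∑ i, c i • M i := fun m hm =>
    ⟨fun i => bs.repr ⟨m, hm⟩ i, by
      have h := congrArg Subtype.val (bs.sum_repr ⟨m, hm⟩)
      simp only [Submodule.coe_sum, Submodule.coe_smul] at h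
      exact h.symm⟩
  have hM : ∀ i, M i ∈ S := fun i => (bs i).2
  let R := MvPolynomial (Fin n) (ZMod p)
  let L := FractionRing R
  let ι : ZMod p →+* L := (algebraMap R L).comp MvPolynomial.C
  let φ : Matrix (Fin n) (Fin n) (ZMod p) →+* Matrix (Fin n) (Fin n) L := ι.mapMatrix
  let xR : Matrix (Fin n) (Fin n) R :=
    ∑ i, (MvPolynomial.X i : R) • (M i).map (MvPolynomial.C : ZMod p →+* R)
  let x : Matrix (Fin n) (Fin n) L := xR.map (algebraMap R L)
  let Sp : Submodule L (Matrix (Fin n) (Fin n) L) := Submodule.span L (Set.range fun i => φ (M i))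
  have hφS : ∀ m ∈ S, φ m ∈ Sp := by
    intro m hm
    obtain ⟨c, rfl⟩ := hspan m hm
    rw [map_sum]
    refine Submodule.sum_mem _ fun i _ => ?_
    have e : φ (c i • M i) = ι (c i) • φ (M i) := by
      ext k l
      simp [φ, Matrix.smul_apply]
    rw [e]
    exact Sp.smul_mem _ (Submodule.subset_span ⟨i, rfl⟩)
  have hxsum : x = ∑ i, algebraMap R L (MvPolynomial.X i) • φ (M i) := by
    ext k l
    simp [x, xR, φ, ι, Matrix.sum_apply, Matrix.smul_apply, map_sum]
    exact Finset.sum_congr rfl fun i _ => (Algebra.smul_def (R := R) (A := L) _ _).symm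
  have h1 : ∀ i j, φ (M i) * φ (M j) * φ (M i) ∈ Sp := fun i j => by
    rw [← map_mul, ← map_mul]
    exact hφS _ (haba _ (hM i) _ (hM j))
  have h2 : ∀ i k j, φ (M i) * φ (M j) * φ (M k) + φ (M k) * φ (M j) * φ (M i) ∈ Sp := by
    intro i k j
    simp only [← map_mul, ← map_add]
    refine hφS _ ?_
    have e : M i * M j * M k + M k * M j * M i = (M i + M k) * M j * (M i + M k) -
        M i * M j * M i - M k * M j * M k := by
      simp only [add_mul, mul_add]; abel
    rw [e]
    exact sub_mem (sub_mem (haba _ (add_mem (hM i) (hM k)) _ (hM j)) (haba _ (hM i) _ (hM j)))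
      (haba _ (hM k) _ (hM j))
  have hxmx : ∀ m ∈ Sp, x * m * x ∈ Sp := by
    intro m hm
    induction hm using Submodule.span_induction with
    | mem m hm =>
      obtain ⟨j, rfl⟩ := hm
      rw [hxsum]
      exact sum_mul_mul_sum_mem Sp (fun i => φ (M i)) _ h1 h2 j Finset.univ
    | zero => simp
    | add y z _ _ hy hz => rw [mul_add, add_mul]; exact add_mem hy hz
    | smul c y _ hy => rw [mul_smul_comm, smul_mul_assoc]; exact Sp.smul_mem _ hy
  have hpow : ∀ k : ℕ, x ^ k ∈ Sp := by
    intro k
    induction k using Nat.strongRecOn with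
    | _ k ih =>
      match k with
      | 0 => rw [pow_zero, ← map_one φ]; exact hφS _ hone
      | 1 =>
        rw [pow_one, hxsum]
        exact Submodule.sum_mem _ fun i _ => Sp.smul_mem _ (Submodule.subset_span ⟨i, rfl⟩)
      | j + 2 =>
        rw [show x ^ (j + 2) = x * x ^ j * x by rw [pow_succ, pow_succ']]
        exact hxmx _ (ih j (by omega))
  by_cases hind : n ≤ (minpoly L x).natDegree
  · -- the powers of the generic element span
    have hli : LinearIndependent L fun i : Fin n => x ^ (i : ℕ) :=
      (linearIndependent_pow (K := L) x).comp (Fin.castLE hind) (Fin.castLE_injective hind)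
    set P' := Submodule.span L (Set.range fun i : Fin n => x ^ (i : ℕ)) with hP'
    have hle : P' ≤ Sp := Submodule.span_le.mpr (by rintro _ ⟨i, rfl⟩; exact hpow i)
    have hfr : Module.finrank L Sp ≤ Module.finrank L P' := by
      rw [finrank_span_eq_card hli, Fintype.card_fin]
      exact (finrank_range_le_card _).trans (Fintype.card_fin n).le
    have heq : P' = Sp := Submodule.eq_of_le_of_finrank_le hle hfr
    have hxc : ∀ m ∈ Sp, Commute x m := by
      intro m hm
      rw [← heq] at hm
      induction hm using Submodule.span_induction with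
      | mem m hm => obtain ⟨i, rfl⟩ := hm; exact Commute.self_pow x i
      | zero => exact Commute.zero_right x
      | add y z _ _ hy hz => exact hy.add_right hz
      | smul c y _ hy => exact hy.smul_right c
    have hall : ∀ m₁ ∈ Sp, ∀ m₂ ∈ Sp, Commute m₁ m₂ := by
      intro m₁ hm₁ m₂ hm₂
      rw [← heq] at hm₁
      induction hm₁ using Submodule.span_induction with
      | mem m hm => obtain ⟨i, rfl⟩ := hm; exact (hxc _ hm₂).pow_left i
      | zero => exact Commute.zero_left m₂
      | add y z _ _ hy hz => exact hy.add_left hz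
      | smul c y _ hy => exact hy.smul_left c
    have hinj : Function.Injective φ :=
      Matrix.map_injective ((algebraMap R L).comp MvPolynomial.C).injective
    refine hinj ?_
    rw [map_mul, map_mul]
    exact hall _ (hφS a ha) _ (hφS b hb)
  · -- otherwise a form of low degree has only the trivial zero
    exfalso
    push Not at hind
    set r := (minpoly L x).natDegree with hr
    have : Nonempty (Fin n) := ⟨⟨0, hn⟩⟩
    have hint : IsIntegral L x := Matrix.isIntegral x
    have hrpos : 0 < r := minpoly.natDegree_pos hint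
    set χ := xR.charpoly with hχ
    have hχm : χ.Monic := Matrix.charpoly_monic xR
    have hdvd : minpoly L x ∣ χ.map (algebraMap R L) := by
      rw [hχ, ← Matrix.charpoly_map]
      exact Matrix.minpoly_dvd_charpoly x
    obtain ⟨μ, hμ⟩ := IsIntegrallyClosed.eq_map_mul_C_of_dvd L hχm hdvd
    rw [(minpoly.monic hint).leadingCoeff, map_one, mul_one] at hμ
    have hinjL : Function.Injective (algebraMap R L) := IsFractionRing.injective R L
    have hμm : μ.Monic := Polynomial.monic_of_injective hinjL (by rw [hμ]; exact minpoly.monic hint)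
    have hμr : μ.natDegree = r := by
      rw [hr, ← hμ, Polynomial.natDegree_map_eq_of_injective hinjL]
    obtain ⟨ρ, hρ⟩ : μ ∣ χ := by
      rw [← Polynomial.map_dvd_map (algebraMap R L) hinjL hμm, hμ]; exact hdvd
    have hρm : ρ.Monic := hμm.of_mul_monic_left (hρ ▸ hχm)
    have hdeg : μ.natDegree + ρ.natDegree = n := by
      rw [← hμm.natDegree_mul hρm, ← hρ, hχ, Matrix.charpoly_natDegree_eq_dim, Fintype.card_fin]
    -- total degrees
    let E : MvPolynomial (Option (Fin n)) (ZMod p) ≃ₐ[ZMod p] Polynomial R :=
      MvPolynomial.optionEquivLeft (ZMod p) (Fin n)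
    have hlow : ∀ f : Polynomial R, f.Monic → f.natDegree ≤ (E.symm f).totalDegree := by
      intro f hf
      have hco : MvPolynomial.coeff ((0 : Fin n →₀ ℕ).optionElim f.natDegree) (E.symm f) ≠ 0 := by
        rw [← MvPolynomial.optionEquivLeft_coeff_coeff]
        show MvPolynomial.coeff 0 ((E (E.symm f)).coeff f.natDegree) ≠ 0
        rw [AlgEquiv.apply_symm_apply, hf.coeff_natDegree]
        simp
      refine le_trans ?_ (MvPolynomial.le_totalDegree (MvPolynomial.mem_support_iff.mpr hco))
      simp [Finsupp.optionElim]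
    have hχdeg : (E.symm χ).totalDegree ≤ n := by
      have hmap : E.symm χ = ((Matrix.charmatrix xR).map E.symm).det := by
        rw [hχ, Matrix.charpoly]
        exact RingHom.map_det E.symm.toAlgHom.toRingHom _
      rw [hmap, Matrix.det_apply]
      refine MvPolynomial.totalDegree_finsetSum_le fun σ _ => ?_
      refine (MvPolynomial.totalDegree_smul_le _ _).trans
        ((MvPolynomial.totalDegree_finsetProd _ _).trans ?_)
      refine (Finset.sum_le_card_nsmul _ _ 1 fun i _ => ?_).trans (by simp)
      have hX : (E.symm (Polynomial.X : Polynomial R)) = MvPolynomial.X none := by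
        rw [AlgEquiv.symm_apply_eq]
        exact (MvPolynomial.optionEquivLeft_X_none _ _).symm
      have hentry : (E.symm (Polynomial.C (xR (σ i) i))).totalDegree ≤ 1 := by
        have : xR (σ i) i = ∑ k, MvPolynomial.X k * MvPolynomial.C (M k (σ i) i) := by
          simp [xR, Matrix.sum_apply, Matrix.smul_apply]
        rw [this, map_sum, map_sum]
        refine MvPolynomial.totalDegree_finsetSum_le fun k _ => ?_
        have e : E.symm (Polynomial.C (MvPolynomial.X k * MvPolynomial.C (M k (σ i) i))) =
            MvPolynomial.X (some k) * MvPolynomial.C (M k (σ i) i) := by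
          rw [AlgEquiv.symm_apply_eq, map_mul, map_mul]
          exact (congrArg₂ (· * ·) (MvPolynomial.optionEquivLeft_X_some (ZMod p) (Fin n) k)
            (MvPolynomial.optionEquivLeft_C (ZMod p) (Fin n) _)).symm
        rw [e]
        refine (MvPolynomial.totalDegree_mul _ _).trans ?_
        simp [MvPolynomial.totalDegree_X]
      rw [Matrix.map_apply]
      rcases eq_or_ne (σ i) i with h | h
      · rw [h] at hentry ⊢
        rw [Matrix.charmatrix_apply_eq, map_sub, hX]
        exact (MvPolynomial.totalDegree_sub _ _).trans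
          (max_le (by simp [MvPolynomial.totalDegree_X]) hentry)
      · rw [Matrix.charmatrix_apply_ne _ _ _ h, map_neg, MvPolynomial.totalDegree_neg]
        exact hentry
    have hμdeg : (E.symm μ).totalDegree ≤ r := by
      have hne : ∀ f : Polynomial R, f.Monic → E.symm f ≠ 0 := fun f hf h =>
        hf.ne_zero (by simpa using congrArg E h)
      have h := MvPolynomial.totalDegree_mul_of_isDomain (hne μ hμm) (hne ρ hρm)
      rw [← map_mul, ← hρ] at h
      have := hlow ρ hρm
      omega
    set c : MvPolynomial (Fin n) (ZMod p) := μ.coeff 0 with hc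
    have hcdeg : c.totalDegree < Fintype.card (Fin n) := by
      have h := MvPolynomial.totalDegree_coeff_optionEquivLeft_le (p := E.symm μ) (i := 0)
      rw [show MvPolynomial.optionEquivLeft (ZMod p) (Fin n) (E.symm μ) = μ from
        E.apply_symm_apply μ] at h
      rw [Fintype.card_fin]
      exact lt_of_le_of_lt (h.trans hμdeg) hind
    have hev : ∀ v : Fin n → ZMod p, χ.map (MvPolynomial.eval v) = (∑ i, v i • M i).charpoly := by
      intro v
      rw [hχ, ← Matrix.charpoly_map]
      congr 1
      ext k l
      simp [xR, Matrix.sum_apply, Matrix.smul_apply]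
    have hzero : ∀ v : Fin n → ZMod p, MvPolynomial.eval v c = 0 → v = 0 := by
      intro v hv
      by_contra hv0
      set m := ∑ i, v i • M i with hm
      have hmS : m ∈ S := S.sum_mem fun i _ => S.smul_mem _ (hM i)
      have hm0 : m ≠ 0 := by
        intro h
        refine hv0 (funext fun i => ?_)
        have h' : (∑ i, v i • bs i : S) = 0 := Subtype.ext (by simpa [Submodule.coe_sum] using h)
        exact Fintype.linearIndependent_iff.mp bs.linearIndependent v h' i
      have h0 : m.charpoly.coeff 0 = 0 := by
        rw [← hev v, hρ, Polynomial.map_mul, Polynomial.mul_coeff_zero, Polynomial.coeff_map,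
          ← hc, hv, zero_mul]
      exact hdet m hmS hm0 (by rw [Matrix.det_eq_sign_charpoly_coeff, h0, mul_zero])
    have hzero0 : MvPolynomial.eval 0 c = 0 := by
      have h : μ.map (MvPolynomial.eval (0 : Fin n → ZMod p)) ∣ Polynomial.X ^ n := by
        refine ⟨ρ.map (MvPolynomial.eval 0), ?_⟩
        rw [← Polynomial.map_mul, ← hρ, hev]
        simp
      obtain ⟨i, -, hi⟩ := (dvd_prime_pow Polynomial.prime_X n).mp h
      have he : μ.map (MvPolynomial.eval (0 : Fin n → ZMod p)) = Polynomial.X ^ i :=
        Polynomial.eq_of_monic_of_associated (hμm.map _) (Polynomial.monic_X_pow i) hi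
      have hir : i = r := by
        have := congrArg Polynomial.natDegree he
        rwa [hμm.natDegree_map, hμr, Polynomial.natDegree_X_pow, eq_comm] at this
      rw [hc, ← Polynomial.coeff_map, he, hir, Polynomial.coeff_X_pow]
      simp [hrpos.ne]
    have hdvdp := char_dvd_card_solutions p hcdeg
    have hcard : Fintype.card {v : Fin n → ZMod p // MvPolynomial.eval v c = 0} = 1 :=
      Fintype.card_eq_one_iff.mpr ⟨⟨0, hzero0⟩, fun v => Subtype.ext (hzero v.1 v.2)⟩
    rw [hcard] at hdvdp
    exact (Fact.out : p.Prime).one_lt.ne' (Nat.dvd_one.mp hdvdp)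

end CfsgLib.LocalEven.Jordan
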