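import Cfsg.Agent.Lib.LocalEven.PBasic
import Cfsg.Agent.Lib.LocalEven.Cores
import Cfsg.Agent.Lib.CharP.Coprime
import Cfsg.Prelude.Def_LocalEven
/-!
`p`-reduced normal subgroups, inheritance of characteristic `p`, stabilised series.
-/

set_option autoImplicit false

namespace CfsgLib.LocalEven

open Subgroup Cfsg

variable {L : Type*} [Group L] {p : ℕ}

/-- every element of `N` has a `p`-power power in `C` -/
def IsPMod (p : ℕ) (C N : Subgroup L) : Prop := ∀ x ∈ N, ∃ k : ℕ, x ^ p ^ k ∈ C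

theorem isPMod_iff_map {C N : Subgroup L} [C.Normal] :
    IsPMod p C N ↔ IsPGroup p (N.map (QuotientGroup.mk' C)) := by
  constructor
  · rintro h ⟨_, x, hx, rfl⟩
    obtain ⟨k, hk⟩ := h x hx
    refine ⟨k, Subtype.ext ?_⟩
    change (QuotientGroup.mk' C x) ^ p ^ k = 1
    rw [← map_pow]
    exact (QuotientGroup.eq_one_iff _).2 hk
  · intro h x hx
    obtain ⟨k, hk⟩ := h ⟨_, mem_map_of_mem _ hx⟩
    refine ⟨k, (QuotientGroup.eq_one_iff _).1 ?_⟩
    have := congrArg Subtype.val hk
    simpa using this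

theorem IsPGroup.isPMod {N : Subgroup L} (h : IsPGroup p N) (C : Subgroup L) :
    IsPMod p C N := fun x hx => by
  obtain ⟨k, hk⟩ := h ⟨x, hx⟩
  refine ⟨k, ?_⟩
  have := congrArg Subtype.val hk
  rw [coe_pow, coe_one] at this
  rw [this]
  exact one_mem _

/-- If `N` is normal and `p`-mod `C` (`C ≤ N` normal), then `N = (T ∩ N) C`. -/
theorem IsPMod.exists_sylow_mul [Finite L] [Fact p.Prime] {C N : Subgroup L} [C.Normal]
    [N.Normal] (hCN : C ≤ N) (h : IsPMod p C N) (T : Sylow p L) {x : L} (hx : x ∈ N) :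
    ∃ t ∈ (T : Subgroup L) ⊓ N, ∃ c ∈ C, x = t * c := by
  have hs : Function.Surjective (QuotientGroup.mk' C) := QuotientGroup.mk'_surjective C
  haveI : (N.map (QuotientGroup.mk' C)).Normal := Normal.map inferInstance _ hs
  have hle := (isPMod_iff_map.1 h).le_sylow_of_normal (T.mapSurjective hs)
  rw [Sylow.coe_mapSurjective] at hle
  obtain ⟨t, ht, hte⟩ := hle (mem_map_of_mem _ hx)
  obtain ⟨c, hc, rfl⟩ : ∃ c ∈ C, x = t * c :=
    ⟨t⁻¹ * x, QuotientGroup.eq.1 hte, by rw [mul_inv_cancel_left]⟩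
  exact ⟨t, ⟨ht, (mul_mem_cancel_right (hCN hc)).1 hx⟩, c, hc, rfl⟩

section PRed

variable [Finite L] [Fact p.Prime] {V : Subgroup L}

theorem pReduced_le_centralizer (hV : IsPReducedNormal p V) {N : Subgroup L} (hN : N.Normal)
    (h : IsPMod p (centralizer (V : Set L)) N) : N ≤ centralizer (V : Set L) := by
  obtain ⟨-, -, hC, hbot⟩ := hV
  have hle := le_pCore' (hN.map _ (QuotientGroup.mk'_surjective _)) (isPMod_iff_map.1 h)
  rw [hbot, le_bot_iff, Subgroup.map_eq_bot_iff, QuotientGroup.ker_mk'] at hle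
  exact hle

theorem pReduced_mk (hn : V.Normal) (he : IsElementaryAbelian p V)
    (h : ∀ N : Subgroup L, N.Normal → centralizer (V : Set L) ≤ N →
      IsPMod p (centralizer (V : Set L)) N → N ≤ centralizer (V : Set L)) :
    IsPReducedNormal p V := by
  have hC : (centralizer (V : Set L)).Normal := normal_centralizer
  refine ⟨hn, he, hC, ?_⟩
  set q := QuotientGroup.mk' (centralizer (V : Set L))
  have hs : Function.Surjective q := QuotientGroup.mk'_surjective _
  have hmap : ((pCore p _).comap q).map q = pCore p _ := map_comap_eq_self_of_surjective hs _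
  have hle := h ((pCore p _).comap q) ((pCore_normal' p _).comap q) (fun x hx => by
    rw [mem_comap, (QuotientGroup.eq_one_iff x).2 hx |> fun e => (show q x = 1 from e)]
    exact one_mem _) (isPMod_iff_map.2 (by rw [hmap]; exact pCore_isPGroup' _))
  rw [← hmap, Subgroup.map_eq_bot_iff, QuotientGroup.ker_mk']
  exact hle

theorem pReduced_bot : IsPReducedNormal p (⊥ : Subgroup L) := by
  refine pReduced_mk inferInstance ⟨inferInstance, fun a ha => ?_⟩ fun N _ _ _ x _ => ?_
  · rw [mem_bot.1 ha, one_pow]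
  · intro v hv
    rw [mem_bot.1 hv, one_mul, mul_one]

omit [Finite L] in
theorem isPGroup_elemAb (h : IsElementaryAbelian p V) : IsPGroup p V :=
  fun x => ⟨1, Subtype.ext (by rw [coe_pow, pow_one]; exact h.2 _ x.2)⟩

theorem pReduced_le_pCore (hV : IsPReducedNormal p V) : V ≤ pCore p L :=
  le_pCore' hV.1 (isPGroup_elemAb hV.2.1)

theorem pCore_le_centralizer (hV : IsPReducedNormal p V) :
    pCore p L ≤ centralizer (V : Set L) :=
  pReduced_le_centralizer hV (pCore_normal' p L) (IsPGroup.isPMod (pCore_isPGroup' L) _)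

theorem elemAb_sSup {S : Set (Subgroup L)} (hpow : ∀ A ∈ S, ∀ a ∈ A, a ^ p = 1)
    (hcomm : ∀ A ∈ S, ∀ B ∈ S, ∀ a ∈ A, ∀ b ∈ B, a * b = b * a) :
    IsElementaryAbelian p (sSup S) := by
  have hc : IsMulCommutative ↥(sSup S) := by
    rw [sSup_eq_iSup', iSup_eq_closure]
    refine isMulCommutative_closure ?_
    rintro x hx y hy
    simp only [Set.mem_iUnion] at hx hy
    obtain ⟨A, hA⟩ := hx
    obtain ⟨B, hB⟩ := hy
    exact hcomm _ A.2 _ B.2 _ hA _ hB
  refine ⟨hc, fun a ha => ?_⟩
  rw [sSup_eq_iSup'] at ha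
  have hc' : ∀ u ∈ sSup S, ∀ v ∈ sSup S, u * v = v * u := fun u hu v hv =>
    congrArg Subtype.val (hc.is_comm.comm (⟨u, hu⟩ : ↥(sSup S)) ⟨v, hv⟩)
  suffices a ∈ sSup S ∧ a ^ p = 1 from this.2
  induction ha using iSup_induction' with
  | hp i x hx => exact ⟨le_sSup i.2 hx, hpow _ i.2 x hx⟩
  | h1 => exact ⟨one_mem _, one_pow p⟩
  | hmul x y _ _ hx hy =>
    exact ⟨mul_mem hx.1 hy.1,
      by rw [(show Commute x y from hc' x hx.1 y hy.1).mul_pow, hx.2, hy.2, one_mul]⟩

theorem pReduced_sSup {S : Set (Subgroup L)} (hS : ∀ A ∈ S, IsPReducedNormal p A) :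
    IsPReducedNormal p (sSup S) := by
  refine pReduced_mk (sSup_normal _ fun A hA => (hS A hA).1)
    (elemAb_sSup (fun A hA => (hS A hA).2.1.2) fun A hA B hB a ha b hb =>
      pCore_le_centralizer (hS B hB) (pReduced_le_pCore (hS A hA) ha) b hb |>.symm)
    fun N hN _ hNm => ?_
  have key : ∀ A ∈ S, N ≤ centralizer (A : Set L) := fun A hA =>
    pReduced_le_centralizer (hS A hA) hN fun x hx => by
      obtain ⟨k, hk⟩ := hNm x hx
      exact ⟨k, centralizer_le (SetLike.coe_subset_coe.2 (le_sSup hA)) hk⟩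
  rw [le_centralizer_iff]
  exact sSup_le fun A hA => le_centralizer_iff.1 (key A hA)

/-- Normal closure of a `p`-reduced normal subgroup of an overgroup of a Sylow subgroup. -/
theorem pReduced_normalClosure_aux (T : Sylow p L) {W : Subgroup L}
    (hW : W ≤ pCore p L) (hWc : pCore p L ≤ centralizer (W : Set L))
    (hpow : ∀ w ∈ W, w ^ p = 1)
    (h : ∀ N : Subgroup L, N.Normal → centralizer (normalClosure (W : Set L) : Set L) ≤ N →
      IsPMod p (centralizer (normalClosure (W : Set L) : Set L)) N →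
        (T : Subgroup L) ⊓ N ≤ centralizer (W : Set L)) :
    IsPReducedNormal p (normalClosure (W : Set L)) := by
  haveI : (pCore p L).Normal := pCore_normal' p L
  set V := normalClosure (W : Set L) with hV
  have hVsup : V = sSup (Set.range fun g : L => cj g W) := by
    apply le_antisymm
    · have hn : (sSup (Set.range fun g : L => cj g W)).Normal := by
        refine ⟨fun x hx g => ?_⟩
        have hle : cj g (sSup (Set.range fun g : L => cj g W)) ≤
            sSup (Set.range fun g : L => cj g W) := by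
          rw [cj, map_le_iff_le_comap]
          refine sSup_le ?_
          rintro _ ⟨a, rfl⟩
          rw [← map_le_iff_le_comap]
          refine le_of_eq_of_le (cj_cj g a W) (le_sSup ⟨g * a, rfl⟩)
        exact hle ⟨x, hx, rfl⟩
      refine normalClosure_le_normal ?_
      intro w hw
      exact (le_sSup (Set.mem_range_self (f := fun g : L => cj g W) 1) :
        cj 1 W ≤ _) (by rwa [cj_one])
    · refine sSup_le ?_
      rintro _ ⟨g, rfl⟩
      rintro _ ⟨w, hw, rfl⟩
      exact normalClosure_normal.conj_mem w (subset_normalClosure hw) g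
  have hcjP : ∀ g, cj g W ≤ pCore p L := fun g => by
    rintro _ ⟨w, hw, rfl⟩
    exact (pCore_normal' p L).conj_mem w (hW hw) g
  have hcjC : ∀ g, pCore p L ≤ centralizer (cj g W : Set L) := fun g => by
    rw [← cj_centralizer]
    intro x hx
    refine mem_cj.2 (hWc ?_)
    have := (pCore_normal' p L).conj_mem x hx g⁻¹
    rwa [inv_inv] at this
  refine pReduced_mk normalClosure_normal ?_ fun N hN hCN hm => ?_
  · rw [hVsup]
    refine elemAb_sSup ?_ ?_
    · rintro _ ⟨g, rfl⟩ _ ⟨w, hw, rfl⟩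
      rw [← map_pow, hpow w hw, map_one]
    · rintro _ ⟨g, rfl⟩ _ ⟨k, rfl⟩ a ha b hb
      exact (hcjC k (hcjP g ha) b hb).symm
  · have hNW : N ≤ centralizer (W : Set L) := by
      intro x hx
      haveI : V.Normal := normalClosure_normal
      obtain ⟨t, ht, c, hc, rfl⟩ := hm.exists_sylow_mul hCN T hx
      exact mul_mem (h N hN hCN hm ht) (centralizer_le subset_normalClosure hc)
    rw [le_centralizer_iff]
    haveI := hN
    exact normalClosure_le_normal (le_centralizer_iff.1 hNW)

end PRed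

/-! ### Stabilised series -/

/-- `x ↦ [x, v]` acting on `V`. -/
theorem commute_of_series_step [Finite L] [Fact p.Prime] {Q : Subgroup L} (hQ : IsPGroup p Q) {x q : L}
    (hx : (orderOf x).Coprime p) (hd : q⁻¹ * (x * q * x⁻¹) ∈ Q)
    (hcd : x * (q⁻¹ * (x * q * x⁻¹)) = q⁻¹ * (x * q * x⁻¹) * x) : x * q = q * x := by
  have := CharP.fix_of_stab hQ hx hd hcd (mul_inv_cancel_left q (x * q * x⁻¹)).symm
  rw [inv_mul_eq_one, eq_mul_inv_iff_mul_eq] at this
  exact this.symm

/-- An element of `H` of order prime to `p` centralising `O_p(H)` is trivial, if `G` has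
characteristic `p` and `R ≤ H` is normal in `G` and contains that element. -/
theorem charP_inherit [Finite L] [Fact p.Prime]
    (hchar : centralizer (pCore p L : Set L) ≤ pCore p L) (H R : Subgroup L) (hRH : R ≤ H)
    (hR : R.Normal) (hgen : ∀ x ∈ H, (orderOf x).Coprime p → x ∈ R) :
    centralizer (pCore p ↥H : Set ↥H) ≤ pCore p ↥H := by
  haveI := pCore_normal' p ↥H
  refine le_pCore' normal_centralizer (isPGroup_of_primeOrder_trivial fun x hx => ?_)
  apply Subtype.ext
  rw [← orderOf_coe, ← orderOf_coe] at hx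
  have hxR := hgen _ x.1.2 hx
  have hsub : (R ⊓ pCore p L).subgroupOf H ≤ pCore p ↥H := by
    haveI := hR
    haveI := pCore_normal' p L
    exact le_pCore' inferInstance (((pCore_isPGroup' L).to_le inf_le_right).comap_subtype)
  have hfix : ∀ q ∈ pCore p L, ((x.1 : H) : L) * q = q * (x.1 : H) := by
    intro q hq
    have hd : q⁻¹ * ((x.1 : H) * q * ((x.1 : H) : L)⁻¹) ∈ R ⊓ pCore p L := by
      refine mem_inf.2 ⟨?_, mul_mem (inv_mem hq) ((pCore_normal' p L).conj_mem q hq _)⟩
      rw [show q⁻¹ * ((x.1 : H) * q * ((x.1 : H) : L)⁻¹)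
        = q⁻¹ * (x.1 : H) * q * ((x.1 : H) : L)⁻¹ by group]
      refine mul_mem ?_ (inv_mem hxR)
      simpa using hR.conj_mem _ hxR q⁻¹
    refine commute_of_series_step (pCore_isPGroup' (p := p) L) hx hd.2 ?_
    have := x.2 ⟨_, hRH hd.1⟩ (hsub hd)
    exact (congrArg Subtype.val this).symm
  have hmem : ((x.1 : H) : L) ∈ pCore p L := hchar fun q hq => (hfix q hq).symm
  exact Subtype.ext (eq_one_of_isPGroup_of_coprime' (pCore_isPGroup' L) hmem hx)
where
  eq_one_of_isPGroup_of_coprime' {Q : Subgroup L} (hQ : IsPGroup p Q) {y : L} (hy : y ∈ Q)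
      (hc : (orderOf y).Coprime p) : y = 1 := by
    obtain ⟨m, hm⟩ := hQ ⟨y, hy⟩
    have h3 : y ^ p ^ m = 1 := congrArg Subtype.val hm
    rw [← orderOf_eq_one_iff]
    exact Nat.eq_one_of_dvd_coprimes (hc.pow_right m) dvd_rfl (orderOf_dvd_of_pow_eq_one h3)

theorem isPGroup_of_nilpotent_action [Finite L] [Fact p.Prime] (R : Subgroup L)
    (hR : IsPGroup p R) (hC : centralizer (R : Set L) ≤ R) (A : Subgroup L)
    (hA : A ≤ normalizer (R : Set L)) (n : ℕ) (hnil : iterCommutator R A n = ⊥) :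
    IsPGroup p A := by
  have hle : ∀ k, iterCommutator R A k ≤ R := by
    intro k
    induction k with
    | zero => exact le_rfl
    | succ k ih =>
      refine commutator_le.2 fun r hr a ha => ?_
      rw [commutatorElement_def, show r * a * r⁻¹ * a⁻¹ = r * (a * r⁻¹ * a⁻¹) by group]
      exact mul_mem (ih hr) (((mem_normalizer_iff.1 (hA ha)) _).1 (inv_mem (ih hr)))
  refine isPGroup_of_primeOrder_trivial fun a ha => ?_
  rw [← orderOf_coe] at ha
  have key : ∀ m k, k + m = n → ∀ r ∈ iterCommutator R A k, (a : L) * r = r * a := by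
    intro m
    induction m with
    | zero =>
      intro k hk r hr
      obtain rfl : k = n := by omega
      rw [hnil, mem_bot] at hr
      simp [hr]
    | succ m ih =>
      intro k hk r hr
      have hd : r⁻¹ * ((a : L) * r * (a : L)⁻¹) ∈ iterCommutator R A (k + 1) := by
        have h' := commutator_mem_commutator (inv_mem hr) a.2
        rw [commutatorElement_def, inv_inv] at h'
        rwa [show r⁻¹ * ((a : L) * r * (a : L)⁻¹) = r⁻¹ * a * r * (a : L)⁻¹ by group]
      exact commute_of_series_step hR ha (hle _ hd) (ih (k + 1) (by omega) _ hd)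
  have hmem : (a : L) ∈ R := hC fun r hr => (key n 0 (by omega) r hr).symm
  exact Subtype.ext (charP_inherit.eq_one_of_isPGroup_of_coprime' hR hmem ha)

/-- `[V, x]` lies in every subnormal subgroup containing the `p'`-element `x`. -/
theorem commutator_mem_subnormal [Finite L] [Fact p.Prime] {V : Subgroup L} (hV : V.Normal)
    (hVe : IsElementaryAbelian p V) {K : Subgroup L} (hK : K.IsSubnormal) :
    ∀ x ∈ K, (orderOf x).Coprime p → ∀ v ∈ V, x * v * x⁻¹ * v⁻¹ ∈ K := by
  induction hK with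
  | top => intros; trivial
  | step H K hle _ hN ih =>
    intro x hx hcop v hv
    have hcomm : ∀ u ∈ V, ∀ w ∈ V, u * w = w * u := fun u hu w hw =>
      congrArg Subtype.val (hVe.1.is_comm.comm (⟨u, hu⟩ : V) ⟨w, hw⟩)
    let f : L → L := fun u => x * u * x⁻¹ * u⁻¹
    have hfV : ∀ u ∈ V, f u ∈ V := fun u hu => mul_mem (hV.conj_mem u hu x) (inv_mem hu)
    have hfmul : ∀ a ∈ V, ∀ b ∈ V, f (a * b) = f a * f b := by
      intro a ha b hb
      calc f (a * b) = (x * a * x⁻¹) * ((x * b * x⁻¹ * b⁻¹) * a⁻¹) := by simp only [f]; group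
        _ = (x * a * x⁻¹) * (a⁻¹ * (x * b * x⁻¹ * b⁻¹)) := by
            rw [hcomm _ (hfV b hb) _ (inv_mem ha)]
        _ = f a * f b := by simp only [f]; group
    have hinj : Set.InjOn f (f '' (V : Set L)) := by
      rintro _ ⟨a, ha, rfl⟩ _ ⟨b, hb, rfl⟩ he
      have hab : a * b⁻¹ ∈ V := mul_mem ha (inv_mem hb)
      have hfa : f (a * b⁻¹) * f b = f a := by
        rw [← hfmul _ hab _ hb, inv_mul_cancel_right]
      have h2 : f (f (a * b⁻¹)) = 1 := by
        have := hfmul _ (hfV _ hab) _ (hfV b hb)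
        rw [hfa, he] at this
        exact mul_eq_right.1 this.symm
      have hfix : x * f (a * b⁻¹) = f (a * b⁻¹) * x := by
        have : x * f (a * b⁻¹) * x⁻¹ * (f (a * b⁻¹))⁻¹ = 1 := h2
        rwa [mul_inv_eq_one, mul_inv_eq_iff_eq_mul] at this
      have h3 : x * (a * b⁻¹) * x⁻¹ = (a * b⁻¹) * f (a * b⁻¹) := by
        rw [hcomm _ hab _ (hfV _ hab)]
        simp only [f]; group
      have := CharP.fix_of_stab (isPGroup_elemAb hVe) hcop (hfV _ hab) hfix h3
      rw [← hfa, this, one_mul]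
    have hmaps : Set.MapsTo f (f '' (V : Set L)) (f '' (V : Set L)) := by
      rintro _ ⟨a, ha, rfl⟩
      exact ⟨f a, hfV a ha, rfl⟩
    obtain ⟨w, ⟨u, hu, rfl⟩, hw⟩ :=
      ((Set.toFinite (f '' (V : Set L))).injOn_iff_bijOn_of_mapsTo hmaps).1 hinj |>.surjOn
        (Set.mem_image_of_mem f hv)
    change f v ∈ H
    rw [← hw]
    have hmem : f u ∈ K := ih x (hle hx) hcop u hu
    change x * f u * x⁻¹ * (f u)⁻¹ ∈ H
    rw [show x * f u * x⁻¹ * (f u)⁻¹ = x * (f u * x⁻¹ * (f u)⁻¹) by group]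
    have hc : f u * x⁻¹ * (f u)⁻¹ ∈ H := by
      simpa [mem_subgroupOf] using
        hN.conj_mem ⟨x⁻¹, inv_mem (hle hx)⟩ (mem_subgroupOf.2 (inv_mem hx)) ⟨f u, hmem⟩
    exact mul_mem hx hc

end CfsgLib.LocalEven
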