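import Cfsg.Agent.Lib.LocalEven.Avg
import Cfsg.Agent.Lib.LocalEven.PReduced
import Cfsg.Agent.Lib.Solvable.CoprimeAction
/-!
Kieler's lemma for subnormal subgroups of groups of (local) characteristic `p`.
-/

set_option autoImplicit false

namespace CfsgLib.LocalEven

open Subgroup Cfsg

variable {G : Type*} [Group G] {p : ℕ}

/-- characteristic `p` of a subgroup, seen in the ambient group -/
def CharPIn (p : ℕ) (K : Subgroup G) : Prop :=
  K ⊓ centralizer (pCoreOf p K : Set G) ≤ pCoreOf p K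

/-- every `p`-local subgroup of `K` has characteristic `p` -/
def LocalCharPIn (p : ℕ) (K : Subgroup G) : Prop :=
  ∀ R : Subgroup G, R ≤ K → IsPGroup p R → R ≠ ⊥ → CharPIn p (K ⊓ normalizer (R : Set G))

theorem le_pCoreOf {P H : Subgroup G} (hle : P ≤ H) (hP : IsPGroup p P)
    (hn : H ≤ normalizer (P : Set G)) : P ≤ pCoreOf p H := fun x hx =>
  ⟨⟨x, hle hx⟩,
    le_pCore' ((normal_subgroupOf_iff_le_normalizer hle).2 hn) hP.comap_subtype hx, rfl⟩

theorem le_normalizer_of_le_normalizer_cj {H K : Subgroup G}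
    (h : ∀ g ∈ H, cj g K = K) : H ≤ normalizer (K : Set G) :=
  fun g hg => mem_normalizer_iff_cj.2 (h g hg)

theorem le_normalizer_inf {H A B : Subgroup G} (hA : H ≤ normalizer (A : Set G))
    (hB : H ≤ normalizer (B : Set G)) : H ≤ normalizer ((A ⊓ B : Subgroup G) : Set G) :=
  le_normalizer_of_le_normalizer_cj fun g hg => by
    rw [cj_inf, mem_normalizer_iff_cj.1 (hA hg), mem_normalizer_iff_cj.1 (hB hg)]

theorem le_normalizer_centralizer' {H A : Subgroup G} (hA : H ≤ normalizer (A : Set G)) :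
    H ≤ normalizer (centralizer (A : Set G) : Set G) :=
  le_normalizer_of_le_normalizer_cj fun g hg => by
    rw [cj_centralizer, mem_normalizer_iff_cj.1 (hA hg)]

theorem le_normalizer_normalizer {H A : Subgroup G} (hA : H ≤ normalizer (A : Set G)) :
    H ≤ normalizer (normalizer (A : Set G) : Set G) :=
  hA.trans le_normalizer

theorem le_normalizer_pCoreOf' {H A : Subgroup G} (hA : H ≤ normalizer (A : Set G)) :
    H ≤ normalizer (pCoreOf p A : Set G) :=
  le_normalizer_of_le_normalizer_cj fun g hg => by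
    rw [pCoreOf_cj, mem_normalizer_iff_cj.1 (hA hg)]

theorem le_normalizer_omegaZ {H A : Subgroup G} (hA : H ≤ normalizer (A : Set G)) :
    H ≤ normalizer (omegaZ p A : Set G) :=
  le_normalizer_of_le_normalizer_cj fun g hg => by
    rw [cj_omegaZ, mem_normalizer_iff_cj.1 (hA hg)]

theorem omegaZ_spec {T : Subgroup G} {x : G} (hx : x ∈ omegaZ p T) :
    x ∈ T ∧ x ∈ centralizer (T : Set G) ∧ x ^ p = 1 := by
  induction hx using closure_induction with
  | mem y hy => exact ⟨hy.1.1, hy.1.2, hy.2⟩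
  | one => exact ⟨one_mem _, one_mem _, one_pow p⟩
  | mul a b _ _ ha hb =>
    exact ⟨mul_mem ha.1 hb.1, mul_mem ha.2.1 hb.2.1, by
      rw [(show Commute a b from hb.2.1 a ha.1).mul_pow, ha.2.2, hb.2.2, one_mul]⟩
  | inv a _ ha =>
    exact ⟨inv_mem ha.1, inv_mem ha.2.1, by rw [inv_pow, ha.2.2, inv_one]⟩

theorem mem_omegaZ {T : Subgroup G} {x : G} (h1 : x ∈ T) (h2 : x ∈ centralizer (T : Set G))
    (h3 : x ^ p = 1) : x ∈ omegaZ p T :=
  subset_closure ⟨⟨h1, h2⟩, h3⟩

theorem omegaZ_le (T : Subgroup G) : omegaZ p T ≤ T := fun _ hx => (omegaZ_spec hx).1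

theorem le_centralizer_omegaZ (T : Subgroup G) : T ≤ centralizer (omegaZ p T : Set G) :=
  le_centralizer_iff.1 fun _ hx => (omegaZ_spec hx).2.1

theorem omegaZ_isMulCommutative (T : Subgroup G) : IsMulCommutative ↥(omegaZ p T) :=
  ⟨⟨fun a b => Subtype.ext ((omegaZ_spec b.2).2.1 a (omegaZ_spec a.2).1)⟩⟩

theorem fixed_of_centralizer {x v : G} {A : Subgroup G} (hx : x ∈ A)
    (hv : v ∈ centralizer (A : Set G)) : x * v * x⁻¹ = v := by
  rw [hv x hx, mul_inv_cancel_right]

variable [Finite G] [Fact p.Prime]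

theorem IsSylOf.inf_normal {T K L : Subgroup G} (hT : IsSylOf p T K) (hLK : L ≤ K)
    (hn : K ≤ normalizer (L : Set G)) : IsSylOf p (T ⊓ L) L := by
  obtain ⟨U, hU, hTU⟩ := exists_isSylOf_ge (p := p) (hT.isPGroup.to_le inf_le_left)
    (inf_le_right : T ⊓ L ≤ L)
  obtain ⟨S, hS, hUS⟩ := exists_isSylOf_ge (p := p) hU.isPGroup (hU.1.trans hLK)
  obtain ⟨g, hg, hgS⟩ := hS.exists_conj hT
  have hgU : LocalEven.cj g U ≤ T ⊓ L :=
    le_inf (hgS ▸ cj_le_cj hUS)
      ((cj_le_cj hU.1).trans (mem_normalizer_iff_cj.1 (hn hg)).le)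
  have : T ⊓ L = U := Subgroup.eq_of_le_of_card_ge hTU (by
    rw [← card_cj g U]
    exact Subgroup.card_le_of_le hgU)
  exact this.symm ▸ hU

theorem IsSylOf.of_le {T K C : Subgroup G} (hT : IsSylOf p T K) (hTC : T ≤ C) (hCK : C ≤ K) :
    IsSylOf p T C := by
  obtain ⟨U, hU, hTU⟩ := exists_isSylOf_ge (p := p) hT.isPGroup hTC
  rwa [← hT.of_isPGroup_ge hU.isPGroup hTU (hU.1.trans hCK)]

theorem CharPIn.normal {K L : Subgroup G} (hK : CharPIn p K) (hLK : L ≤ K)
    (hn : K ≤ normalizer (L : Set G)) : CharPIn p L := by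
  have hQ : pCoreOf p K ⊓ L ≤ pCoreOf p L :=
    le_pCoreOf inf_le_right ((pCoreOf_isPGroup K).to_le inf_le_left)
      (hLK.trans (le_normalizer_inf (le_normalizer_pCoreOf K) hn))
  refine le_pCoreOf inf_le_left ?_ (le_normalizer_inf le_normalizer
    (le_normalizer_centralizer' (le_normalizer_pCoreOf L)))
  refine isPGroup_of_primeOrder_trivial fun x hx => ?_
  rw [← orderOf_coe] at hx
  have hfix : ∀ q ∈ pCoreOf p K, (x : G) * q = q * x := fun q hq => by
    have hd : q⁻¹ * ((x : G) * q * (x : G)⁻¹) ∈ pCoreOf p K ⊓ L := by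
      refine mem_inf.2 ⟨mul_mem (inv_mem hq)
        ((mem_normalizer_iff.1 (le_normalizer_pCoreOf K (hLK x.2.1)) q).1 hq), ?_⟩
      rw [show q⁻¹ * ((x : G) * q * (x : G)⁻¹) = q⁻¹ * x * q * (x : G)⁻¹ by group]
      refine mul_mem ?_ (inv_mem x.2.1)
      simpa using (mem_normalizer_iff.1 (hn (inv_mem (pCoreOf_le_self K hq))) (x : G)).1 x.2.1
    exact commute_of_series_step (pCoreOf_isPGroup K) hx hd.1 (x.2.2 _ (hQ hd)).symm
  have hmem : (x : G) ∈ pCoreOf p K := hK ⟨hLK x.2.1, fun q hq => (hfix q hq).symm⟩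
  exact Subtype.ext (charP_inherit.eq_one_of_isPGroup_of_coprime' (pCoreOf_isPGroup K) hmem hx)

theorem LocalCharPIn.normal {K L : Subgroup G} (hK : LocalCharPIn p K) (hLK : L ≤ K)
    (hn : K ≤ normalizer (L : Set G)) : LocalCharPIn p L := fun R hR hRp hne =>
  (hK R (hR.trans hLK) hRp hne).normal (inf_le_inf_right _ hLK)
    (le_normalizer_inf (inf_le_left.trans hn) (inf_le_right.trans le_normalizer))

theorem omegaZ_le_of_charP {T L : Subgroup G} (hL : CharPIn p L) (hT : IsSylOf p T L) :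
    omegaZ p T ≤ omegaZ p (pCoreOf p L) := fun _ hx => by
  obtain ⟨h1, h2, h3⟩ := omegaZ_spec hx
  have hc := centralizer_le (SetLike.coe_subset_coe.2 hT.pCoreOf_le) h2
  exact mem_omegaZ (hL ⟨hT.1 h1, hc⟩) hc h3

theorem pow_mem_imp {A : Subgroup G} {x : G} {m : ℕ} (hx : x ^ p = 1) (hm : m.Coprime p)
    (h : x ^ m ∈ A) : x ∈ A := by
  have hco : (orderOf x).Coprime m :=
    (Nat.Coprime.coprime_dvd_right (orderOf_dvd_of_pow_eq_one hx) hm).symm
  obtain ⟨k, hk⟩ := exists_pow_eq_self_of_coprime hco.symm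
  rw [← hk]
  exact pow_mem h k

theorem IsSylOf.relIndex_coprime {T C : Subgroup G} (hT : IsSylOf p T C) :
    (T.relIndex C).Coprime p := by
  obtain ⟨S, hS⟩ := hT.exists_sylow
  have : T.subgroupOf C = S := by
    rw [hS, subgroupOf, comap_map_eq_self_of_injective C.subtype_injective]
  rw [relIndex, this, Nat.coprime_comm, Nat.Prime.coprime_iff_not_dvd Fact.out]
  exact S.not_dvd_index

/-- Kieler's lemma, normal case. -/
theorem kieler_normal {K L T : Subgroup G} (hK : CharPIn p K) (hLK : L ≤ K)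
    (hn : K ≤ normalizer (L : Set G)) (hT : IsSylOf p T K) :
    L ⊓ centralizer (omegaZ p T : Set G) = L ⊓ centralizer (omegaZ p (T ⊓ L) : Set G) := by
  have hL : CharPIn p L := hK.normal hLK hn
  have hS : IsSylOf p (T ⊓ L) L := hT.inf_normal hLK hn
  have hTn : T ≤ normalizer ((T ⊓ L : Subgroup G) : Set G) :=
    le_normalizer_inf le_normalizer (hT.1.trans hn)
  have hVn : K ≤ normalizer (omegaZ p (pCoreOf p K) : Set G) :=
    le_normalizer_omegaZ (le_normalizer_pCoreOf K)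
  have hVLn : K ≤ normalizer (omegaZ p (pCoreOf p L) : Set G) :=
    le_normalizer_omegaZ (le_normalizer_pCoreOf' hn)
  have hZT := le_centralizer_omegaZ (p := p) T
  have hWS := le_centralizer_omegaZ (p := p) (T ⊓ L)
  apply le_antisymm
  · -- `C_L(Z)` centralises `W`
    set C := L ⊓ centralizer (omegaZ p T : Set G) with hC
    have hSC : T ⊓ L ≤ C := le_inf inf_le_right (inf_le_left.trans hZT)
    have hCK : C ≤ K := inf_le_left.trans hLK
    obtain ⟨N, hN1, hN2, hN3, -, hN5⟩ := exists_avg (omegaZ p (pCoreOf p L)) C (T ⊓ L)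
      (omegaZ_isMulCommutative _) (hCK.trans hVLn) hSC
    set W := omegaZ p (T ⊓ L) with hW
    have hWV : W ≤ omegaZ p (pCoreOf p L) := omegaZ_le_of_charP hL hS
    have hfix : ∀ w ∈ W, FixedIn (omegaZ p (pCoreOf p L)) (T ⊓ L) w := fun w hw =>
      ⟨hWV hw, fun s hs => fixed_of_centralizer hs (omegaZ_spec hw).2.1⟩
    set m := (T ⊓ L).relIndex C
    have hm : m.Coprime p := (hS.of_le hSC inf_le_left).relIndex_coprime
    have hNW : ∀ w ∈ W, N w ∈ W := fun w hw => by
      obtain ⟨h1, h2⟩ := hN1 w (hfix w hw)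
      refine mem_omegaZ (hS.pCoreOf_le (omegaZ_le _ h1)) (fun s hs => ?_) (omegaZ_spec h1).2.2
      exact mul_inv_eq_iff_eq_mul.1 (h2 s (hSC hs))
    have hN1' : N 1 = 1 := by
      rw [hN3 1 ⟨one_mem _, fun c _ => by group⟩, one_pow]
    let M : Subgroup G :=
      { carrier := {w | w ∈ W ∧ N w = 1}
        one_mem' := ⟨one_mem _, hN1'⟩
        mul_mem' := fun {a b} ha hb => ⟨mul_mem ha.1 hb.1, by
          rw [hN2 a b (hfix a ha.1) (hfix b hb.1), ha.2, hb.2, one_mul]⟩
        inv_mem' := fun {a} ha => ⟨inv_mem ha.1, by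
          have := hN2 a a⁻¹ (hfix a ha.1) (hfix _ (inv_mem ha.1))
          rwa [mul_inv_cancel, hN1', ha.2, one_mul, eq_comm] at this⟩ }
    have hMT : M ≤ T := fun w hw => (omegaZ_le _ hw.1).1
    have hTC : T ≤ normalizer (C : Set G) :=
      le_normalizer_inf (hT.1.trans hn) (le_normalizer_centralizer' (le_normalizer_omegaZ le_normalizer))
    have hMn : T ≤ normalizer (M : Set G) := by
      have key : ∀ t ∈ T, ∀ w ∈ M, t * w * t⁻¹ ∈ M := fun t ht w hw => by
        refine ⟨(mem_normalizer_iff.1 (le_normalizer_omegaZ hTn ht) w).1 hw.1, ?_⟩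
        rw [hN5 w t (hfix w hw.1) (hVLn (hT.1 ht)) (hTC ht) (hTn ht), hw.2]
        group
      intro t ht
      rw [mem_normalizer_iff]
      refine fun w => ⟨key t ht w, fun h => ?_⟩
      have := key t⁻¹ (inv_mem ht) _ h
      rwa [show t⁻¹ * (t * w * t⁻¹) * t⁻¹⁻¹ = w by group] at this
    have hMbot : M = ⊥ := by
      by_contra hne
      haveI := (normal_subgroupOf_iff_le_normalizer hMT).2 hMn
      obtain ⟨z, ⟨hz, hzc⟩, hz1⟩ := Solvable.exists_ne_one_mem_inf_center_of_normal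
        hT.isPGroup (N := M.subgroupOf T) (fun h => hne (by
          rw [subgroupOf_eq_bot, disjoint_iff, inf_eq_left.2 hMT] at h
          exact h))
      apply hz1
      obtain ⟨hzW, hzN⟩ : (z : G) ∈ W ∧ N z = 1 := hz
      have hzZ : (z : G) ∈ omegaZ p T :=
        mem_omegaZ z.2 (fun t ht => congrArg Subtype.val (mem_center_iff.1 hzc ⟨t, ht⟩))
          (omegaZ_spec hzW).2.2
      have hzfix : FixedIn (omegaZ p (pCoreOf p L)) C (z : G) := ⟨hWV hzW, fun c hc => by
        rw [← hc.2 _ hzZ, mul_inv_cancel_right]⟩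
      have := hN3 _ hzfix
      rw [hzN] at this
      exact Subtype.ext (mem_bot.1 (pow_mem_imp (A := ⊥) (omegaZ_spec hzW).2.2 hm
        (by rw [← this]; exact one_mem _)))
    refine le_inf inf_le_left fun c hc w hw => ?_
    have hu : w ^ m * (N w)⁻¹ ∈ M := by
      refine ⟨mul_mem (pow_mem hw m) (inv_mem (hNW w hw)), ?_⟩
      have hpw : ∀ k : ℕ, N (w ^ k) = N w ^ k := by
        intro k
        induction k with
        | zero => rw [pow_zero, hN1', pow_zero]
        | succ k ih => rw [pow_succ, hN2 _ _ (hfix _ (pow_mem hw k)) (hfix w hw), ih, pow_succ]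
      have h2 := hN2 (w ^ m * (N w)⁻¹) (N w)
        (hfix _ (mul_mem (pow_mem hw m) (inv_mem (hNW w hw)))) (hfix _ (hNW w hw))
      rw [inv_mul_cancel_right, hpw, hN3 _ (hN1 w (hfix w hw))] at h2
      exact mul_eq_right.1 h2.symm
    rw [hMbot, mem_bot, mul_inv_eq_one] at hu
    have hfx : w ^ m ∈ centralizer (C : Set G) := fun c' hc' => by
      rw [hu]; exact mul_inv_eq_iff_eq_mul.1 ((hN1 w (hfix w hw)).2 c' hc')
    exact (pow_mem_imp (omegaZ_spec hw).2.2 hm hfx c hc).symm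
  · -- `C_L(W)` centralises `Z`
    set C := L ⊓ centralizer (omegaZ p (T ⊓ L) : Set G) with hC
    have hSC : T ⊓ L ≤ C := le_inf inf_le_right hWS
    have hCK : C ≤ K := inf_le_left.trans hLK
    obtain ⟨N, hN1, -, -, hN4, -⟩ := exists_avg (omegaZ p (pCoreOf p K)) C (T ⊓ L)
      (omegaZ_isMulCommutative _) (hCK.trans hVn) hSC
    set m := (T ⊓ L).relIndex C
    have hm : m.Coprime p := (hS.of_le hSC inf_le_left).relIndex_coprime
    refine le_inf inf_le_left fun c hc z hz => ?_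
    obtain ⟨hz1, hz2, hz3⟩ := omegaZ_spec hz
    have hzfix : FixedIn (omegaZ p (pCoreOf p K)) (T ⊓ L) z :=
      ⟨omegaZ_le_of_charP hK hT hz, fun s hs => fixed_of_centralizer hs.1 hz2⟩
    have hl := hN4 z (omegaZ p (pCoreOf p K) ⊓ L) hzfix fun d hd => by
      refine Subgroup.mem_inf.2 ⟨mul_mem ((mem_normalizer_iff.1 (hVn (hCK hd)) z).1 hzfix.1) (inv_mem hzfix.1), ?_⟩
      rw [show d * z * d⁻¹ * z⁻¹ = d * (z * d⁻¹ * z⁻¹) by group]
      exact mul_mem hd.1 ((mem_normalizer_iff.1 (hn (hT.1 hz1)) d⁻¹).1 (inv_mem hd.1))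
    obtain ⟨hNz1, hNz2⟩ := hN1 z hzfix
    have hlW : N z * (z ^ m)⁻¹ ∈ omegaZ p (T ⊓ L) := by
      refine mem_omegaZ ⟨hT.pCoreOf_le (omegaZ_le _ hl.1), hl.2⟩ ?_ (omegaZ_spec hl.1).2.2
      refine mul_mem (fun s hs => mul_inv_eq_iff_eq_mul.1 (hNz2 s (hSC hs))) (inv_mem (pow_mem ?_ m))
      exact centralizer_le (SetLike.coe_subset_coe.2 inf_le_left) hz2
    have hfx : z ^ m ∈ centralizer (C : Set G) := by
      have h1 : N z * (z ^ m)⁻¹ ∈ centralizer (C : Set G) := fun c' hc' => (hc'.2 _ hlW).symm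
      have h2 : N z ∈ centralizer (C : Set G) := fun c' hc' =>
        mul_inv_eq_iff_eq_mul.1 (hNz2 c' hc')
      have := mul_mem (inv_mem h1) h2
      simpa using this
    exact (pow_mem_imp hz3 hm hfx c hc).symm

/-- Kieler's lemma, normal step in a group of local characteristic `p`. -/
theorem kieler_local_step {K L T : Subgroup G} (hK : LocalCharPIn p K) (hLK : L ≤ K)
    (hn : K ≤ normalizer (L : Set G)) (hT : IsSylOf p T K) (hne : T ⊓ L ≠ ⊥) :
    L ⊓ centralizer (omegaZ p T : Set G) = L ⊓ centralizer (omegaZ p (T ⊓ L) : Set G) := by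
  have hTne : T ≠ ⊥ := fun h => hne (by rw [h, bot_inf_eq])
  set Z := omegaZ p T
  set W := omegaZ p (T ⊓ L)
  have hZne : Z ≠ ⊥ := by
    intro h
    have hb := omegaOne_eq_bot (hT.isPGroup.to_le inf_le_left) h
    haveI : Nontrivial T := (Subgroup.nontrivial_iff_ne_bot T).2 hTne
    have hc : Nontrivial (center T) := hT.isPGroup.center_nontrivial
    obtain ⟨⟨x, hx⟩, hx1⟩ := exists_ne (1 : center T)
    apply hx1
    have hmem : (x : G) ∈ T ⊓ centralizer (T : Set G) :=
      ⟨x.2, fun t ht => congrArg Subtype.val (mem_center_iff.1 hx ⟨t, ht⟩)⟩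
    rw [hb, mem_bot] at hmem
    exact Subtype.ext (Subtype.ext hmem)
  have hWne : W ≠ ⊥ := by
    intro h
    have hb := omegaOne_eq_bot (hT.isPGroup.to_le (inf_le_left.trans inf_le_left)) h
    haveI : Nontrivial ↥(T ⊓ L) := (Subgroup.nontrivial_iff_ne_bot _).2 hne
    have hc : Nontrivial (center ↥(T ⊓ L)) := (hT.isPGroup.to_le inf_le_left).center_nontrivial
    obtain ⟨⟨x, hx⟩, hx1⟩ := exists_ne (1 : center ↥(T ⊓ L))
    apply hx1
    have hmem : (x : G) ∈ (T ⊓ L) ⊓ centralizer ((T ⊓ L : Subgroup G) : Set G) :=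
      ⟨x.2, fun t ht => congrArg Subtype.val (mem_center_iff.1 hx ⟨t, ht⟩)⟩
    rw [hb, mem_bot] at hmem
    exact Subtype.ext (Subtype.ext hmem)
  have hZK : Z ≤ K := (omegaZ_le T).trans hT.1
  apply le_antisymm
  · rintro x ⟨hxL, hxZ⟩
    set K₀ := K ⊓ centralizer (Z : Set G) with hK₀
    have hK0 : CharPIn p K₀ :=
      (hK Z hZK (hT.isPGroup.to_le (omegaZ_le T)) hZne).normal
        (inf_le_inf_left K (centralizer_le_normalizer _))
        (le_normalizer_inf (inf_le_left.trans le_normalizer)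
          (le_normalizer_centralizer' inf_le_right))
    have hTK0 : T ≤ K₀ := le_inf hT.1 (le_centralizer_omegaZ T)
    have := kieler_normal (L := L ⊓ K₀) hK0 inf_le_right
      (le_normalizer_inf (inf_le_left.trans hn) le_normalizer) (hT.of_le hTK0 inf_le_left)
    rw [← inf_assoc T, inf_eq_left.2 (inf_le_left.trans hTK0 : T ⊓ L ≤ K₀)] at this
    exact ⟨hxL, (this.le ⟨⟨hxL, hLK hxL, hxZ⟩, hxZ⟩).2⟩
  · rintro x ⟨hxL, hxW⟩
    have hTW : T ≤ normalizer (W : Set G) :=
      le_normalizer_omegaZ (le_normalizer_inf le_normalizer (hT.1.trans hn))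
    set K₁ := K ⊓ normalizer (W : Set G) with hK₁
    have hK1 : CharPIn p K₁ := hK W (((omegaZ_le _).trans inf_le_left).trans hT.1)
      (hT.isPGroup.to_le ((omegaZ_le _).trans inf_le_left)) hWne
    have hTK1 : T ≤ K₁ := le_inf hT.1 hTW
    have := kieler_normal (L := L ⊓ K₁) hK1 inf_le_right
      (le_normalizer_inf (inf_le_left.trans hn) le_normalizer) (hT.of_le hTK1 inf_le_left)
    rw [← inf_assoc T, inf_eq_left.2 (inf_le_left.trans hTK1 : T ⊓ L ≤ K₁)] at this
    exact ⟨hxL, (this.ge ⟨⟨hxL, hLK hxL, centralizer_le_normalizer _ hxW⟩, hxW⟩).2⟩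

theorem isSylOf_top (T : Sylow p G) : IsSylOf p (T : Subgroup G) ⊤ :=
  ⟨le_top, by rw [Subgroup.card_top]; exact T.card_eq_multiplicity⟩

theorem charPIn_top (h : centralizer (pCore p G : Set G) ≤ pCore p G) :
    CharPIn p (⊤ : Subgroup G) := by
  have : pCoreOf p (⊤ : Subgroup G) = pCore p G :=
    pCore_map_equiv' (p := p) (Subgroup.topEquiv : (⊤ : Subgroup G) ≃* G)
  rw [CharPIn, this, top_inf_eq]
  exact h

theorem localCharPIn_top (h : IsOfLocalCharacteristic p G) : LocalCharPIn p (⊤ : Subgroup G) := by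
  intro R _ hRp hne
  rw [top_inf_eq]
  exact centralizer_pCoreOf_le (h.2 R hRp hne)

/-- Kieler's lemma. -/
theorem kieler (hG : centralizer (pCore p G : Set G) ≤ pCore p G) (T : Sylow p G) {L : Subgroup G}
    (hL : L.IsSubnormal) :
    CharPIn p L ∧ IsSylOf p ((T : Subgroup G) ⊓ L) L ∧
      L ⊓ centralizer (omegaZ p (T : Subgroup G) : Set G) =
        L ⊓ centralizer (omegaZ p ((T : Subgroup G) ⊓ L) : Set G) := by
  induction hL with
  | top =>
    rw [inf_top_eq]
    exact ⟨charPIn_top hG, isSylOf_top T, rfl⟩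
  | step H K hle _ hN ih =>
    obtain ⟨h1, h2, h3⟩ := ih
    have hn := (normal_subgroupOf_iff_le_normalizer hle).1 hN
    have h := kieler_normal h1 hle hn h2
    have h' := h2.inf_normal hle hn
    rw [inf_assoc, inf_eq_right.2 hle] at h h'
    refine ⟨h1.normal hle hn, h', ?_⟩
    rw [← h, ← inf_eq_left.2 hle, inf_assoc, inf_assoc, h3]

/-- Kieler's lemma in a group of local characteristic `p`. -/
theorem kieler_local (hG : IsOfLocalCharacteristic p G) (T : Sylow p G) {L : Subgroup G}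
    (hL : L.IsSubnormal) :
    LocalCharPIn p L ∧ IsSylOf p ((T : Subgroup G) ⊓ L) L ∧
      ((T : Subgroup G) ⊓ L ≠ ⊥ → L ⊓ centralizer (omegaZ p (T : Subgroup G) : Set G) =
        L ⊓ centralizer (omegaZ p ((T : Subgroup G) ⊓ L) : Set G)) := by
  induction hL with
  | top =>
    rw [inf_top_eq]
    exact ⟨localCharPIn_top hG, isSylOf_top T, fun _ => rfl⟩
  | step H K hle _ hN ih =>
    obtain ⟨h1, h2, h3⟩ := ih
    have hn := (normal_subgroupOf_iff_le_normalizer hle).1 hN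
    have h' := h2.inf_normal hle hn
    rw [inf_assoc, inf_eq_right.2 hle] at h'
    refine ⟨h1.normal hle hn, h', fun hne => ?_⟩
    have hK : (T : Subgroup G) ⊓ K ≠ ⊥ := fun hb => hne (eq_bot_iff.2
      (hb ▸ inf_le_inf_left _ hle))
    have h := kieler_local_step h1 hle hn h2 (by rwa [inf_assoc, inf_eq_right.2 hle])
    rw [inf_assoc, inf_eq_right.2 hle] at h
    rw [← h, ← inf_eq_left.2 hle, inf_assoc, inf_assoc, h3 hK]

end CfsgLib.LocalEven
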