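import Mathlib.GroupTheory.Transfer
import Mathlib.GroupTheory.SpecificGroups.Cyclic
import Mathlib.Order.Atoms

/-!
A transfer criterion for a chain `H < M < G` of maximal subgroups in which `H` is extremely closed.
-/

set_option autoImplicit false

namespace CfsgLib.LocalEven

variable {G : Type*} [Group G]

theorem conj_map_eq_iff_mem_normalizer [Finite G] {H : Subgroup G} {g : G} :
    H.map (MulAut.conj g).toMonoidHom = H ↔ g ∈ Subgroup.normalizer (H : Set G) := by
  rw [Subgroup.mem_normalizer_iff]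
  refine ⟨fun h y => ⟨fun hy => h.le (Subgroup.mem_map_of_mem _ hy), fun hy => ?_⟩, fun h => ?_⟩
  · rw [← h] at hy
    obtain ⟨z, hz, hzy⟩ := hy
    rwa [← (MulAut.conj g).injective hzy]
  · refine Subgroup.eq_of_le_of_card_ge ?_ (Subgroup.card_map_of_injective (MulEquiv.injective _)).ge
    rintro _ ⟨y, hy, rfl⟩
    exact (h y).mp hy

/-- Any subgroup between a maximal subgroup of `M` and `M` is one of the two. -/
theorem eq_or_eq_of_coatom_between {H M K : Subgroup G} (hHM : H ≤ M)
    (hmax : IsCoatom (H.subgroupOf M)) (h1 : H ≤ K) (h2 : K ≤ M) : K = H ∨ K = M := by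
  rcases eq_or_lt_of_le (Subgroup.subgroupOf_mono M h1) with h | h
  · left
    rw [← Subgroup.map_subgroupOf_eq_of_le h2, ← h, Subgroup.map_subgroupOf_eq_of_le hHM]
  · right
    exact le_antisymm h2 (Subgroup.subgroupOf_eq_top.mp (hmax.2 _ h))

theorem normalClosure_inf_eq [Finite G] {H M : Subgroup G} (hHM : H ≤ M)
    (hcl : ∀ g : G, (H ⊔ H.map (MulAut.conj g).toMonoidHom) ⊓ M = H)
    (hmaxH : IsCoatom (H.subgroupOf M)) (hmaxM : IsCoatom M) :
    Subgroup.normalClosure (H : Set G) ⊓ M = H := by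
  have hnorm : M ≤ Subgroup.normalizer (H : Set G) := by
    intro m hm
    rw [← conj_map_eq_iff_mem_normalizer]
    refine Subgroup.eq_of_le_of_card_ge ?_ (Subgroup.card_map_of_injective (MulEquiv.injective _)).ge
    refine le_trans (le_inf le_sup_right ?_) (hcl m).le
    rintro _ ⟨y, hy, rfl⟩
    exact mul_mem (mul_mem hm (hHM hy)) (inv_mem hm)
  have hHne : H ≠ M := fun h => hmaxH.1 (by rw [h, Subgroup.subgroupOf_self])
  -- it is enough to find one normal subgroup containing `H` but not `M`
  suffices hK : ∃ K : Subgroup G, K.Normal ∧ H ≤ K ∧ ¬ M ≤ K by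
    obtain ⟨K, hKn, hHK, hMK⟩ := hK
    refine (eq_or_eq_of_coatom_between hHM hmaxH (le_inf Subgroup.le_normalClosure hHM)
      inf_le_right).resolve_right fun h => hMK ?_
    exact (inf_eq_right.mp h).trans (Subgroup.normalClosure_le_normal hHK)
  by_cases hHn : H.Normal
  · exact ⟨H, hHn, le_rfl, fun h => hHne (le_antisymm hHM h)⟩
  have hN : Subgroup.normalizer (H : Set G) = M :=
    ((hmaxM.le_iff_eq (fun h => hHn (Subgroup.normalizer_eq_top_iff.mp h))).mp hnorm)
  by_cases hfus : ∃ g : G, g ∉ M ∧ ∃ m ∈ M, m ∉ H ∧ g⁻¹ * m * g ∈ M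
  · obtain ⟨g, hg, m, hm, hmH, hmg⟩ := hfus
    set K := H ⊔ H.map (MulAut.conj g).toMonoidHom with hK
    have hmK : m ∈ Subgroup.normalizer (K : Set G) := by
      have h1 : m ∈ Subgroup.normalizer ((H.map (MulAut.conj g).toMonoidHom : Subgroup G) : Set G) :=
        Subgroup.le_normalizer_map _ ⟨g⁻¹ * m * g, hnorm hmg, by simp [mul_assoc]⟩
      rw [← conj_map_eq_iff_mem_normalizer, hK, Subgroup.map_sup,
        conj_map_eq_iff_mem_normalizer.mpr (hnorm hm), conj_map_eq_iff_mem_normalizer.mpr h1]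
    set L := K ⊔ Subgroup.zpowers m with hL
    have hHL : H ≤ L := le_sup_left.trans le_sup_left
    have hmL : m ∈ L := (le_sup_right : _ ≤ L) (Subgroup.mem_zpowers m)
    have hML : M ≤ L := by
      refine inf_eq_right.mp ((eq_or_eq_of_coatom_between hHM hmaxH (le_inf hHL hHM)
        inf_le_right).resolve_left fun h => hmH ?_)
      rw [← h]
      exact ⟨hmL, hm⟩
    have hLtop : L = ⊤ := by
      refine hmaxM.2 L (lt_of_le_of_ne hML fun h => hg ?_)
      rw [← hN, ← conj_map_eq_iff_mem_normalizer]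
      refine Subgroup.eq_of_le_of_card_ge ?_
        (Subgroup.card_map_of_injective (MulEquiv.injective _)).ge
      refine le_trans (le_inf le_sup_right ?_) (hcl g).le
      rw [h]
      exact le_sup_right.trans (le_sup_left (a := K))
    refine ⟨K, ?_, le_sup_left, fun h => hHne ?_⟩
    · rw [← Subgroup.normalizer_eq_top_iff, eq_top_iff, ← hLtop]
      exact sup_le Subgroup.le_normalizer (Subgroup.zpowers_le.mpr hmK)
    · rw [← hcl g, inf_eq_right.mpr h]
  -- transfer to the cyclic quotient of `M` by `H`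
  push Not at hfus
  have hHn' : (H.subgroupOf M).Normal :=
    (Subgroup.normal_subgroupOf_iff_le_normalizer hHM).mpr hnorm
  have hsimple : ∀ a : M ⧸ H.subgroupOf M, a ≠ 1 → Subgroup.zpowers a = ⊤ := by
    intro a ha
    have hcomap : (Subgroup.zpowers a).comap (QuotientGroup.mk' (H.subgroupOf M)) = ⊤ := by
      refine hmaxH.2 _ (lt_of_le_of_ne ?_ fun h => ha ?_)
      · exact le_trans (le_of_eq (QuotientGroup.ker_mk' _).symm) (MonoidHom.ker_le_comap _ _)
      · obtain ⟨b, rfl⟩ := QuotientGroup.mk_surjective a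
        rw [QuotientGroup.eq_one_iff, h]
        exact Subgroup.mem_zpowers (b : M ⧸ H.subgroupOf M)
    rw [← Subgroup.map_comap_eq_self_of_surjective (QuotientGroup.mk'_surjective _)
      (Subgroup.zpowers a), hcomap, Subgroup.map_top_of_surjective _ (QuotientGroup.mk'_surjective _)]
  have hcomm : ∀ a b : M ⧸ H.subgroupOf M, a * b = b * a := by
    intro a b
    by_cases ha : a = 1
    · simp [ha]
    obtain ⟨j, rfl⟩ := Subgroup.mem_zpowers_iff.mp
      ((hsimple a ha).symm ▸ Subgroup.mem_top b : b ∈ Subgroup.zpowers a)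
    exact (Commute.self_zpow a j).eq
  let iA : CommGroup (M ⧸ H.subgroupOf M) :=
    { (inferInstance : Group (M ⧸ H.subgroupOf M)) with mul_comm := hcomm }
  let φ : M →* M ⧸ H.subgroupOf M := QuotientGroup.mk' (H.subgroupOf M)
  classical
  let iQ : Fintype (G ⧸ M) := Fintype.ofFinite _
  set V : G →* M ⧸ H.subgroupOf M := MonoidHom.transfer φ with hV
  refine ⟨V.ker, inferInstance, fun h hh => ?_, fun hle => ?_⟩
  · let iOrb : Fintype (Quotient (MulAction.orbitRel (Subgroup.zpowers h) (G ⧸ M))) :=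
      Fintype.ofFinite _
    rw [MonoidHom.mem_ker, hV, MonoidHom.transfer_eq_prod_quotient_orbitRel_zpowers_quot]
    refine Finset.prod_eq_one fun q _ => ?_
    refine (QuotientGroup.eq_one_iff _).mpr (Subgroup.mem_subgroupOf.mpr ((hcl q.out.out⁻¹).le ⟨?_,
      QuotientGroup.out_conj_pow_minimalPeriod_mem M h q.out⟩))
    refine (le_sup_right : _ ≤ H ⊔ H.map (MulAut.conj q.out.out⁻¹).toMonoidHom)
      ⟨h ^ Function.minimalPeriod (h • ·) q.out, pow_mem hh _, by simp [mul_assoc]⟩
  · obtain ⟨m, hm, hmH⟩ := SetLike.exists_of_lt (lt_of_le_of_ne hHM hHne)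
    let iOrb : Fintype (Quotient (MulAction.orbitRel (Subgroup.zpowers m) (G ⧸ M))) :=
      Fintype.ofFinite _
    have hone := hle hm
    rw [MonoidHom.mem_ker, hV, MonoidHom.transfer_eq_prod_quotient_orbitRel_zpowers_quot] at hone
    set q₀ : Quotient (MulAction.orbitRel (Subgroup.zpowers m) (G ⧸ M)) :=
      Quotient.mk'' ((1 : G) : G ⧸ M) with hq₀
    have hfix : m • ((1 : G) : G ⧸ M) = ((1 : G) : G ⧸ M) := by
      rw [MulAction.Quotient.smul_mk, smul_eq_mul, mul_one, QuotientGroup.eq]
      simpa using hm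
    have hout : ∀ q : Quotient (MulAction.orbitRel (Subgroup.zpowers m) (G ⧸ M)),
        q.out = ((1 : G) : G ⧸ M) ↔ q = q₀ := by
      intro q
      refine ⟨fun h => by rw [← Quotient.out_eq' q, h], fun h => ?_⟩
      have h1 : (Quotient.mk'' q.out : Quotient (MulAction.orbitRel (Subgroup.zpowers m) (G ⧸ M))) =
          q₀ := by rw [Quotient.out_eq']; exact h
      obtain ⟨⟨z, hz⟩, hzq⟩ := MulAction.mem_orbit_iff.mp (Quotient.eq''.mp h1)
      have hle' : Subgroup.zpowers m ≤ MulAction.stabilizer G ((1 : G) : G ⧸ M) :=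
        Subgroup.zpowers_le.mpr hfix
      rw [← hzq]
      exact hle' hz
    have hrest : ∀ q, q ≠ q₀ → φ ⟨q.out.out⁻¹ * m ^ Function.minimalPeriod (m • ·) q.out *
        q.out.out, QuotientGroup.out_conj_pow_minimalPeriod_mem M m q.out⟩ = 1 := by
      intro q hq
      refine (QuotientGroup.eq_one_iff _).mpr (Subgroup.mem_subgroupOf.mpr ?_)
      by_contra hy
      set g := q.out.out
      have hg : g⁻¹ ∉ M := fun hg => hq ((hout q).mp (by
        rw [← QuotientGroup.out_eq' q.out, QuotientGroup.eq]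
        simpa using hg))
      refine hfus g⁻¹ hg _ (QuotientGroup.out_conj_pow_minimalPeriod_mem M m q.out) hy ?_
      simpa [g, mul_assoc] using pow_mem hm (Function.minimalPeriod (m • ·) q.out)
    rw [Finset.prod_eq_single q₀ (fun q _ hq => hrest q hq)
      (fun h => absurd (Finset.mem_univ _) h), QuotientGroup.mk'_apply, QuotientGroup.eq_one_iff,
      Subgroup.mem_subgroupOf] at hone
    have hg₀ : q₀.out.out ∈ M := by
      have h := (hout q₀).mpr rfl
      rw [← QuotientGroup.out_eq' q₀.out, QuotientGroup.eq] at h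
      simpa using h
    have hper : Function.minimalPeriod (m • ·) q₀.out = 1 := by
      rw [Function.minimalPeriod_eq_one_iff_isFixedPt]
      show m • q₀.out = q₀.out
      rw [(hout q₀).mpr rfl]
      exact hfix
    simp only [hper, pow_one] at hone
    exact hmH (by
      have := (Subgroup.mem_normalizer_iff.mp (hnorm hg₀) _).mp hone
      simpa [mul_assoc] using this)

end CfsgLib.LocalEven
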