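import Cfsg.Agent.Lib.LocalEven.Isolated
import Cfsg.Agent.Lib.LocalEven.CharP
import Cfsg.Agent.Lib.Solvable.Core
import Mathlib.GroupTheory.SchurZassenhaus

/-!
A minimal counterexample to the `Z*_p` statement.
-/

set_option autoImplicit false

namespace CfsgLib.LocalEven

variable {G : Type*} [Group G] [Finite G] {p : ℕ} [Fact p.Prime] {x : G}

/-- A normal-in-normal subgroup of order prime to `p` lies in `O_{p'}`. -/
theorem le_primeCore_of_normal_normal {N K : Subgroup G} [N.Normal] (hKN : K ≤ N)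
    (hK : (Nat.card K).Coprime p) (hnorm : N ≤ Subgroup.normalizer (K : Set G)) :
    K ≤ Cfsg.pPrimeCore p G := by
  have h1 : (K.subgroupOf N).Normal := (Subgroup.normal_subgroupOf_iff_le_normalizer hKN).mpr hnorm
  have h2 : K.subgroupOf N ≤ Cfsg.pPrimeCore p N := le_primeCore_of_normal h1
    (by rwa [Nat.card_congr (Subgroup.subgroupOfEquivOfLe hKN).toEquiv])
  have h3 := Subgroup.map_mono (f := N.subtype) h2
  rw [Subgroup.map_subgroupOf_eq_of_le hKN] at h3
  exact h3.trans (CfsgLib.Solvable.map_subtype_pPrimeCore_le N)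

theorem minCounter_primeCore_eq_bot (hnz : ¬ Cfsg.InZStar p x)
    (hquot : ∀ (N : Subgroup G) [N.Normal], N ≠ ⊥ → Cfsg.InZStar p (QuotientGroup.mk x : G ⧸ N)) :
    Cfsg.pPrimeCore p G = ⊥ := by
  by_contra h
  have := primeCore_normal p G
  apply hnz
  intro g
  have h1 := hquot (Cfsg.pPrimeCore p G) h (g : G ⧸ Cfsg.pPrimeCore p G)
  rw [CfsgLib.Solvable.pPrimeCore_quotient_eq_bot _ rfl, Subgroup.mem_bot] at h1
  rw [← QuotientGroup.eq_one_iff]
  simpa using h1

theorem minCounter_not_central (hnz : ¬ Cfsg.InZStar p x) : ¬ ∀ g : G, g * x * g⁻¹ = x :=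
  fun h => hnz fun g => by rw [h g, mul_inv_cancel]; exact one_mem _

theorem minCounter_notMem (hiso : Cfsg.IsIsolated x) (hnz : ¬ Cfsg.InZStar p x)
    (hmin : ∀ (H : Subgroup G) (hxH : x ∈ H), H ≠ ⊤ → Cfsg.InZStar p (⟨x, hxH⟩ : ↥H))
    (h0 : Cfsg.pPrimeCore p G = ⊥) (M : Subgroup G) [M.Normal] (hM : M ≠ ⊤) : x ∉ M := by
  intro hxM
  have hfix : ∀ m ∈ M, m * x * m⁻¹ = x := by
    intro m hm
    have h1 := CfsgLib.Solvable.map_subtype_pPrimeCore_le (p := p) M
      (Subgroup.mem_map_of_mem M.subtype (hmin M hxM hM ⟨m, hm⟩))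
    rw [h0, Subgroup.mem_bot] at h1
    exact mul_inv_eq_one.mp (by simpa using h1)
  refine minCounter_not_central hnz fun g => hiso g ?_
  exact (mul_inv_eq_iff_eq_mul.mp (hfix _ (Subgroup.Normal.conj_mem ‹_› x hxM g))).symm

theorem minCounter_sup_eq_top (hiso : Cfsg.IsIsolated x) (hnz : ¬ Cfsg.InZStar p x)
    (hmin : ∀ (H : Subgroup G) (hxH : x ∈ H), H ≠ ⊤ → Cfsg.InZStar p (⟨x, hxH⟩ : ↥H))
    (hquot : ∀ (N : Subgroup G) [N.Normal], N ≠ ⊥ → Cfsg.InZStar p (QuotientGroup.mk x : G ⧸ N))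
    (N : Subgroup G) [hN : N.Normal] (hN0 : N ≠ ⊥) (hN1 : N ≠ ⊤) :
    N ⊔ Subgroup.zpowers x = ⊤ := by
  have h0 := minCounter_primeCore_eq_bot hnz hquot
  by_contra hH
  set H := N ⊔ Subgroup.zpowers x with hHdef
  have hxH : x ∈ H := (le_sup_right : _ ≤ H) (Subgroup.mem_zpowers x)
  have hNH : N ≤ H := le_sup_left
  -- `x` centralizes `N`
  have hC : x ∈ Subgroup.centralizer (N : Set G) := by
    rw [Subgroup.mem_centralizer_iff]
    intro n hn
    have h1 := hmin H hxH hH ⟨n, hNH hn⟩
    set K₀ := (Cfsg.pPrimeCore p H).map H.subtype ⊓ N with hK₀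
    have hle : K₀ ≤ Cfsg.pPrimeCore p G := by
      refine le_primeCore_of_normal_normal inf_le_right ?_ ?_
      · refine (primeCore_coprime p H).coprime_dvd_left ?_
        rw [← Subgroup.card_map_of_injective (K := Cfsg.pPrimeCore p H) H.subtype_injective]
        exact Subgroup.card_dvd_of_le inf_le_left
      · intro m hm
        have hn' := primeCore_normal p H
        have hconj : ∀ m ∈ N, ∀ k ∈ K₀, m * k * m⁻¹ ∈ K₀ := by
          rintro m hm k ⟨⟨z, hz, rfl⟩, hkN⟩
          exact ⟨⟨_, hn'.conj_mem z hz ⟨m, hNH hm⟩, by simp⟩, hN.conj_mem _ hkN m⟩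
        rw [Subgroup.mem_normalizer_iff]
        intro k
        refine ⟨hconj m hm k, fun h => ?_⟩
        simpa [mul_assoc] using hconj m⁻¹ (inv_mem hm) _ h
    have h2 : n * x * n⁻¹ * x⁻¹ ∈ K₀ := by
      refine ⟨⟨_, h1, by simp⟩, ?_⟩
      simpa [mul_assoc] using mul_mem hn (hN.conj_mem _ (inv_mem hn) x)
    have h3 := hle h2
    rw [h0, Subgroup.mem_bot, mul_inv_eq_one, mul_inv_eq_iff_eq_mul] at h3
    exact h3
  have hcen : N ≤ Subgroup.center G := by
    have htop : Subgroup.centralizer (N : Set G) = ⊤ := by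
      by_contra h
      exact minCounter_notMem hiso hnz hmin h0 _ h hC
    intro n hn
    rw [Subgroup.mem_center_iff]
    intro g
    have hg : g ∈ Subgroup.centralizer (N : Set G) := htop ▸ Subgroup.mem_top g
    exact (Subgroup.mem_centralizer_iff.mp hg n hn).symm
  have hNp : IsPGroup p N := isPGroup_of_primeOrder_trivial fun n hn => by
    apply Subtype.ext
    have hz : Subgroup.zpowers (n : G) ≤ Subgroup.center G := Subgroup.zpowers_le.mpr (hcen n.2)
    have hnorm : (Subgroup.zpowers (n : G)).Normal := ⟨fun z hzm g => by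
      rw [Subgroup.mem_center_iff.mp (hz hzm) g, mul_inv_cancel_right]; exact hzm⟩
    have h1 : Subgroup.zpowers (n : G) ≤ Cfsg.pPrimeCore p G := le_primeCore_of_normal hnorm
      (by rwa [Nat.card_zpowers, Subgroup.orderOf_coe])
    rw [h0] at h1
    exact Subgroup.mem_bot.mp (h1 (Subgroup.mem_zpowers _))
  have hQn := primeCore_normal p (G ⧸ N)
  set K := (Cfsg.pPrimeCore p (G ⧸ N)).comap (QuotientGroup.mk' N) with hK
  have hKn : K.Normal := hQn.comap _
  have hNK : N ≤ K := le_trans (le_of_eq (QuotientGroup.ker_mk' N).symm) (MonoidHom.ker_le_comap _ _)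
  -- `K` is no bigger than `N`
  have hKN : K ≤ N := by
    have hidx : (N.subgroupOf K).index = Nat.card (Cfsg.pPrimeCore p (G ⧸ N)) := by
      rw [← Subgroup.relIndex]
      conv_lhs => rw [← QuotientGroup.ker_mk' N, ← MonoidHom.comap_bot, Subgroup.relIndex_comap,
        hK, Subgroup.map_comap_eq_self_of_surjective (QuotientGroup.mk'_surjective N),
        Subgroup.relIndex_bot_left]
    obtain ⟨k, hk⟩ := hNp.exists_card_eq
    have hcop : Nat.Coprime (Nat.card (N.subgroupOf K)) (N.subgroupOf K).index := by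
      rw [hidx, Nat.card_congr (Subgroup.subgroupOfEquivOfLe hNK).toEquiv, hk]
      exact (primeCore_coprime p (G ⧸ N)).symm.pow_left k
    obtain ⟨D, hD⟩ := Subgroup.exists_right_complement'_of_coprime hcop
    have hDtop : N.subgroupOf K ⊔ D = ⊤ := hD.sup_eq_top
    have hDnorm : D.Normal := by
      rw [← Subgroup.normalizer_eq_top_iff, eq_top_iff, ← hDtop]
      refine sup_le (fun y hy => ?_) Subgroup.le_normalizer
      refine Subgroup.mem_normalizer_iff.mpr fun d => ?_
      have : y * d * y⁻¹ = d := by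
        apply Subtype.ext
        simp only [Subgroup.coe_mul, Subgroup.coe_inv]
        rw [← Subgroup.mem_center_iff.mp (hcen (Subgroup.mem_subgroupOf.mp hy)) d,
          mul_inv_cancel_right]
      rw [this]
    have hDle : D.map K.subtype ≤ Cfsg.pPrimeCore p G := by
      refine le_primeCore_of_normal_normal (N := K) (Subgroup.map_subtype_le _) ?_ ?_
      · rw [Subgroup.card_map_of_injective K.subtype_injective,
          ← hD.symm.index_eq_card, hidx]
        exact primeCore_coprime p _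
      · have h := Subgroup.le_normalizer_map K.subtype (H := D)
        rwa [Subgroup.normalizer_eq_top, ← MonoidHom.range_eq_map, Subgroup.range_subtype] at h
    rw [h0, le_bot_iff, Subgroup.map_eq_bot_iff_of_injective _ K.subtype_injective] at hDle
    rw [hDle, sup_bot_eq, Subgroup.subgroupOf_eq_top] at hDtop
    exact hDtop
  refine minCounter_not_central hnz fun g => hiso g ?_
  have h1 := hquot N hN0 (g : G ⧸ N)
  have h2 : g * x * g⁻¹ * x⁻¹ ∈ N := hKN (by rw [hK, Subgroup.mem_comap]; simpa using h1)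
  have h3 := Subgroup.mem_center_iff.mp (hcen h2) x
  show x * (g * x * g⁻¹) = g * x * g⁻¹ * x
  calc x * (g * x * g⁻¹) = x * (g * x * g⁻¹ * x⁻¹) * x := by group
    _ = g * x * g⁻¹ * x⁻¹ * x * x := by rw [h3]
    _ = g * x * g⁻¹ * x := by group

end CfsgLib.LocalEven
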