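import Cfsg.Prelude.Def_LocalEven
import Cfsg.Agent.Lib.LocalEven.PBasic
import Cfsg.Agent.Lib.Linear.Card
import Mathlib.LinearAlgebra.Matrix.Notation
import Mathlib.Algebra.CharP.Basic
import Mathlib.FieldTheory.Finite.Basic
import Mathlib.Tactic.LinearCombination

/-!
# Faithful natural `SL₂(F)`-modules inside a finite group, in coordinates adapted to a Sylow subgroup
-/

set_option autoImplicit false

namespace CfsgLib.LocalEven

open Matrix Subgroup
open scoped MatrixGroups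

variable {F : Type*} [Field F]

/-- A matrix of determinant one. -/
def sl2Of (a b c d : F) (h : a * d - b * c = 1) : SL(2, F) :=
  ⟨!![a, b; c, d], by rw [Matrix.det_fin_two_of]; exact h⟩

/-- The upper unitriangular subgroup of `SL₂(F)`. -/
def upperUni (F : Type*) [Field F] : Subgroup SL(2, F) where
  carrier := {g | g.1 0 0 = 1 ∧ g.1 1 0 = 0 ∧ g.1 1 1 = 1}
  one_mem' := by simp
  mul_mem' := by
    rintro g h ⟨g0, g1, g2⟩ ⟨h0, h1, h2⟩
    simp [Matrix.mul_apply, Fin.sum_univ_two, g0, g1, g2, h0, h1, h2]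
  inv_mem' := by
    rintro g ⟨g0, g1, g2⟩
    simp [Matrix.adjugate_fin_two, g0, g1, g2]

theorem mem_upperUni {g : SL(2, F)} :
    g ∈ upperUni F ↔ g.1 0 0 = 1 ∧ g.1 1 0 = 0 ∧ g.1 1 1 = 1 := Iff.rfl

theorem sl2Of_mem_upperUni (a : F) : sl2Of 1 a 0 1 (by ring) ∈ upperUni F := ⟨rfl, rfl, rfl⟩

theorem upperUni_mulVec {g : SL(2, F)} (hg : g ∈ upperUni F) (w : Fin 2 → F) :
    g.1.mulVec w = ![w 0 + g.1 0 1 * w 1, w 1] := by
  funext i
  fin_cases i <;> simp [Matrix.mulVec, dotProduct, Fin.sum_univ_two, hg.1, hg.2.1, hg.2.2]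

theorem upperUni_entry_ne_zero {g : SL(2, F)} (hg : g ∈ upperUni F) (h1 : g ≠ 1) : g.1 0 1 ≠ 0 := by
  intro h
  refine h1 (Subtype.ext (Matrix.ext fun i j => ?_))
  fin_cases i <;> fin_cases j <;> simp [hg.1, hg.2.1, hg.2.2, h]

theorem mem_normalizer_upperUni [Finite F] {g : SL(2, F)} :
    g ∈ normalizer (upperUni F : Set SL(2, F)) ↔ g.1 1 0 = 0 := by
  have hd : g.1 0 0 * g.1 1 1 - g.1 0 1 * g.1 1 0 = 1 := by
    rw [← Matrix.det_fin_two]; exact g.2
  constructor
  · intro hn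
    have h := ((mem_normalizer_iff.1 hn _).1 (sl2Of_mem_upperUni 1)).2.1
    change (g.1 * (sl2Of 1 1 0 1 (by ring) : SL(2, F)).1 * g⁻¹.1) 1 0 = 0 at h
    simp [sl2Of, Matrix.adjugate_fin_two, Matrix.mul_apply, Fin.sum_univ_two] at h
    have : g.1 1 0 * g.1 1 0 = 0 := by linear_combination -h
    simpa using this
  · intro h
    rw [mem_normalizer_iff_cj]
    refine Subgroup.eq_of_le_of_card_ge ?_ (card_cj _ _).ge
    rintro _ ⟨u, ⟨u0, u1, u2⟩, rfl⟩
    rw [h, mul_zero, sub_zero] at hd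
    refine ⟨?_, ?_, ?_⟩ <;>
      simp [Matrix.adjugate_fin_two, Matrix.mul_apply, Fin.sum_univ_two, u0, u1, u2, h] <;>
      linear_combination hd

theorem card_upperUni : Nat.card (upperUni F) = Nat.card F := by
  refine Nat.card_congr
    ⟨fun g => g.1.1 0 1, fun a => ⟨sl2Of 1 a 0 1 (by ring), sl2Of_mem_upperUni a⟩, fun g => ?_,
      fun a => rfl⟩
  refine Subtype.ext (Subtype.ext (Matrix.ext fun i j => ?_))
  fin_cases i <;> fin_cases j <;> simp [sl2Of, g.2.1, g.2.2.1, g.2.2.2]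

theorem charP_of_card_eq_pow [Fintype F] {p n : ℕ} [hp : Fact p.Prime]
    (h : Fintype.card F = p ^ n) : CharP F p := by
  obtain ⟨q, hq⟩ := CharP.exists F
  obtain ⟨m, hqp, hm⟩ := FiniteField.card F q
  have : q = p := by
    have h1 : q ∣ p ^ n := by rw [← h, hm]; exact dvd_pow_self q m.ne_zero
    exact (Nat.prime_dvd_prime_iff_eq hqp hp.out).1 (hqp.dvd_of_dvd_pow h1)
  exact this ▸ hq

/-- A fixed nonzero vector forces exponent `p`. -/
theorem pow_char_eq_one_of_fixed (p : ℕ) [hp : Fact p.Prime] [CharP F p] {M : SL(2, F)}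
    {v : Fin 2 → F} (hv : v ≠ 0) (h : M.1.mulVec v = v) : M ^ p = 1 := by
  have hd : (M.1 - 1).det = 0 :=
    Matrix.exists_mulVec_eq_zero_iff.1 ⟨v, hv, by rw [Matrix.sub_mulVec, h, Matrix.one_mulVec, sub_self]⟩
  have hM : M.1 0 0 * M.1 1 1 - M.1 0 1 * M.1 1 0 = 1 := by
    rw [← Matrix.det_fin_two]; exact M.2
  rw [Matrix.det_fin_two] at hd
  simp [Matrix.sub_apply] at hd
  have hsq : (M.1 - 1) ^ 2 = 0 := by
    rw [pow_two]
    ext i j
    fin_cases i <;> fin_cases j <;> simp [Matrix.mul_apply, Fin.sum_univ_two, Matrix.sub_apply]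
    · linear_combination -M.1 0 0 * hd + (M.1 0 0 - 1) * hM
    · linear_combination -M.1 0 1 * hd + M.1 0 1 * hM
    · linear_combination -M.1 1 0 * hd + M.1 1 0 * hM
    · linear_combination -M.1 1 1 * hd + (M.1 1 1 - 1) * hM
  refine Subtype.ext ?_
  show ((M ^ p : SL(2, F)) : Matrix (Fin 2) (Fin 2) F) = 1
  rw [Matrix.SpecialLinearGroup.coe_pow]
  have h2 : ((M.1 - 1) + 1) ^ p = (M.1 - 1) ^ p + 1 ^ p :=
    add_pow_char_of_commute p (Commute.one_right _)
  rw [sub_add_cancel, one_pow] at h2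
  rw [h2, show p = 2 + (p - 2) by have := hp.out.two_le; omega, pow_add, hsq, zero_mul, zero_add]

variable {G : Type*} [Group G] [Finite G] [Fintype F]

/-- Coordinates in which the given Sylow subgroup is upper unitriangular. -/
structure NatCoord (F : Type*) [Field F] (V L T : Subgroup G) where
  /-- the isomorphism with `SL₂(F)` -/
  e : ↥L ≃* SL(2, F)
  /-- the coordinates -/
  f : ↥V → Fin 2 → F
  f_mul : ∀ a b, f (a * b) = f a + f b
  f_bij : Function.Bijective f
  le_normalizer : L ≤ normalizer (V : Set G)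
  f_conj : ∀ (l : L) (v w : V), (w : G) = l * v * (l : G)⁻¹ → f w = (e l).1.mulVec (f v)
  T_le : T ≤ L
  mem_T : ∀ l : L, (l : G) ∈ T ↔ e l ∈ upperUni F

theorem exists_natCoord {p : ℕ} [Fact p.Prime] {n : ℕ} (hF : Fintype.card F = p ^ n)
    {V L : Subgroup G} (hnat : Cfsg.IsNaturalSL2Module F V L)
    (hf : L ⊓ centralizer (V : Set G) = ⊥) (S : Sylow p ↥L) :
    Nonempty (NatCoord F V L ((S : Subgroup ↥L).map L.subtype)) := by
  haveI := charP_of_card_eq_pow hF
  obtain ⟨hLV, ρ, ψ, hρ, hker, hconj⟩ := hnat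
  have hinj : Function.Injective ρ := by
    rw [← MonoidHom.ker_eq_bot_iff, hker, subgroupOf_eq_bot, disjoint_iff, inf_comm, hf]
  let e0 := MulEquiv.ofBijective ρ ⟨hinj, hρ⟩
  -- the unitriangular group is a Sylow subgroup
  have hU : IsPGroup p (upperUni F) := IsPGroup.of_card (n := n)
    (by rw [card_upperUni, Nat.card_eq_fintype_card, hF])
  let U : Sylow p SL(2, F) := Sylow.ofCard (upperUni F) (by
    have hq2 := Fintype.one_lt_card (α := F)
    have hn : n ≠ 0 := fun h => by rw [hF, h, pow_zero] at hq2; omega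
    rw [card_upperUni, Nat.card_eq_fintype_card, Linear.card_SL_two, hF,
      Nat.factorization_mul (pow_ne_zero _ (Fact.out : p.Prime).ne_zero) (by
        have : p ^ n * 1 ≤ p ^ n * p ^ n := Nat.mul_le_mul_left _ (Nat.one_le_pow _ _ (Fact.out : p.Prime).pos)
        rw [hF] at hq2
        have : (p ^ n) ^ 2 = p ^ n * p ^ n := sq _
        omega), Finsupp.add_apply,
      (Fact.out : p.Prime).factorization_pow, Finsupp.single_eq_same,
      Nat.factorization_eq_zero_of_not_dvd, add_zero]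
    intro h
    have h1 : 1 ≤ (p ^ n) ^ 2 := Nat.one_le_pow _ _ (pow_pos (Fact.out : p.Prime).pos n)
    have h2 : p ∣ (p ^ n) ^ 2 := (dvd_pow_self p hn).trans (dvd_pow_self _ two_ne_zero)
    have := Nat.dvd_sub h2 h
    rw [show (p ^ n) ^ 2 - ((p ^ n) ^ 2 - 1) = 1 by omega] at this
    exact (Fact.out : p.Prime).not_dvd_one this)
  obtain ⟨g, hg⟩ := MulAction.exists_smul_eq SL(2, F) (S.mapSurjective (f := ρ) hρ) U
  have hginv : ∀ (k : SL(2, F)) (w : Fin 2 → F), (k⁻¹).1.mulVec (k.1.mulVec w) = w := fun k w => by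
    rw [Matrix.mulVec_mulVec, ← Matrix.SpecialLinearGroup.coe_mul, inv_mul_cancel,
      Matrix.SpecialLinearGroup.coe_one, Matrix.one_mulVec]
  refine ⟨⟨e0.trans (MulAut.conj g), fun v => g.1.mulVec (ψ (Additive.ofMul v)),
    fun a b => by rw [ofMul_mul, map_add, Matrix.mulVec_add], ⟨?_, ?_⟩, hLV, fun l v w hw => ?_,
    map_subtype_le _, fun l => ?_⟩⟩
  · intro a b h
    apply Additive.ofMul.injective
    apply ψ.injective
    have h' := congrArg (g⁻¹).1.mulVec h
    rwa [hginv, hginv] at h'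
  · intro w
    refine ⟨Additive.toMul (ψ.symm ((g⁻¹).1.mulVec w)), ?_⟩
    have := hginv g⁻¹ w
    rw [inv_inv] at this
    simpa using this
  · obtain ⟨w', hw', hψ⟩ := hconj l v
    obtain rfl : w' = w := Subtype.ext (hw'.trans hw.symm)
    show g.1.mulVec _ = (g * ρ l * g⁻¹).1.mulVec _
    rw [hψ, Matrix.mulVec_mulVec, Matrix.mulVec_mulVec, ← Matrix.SpecialLinearGroup.coe_mul,
      ← Matrix.SpecialLinearGroup.coe_mul, inv_mul_cancel_right]
  · have hg' : ((S : Subgroup ↥L).map ρ).map (MulAut.conj g).toMonoidHom = upperUni F :=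
      congrArg (fun P : Sylow p SL(2, F) => (P : Subgroup SL(2, F))) hg
    show L.subtype l ∈ _ ↔ _
    rw [← hg', Subgroup.map_map, mem_map_iff_mem L.subtype_injective]
    exact (mem_map_iff_mem ((MulAut.conj g).injective.comp hinj)).symm

namespace NatCoord

variable {V L T : Subgroup G} (c : NatCoord F V L T)
include c

/-- the zero vector corresponds to `1` -/
theorem f_one : c.f 1 = 0 := by
  have h := c.f_mul 1 1
  rw [one_mul] at h
  simpa using h

theorem f_inv (a : V) : c.f a⁻¹ = -c.f a := by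
  have h := c.f_mul a⁻¹ a
  rw [inv_mul_cancel, c.f_one] at h
  exact eq_neg_of_add_eq_zero_left h.symm

theorem conj_mem (l : L) (v : V) : (l : G) * v * (l : G)⁻¹ ∈ V :=
  (mem_normalizer_iff.1 (c.le_normalizer l.2) _).1 v.2

theorem commute_iff (l : L) (v : V) :
    (l : G) * v = v * l ↔ (c.e l).1.mulVec (c.f v) = c.f v := by
  rw [← c.f_conj l v ⟨_, c.conj_mem l v⟩ rfl, c.f_bij.1.eq_iff, Subtype.ext_iff, mul_inv_eq_iff_eq_mul]

theorem mem_centralizer_T (v : V) : (v : G) ∈ centralizer (T : Set G) ↔ c.f v 1 = 0 := by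
  constructor
  · intro h
    obtain ⟨l, hl⟩ := c.e.surjective (sl2Of 1 1 0 1 (by ring))
    have hlT : (l : G) ∈ T := (c.mem_T l).2 (hl ▸ sl2Of_mem_upperUni 1)
    have h2 := (c.commute_iff l v).1 (h _ hlT)
    rw [hl, upperUni_mulVec (sl2Of_mem_upperUni 1)] at h2
    simpa [sl2Of] using congrFun h2 0
  · intro h t ht
    refine (c.commute_iff ⟨t, c.T_le ht⟩ v).2 ?_
    rw [upperUni_mulVec ((c.mem_T ⟨t, c.T_le ht⟩).1 ht)]
    funext i; fin_cases i <;> simp [h]

theorem mem_normalizer_T (l : L) : (l : G) ∈ normalizer (T : Set G) ↔ (c.e l).1 1 0 = 0 := by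
  rw [← mem_normalizer_upperUni, mem_normalizer_iff, mem_normalizer_iff]
  constructor
  · intro h u
    obtain ⟨u, rfl⟩ := c.e.surjective u
    rw [← map_mul, ← map_inv, ← map_mul, ← c.mem_T, ← c.mem_T]
    exact h u
  · intro h z
    by_cases hz : z ∈ L
    · have := h (c.e ⟨z, hz⟩)
      rw [← map_mul, ← map_inv, ← map_mul, ← c.mem_T, ← c.mem_T] at this
      exact this
    · refine ⟨fun hzT => absurd (c.T_le hzT) hz, fun hzT => absurd ?_ hz⟩
      have := mul_mem (mul_mem (inv_mem l.2) (c.T_le hzT)) l.2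
      simpa [mul_assoc] using this

theorem card_V : Nat.card V = Nat.card F ^ 2 := by
  rw [Nat.card_eq_of_bijective c.f c.f_bij, Nat.card_fun, Nat.card_fin]

theorem card_fixed : Nat.card ↥(V ⊓ centralizer (T : Set G)) = Nat.card F := by
  refine Nat.card_eq_of_bijective (fun v => c.f ⟨v.1, v.2.1⟩ 0) ⟨fun a b h => ?_, fun x => ?_⟩
  · have h2 : c.f ⟨a.1, a.2.1⟩ = c.f ⟨b.1, b.2.1⟩ := by
      funext i
      fin_cases i
      · exact h
      · exact ((c.mem_centralizer_T _).1 a.2.2).trans ((c.mem_centralizer_T _).1 b.2.2).symm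
    have h3 := c.f_bij.1 h2
    rw [Subtype.ext_iff] at h3
    exact Subtype.ext h3
  · obtain ⟨v, hv⟩ := c.f_bij.2 ![x, 0]
    exact ⟨⟨v.1, v.2, (c.mem_centralizer_T v).2 (by simp [hv])⟩, by simp [hv]⟩

end NatCoord

end CfsgLib.LocalEven
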