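import Mathlib.GroupTheory.Sylow
import Mathlib.GroupTheory.GroupAction.Quotient
import Mathlib.Algebra.BigOperators.Group.Finset.Basic

/-!
Products over orbits of a 2-group acting on a commutative group of exponent two, when the fixed points
of every maximal subgroup are fixed by the whole group.
-/

set_option autoImplicit false

namespace CfsgLib.LocalEven.OrbitProduct

variable {Q M : Type*} [Group Q] [Finite Q] [CommGroup M]

theorem prod_eq_one_of_transitive {X : Type*} [Fintype X] [MulAction Q X]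
    [MulAction.IsPretransitive Q X] (hQ : IsPGroup 2 Q) (ρ : Q →* MulAut M)
    (hM : ∀ m : M, m * m = 1)
    (hfix : ∀ R : Subgroup Q, R.index = 2 → ∀ m : M, (∀ r ∈ R, ρ r m = m) → ∀ q, ρ q m = m)
    (F : X → M) (hF : ∀ (q : Q) x, F (q • x) = ρ q (F x))
    (x₀ : X) (hx : ∃ q : Q, q • x₀ ≠ x₀) : ∏ x, F x = 1 := by
  classical
  haveI : Fact (Nat.Prime 2) := ⟨Nat.prime_two⟩
  set R := MulAction.stabilizer Q x₀
  have hRne : R ≠ ⊤ := fun h => by
    obtain ⟨q, hq⟩ := hx
    exact hq (MulAction.mem_stabilizer_iff.1 (h ▸ Subgroup.mem_top q : q ∈ R))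
  obtain ⟨n, hn⟩ := hQ.exists_card_eq
  obtain ⟨k, -, hk⟩ := (Nat.dvd_prime_pow Nat.prime_two).1 (hn ▸ Subgroup.card_subgroup_dvd_card R)
  have hkn : k < n := by
    rcases Nat.lt_or_ge k n with h | h
    · exact h
    · exact absurd (Subgroup.eq_top_of_le_card R
        (by rw [hn, hk]; exact Nat.pow_le_pow_right (by norm_num) h)) hRne
  obtain ⟨R1, hR1, hRR1⟩ : ∃ R1 : Subgroup Q, Nat.card R1 = 2 ^ (n - 1) ∧ R ≤ R1 :=
    Sylow.exists_subgroup_card_pow_prime_le 2 (by rw [hn]; exact pow_dvd_pow 2 (by omega)) R hk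
      (by omega)
  have hidx : R1.index = 2 := by
    have h := R1.card_mul_index
    rw [hn, hR1, show n = n - 1 + 1 by omega, pow_succ, Nat.add_sub_cancel] at h
    exact Nat.eq_of_mul_eq_mul_left (pow_pos (by norm_num) _) h
  obtain ⟨e, he⟩ : ∃ e, e ∉ R1 := by
    by_contra h
    push Not at h
    rw [(eq_top_iff.2 fun q _ => h q : R1 = ⊤), Subgroup.index_top] at hidx
    exact absurd hidx (by norm_num)
  have hex : ∀ x : X, ∃ q : Q, q • x₀ = x := fun x => MulAction.exists_smul_eq Q x₀ x
  let inR : X → Prop := fun x => (hex x).choose ∈ R1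
  have hin : ∀ q : Q, inR (q • x₀) ↔ q ∈ R1 := by
    intro q
    have h1 : q⁻¹ * (hex (q • x₀)).choose ∈ R1 := hRR1 (by
      rw [MulAction.mem_stabilizer_iff, mul_smul, (hex (q • x₀)).choose_spec, inv_smul_smul])
    constructor
    · intro h
      have := R1.mul_mem h (R1.inv_mem h1)
      simpa using this
    · intro h
      have := R1.mul_mem h h1
      simpa using this
  have hmul : ∀ (q : Q) (x : X), inR (q • x) ↔ (q ∈ R1 ↔ inR x) := by
    intro q x
    obtain ⟨r, rfl⟩ := hex x
    rw [← mul_smul, hin, hin, Subgroup.mul_mem_iff_of_index_two hidx]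
  set a : M := ∏ x ∈ Finset.univ.filter inR, F x
  set b : M := ∏ x ∈ Finset.univ.filter (fun x => ¬ inR x), F x
  have hmove : ∀ q : Q, ρ q a = if q ∈ R1 then a else b := by
    intro q
    show ρ q (∏ x ∈ Finset.univ.filter inR, F x) = _
    rw [map_prod]
    split_ifs with hq
    · refine Finset.prod_equiv (MulAction.toPerm q) (fun x => ?_) (fun x _ => (hF q x).symm)
      simp only [Finset.mem_filter, Finset.mem_univ, true_and, MulAction.toPerm_apply]
      rw [hmul]; tauto
    · refine Finset.prod_equiv (MulAction.toPerm q) (fun x => ?_) (fun x _ => (hF q x).symm)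
      simp only [Finset.mem_filter, Finset.mem_univ, true_and, MulAction.toPerm_apply]
      rw [hmul]; tauto
  have hab : b = a := by
    have h1 := hfix R1 hidx a (fun r hr => by rw [hmove, if_pos hr]) e
    rwa [hmove, if_neg he] at h1
  rw [← Finset.prod_filter_mul_prod_filter_not Finset.univ inR F]
  show a * b = 1
  rw [hab, hM]

/-- An equivariant function without fixed points has product one. -/
theorem prod_eq_one_of_no_fixed {X : Type*} [Fintype X] [MulAction Q X] (hQ : IsPGroup 2 Q)
    (ρ : Q →* MulAut M) (hM : ∀ m : M, m * m = 1)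
    (hfix : ∀ R : Subgroup Q, R.index = 2 → ∀ m : M, (∀ r ∈ R, ρ r m = m) → ∀ q, ρ q m = m)
    (F : X → M) (hF : ∀ (q : Q) x, F (q • x) = ρ q (F x)) (s : Finset X)
    (hs : ∀ x, x ∈ s ↔ ∃ q : Q, q • x ≠ x) : ∏ x ∈ s, F x = 1 := by
  classical
  let r := MulAction.orbitRel Q X
  rw [← Finset.prod_fiberwise s (fun x => (Quotient.mk r x)) F]
  refine Finset.prod_eq_one fun o _ => ?_
  induction o using Quotient.inductionOn with
  | h x₀ =>
    by_cases hx : ∃ q : Q, q • x₀ ≠ x₀
    · haveI : Fintype (MulAction.orbit Q x₀) := Fintype.ofFinite _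
      have h := prod_eq_one_of_transitive (X := MulAction.orbit Q x₀) hQ ρ hM hfix
        (fun y => F y) (fun q y => hF q y) ⟨x₀, MulAction.mem_orbit_self x₀⟩
        (by obtain ⟨q, hq⟩ := hx; exact ⟨q, fun h => hq (congrArg Subtype.val h)⟩)
      rw [← h]
      refine (Finset.prod_subtype _ (fun y => ?_) F)
      simp only [Finset.mem_filter, hs]
      refine ⟨fun hy => Quotient.exact hy.2, fun hy => ⟨?_, Quotient.sound hy⟩⟩
      by_contra hno
      push Not at hno
      obtain ⟨q, rfl⟩ := hy
      obtain ⟨q', hq'⟩ := hx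
      refine hq' ?_
      have h1 : q • x₀ = x₀ := by
        have := hno q⁻¹
        rwa [inv_smul_smul, eq_comm] at this
      have := hno q'
      simp only at this
      rwa [h1] at this
    · refine Finset.prod_eq_one fun y hy => ?_
      simp only [Finset.mem_filter, hs] at hy
      obtain ⟨q, rfl⟩ := Quotient.exact hy.2
      obtain ⟨⟨q', hq'⟩, -⟩ := hy
      push Not at hx
      simp only at hq'
      exact absurd (by rw [hx q, hx q']) hq'

end CfsgLib.LocalEven.OrbitProduct
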