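import Cfsg.Agent.Lib.LocalEven.Kieler
import Cfsg.Agent.Lib.Amalgam.PClosure
import Mathlib.Order.Atoms.Finite
/-!
`p`-minimal overgroups of a Sylow subgroup generate `O^{p'}`.
-/

set_option autoImplicit false

namespace CfsgLib.LocalEven

open Subgroup Cfsg CfsgLib.Amalgam

variable {G : Type*} [Group G] [Finite G] {p : ℕ} [Fact p.Prime]

omit [Finite G] [Fact p.Prime] in
theorem isPMinimal_congr {H K : Type*} [Group H] [Group K] (e : H ≃* K)
    (h : IsPMinimal p H) : IsPMinimal p K := by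
  intro S
  obtain ⟨hn, M, ⟨hM, hSM⟩, huniq⟩ := h (S.comapOfInjective e.toMonoidHom e.injective
    (fun x _ => e.surjective x))
  have hco : ∀ N : Subgroup K, IsCoatom N → IsCoatom (N.comap e.toMonoidHom) := fun N hN =>
    (OrderIso.isCoatom_iff e.comapSubgroup N).2 hN
  refine ⟨fun hN => hn (hN.comap _), M.map e.toMonoidHom, ⟨?_, ?_⟩, ?_⟩
  · exact (OrderIso.isCoatom_iff e.mapSubgroup M).2 hM
  · intro s hs
    exact ⟨e.symm s, hSM (show e (e.symm s) ∈ (S : Subgroup K) by simpa using hs), by simp⟩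
  · rintro N ⟨hN, hSN⟩
    rw [← huniq _ ⟨hco N hN, Subgroup.comap_mono hSN⟩]
    exact (map_comap_eq_self_of_surjective (f := e.toMonoidHom) e.surjective N).symm

omit [Finite G] [Fact p.Prime] in
theorem normalizer_map_pMinimal (S : Sylow p G) {g : G}
    (hg : g ∈ normalizer ((S : Subgroup G) : Set G)) :
    cj g ((S : Subgroup G) ⊔ ⨆ P : {P : Subgroup G // (S : Subgroup G) ≤ P ∧ IsPMinimal p ↥P},
      (P : Subgroup G)) ≤
    (S : Subgroup G) ⊔ ⨆ P : {P : Subgroup G // (S : Subgroup G) ≤ P ∧ IsPMinimal p ↥P},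
      (P : Subgroup G) := by
  rw [cj, Subgroup.map_sup, ← cj, mem_normalizer_iff_cj.1 hg, Subgroup.map_iSup]
  refine sup_le le_sup_left (iSup_le fun P => le_sup_of_le_right ?_)
  refine le_iSup (fun P : {P : Subgroup G // (S : Subgroup G) ≤ P ∧ IsPMinimal p ↥P} =>
    (P : Subgroup G)) ⟨_, ?_, isPMinimal_congr ((MulAut.conj g).subgroupMap P.1) P.2.2⟩
  exact (mem_normalizer_iff_cj.1 hg).ge.trans (cj_le_cj P.2.1)

/-- a `p`-minimal group is generated by its `p`-elements -/
theorem pMinimal_closure_eq {P : Subgroup G} (h : IsPMinimal p ↥P) {S : Sylow p ↥P} :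
    pElementClosure p P = P := by
  refine le_antisymm (pElementClosure_le_self P) ?_
  by_contra hne
  obtain ⟨hn, M, ⟨hM, hSM⟩, huniq⟩ := h S
  set T := (S : Subgroup P).map P.subtype
  have hT : IsSylOf p T P := Sylow.isSylOf S
  have hTE := le_pElementClosure_of_isPGroup hT.isPGroup hT.1
  have hle : ∀ {U : Subgroup P}, U ≠ ⊤ → (S : Subgroup P) ≤ U → U ≤ M := by
    intro U hU hSU
    obtain h1 | ⟨N, hN, hUN⟩ := eq_top_or_exists_le_coatom U
    · exact absurd h1 hU
    · exact huniq N ⟨hN, hSU.trans hUN⟩ ▸ hUN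
  have hE : (pElementClosure p P).subgroupOf P ≤ M := by
    refine hle (fun h => hne ?_) ?_
    · rwa [subgroupOf_eq_top] at h
    · exact fun s hs => hTE ⟨s, hs, rfl⟩
  have hN : normalizer ((S : Subgroup P) : Set P) ≤ M :=
    hle (fun h => hn (normalizer_eq_top_iff.1 h)) le_normalizer
  refine hM.1 (top_le_iff.1 fun g _ => ?_)
  obtain ⟨k, hk, n, hnP, hn, he⟩ := exists_normalizer_mul hT g.2
  have : g = ⟨k, pElementClosure_le_self P hk⟩ * ⟨n, hnP⟩ := Subtype.ext he
  rw [this]
  refine mul_mem (hE hk) (hN ?_)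
  rw [mem_normalizer_iff]
  intro s
  have h1 := mem_normalizer_iff.1 hn (s : G)
  have h2 : ∀ t : P, t ∈ (S : Subgroup P) ↔ (t : G) ∈ T := fun t =>
    ⟨fun ht => ⟨t, ht, rfl⟩, fun ⟨t', ht', e⟩ => Subtype.ext e ▸ ht'⟩
  rw [h2, h2]
  exact h1

theorem pClosure_le_of_overgroups (S : Sylow p G) {J : Subgroup G} (hSJ : (S : Subgroup G) ≤ J)
    (hJn : ∀ g ∈ normalizer ((S : Subgroup G) : Set G), cj g J ≤ J)
    (hmin : ∀ P : Subgroup G, (S : Subgroup G) ≤ P → IsPMinimal p ↥P → P ≤ J) :
    ∀ H : Subgroup G, (S : Subgroup G) ≤ H → pElementClosure p H ≤ J := by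
  have hJN : normalizer ((S : Subgroup G) : Set G) ≤ normalizer (J : Set G) := fun g hg =>
    mem_normalizer_iff_cj.2 (le_antisymm (hJn g hg) (by
      have := cj_le_cj (g := g) (hJn g⁻¹ (inv_mem hg))
      rwa [cj_cj, mul_inv_cancel, cj_one] at this))
  intro H
  induction hc : Nat.card H using Nat.strong_induction_on generalizing H with
  | _ c ih =>
  intro hSH
  subst hc
  have hSyl : IsSylOf p (S : Subgroup G) H := (isSylOf_top S).of_le hSH le_top
  have hE : pElementClosure p H ≤ H := pElementClosure_le_self H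
  by_cases hnorm : H ≤ normalizer ((S : Subgroup G) : Set G)
  · refine (closure_le _).2 fun x ⟨hx, k, hk⟩ => hSJ ?_
    have hp' : IsPGroup p (zpowers x) := IsPGroup.of_card (n := k) (by rw [Nat.card_zpowers, hk])
    have := hSyl.of_isPGroup_ge
      (hp'.to_sup_of_normal_right' hSyl.isPGroup (zpowers_le.2 (hnorm hx))) le_sup_right
      (sup_le (zpowers_le.2 hx) hSH)
    exact this ▸ mem_sup_left (mem_zpowers x)
  set S' := S.subtype hSH
  have hnot : ¬ (S' : Subgroup H).Normal := fun h =>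
    hnorm ((normal_subgroupOf_iff_le_normalizer hSH).1 h)
  by_cases huni : ∃! M : Subgroup H, IsCoatom M ∧ (S' : Subgroup H) ≤ M
  · refine hE.trans (hmin H hSH fun R => ?_)
    obtain ⟨g, rfl⟩ := MulAction.exists_smul_eq H S' R
    have e : ((g • S' : Sylow p H) : Subgroup H) =
        (S' : Subgroup H).map (MulAut.conj g).toMonoidHom := rfl
    rw [e]
    refine ⟨fun h => hnot ?_, ?_⟩
    · have := h.comap (MulAut.conj g).toMonoidHom
      rwa [comap_map_eq_self_of_injective (MulAut.conj g).injective] at this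
    · obtain ⟨M, ⟨hM, hSM⟩, hu⟩ := huni
      refine ⟨M.map (MulAut.conj g).toMonoidHom,
        ⟨(OrderIso.isCoatom_iff (MulAut.conj g).mapSubgroup M).2 hM, map_mono hSM⟩, ?_⟩
      rintro N ⟨hN, hSN⟩
      rw [← hu _ ⟨(OrderIso.isCoatom_iff (MulAut.conj g).comapSubgroup N).2 hN,
        map_le_iff_le_comap.1 hSN⟩]
      exact (map_comap_eq_self_of_surjective (f := (MulAut.conj g).toMonoidHom)
        (MulAut.conj g).surjective N).symm
  · obtain hh | ⟨M₁, hM1, hSM1⟩ := eq_top_or_exists_le_coatom (S' : Subgroup H)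
    · exact absurd (hh ▸ inferInstance) hnot
    obtain ⟨M₂, hM2, hne⟩ : ∃ M₂, (IsCoatom M₂ ∧ (S' : Subgroup H) ≤ M₂) ∧ M₂ ≠ M₁ := by
      by_contra hcon
      exact huni ⟨M₁, ⟨hM1, hSM1⟩, fun N hN => by_contra fun h => hcon ⟨N, hN, h⟩⟩
    have key : ∀ M : Subgroup H, IsCoatom M → (S' : Subgroup H) ≤ M →
        M.map H.subtype ≤ J ⊔ normalizer ((S : Subgroup G) : Set G) := by
      intro M hM hSM
      have hlt : Nat.card (M.map H.subtype) < Nat.card H := by
        rw [← Nat.card_congr (equivMapOfInjective M _ H.subtype_injective).toEquiv]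
        by_contra hge
        exact hM.1 (eq_top_of_card_eq M (le_antisymm (card_le_card_group M) (not_lt.1 hge)))
      have hSMG : (S : Subgroup G) ≤ M.map H.subtype := fun s hs =>
        ⟨⟨s, hSH hs⟩, hSM hs, rfl⟩
      intro g hg
      obtain ⟨k, hk, n, -, hn, rfl⟩ :=
        exists_normalizer_mul ((isSylOf_top S).of_le hSMG le_top) hg
      exact mul_mem (mem_sup_left (ih _ hlt _ rfl hSMG hk)) (mem_sup_right hn)
    have hHle : H ≤ J ⊔ normalizer ((S : Subgroup G) : Set G) := by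
      have hsup : M₁ ⊔ M₂ = ⊤ := by
        refine hM1.2 _ (lt_of_le_of_ne le_sup_left fun h => ?_)
        have h21 : M₂ ≤ M₁ := h ▸ le_sup_right
        rcases eq_or_lt_of_le h21 with h' | h'
        · exact hne h'
        · exact hM1.1 (hM2.1.2 _ h')
      calc H = (⊤ : Subgroup H).map H.subtype := by rw [← MonoidHom.range_eq_map, range_subtype]
        _ = M₁.map H.subtype ⊔ M₂.map H.subtype := by rw [← hsup, Subgroup.map_sup]
        _ ≤ _ := sup_le (key M₁ hM1 hSM1) (key M₂ hM2.1 hM2.2)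
    refine (closure_le _).2 fun x ⟨hx, k, hk⟩ => ?_
    set E := J ⊔ normalizer ((S : Subgroup G) : Set G)
    haveI : (J.subgroupOf E).Normal :=
      (normal_subgroupOf_iff_le_normalizer le_sup_left).2 (sup_le le_normalizer hJN)
    have hxE : x ∈ E := hHle hx
    have hcop : (J.relIndex E).Coprime p :=
      Nat.Coprime.coprime_dvd_left ((relIndex_dvd_of_le_left E hSJ).trans
        (relIndex_dvd_index_of_le (le_normalizer.trans le_sup_right)))
        (((Nat.Prime.coprime_iff_not_dvd Fact.out).2 S.not_dvd_index).symm)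
    have hpow : x ^ J.relIndex E ∈ J := by
      have := pow_index_mem (J.subgroupOf E) ⟨x, hxE⟩
      exact this
    obtain ⟨m, hm⟩ := exists_pow_eq_self_of_coprime (x := x)
      (show (J.relIndex E).Coprime (orderOf x) from hk ▸ hcop.pow_right k)
    rw [← hm]
    exact pow_mem hpow m

end CfsgLib.LocalEven
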