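import Cfsg.Agent.Lib.LocalEven.PReduced
/-!
Normal `p`-mod-`C(V)` subgroups of subnormal subgroups lie in `C(V)` for `p`-reduced `V`.
-/

set_option autoImplicit false

namespace CfsgLib.LocalEven

open Subgroup Cfsg

variable {L : Type*} [Group L] {p : ℕ}

theorem pResidual_normal (p : ℕ) {G : Type*} [Group G] : (pResidual p G).Normal := by
  refine ⟨fun x hx g => ?_⟩
  induction hx using closure_induction with
  | mem y hy =>
    refine subset_closure ?_
    show Nat.Coprime _ p
    rwa [← MulAut.conj_apply, MulEquiv.orderOf_eq]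
  | one => simp [one_mem]
  | mul a b _ _ iha ihb =>
    rw [show g * (a * b) * g⁻¹ = g * a * g⁻¹ * (g * b * g⁻¹) by group]
    exact mul_mem iha ihb
  | inv a _ iha =>
    rw [show g * a⁻¹ * g⁻¹ = (g * a * g⁻¹)⁻¹ by group]
    exact inv_mem iha

theorem subnormal_pMod_le [Finite L] [Fact p.Prime] {V : Subgroup L}
    (hV : IsPReducedNormal p V) {K : Subgroup L} (hK : K.IsSubnormal) :
    ∀ {M : Subgroup L}, M ≤ K → (M.subgroupOf K).Normal →
      IsPMod p (centralizer (V : Set L)) M → M ≤ centralizer (V : Set L) := by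
  haveI : (centralizer (V : Set L)).Normal := haveI := hV.1; normal_centralizer
  induction hK with
  | top =>
    intro M _ hn hm
    refine pReduced_le_centralizer hV ?_ hm
    exact normalizer_eq_top_iff.1 (top_le_iff.1 ((normal_subgroupOf_iff_le_normalizer le_top).1 hn))
  | step H K hle _ hN ih =>
    intro M hMH hn hm
    set C := centralizer (V : Set L)
    set q := QuotientGroup.mk' C
    set S := {N : Subgroup L | N ≤ H ∧ H ≤ normalizer (N : Set L) ∧ IsPMod p C N}
    have hbot : ⊥ ∈ S := ⟨bot_le, by rw [normalizer_eq_top]; exact le_top,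
      fun x hx => ⟨0, by rw [mem_bot.1 hx, one_pow]; exact one_mem _⟩⟩
    have hsup : ∀ A ∈ S, ∀ B ∈ S, A ⊔ B ∈ S := by
      intro A hA B hB
      refine ⟨sup_le hA.1 hB.1, fun g hg => ?_, ?_⟩
      · rw [mem_normalizer_iff_cj, cj, Subgroup.map_sup]
        congr 1
        · exact mem_normalizer_iff_cj.1 (hA.2.1 hg)
        · exact mem_normalizer_iff_cj.1 (hB.2.1 hg)
      · rw [isPMod_iff_map, Subgroup.map_sup]
        exact (isPMod_iff_map.1 hA.2.2).to_sup_of_normal_right' (isPMod_iff_map.1 hB.2.2)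
          ((map_mono (hA.1.trans hB.2.1)).trans (le_normalizer_map _))
    obtain ⟨P, hP, hPmax⟩ := Set.Finite.exists_maximal (Set.toFinite S) ⟨⊥, hbot⟩
    have hall : ∀ A ∈ S, A ≤ P := fun A hA =>
      le_sup_left.trans (hPmax (hsup A hA P hP) le_sup_right)
    have hHK : K ≤ normalizer (H : Set L) := (normal_subgroupOf_iff_le_normalizer hle).1 hN
    have hcjP : ∀ g ∈ K, cj g P ≤ P := by
      intro g hg
      refine hall _ ⟨?_, ?_, ?_⟩
      · exact (cj_le_cj hP.1).trans (mem_normalizer_iff_cj.1 (hHK hg)).le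
      · have := Subgroup.map_mono (f := (MulAut.conj g).toMonoidHom) hP.2.1
        rw [← cj, mem_normalizer_iff_cj.1 (hHK hg)] at this
        exact this.trans (le_normalizer_map _)
      · rintro _ ⟨x, hx, rfl⟩
        obtain ⟨k, hk⟩ := hP.2.2 x hx
        refine ⟨k, ?_⟩
        rw [← map_pow]
        exact Normal.conj_mem ‹C.Normal› _ hk g
    have hPn : K ≤ normalizer (P : Set L) := fun g hg => by
      refine mem_normalizer_iff_cj.2 (le_antisymm (hcjP g hg) ?_)
      have := cj_le_cj (g := g) (hcjP g⁻¹ (inv_mem hg))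
      rwa [cj_cj, mul_inv_cancel, cj_one] at this
    exact (hall M ⟨hMH, (normal_subgroupOf_iff_le_normalizer hMH).1 hn, hm⟩).trans
      (ih (hP.1.trans hle) ((normal_subgroupOf_iff_le_normalizer (hP.1.trans hle)).2 hPn) hP.2.2)

end CfsgLib.LocalEven
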