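import Cfsg.Agent.Lib.LocalEven.JordanField
import Cfsg.Agent.Lib.RootSub.SL2Model
import Mathlib.Algebra.Module.ZMod
import Mathlib.RingTheory.LittleWedderburn

/-!
Two groups of elations of a finite vector space `Y × Y`, fixing the two axes, of order `|Y|`
each and exchanging components, generate `SL₂` of a finite field.
-/

set_option autoImplicit false

namespace CfsgLib.LocalEven.Spread

open Matrix CfsgLib.RootSub

theorem exists_SL2 {p n : ℕ} [Fact p.Prime] (hn : 0 < n) {P : Type*} [Group P] [Finite P]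
    {A B : Subgroup P}
    (hgen : A ⊔ B = ⊤) {W : Type*} [AddCommGroup W] (σ : P →* AddMonoid.End W)
    (hinj : ∀ h : P, (∀ v, σ h v = v) → h = 1)
    (Θ : (Fin n → ZMod p) × (Fin n → ZMod p) ≃+ W)
    (s : A → Matrix (Fin n) (Fin n) (ZMod p)) (t : B → Matrix (Fin n) (Fin n) (ZMod p))
    (hs : ∀ (a : A) u w, σ a (Θ (u, w)) = Θ (u + s a *ᵥ w, w))
    (ht : ∀ (b : B) u w, σ b (Θ (u, w)) = Θ (u, t b *ᵥ u + w))
    (hdet : ∀ a : A, a ≠ 1 → (s a).det ≠ 0) (hone : ∃ a : A, s a = 1)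
    (hcA : Nat.card A = p ^ n) (hcB : Nat.card B = p ^ n)
    (hcomp : ∀ b : B, b ≠ 1 → ∃ a : A, s a * t b = 1) :
    ∃ (F : Type) (_ : Field F) (_ : Fintype F), Fintype.card F = Nat.card A ∧
      ∃ (e : P ≃* SpecialLinearGroup (Fin 2) F) (ψ : W ≃+ (Fin 2 → F)),
        ∀ h v, ψ (σ h v) = (e h : Matrix (Fin 2) (Fin 2) F) *ᵥ ψ v := by
  classical
  have hp : p.Prime := Fact.out
  have hmul : ∀ (g h : P) (v : W), σ (g * h) v = σ g (σ h v) := fun g h v => by rw [map_mul]; rfl
  have hs_mul : ∀ a a' : A, s (a * a') = s a + s a' := by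
    intro a a'
    refine Matrix.ext_of_mulVec_single fun i => ?_
    have h := hs (a * a') 0 (Pi.single i 1)
    rw [Subgroup.coe_mul, hmul, hs, hs] at h
    have := congrArg Prod.fst (Θ.injective h)
    simp only [zero_add] at this
    rw [← this, Matrix.add_mulVec, add_comm]
  have ht_mul : ∀ b b' : B, t (b * b') = t b + t b' := by
    intro b b'
    refine Matrix.ext_of_mulVec_single fun i => ?_
    have h := ht (b * b') (Pi.single i 1) 0
    rw [Subgroup.coe_mul, hmul, ht, ht] at h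
    have := congrArg Prod.snd (Θ.injective h)
    simp only [add_zero] at this
    rw [← this, Matrix.add_mulVec]
  let sH : Additive A →+ Matrix (Fin n) (Fin n) (ZMod p) :=
    AddMonoidHom.mk' (fun a => s a.toMul) (fun a a' => hs_mul a.toMul a'.toMul)
  let tH : Additive B →+ Matrix (Fin n) (Fin n) (ZMod p) :=
    AddMonoidHom.mk' (fun b => t b.toMul) (fun b b' => ht_mul b.toMul b'.toMul)
  have hsinj : Function.Injective s := by
    intro a a' h
    have h1 : s (a * a'⁻¹) = 0 := by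
      have := hs_mul (a * a'⁻¹) a'
      rw [inv_mul_cancel_right, h, right_eq_add] at this
      exact this
    refine mul_inv_eq_one.mp (Subtype.ext (hinj _ fun v => ?_))
    obtain ⟨⟨u, w⟩, rfl⟩ := Θ.surjective v
    rw [hs, h1, Matrix.zero_mulVec, add_zero]
  have htinj : Function.Injective t := by
    intro b b' h
    have h1 : t (b * b'⁻¹) = 0 := by
      have := ht_mul (b * b'⁻¹) b'
      rw [inv_mul_cancel_right, h, right_eq_add] at this
      exact this
    refine mul_inv_eq_one.mp (Subtype.ext (hinj _ fun v => ?_))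
    obtain ⟨⟨u, w⟩, rfl⟩ := Θ.surjective v
    rw [ht, h1, Matrix.zero_mulVec, zero_add]
  set S := sH.range with hS
  set T := tH.range with hT
  have hmemS : ∀ m, m ∈ S ↔ ∃ a, s a = m := fun m =>
    ⟨fun ⟨a, ha⟩ => ⟨a.toMul, ha⟩, fun ⟨a, ha⟩ => ⟨Additive.ofMul a, ha⟩⟩
  have hmemT : ∀ m, m ∈ T ↔ ∃ b, t b = m := fun m =>
    ⟨fun ⟨b, hb⟩ => ⟨b.toMul, hb⟩, fun ⟨b, hb⟩ => ⟨Additive.ofMul b, hb⟩⟩
  have hs1 : s 1 = 0 := sH.map_zero
  have ht1 : t 1 = 0 := tH.map_zero
  have hunit : ∀ x ∈ S, x ≠ 0 → IsUnit x.det := by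
    intro x hx hx0
    obtain ⟨a, rfl⟩ := (hmemS x).mp hx
    exact isUnit_iff_ne_zero.mpr (hdet a fun h => hx0 (h ▸ hs1))
  have h1S : (1 : Matrix (Fin n) (Fin n) (ZMod p)) ∈ S := (hmemS 1).mpr hone
  have hTS : ∀ y ∈ T, y ≠ 0 → IsUnit y.det ∧ y⁻¹ ∈ S := by
    intro y hy hy0
    obtain ⟨b, rfl⟩ := (hmemT y).mp hy
    obtain ⟨a, ha⟩ := hcomp b fun h => hy0 (h ▸ ht1)
    refine ⟨?_, ?_⟩
    · exact Matrix.isUnit_det_of_left_inverse ha
    · rw [Matrix.inv_eq_left_inv ha]
      exact (hmemS _).mpr ⟨a, rfl⟩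
  have hST : ∀ x ∈ S, x ≠ 0 → x⁻¹ ∈ T := by
    have hne : ∀ b : B, b ≠ 1 → t b ≠ 0 := fun b hb h => hb (htinj (h.trans ht1.symm))
    choose f hf using hcomp
    let g : B → A := fun b => if hb : b = 1 then 1 else f b hb
    have hginj : Function.Injective g := by
      intro b b' h
      simp only [g] at h
      have hf1 : ∀ (b : B) (hb : b ≠ 1), f b hb ≠ 1 := fun b hb e => by
        have := hf b hb
        rw [e, hs1, zero_mul] at this
        have h00 := congrFun (congrFun this ⟨0, hn⟩) ⟨0, hn⟩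
        simp at h00
      split_ifs at h with hb hb' hb'
      · rw [hb, hb']
      · exact absurd h.symm (hf1 b' hb')
      · exact absurd h (hf1 b hb)
      · refine htinj ?_
        have e1 := Matrix.inv_eq_right_inv (hf b hb)
        have e2 := Matrix.inv_eq_right_inv (hf b' hb')
        rw [← e1, ← e2, h]
    obtain ⟨-, hgsurj⟩ := hginj.bijective_of_nat_card_le (hcA.trans hcB.symm).le
    intro x hx hx0
    obtain ⟨a, rfl⟩ := (hmemS x).mp hx
    obtain ⟨b, hb⟩ := hgsurj a
    by_cases hb1 : b = 1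
    · simp only [g, hb1, dite_true] at hb
      exact absurd (hb ▸ hs1) hx0
    · simp only [g, hb1, dite_false] at hb
      rw [← hb, Matrix.inv_eq_right_inv (hf b hb1)]
      exact (hmemT _).mpr ⟨b, rfl⟩
  -- Hua's identity
  have hsts : ∀ x ∈ S, ∀ y ∈ T, x * y * x ∈ S := by
    intro x hx y hy
    rcases eq_or_ne x 0 with rfl | hx0
    · simp
    rcases eq_or_ne y 0 with rfl | hy0
    · simp
    obtain ⟨hyu, hyS⟩ := hTS y hy hy0
    have hxu := hunit x hx hx0
    rcases eq_or_ne (y⁻¹ - x) 0 with h | h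
    · rw [← sub_eq_zero.mp h, Matrix.nonsing_inv_mul _ hyu, one_mul]
      exact hyS
    set r := (y⁻¹ - x)⁻¹ with hr
    have hru := hunit _ (sub_mem hyS hx) h
    have hqT : x⁻¹ + r ∈ T := add_mem (hST x hx hx0) (hST _ (sub_mem hyS hx) h)
    have hprod : (x - x * y * x) * (x⁻¹ + r) = 1 := by
      have e1 : x - x * y * x = x * y * (y⁻¹ - x) := by
        rw [mul_sub, mul_assoc x y y⁻¹, Matrix.mul_nonsing_inv _ hyu, mul_one]
      rw [mul_add, e1, mul_assoc (x * y) _ r, hr, Matrix.mul_nonsing_inv _ hru, mul_one, ← e1,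
        sub_mul, Matrix.mul_nonsing_inv _ hxu, mul_assoc (x * y) x, Matrix.mul_nonsing_inv _ hxu,
        mul_one, sub_add_cancel]
    have hq0 : x⁻¹ + r ≠ 0 := by
      intro hz
      rw [hz, mul_zero] at hprod
      have h00 := congrFun (congrFun hprod ⟨0, hn⟩) ⟨0, hn⟩
      simp at h00
    have h2 : x - x * y * x ∈ S := by
      rw [← Matrix.inv_eq_left_inv hprod]
      exact (hTS _ hqT hq0).2
    simpa using sub_mem hx h2
  have hTsub : ∀ y ∈ T, y ∈ S := fun y hy => by simpa using hsts 1 h1S y hy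
  have hSTeq : ∀ x ∈ S, x ∈ T := by
    have hcS : Nat.card S = p ^ n := by
      rw [← hcA]
      exact (Nat.card_congr (Equiv.ofInjective s hsinj)).symm ▸
        Nat.card_congr (Equiv.subtypeEquivRight fun m => (hmemS m))
    have hcT : Nat.card T = p ^ n := by
      rw [← hcB]
      exact (Nat.card_congr (Equiv.ofInjective t htinj)).symm ▸
        Nat.card_congr (Equiv.subtypeEquivRight fun m => (hmemT m))
    have he : T = S := AddSubgroup.eq_of_le_of_card_ge hTsub (hcS.trans hcT.symm).le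
    exact fun x hx => he ▸ hx
  have hxyx : ∀ x ∈ S, ∀ y ∈ S, x * y * x ∈ S := fun x hx y hy => hsts x hx y (hSTeq y hy)
  have hdim : Module.finrank (ZMod p) (AddSubgroup.toZModSubmodule p S) = n := by
    refine Nat.pow_right_injective hp.two_le ?_
    show p ^ _ = p ^ n
    have h1 := Module.natCard_eq_pow_finrank (K := ZMod p) (V := AddSubgroup.toZModSubmodule p S)
    rw [Nat.card_zmod] at h1
    rw [← h1, ← hcA]
    exact (Nat.card_congr (Equiv.ofInjective s hsinj)).symm ▸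
      Nat.card_congr (Equiv.subtypeEquivRight fun m => (hmemS m))
  have hcomm : ∀ x ∈ S, ∀ y ∈ S, x * y = y * x := fun x hx y hy =>
    Jordan.commute_of_jordan (AddSubgroup.toZModSubmodule p S) hdim h1S hxyx
      (fun a ha ha0 => (hunit a ha ha0).ne_zero) hx hy
  have hmulS : ∀ x ∈ S, ∀ y ∈ S, x * y ∈ S := by
    intro x hx y hy
    have h2xy : (2 : ℕ) • (x * y) ∈ S := by
      have e : (x + 1) * y * (x + 1) - x * y * x - y = (2 : ℕ) • (x * y) := by
        rw [two_nsmul]
        nth_rewrite 2 [hcomm x hx y hy]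
        simp only [add_mul, mul_add, one_mul, mul_one]
        abel
      rw [← e]
      exact sub_mem (sub_mem (hxyx _ (add_mem hx h1S) y hy) (hxyx x hx y hy)) hy
    rcases eq_or_ne p 2 with hp2 | hp2
    · -- every member is a square
      let sq : S → S := fun z => ⟨(z : Matrix (Fin n) (Fin n) (ZMod p)) * z, by
        simpa using hxyx z z.2 1 h1S⟩
      have hsq : Function.Injective sq := by
        rintro ⟨z, hz⟩ ⟨z', hz'⟩ h
        have h' : z * z = z' * z' := congrArg Subtype.val h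
        have h0 : (z - z') * (z + z') = 0 := by
          rw [sub_mul, mul_add, mul_add, hcomm z hz z' hz', h']
          abel
        have hchar : ∀ m : Matrix (Fin n) (Fin n) (ZMod p), m + m = 0 := fun m => by
          subst hp2
          ext i j
          show m i j + m i j = 0
          exact CharTwo.add_self_eq_zero _
        have hpm : z + z' = z - z' := by
          rw [sub_eq_add_neg, neg_eq_of_add_eq_zero_left (hchar z')]
        apply Subtype.ext
        show z = z'
        by_contra hne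
        have hu := hunit _ (sub_mem hz hz') (sub_ne_zero.mpr hne)
        rw [hpm] at h0
        have := congrArg ((z - z')⁻¹ * ·) h0
        simp only [← mul_assoc, Matrix.nonsing_inv_mul _ hu, one_mul, mul_zero] at this
        exact hne (sub_eq_zero.mp this)
      obtain ⟨⟨z, hz⟩, hzx⟩ := (Finite.injective_iff_surjective.mp hsq) ⟨x, hx⟩
      have e : z * z = x := congrArg Subtype.val hzx
      rw [← e, mul_assoc, hcomm z hz y hy, ← mul_assoc]
      exact hxyx z hz y hy
    · obtain ⟨m, hm⟩ := hp.odd_of_ne_two hp2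
      have e : x * y = (m + 1) • (2 : ℕ) • (x * y) := by
        rw [← mul_nsmul, show 2 * (m + 1) = p + 1 by omega, add_nsmul, one_nsmul,
          ← Nat.cast_smul_eq_nsmul (ZMod p), ZMod.natCast_self, zero_smul, zero_add]
      rw [e]
      exact S.nsmul_mem h2xy _
  let F : Subring (Matrix (Fin n) (Fin n) (ZMod p)) :=
    { S with one_mem' := h1S, mul_mem' := fun {a b} ha hb => hmulS a ha b hb }
  have hFmem : ∀ m, m ∈ F ↔ m ∈ S := fun m => Iff.rfl
  have hfield : IsField F := by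
    refine ⟨⟨0, 1, fun h => ?_⟩, fun a b => Subtype.ext (hcomm a a.2 b b.2), fun {a} ha => ?_⟩
    · have := congrArg Subtype.val h
      have h00 := congrFun (congrFun this ⟨0, hn⟩) ⟨0, hn⟩
      simp at h00
    · have ha' : (a : Matrix (Fin n) (Fin n) (ZMod p)) ≠ 0 := fun h => ha (Subtype.ext h)
      refine ⟨⟨_, hTsub _ (hST a a.2 ha')⟩, Subtype.ext ?_⟩
      exact Matrix.mul_nonsing_inv _ (hunit a a.2 ha')
  let _ : Field F := hfield.toField
  let _ : Fintype F := Fintype.ofFinite F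
  have hcardF : Fintype.card F = Nat.card A := by
    rw [← Nat.card_eq_fintype_card]
    exact (Nat.card_congr (Equiv.ofInjective s hsinj)).symm ▸
      Nat.card_congr (Equiv.subtypeEquivRight fun m => ((hFmem m).trans (hmemS m)))
  -- `Y` is a line over `F`
  let v0 : Fin n → ZMod p := Pi.single ⟨0, hn⟩ 1
  let ε : F →+ (Fin n → ZMod p) :=
    AddMonoidHom.mk' (fun a => (a : Matrix (Fin n) (Fin n) (ZMod p)) *ᵥ v0)
      (fun a b => Matrix.add_mulVec _ _ _)
  have hεinj : Function.Injective ε := by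
    rw [injective_iff_map_eq_zero]
    intro a ha
    by_contra h0
    have ha' : (a : Matrix (Fin n) (Fin n) (ZMod p)) ≠ 0 := fun h => h0 (Subtype.ext h)
    have h := congrArg ((a : Matrix (Fin n) (Fin n) (ZMod p))⁻¹ *ᵥ ·) ha
    simp only [ε, AddMonoidHom.mk'_apply, Matrix.mulVec_mulVec, Matrix.mulVec_zero,
      Matrix.nonsing_inv_mul _ (hunit a a.2 ha'), Matrix.one_mulVec] at h
    simpa [v0] using congrFun h ⟨0, hn⟩
  have hεbij : Function.Bijective ε := by
    refine hεinj.bijective_of_nat_card_le ?_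
    rw [Nat.card_eq_fintype_card (α := F), hcardF, hcA, Nat.card_fun, Nat.card_zmod, Nat.card_fin]
  have hεmul : ∀ a c : F, ε (a * c) = (a : Matrix (Fin n) (Fin n) (ZMod p)) *ᵥ ε c := fun a c => by
    show ((a * c : F) : Matrix (Fin n) (Fin n) (ZMod p)) *ᵥ v0 =
      (a : Matrix (Fin n) (Fin n) (ZMod p)) *ᵥ ((c : Matrix (Fin n) (Fin n) (ZMod p)) *ᵥ v0)
    rw [Matrix.mulVec_mulVec]
    rfl
  let εe := AddEquiv.ofBijective ε hεbij
  let Ψ : (Fin 2 → F) ≃+ W :=
    ({ toFun := fun c => (εe (c 0), εe (c 1))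
       invFun := fun uw => ![εe.symm uw.1, εe.symm uw.2]
       left_inv := fun c => by
         funext i; fin_cases i <;> simp
       right_inv := fun uw => by simp
       map_add' := fun c d => by simp } : (Fin 2 → F) ≃+ _).trans Θ
  let τ : SpecialLinearGroup (Fin 2) F → W → W := fun g v =>
    Ψ ((g : Matrix (Fin 2) (Fin 2) F) *ᵥ Ψ.symm v)
  have hτinj : ∀ g g' : SpecialLinearGroup (Fin 2) F, (∀ v, τ g v = τ g' v) → g = g' := by
    intro g g' h
    refine Subtype.ext (Matrix.ext_of_mulVec_single fun i => ?_)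
    have h1 := h (Ψ (Pi.single i 1))
    simp only [τ, AddEquiv.symm_apply_apply, EmbeddingLike.apply_eq_iff_eq] at h1
    exact h1
  have hA : ∀ a : A, ∀ v, σ a v = τ (slU ⟨s a, (hmemS _).mpr ⟨a, rfl⟩⟩) v := by
    intro a v
    obtain ⟨c, rfl⟩ := Ψ.surjective v
    show σ a (Θ (ε (c 0), ε (c 1))) = Ψ (_ *ᵥ Ψ.symm (Ψ c))
    rw [Ψ.symm_apply_apply, hs]
    show _ = Θ (ε _, ε _)
    rw [show ((slU (⟨s a, (hmemS _).mpr ⟨a, rfl⟩⟩ : F) : Matrix (Fin 2) (Fin 2) F) *ᵥ c) 0 =
        c 0 + ⟨s a, (hmemS _).mpr ⟨a, rfl⟩⟩ * c 1 by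
          simp [slU_val, Matrix.mulVec, dotProduct, Fin.sum_univ_two],
      show ((slU (⟨s a, (hmemS _).mpr ⟨a, rfl⟩⟩ : F) : Matrix (Fin 2) (Fin 2) F) *ᵥ c) 1 = c 1 by
          simp [slU_val, Matrix.mulVec, dotProduct, Fin.sum_univ_two], map_add, hεmul]
  have hB : ∀ b : B, ∀ v, σ b v = τ (slL ⟨t b, hTsub _ ((hmemT _).mpr ⟨b, rfl⟩)⟩) v := by
    intro b v
    obtain ⟨c, rfl⟩ := Ψ.surjective v
    show σ b (Θ (ε (c 0), ε (c 1))) = Ψ (_ *ᵥ Ψ.symm (Ψ c))
    rw [Ψ.symm_apply_apply, ht]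
    show _ = Θ (ε _, ε _)
    rw [show ((slL (⟨t b, hTsub _ ((hmemT _).mpr ⟨b, rfl⟩)⟩ : F) : Matrix (Fin 2) (Fin 2) F) *ᵥ c) 1 =
        ⟨t b, hTsub _ ((hmemT _).mpr ⟨b, rfl⟩)⟩ * c 0 + c 1 by
          simp [slL_val, Matrix.mulVec, dotProduct, Fin.sum_univ_two],
      show ((slL (⟨t b, hTsub _ ((hmemT _).mpr ⟨b, rfl⟩)⟩ : F) : Matrix (Fin 2) (Fin 2) F) *ᵥ c) 0 =
        c 0 by simp [slL_val, Matrix.mulVec, dotProduct, Fin.sum_univ_two], map_add, hεmul]
  have hτmul : ∀ g g' : SpecialLinearGroup (Fin 2) F, ∀ v, τ (g * g') v = τ g (τ g' v) := by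
    intro g g' v
    simp only [τ, AddEquiv.symm_apply_apply, Matrix.mulVec_mulVec]
    rfl
  have hall : ∀ h : P, ∃ g, ∀ v, σ h v = τ g v := by
    intro h
    have hh : h ∈ Subgroup.closure ((A : Set P) ∪ B) := by
      rw [← Subgroup.sup_eq_closure, hgen]; trivial
    induction hh using Subgroup.closure_induction with
    | mem x hx =>
      rcases hx with hx | hx
      · exact ⟨_, hA ⟨x, hx⟩⟩
      · exact ⟨_, hB ⟨x, hx⟩⟩
    | one =>
      refine ⟨1, fun v => ?_⟩
      rw [map_one]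
      show v = Ψ ((1 : Matrix (Fin 2) (Fin 2) F) *ᵥ Ψ.symm v)
      rw [Matrix.one_mulVec, Ψ.apply_symm_apply]
    | mul x y _ _ hx hy =>
      obtain ⟨g, hg⟩ := hx
      obtain ⟨g', hg'⟩ := hy
      exact ⟨g * g', fun v => by rw [hmul, hg, hg', hτmul]⟩
    | inv x _ hx =>
      obtain ⟨g, hg⟩ := hx
      refine ⟨g⁻¹, fun v => ?_⟩
      have h1 : v = τ g (τ g⁻¹ v) := by
        rw [← hτmul, mul_inv_cancel]
        show v = Ψ ((1 : Matrix (Fin 2) (Fin 2) F) *ᵥ Ψ.symm v)
        rw [Matrix.one_mulVec, Ψ.apply_symm_apply]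
      conv_lhs => rw [h1, ← hg, ← hmul, inv_mul_cancel, map_one]
      rfl
  choose e he using hall
  let eH : P →* SpecialLinearGroup (Fin 2) F := MonoidHom.mk' e fun h k =>
    hτinj _ _ fun v => by rw [← he, hmul, he, he, ← hτmul]
  have hebij : Function.Bijective eH := by
    constructor
    · rw [injective_iff_map_eq_one]
      intro h hh
      refine hinj h fun v => ?_
      rw [he, show e h = 1 from hh]
      show Ψ ((1 : Matrix (Fin 2) (Fin 2) F) *ᵥ Ψ.symm v) = v
      rw [Matrix.one_mulVec, Ψ.apply_symm_apply]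
    · rw [← MonoidHom.range_eq_top, eq_top_iff, ← sl2_sup_eq_top, lowerUnipotent_eq, upperUnipotent_eq]
      refine sup_le ?_ ?_
      · rintro _ ⟨x, rfl⟩
        obtain ⟨b, hb⟩ := (hmemT _).mp (hSTeq _ x.toAdd.2)
        refine ⟨b, hτinj _ _ fun v => (he _ v).symm.trans ((hB b v).trans ?_)⟩
        simp only [hb]
        rfl
      · rintro _ ⟨x, rfl⟩
        obtain ⟨a, ha⟩ := (hmemS _).mp x.toAdd.2
        refine ⟨a, hτinj _ _ fun v => (he _ v).symm.trans ((hA a v).trans ?_)⟩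
        simp only [ha]
        rfl
  refine ⟨F, inferInstance, inferInstance, hcardF, MulEquiv.ofBijective eH hebij, Ψ.symm, fun h v => ?_⟩
  rw [he h v]
  exact Ψ.symm_apply_apply _

end CfsgLib.LocalEven.Spread
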