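import Cfsg.Agent.Lib.LocEven.SubnormalSylow
import Cfsg.Agent.Lib.LocalEven.SpreadSL2
import Mathlib.Algebra.Field.ZMod
import Mathlib.LinearAlgebra.Matrix.ToLin
import Mathlib.LinearAlgebra.Matrix.NonsingularInverse
import Mathlib.GroupTheory.QuotientGroup.Basic

/-!
A group generated by a quadratic offender group and each of its conjugates outside the unique
maximal subgroup over a Sylow subgroup is `SL₂` on its natural module.
-/

set_option autoImplicit false

namespace CfsgLib.LocalEven.Pair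

open Matrix

/-- If `f : X → Y` is injective modulo `Z` and `|X| = |Y|`, it is surjective modulo `Z`. -/
theorem surj_mod {V : Type*} [AddCommGroup V] [Finite V] {X Y Z : AddSubgroup V} (f : V →+ V)
    (hZX : Z ≤ X) (hZY : Z ≤ Y) (hf : ∀ x ∈ X, f x ∈ Y) (hker : ∀ x ∈ X, f x ∈ Z → x ∈ Z)
    (hcard : Nat.card Y ≤ Nat.card X) {y : V} (hy : y ∈ Y) : ∃ x ∈ X, y - f x ∈ Z := by
  let φ : X × Z →+ Y := AddMonoidHom.mk' (fun xz => ⟨f xz.1 + xz.2, add_mem (hf _ xz.1.2) (hZY xz.2.2)⟩)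
    (fun a b => Subtype.ext (by
      show f ((a.1 : V) + b.1) + ((a.2 : V) + b.2) = f a.1 + a.2 + (f b.1 + b.2)
      rw [map_add]; abel))
  have hk : ∀ k : φ.ker, ((k : X × Z).1 : V) ∈ Z ∧ f (k : X × Z).1 + ((k : X × Z).2 : V) = 0 := by
    rintro ⟨⟨x, z⟩, hxz⟩
    have h := congrArg Subtype.val (AddMonoidHom.mem_ker.mp hxz)
    change f x + (z : V) = 0 at h
    exact ⟨hker x x.2 (by rw [eq_neg_of_add_eq_zero_left h]; exact neg_mem z.2), h⟩
  have hkc : Nat.card φ.ker ≤ Nat.card Z := by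
    refine Nat.card_le_card_of_injective (fun k => ⟨_, (hk k).1⟩) fun a b h => ?_
    have h1 : ((a : X × Z).1 : V) = (b : X × Z).1 := (congrArg (fun z : Z => (z : V)) h :)
    refine Subtype.ext (Prod.ext (Subtype.ext h1) (Subtype.ext ?_))
    have ha := (hk a).2
    have hb := (hk b).2
    rw [h1] at ha
    exact add_left_cancel (ha.trans hb.symm)
  have hr : Nat.card Y ≤ Nat.card φ.range := by
    have h := φ.ker.index_mul_card
    rw [AddSubgroup.index_ker, Nat.card_prod] at h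
    refine Nat.le_of_mul_le_mul_right ?_ (Nat.card_pos (α := Z))
    exact (Nat.mul_le_mul_right _ hcard).trans (h.symm.le.trans (Nat.mul_le_mul_left _ hkc))
  have htop : φ.range = ⊤ := AddSubgroup.eq_top_of_le_card _ hr
  obtain ⟨⟨x, z⟩, hxz⟩ : (⟨y, hy⟩ : Y) ∈ φ.range := htop ▸ trivial
  exact ⟨x, x.2, by rw [← show f x + (z : V) = y from congrArg Subtype.val hxz, add_sub_cancel_left]; exact z.2⟩

/-- Independent subgroups have small product. -/
theorem card_mul_card_le {V : Type*} [AddCommGroup V] [Finite V] {X Y W Z : AddSubgroup V}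
    (hX : X ≤ W) (hY : Y ≤ W) (h : ∀ v, v ∈ X → v ∈ Y → v ∈ Z) :
    Nat.card X * Nat.card Y ≤ Nat.card W * Nat.card Z := by
  let φ : X × Y →+ W := AddMonoidHom.mk' (fun xy => ⟨(xy.1 : V) + xy.2, add_mem (hX xy.1.2) (hY xy.2.2)⟩)
    (fun a b => Subtype.ext (by
      show ((a.1 : V) + b.1) + ((a.2 : V) + b.2) = a.1 + a.2 + ((b.1 : V) + b.2)
      abel))
  have hk : ∀ k : φ.ker, ((k : X × Y).1 : V) ∈ Z ∧ ((k : X × Y).1 : V) + ((k : X × Y).2 : V) = 0 := by
    rintro ⟨⟨x, y⟩, hxy⟩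
    have he := congrArg Subtype.val (AddMonoidHom.mem_ker.mp hxy)
    change (x : V) + (y : V) = 0 at he
    exact ⟨h _ x.2 (by rw [eq_neg_of_add_eq_zero_left he]; exact neg_mem y.2), he⟩
  have hkc : Nat.card φ.ker ≤ Nat.card Z := by
    refine Nat.card_le_card_of_injective (fun k => ⟨_, (hk k).1⟩) fun a b e => ?_
    have h1 : ((a : X × Y).1 : V) = (b : X × Y).1 := (congrArg (fun z : Z => (z : V)) e :)
    refine Subtype.ext (Prod.ext (Subtype.ext h1) (Subtype.ext ?_))
    have ha := (hk a).2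
    have hb := (hk b).2
    rw [h1] at ha
    exact add_left_cancel (ha.trans hb.symm)
  have h' := φ.ker.index_mul_card
  rw [AddSubgroup.index_ker, Nat.card_prod] at h'
  rw [← h']
  exact Nat.mul_le_mul (AddSubgroup.card_le_card_addGroup _) hkc

theorem exists_addEquiv_pi_of_module {Y : Type*} [AddCommGroup Y] [Finite Y] {p n : ℕ}
    [Fact p.Prime] [Module (ZMod p) Y] (hcard : Nat.card Y = p ^ n) :
    Nonempty ((Fin n → ZMod p) ≃+ Y) := by
  have hp : p.Prime := Fact.out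
  have h1 : Nat.card Y = p ^ Module.finrank (ZMod p) Y := by
    rw [Module.natCard_eq_pow_finrank (K := ZMod p), Nat.card_zmod]
  rw [hcard] at h1
  have hfr : Module.finrank (ZMod p) Y = n := (Nat.pow_right_injective hp.two_le h1).symm
  have := Module.Finite.of_finite (R := ZMod p) (M := Y)
  exact ⟨(Module.finBasisOfFinrankEq (ZMod p) Y hfr).equivFun.symm.toAddEquiv⟩

/-- A finite elementary abelian `p`-group is a coordinate space. -/
theorem exists_addEquiv_pi {Y : Type*} [AddCommGroup Y] [Finite Y] {p n : ℕ} [Fact p.Prime]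
    (hYp : ∀ y : Y, p • y = 0) (hcard : Nat.card Y = p ^ n) :
    Nonempty ((Fin n → ZMod p) ≃+ Y) :=
  @exists_addEquiv_pi_of_module Y _ _ p n _ (AddCommGroup.zmodModule hYp) hcard

variable {P : Type*} [Group P] {V : Type*} [AddCommGroup V] (ρ : P →* AddMonoid.End V)

/-- Fixed points of a subgroup. -/
def fix (H : Subgroup P) : AddSubgroup V where
  carrier := {v | ∀ h ∈ H, ρ h v = v}
  add_mem' := fun {a b} ha hb h hh => by rw [map_add, ha h hh, hb h hh]
  zero_mem' := fun h _ => map_zero _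
  neg_mem' := fun {a} ha h hh => by rw [map_neg, ha h hh]

theorem act_mul (g h : P) (v : V) : ρ (g * h) v = ρ g (ρ h v) := by rw [map_mul]; rfl

theorem act_one (v : V) : ρ 1 v = v := by rw [map_one]; rfl

theorem act_inv_act (g : P) (v : V) : ρ g⁻¹ (ρ g v) = v := by
  rw [← act_mul, inv_mul_cancel, act_one]

theorem act_act_inv (g : P) (v : V) : ρ g (ρ g⁻¹ v) = v := by
  rw [← act_mul, mul_inv_cancel, act_one]

theorem act_injective (g : P) : Function.Injective (ρ g) := fun u v h => by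
  rw [← act_inv_act ρ g u, h, act_inv_act]

/-- Stabilizer of a vector. -/
def stab (v : V) : Subgroup P where
  carrier := {h | ρ h v = v}
  mul_mem' := fun {a b} ha hb => by
    show ρ (a * b) v = v
    rw [act_mul, show ρ b v = v from hb, show ρ a v = v from ha]
  one_mem' := act_one ρ v
  inv_mem' := fun {a} ha => by
    show ρ a⁻¹ v = v
    nth_rewrite 1 [← show ρ a v = v from ha]
    exact act_inv_act ρ a v

theorem mem_fix_conj {A : Subgroup P} {g : P} {v : V} :
    v ∈ fix ρ (A.map (MulAut.conj g).toMonoidHom) ↔ ρ g⁻¹ v ∈ fix ρ A := by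
  constructor
  · intro h a ha
    have h1 := h _ ⟨a, ha, rfl⟩
    apply act_injective ρ g
    rw [act_act_inv]
    conv_rhs => rw [← h1]
    simp [act_mul, mul_assoc]
  · rintro h _ ⟨a, ha, rfl⟩
    simp [act_mul, mul_assoc, h a ha, act_act_inv]

theorem fix_inf_fix {A B : Subgroup P} (hgen : A ⊔ B = ⊤) {v : V} (ha : v ∈ fix ρ A)
    (hb : v ∈ fix ρ B) : v ∈ fix ρ ⊤ := by
  intro h _
  exact (show (⊤ : Subgroup P) ≤ stab ρ v from hgen ▸ sup_le (fun a h => ha a h) (fun b h => hb b h))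
    (Subgroup.mem_top h)

/-- Central triviality for a conjugate pair. -/
theorem trivial_of_mod {A : Subgroup P} {g : P} (hgen : A ⊔ A.map (MulAut.conj g).toMonoidHom = ⊤)
    {H : Subgroup P} (hH : H ⊔ A.map (MulAut.conj g).toMonoidHom = ⊤) {v : V}
    (hv : v ∈ fix ρ (A.map (MulAut.conj g).toMonoidHom))
    (hmod : ∀ h ∈ H, ρ h v - v ∈ fix ρ ⊤) : v ∈ fix ρ ⊤ := by
  have hall : ∀ h : P, ρ h v - v ∈ fix ρ ⊤ := by
    intro h
    have hh : h ∈ Subgroup.closure ((H : Set P) ∪ (A.map (MulAut.conj g).toMonoidHom : Subgroup P)) := by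
      rw [← Subgroup.sup_eq_closure, hH]; trivial
    induction hh using Subgroup.closure_induction with
    | mem x hx =>
      rcases hx with hx | hx
      · exact hmod x hx
      · rw [hv x hx, sub_self]; exact zero_mem _
    | one => rw [act_one, sub_self]; exact zero_mem _
    | mul x y _ _ hx hy =>
      have e : ρ (x * y) v - v = (ρ y v - v) + (ρ x v - v) := by
        have h1 := hy x (Subgroup.mem_top x)
        rw [map_sub] at h1
        rw [act_mul, ← h1]; abel
      rw [e]; exact add_mem hy hx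
    | inv x _ hx =>
      have h1 := hx x⁻¹ (Subgroup.mem_top _)
      rw [map_sub, act_inv_act] at h1
      rw [show ρ x⁻¹ v - v = -(v - ρ x⁻¹ v) by abel, h1]
      exact neg_mem hx
  refine fix_inf_fix ρ hgen (fun a ha => ?_) hv
  have hb : g * a * g⁻¹ ∈ stab ρ v := hv _ ⟨a, ha, rfl⟩
  have h1 : ρ a v = ρ g⁻¹ (ρ (g * a * g⁻¹) (ρ g v)) := by
    rw [← act_mul, ← act_mul]; simp [mul_assoc]
  have h2 : ρ (g * a * g⁻¹) (ρ g v - v) = ρ g v - v := hall g _ (Subgroup.mem_top _)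
  rw [map_sub, show ρ (g * a * g⁻¹) v = v from hb, sub_left_inj] at h2
  rw [h1, h2, act_inv_act]

variable [Finite P] [Finite V] {A M : Subgroup P}

/-- The key generation observation. -/
theorem zpowers_sup_eq_top (hM : IsCoatom M)
    (hgen : ∀ x : P, x ∉ M → A ⊔ A.map (MulAut.conj x).toMonoidHom = ⊤)
    {g a : P} (h : g⁻¹ * a * g ∉ M) :
    Subgroup.zpowers a ⊔ A.map (MulAut.conj g).toMonoidHom = ⊤ := by
  set R := Subgroup.zpowers a ⊔ A.map (MulAut.conj g).toMonoidHom with hR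
  have htop := hgen _ h
  rw [eq_top_iff]
  intro y _
  have hy : g⁻¹ * y * g ∈ (⊤ : Subgroup P) := trivial
  rw [← htop] at hy
  have hle : (A ⊔ A.map (MulAut.conj (g⁻¹ * a * g)).toMonoidHom).map (MulAut.conj g).toMonoidHom ≤ R := by
    rw [Subgroup.map_sup]
    refine sup_le le_sup_right ?_
    rintro _ ⟨_, ⟨u, hu, rfl⟩, rfl⟩
    have ha : a ∈ R := Subgroup.mem_sup_left (Subgroup.mem_zpowers a)
    have hb : g * u * g⁻¹ ∈ R := Subgroup.mem_sup_right ⟨u, hu, rfl⟩
    simpa [mul_assoc] using mul_mem (mul_mem ha hb) (inv_mem ha)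
  have := hle ⟨_, hy, rfl⟩
  simpa [mul_assoc] using this

theorem card_fix_inf (g : P) (A : Subgroup P) {W : AddSubgroup V} (hW : ∀ h : P, ∀ w ∈ W, ρ h w ∈ W) :
    Nat.card ↥(fix ρ (A.map (MulAut.conj g).toMonoidHom) ⊓ W) = Nat.card ↥(fix ρ A ⊓ W) := by
  refine Nat.card_congr ⟨fun v => ⟨ρ g⁻¹ v, ?_⟩, fun v => ⟨ρ g v, ?_⟩, fun v => ?_, fun v => ?_⟩
  · exact AddSubgroup.mem_inf.mpr
      ⟨(mem_fix_conj ρ).mp (AddSubgroup.mem_inf.mp v.2).1, hW _ _ (AddSubgroup.mem_inf.mp v.2).2⟩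
  · refine AddSubgroup.mem_inf.mpr ⟨(mem_fix_conj ρ).mpr ?_, hW _ _ (AddSubgroup.mem_inf.mp v.2).2⟩
    rw [act_inv_act]; exact (AddSubgroup.mem_inf.mp v.2).1
  · exact Subtype.ext (act_act_inv ρ g v)
  · exact Subtype.ext (act_inv_act ρ g v)

/-- In an invariant subgroup, an element of `A` outside the core of `M` fixes nothing of a
conjugate fixed space. -/
theorem injective_on_module (hM : IsCoatom M) (hAM : A ≤ M)
    (hgen : ∀ x : P, x ∉ M → A ⊔ A.map (MulAut.conj x).toMonoidHom = ⊤)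
    (hquad : ∀ a ∈ A, ∀ a' ∈ A, ∀ v, ρ a' (ρ a v - v) = ρ a v - v)
    {W : AddSubgroup V} (hW : ∀ h : P, ∀ w ∈ W, ρ h w ∈ W)
    {a : P} (ha : a ∈ A) (haN : a ∉ M.normalCore) {g : P} (hg : g ∉ M) {v : V}
    (hv : v ∈ W) (hvB : v ∈ fix ρ (A.map (MulAut.conj g).toMonoidHom))
    (hd : ρ a v - v ∈ fix ρ ⊤) : v ∈ fix ρ ⊤ := by
  classical
  set Z0 := fix ρ (⊤ : Subgroup P) ⊓ W with hZ0
  have hdW : ∀ h : P, ∀ w ∈ W, ρ h w - w ∈ W := fun h w hw => sub_mem (hW h w hw) hw
  let D : AddSubgroup V := AddSubgroup.closure {y | ∃ h : P, ∃ w ∈ W, ρ h w - w = y} ⊔ Z0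
  have hDinv : ∀ k : P, ∀ y ∈ D, ρ k y ∈ D := by
    intro k
    suffices D ≤ D.comap (ρ k) from fun y hy => this hy
    refine sup_le ((AddSubgroup.closure_le _).mpr ?_) fun z hz => ?_
    · rintro _ ⟨h, w, hw, rfl⟩
      refine AddSubgroup.mem_sup_left (AddSubgroup.subset_closure ⟨k * h * k⁻¹, ρ k w, hW k w hw, ?_⟩)
      show _ = ρ k (ρ h w - w)
      simp [act_mul, mul_assoc, act_inv_act, map_sub]
    · show ρ k z ∈ D
      rw [(AddSubgroup.mem_inf.mp hz).1 k (Subgroup.mem_top k)]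
      exact AddSubgroup.mem_sup_right hz
  -- every fixed space in `W` lies in `D`, and two of them span it
  have hgood : ∀ g : P, g ∉ M →
      fix ρ A ⊓ W ≤ D ∧ D ≤ (fix ρ A ⊓ W) ⊔ (fix ρ (A.map (MulAut.conj g).toMonoidHom) ⊓ W) := by
    intro g hg
    have hgen' := hgen g hg
    obtain ⟨b, hb, hbg⟩ : ∃ b ∈ A, g⁻¹ * b * g ∉ M := by
      by_contra hcon
      push Not at hcon
      have hle : A ⊔ A.map (MulAut.conj g).toMonoidHom ≤ M.map (MulAut.conj g).toMonoidHom :=
        sup_le (fun y hy => ⟨g⁻¹ * y * g, hcon y hy, by simp [mul_assoc]⟩) (Subgroup.map_mono hAM)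
      rw [hgen'] at hle
      exact hM.1 (Subgroup.map_injective (MulEquiv.injective _) ((top_le_iff.mp hle).trans
        (Subgroup.map_top_of_surjective _ (MulEquiv.surjective _)).symm))
    refine ⟨fun u hu => ?_, ?_⟩
    · obtain ⟨w, hw, hwz⟩ := surj_mod ((show V →+ V from ρ b) - AddMonoidHom.id V)
        (X := fix ρ (A.map (MulAut.conj g).toMonoidHom) ⊓ W) (Y := fix ρ A ⊓ W) (Z := Z0)
        (fun z hz => ⟨fun h _ => (AddSubgroup.mem_inf.mp hz).1 h (Subgroup.mem_top h), (AddSubgroup.mem_inf.mp hz).2⟩)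
        (fun z hz => ⟨fun h _ => (AddSubgroup.mem_inf.mp hz).1 h (Subgroup.mem_top h), (AddSubgroup.mem_inf.mp hz).2⟩)
        (fun w hw => ⟨fun a' ha' => hquad b hb a' ha' w, hdW b w (AddSubgroup.mem_inf.mp hw).2⟩)
        (fun w hw hwz => ⟨trivial_of_mod ρ hgen' (zpowers_sup_eq_top hM hgen hbg)
          (AddSubgroup.mem_inf.mp hw).1 (fun h hh => by
            obtain ⟨i, rfl⟩ := Subgroup.mem_zpowers_iff.mp hh
            clear hh
            induction i using Int.induction_on with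
            | zero => rw [zpow_zero, act_one, sub_self]; exact zero_mem _
            | succ i ih =>
              have hb' : ρ b w - w ∈ fix ρ ⊤ := (AddSubgroup.mem_inf.mp hwz).1
              rw [_root_.zpow_add, zpow_one, act_mul, show ρ b w = (ρ b w - w) + w by abel, map_add,
                hb' _ (Subgroup.mem_top _), add_sub_assoc]
              exact add_mem hb' ih
            | pred i ih =>
              have hb' : ρ b w - w ∈ fix ρ ⊤ := (AddSubgroup.mem_inf.mp hwz).1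
              have h1 := hb' b⁻¹ (Subgroup.mem_top _)
              rw [map_sub, act_inv_act] at h1
              have hi : ρ b⁻¹ w - w ∈ fix ρ ⊤ := by
                rw [show ρ b⁻¹ w - w = -(w - ρ b⁻¹ w) by abel, h1]; exact neg_mem hb'
              rw [sub_eq_add_neg (G := ℤ), _root_.zpow_add, _root_.zpow_neg_one, act_mul,
                show ρ b⁻¹ w = (ρ b⁻¹ w - w) + w by abel, map_add, hi _ (Subgroup.mem_top _),
                add_sub_assoc]
              exact add_mem hi ih), (AddSubgroup.mem_inf.mp hw).2⟩)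
        (card_fix_inf ρ g A hW).ge hu
      have e : u = (u - (ρ b w - w)) + (ρ b w - w) := by abel
      rw [e]
      exact add_mem (AddSubgroup.mem_sup_right hwz)
        (AddSubgroup.mem_sup_left (AddSubgroup.subset_closure ⟨b, w, (AddSubgroup.mem_inf.mp hw).2, rfl⟩))
    · set U := (fix ρ A ⊓ W) ⊔ (fix ρ (A.map (MulAut.conj g).toMonoidHom) ⊓ W)
      refine sup_le ((AddSubgroup.closure_le _).mpr ?_) fun z hz =>
        AddSubgroup.mem_sup_left ⟨fun h _ => (AddSubgroup.mem_inf.mp hz).1 h (Subgroup.mem_top h), (AddSubgroup.mem_inf.mp hz).2⟩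
      rintro _ ⟨h, w, hw, rfl⟩
      have hh : h ∈ Subgroup.closure ((A : Set P) ∪ (A.map (MulAut.conj g).toMonoidHom : Subgroup P)) := by
        rw [← Subgroup.sup_eq_closure, hgen']; trivial
      induction hh using Subgroup.closure_induction generalizing w with
      | mem y hy =>
        rcases hy with hy | hy
        · exact AddSubgroup.mem_sup_left ⟨fun a' ha' => hquad y hy a' ha' w, hdW y w hw⟩
        · obtain ⟨u, hu, rfl⟩ := hy
          refine AddSubgroup.mem_sup_right ⟨(mem_fix_conj ρ).mpr fun a' ha' => ?_, hdW _ w hw⟩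
          have e : ρ g⁻¹ (ρ (g * u * g⁻¹) w - w) = ρ u (ρ g⁻¹ w) - ρ g⁻¹ w := by
            simp [act_mul, map_sub, act_inv_act]
          rw [show (MulAut.conj g).toMonoidHom u = g * u * g⁻¹ from rfl, e]
          exact hquad u hu a' ha' _
      | one => rw [act_one, sub_self]; exact zero_mem _
      | mul y y' _ _ hy hy' =>
        have e : ρ (y * y') w - w = (ρ y (ρ y' w) - ρ y' w) + (ρ y' w - w) := by
          rw [act_mul]; abel
        rw [e]; exact add_mem (hy _ (hW _ _ hw)) (hy' w hw)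
      | inv y _ hy =>
        have e : ρ y⁻¹ w - w = -(ρ y (ρ y⁻¹ w) - ρ y⁻¹ w) := by rw [act_act_inv]; abel
        rw [e]; exact neg_mem (hy _ (hW _ _ hw))
  -- `v` lies in `D`
  have hvD : v ∈ D := by
    have h1 : ρ g⁻¹ v ∈ fix ρ A ⊓ W := ⟨(mem_fix_conj ρ).mp hvB, hW _ v hv⟩
    have h2 := hDinv g _ ((hgood g hg).1 h1)
    rwa [act_act_inv] at h2
  -- a conjugate moved away by `a`
  obtain ⟨g0, hg0⟩ : ∃ g0 : P, g0⁻¹ * a * g0 ∉ M := by
    by_contra hcon
    push Not at hcon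
    exact haN fun b => by simpa using hcon b⁻¹
  have hg0M : g0 ∉ M := fun h => hg0 (mul_mem (mul_mem (inv_mem h) (hAM ha)) h)
  obtain ⟨u, hu, w, hw, huw⟩ := AddSubgroup.mem_sup.mp ((hgood g0 hg0M).2 hvD)
  have hdw : ρ a w - w ∈ fix ρ ⊤ := by
    have e : ρ a w - w = ρ a v - v := by
      rw [← huw, map_add, (AddSubgroup.mem_inf.mp hu).1 a ha]; abel
    rw [e]; exact hd
  have hw0 : w ∈ fix ρ ⊤ := trivial_of_mod ρ (hgen g0 hg0M) (zpowers_sup_eq_top hM hgen hg0)
    (AddSubgroup.mem_inf.mp hw).1 fun h hh => by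
      obtain ⟨i, rfl⟩ := Subgroup.mem_zpowers_iff.mp hh
      clear hh
      induction i using Int.induction_on with
      | zero => rw [zpow_zero, act_one, sub_self]; exact zero_mem _
      | succ i ih =>
        rw [_root_.zpow_add, zpow_one, act_mul, show ρ a w = (ρ a w - w) + w by abel, map_add,
          hdw _ (Subgroup.mem_top _), add_sub_assoc]
        exact add_mem hdw ih
      | pred i ih =>
        have h1 := hdw a⁻¹ (Subgroup.mem_top _)
        rw [map_sub, act_inv_act] at h1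
        have hi : ρ a⁻¹ w - w ∈ fix ρ ⊤ := by
          rw [show ρ a⁻¹ w - w = -(w - ρ a⁻¹ w) by abel, h1]; exact neg_mem hdw
        rw [sub_eq_add_neg (G := ℤ), _root_.zpow_add, _root_.zpow_neg_one, act_mul,
          show ρ a⁻¹ w = (ρ a⁻¹ w - w) + w by abel, map_add, hi _ (Subgroup.mem_top _),
          add_sub_assoc]
        exact add_mem hi ih
  refine fix_inf_fix ρ (hgen g hg) ?_ hvB
  rw [← huw]
  exact add_mem (AddSubgroup.mem_inf.mp hu).1 (fun a' _ => hw0 a' (Subgroup.mem_top _))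

variable {p : ℕ} [Fact p.Prime]

/-- The structure theorem for such a group. -/
theorem exists_SL2_of_offender (T : Sylow p P) (hTn : ¬ (T : Subgroup P).Normal)
    (hM : IsCoatom M) (hTM : (T : Subgroup P) ≤ M)
    (huniq : ∀ R : Subgroup P, (T : Subgroup P) ≤ R → R ≠ ⊤ → R ≤ M)
    (hA1 : A ≠ ⊥) (hAT : A ≤ (T : Subgroup P)) (hV : ∀ v : V, p • v = 0)
    (hf : ∀ h : P, (∀ v, ρ h v = v) → h = 1)
    (hquad : ∀ a ∈ A, ∀ a' ∈ A, ∀ v, ρ a' (ρ a v - v) = ρ a v - v)
    (hoff : Nat.card V ≤ Nat.card A * Nat.card ↥(fix ρ A))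
    (hstrict : ∀ A₀ : Subgroup P, A₀ ≤ A → A₀ ≠ ⊥ → A₀ ≠ A →
      Nat.card A₀ * Nat.card ↥(fix ρ A₀) < Nat.card A * Nat.card ↥(fix ρ A))
    (hgen : ∀ x : P, x ∉ M → A ⊔ A.map (MulAut.conj x).toMonoidHom = ⊤)
    {z : V} (hz : z ∈ fix ρ (T : Subgroup P)) (hz0 : z ∉ fix ρ ⊤) :
    (∀ v ∈ fix ρ A, v ∈ AddSubgroup.closure {y | ∃ a ∈ A, ∃ w, ρ a w - w = y} ⊔ fix ρ ⊤) ∧
    ∃ (F : Type) (_ : Field F) (_ : Fintype F), Fintype.card F = Nat.card A ∧
      ∃ (e : P ≃* SpecialLinearGroup (Fin 2) F) (ψ : (V ⧸ fix ρ ⊤) ≃+ (Fin 2 → F)),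
        ∀ h (v : V), ψ ((ρ h v : V)) = (e h : Matrix (Fin 2) (Fin 2) F) *ᵥ ψ (v : V) := by
  classical
  have hp : p.Prime := Fact.out
  have hAM : A ≤ M := hAT.trans hTM
  set N := M.normalCore with hN
  have hNM : N ≤ M := M.normalCore_le
  have hNn : N.Normal := Subgroup.normalCore_normal M
  set Q := (T : Subgroup P) ⊓ N with hQ
  have hQn : Q.Normal := by
    obtain ⟨S, hS⟩ := CfsgLib.LocEven.exists_sylow_eq_inf T hNn.isSubnormal
    have h := Sylow.normalizer_sup_eq_top S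
    rw [show ((S : Subgroup N).map N.subtype) = Q by rw [hS, Subgroup.subgroupOf_map_subtype]] at h
    by_contra hne
    have hTQ : (T : Subgroup P) ≤ Subgroup.normalizer (Q : Set P) := by
      intro t ht
      refine Subgroup.mem_normalizer_iff.mpr fun y => ⟨fun hy => ?_, fun hy => ?_⟩
      · obtain ⟨hy1, hy2⟩ := Subgroup.mem_inf.mp hy
        exact Subgroup.mem_inf.mpr ⟨mul_mem (mul_mem ht hy1) (inv_mem ht), hNn.conj_mem y hy2 t⟩
      · obtain ⟨hy1, hy2⟩ := Subgroup.mem_inf.mp hy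
        refine Subgroup.mem_inf.mpr ⟨?_, ?_⟩
        · have h' := mul_mem (mul_mem (inv_mem ht) hy1) ht
          simpa [mul_assoc] using h'
        · simpa [mul_assoc] using hNn.conj_mem _ hy2 t⁻¹
    have hle := huniq _ hTQ fun htop => hne (Subgroup.normalizer_eq_top_iff.mp htop)
    exact hM.1 (top_le_iff.mp (h.ge.trans (sup_le hle hNM)))
  obtain ⟨x, hxM⟩ : ∃ x : P, x ∉ M := by
    by_contra hcon
    push Not at hcon
    exact hM.1 (top_le_iff.mp fun y _ => hcon y)
  set B := A.map (MulAut.conj x).toMonoidHom with hB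
  have hxz : ∀ {W : AddSubgroup V}, (∀ h : P, ∀ w ∈ W, ρ h w ∈ W) → z ∈ W →
      ρ x z ∈ fix ρ B ⊓ W := fun {W} hW hzW =>
    AddSubgroup.mem_inf.mpr ⟨(mem_fix_conj ρ).mpr (by
      rw [act_inv_act]; exact fun a ha => hz a (hAT ha)), hW x z hzW⟩
  have hxz0 : ρ x z ∉ fix ρ ⊤ := fun h => hz0 (by
    have e : z = ρ x⁻¹ (ρ x z) := (act_inv_act ρ x z).symm
    rw [e, h x⁻¹ (Subgroup.mem_top _)]
    exact h)
  -- the counting in an invariant subgroup
  have hcount : ∀ W : AddSubgroup V, (∀ h : P, ∀ w ∈ W, ρ h w ∈ W) → z ∈ W →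
      Nat.card A * Nat.card ↥(fix ρ ⊤ ⊓ W) ≤ Nat.card ↥(A ⊓ N) * Nat.card ↥(fix ρ A ⊓ W) ∧
      Nat.card ↥(fix ρ A ⊓ W) * Nat.card ↥(fix ρ A ⊓ W) ≤
        Nat.card W * Nat.card ↥(fix ρ ⊤ ⊓ W) := by
    intro W hW hzW
    refine ⟨?_, ?_⟩
    · obtain ⟨hv1, hv2⟩ := AddSubgroup.mem_inf.mp (hxz hW hzW)
      let φ : Additive A × ↥(fix ρ (⊤ : Subgroup P) ⊓ W) →+ ↥(fix ρ A ⊓ W) := AddMonoidHom.mk'
        (fun az => ⟨(ρ (az.1.toMul : P) (ρ x z) - ρ x z) + az.2,
          add_mem (AddSubgroup.mem_inf.mpr ⟨fun a' ha' => hquad _ az.1.toMul.2 a' ha' _,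
            sub_mem (hW _ _ hv2) hv2⟩)
            (AddSubgroup.mem_inf.mpr ⟨fun h _ => (AddSubgroup.mem_inf.mp az.2.2).1 h (Subgroup.mem_top h),
              (AddSubgroup.mem_inf.mp az.2.2).2⟩)⟩)
        (fun az bz => Subtype.ext (by
          have hq := hquad _ bz.1.toMul.2 _ az.1.toMul.2 (ρ x z)
          rw [map_sub] at hq
          show ρ ((az.1.toMul : P) * bz.1.toMul) (ρ x z) - ρ x z + ((az.2 : V) + bz.2) =
            ρ az.1.toMul (ρ x z) - ρ x z + az.2 + (ρ bz.1.toMul (ρ x z) - ρ x z + bz.2)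
          rw [act_mul, ← hq]; abel))
      have hk : ∀ k : φ.ker,
          ((k : Additive A × ↥(fix ρ (⊤ : Subgroup P) ⊓ W)).1.toMul : P) ∈ A ⊓ N ∧
          ρ (((k : Additive A × ↥(fix ρ (⊤ : Subgroup P) ⊓ W)).1.toMul : A) : P) (ρ x z) - ρ x z +
            ((k : Additive A × ↥(fix ρ (⊤ : Subgroup P) ⊓ W)).2 : V) = 0 := by
        rintro ⟨⟨a, c⟩, hk⟩
        have he := congrArg Subtype.val (AddMonoidHom.mem_ker.mp hk)
        change ρ (a.toMul : P) (ρ x z) - ρ x z + (c : V) = 0 at he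
        refine ⟨Subgroup.mem_inf.mpr ⟨a.toMul.2, ?_⟩, he⟩
        by_contra hN'
        refine hxz0 (injective_on_module ρ hM hAM hgen hquad hW a.toMul.2 hN' hxM hv2 hv1 ?_)
        rw [eq_neg_of_add_eq_zero_left he]
        exact neg_mem (AddSubgroup.mem_inf.mp c.2).1
      have hkc : Nat.card φ.ker ≤ Nat.card ↥(A ⊓ N) := by
        refine Nat.card_le_card_of_injective (fun k => ⟨_, (hk k).1⟩) fun a b e => ?_
        have h1 : ((a : Additive A × ↥(fix ρ (⊤ : Subgroup P) ⊓ W)).1.toMul : P) =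
            ((b : Additive A × ↥(fix ρ (⊤ : Subgroup P) ⊓ W)).1.toMul : P) :=
          (congrArg (fun z : ↥(A ⊓ N) => (z : P)) e :)
        refine Subtype.ext (Prod.ext (Additive.toMul.injective (Subtype.ext h1)) (Subtype.ext ?_))
        have ha := (hk a).2
        have hb := (hk b).2
        rw [h1] at ha
        exact add_left_cancel (ha.trans hb.symm)
      have h' := φ.ker.index_mul_card
      rw [AddSubgroup.index_ker, Nat.card_prod] at h'
      rw [show Nat.card A = Nat.card (Additive A) from rfl, ← h', mul_comm]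
      exact Nat.mul_le_mul hkc (AddSubgroup.card_le_card_addGroup _)
    · have h := card_mul_card_le (X := fix ρ A ⊓ W) (Y := fix ρ B ⊓ W) (W := W)
        (Z := fix ρ ⊤ ⊓ W) inf_le_right inf_le_right (fun v ha hb => AddSubgroup.mem_inf.mpr
          ⟨fix_inf_fix ρ (hgen x hxM) (AddSubgroup.mem_inf.mp ha).1 (AddSubgroup.mem_inf.mp hb).1,
            (AddSubgroup.mem_inf.mp ha).2⟩)
      rwa [card_fix_inf ρ x A hW] at h
  -- `A` meets the core trivially
  have hAN : A ⊓ N = ⊥ := by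
    by_contra h0
    have hANQ : A ⊓ N ≤ Q := inf_le_inf_right _ hAT
    have hW : ∀ h : P, ∀ w ∈ fix ρ Q, ρ h w ∈ fix ρ Q := by
      intro h w hw q hq
      apply act_injective ρ h⁻¹
      rw [act_inv_act, ← act_mul, ← act_mul]
      have := hw _ (hQn.conj_mem q hq h⁻¹)
      simpa [mul_assoc] using this
    have hzW : z ∈ fix ρ Q := fun q hq => hz q hq.1
    obtain ⟨c1, c2⟩ := hcount _ hW hzW
    by_cases hA : A ⊓ N = A
    · have hAQ : A ≤ Q := hA.ge.trans hANQ
      have hBQ : B ≤ Q := by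
        rintro _ ⟨a, ha, rfl⟩; exact hQn.conj_mem a (hAQ ha) x
      exact hM.1 (top_le_iff.mp ((hgen x hxM).ge.trans ((sup_le hAQ hBQ).trans (inf_le_left.trans hTM))))
    · have hlt := hstrict _ inf_le_left h0 hA
      have hle : Nat.card ↥(fix ρ A) * Nat.card ↥(fix ρ Q) ≤
          Nat.card ↥(fix ρ (A ⊓ N)) * Nat.card ↥(fix ρ A ⊓ fix ρ Q) :=
        card_mul_card_le (fun v hv h hh => hv h hh.1) (fun v hv h hh => hv h (hANQ hh))
          (fun v h1 h2 => AddSubgroup.mem_inf.mpr ⟨h1, h2⟩)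
      set a := Nat.card A
      set a0 := Nat.card ↥(A ⊓ N)
      set fA := Nat.card ↥(fix ρ A ⊓ fix ρ Q)
      set wQ := Nat.card ↥(fix ρ Q)
      set z0 := Nat.card ↥(fix ρ ⊤ ⊓ fix ρ Q)
      set f := Nat.card ↥(fix ρ A)
      set f0 := Nat.card ↥(fix ρ (A ⊓ N))
      have h3 : a * fA ≤ a0 * wQ := by
        refine Nat.le_of_mul_le_mul_left ?_ (Nat.card_pos : 0 < fA)
        calc fA * (a * fA) = a * (fA * fA) := by ring
          _ ≤ a * (wQ * z0) := Nat.mul_le_mul_left _ c2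
          _ = wQ * (a * z0) := by ring
          _ ≤ wQ * (a0 * fA) := Nat.mul_le_mul_left _ c1
          _ = fA * (a0 * wQ) := by ring
      have h4 : a * f ≤ a0 * f0 := by
        refine Nat.le_of_mul_le_mul_left ?_ (Nat.card_pos : 0 < fA)
        calc fA * (a * f) = f * (a * fA) := by ring
          _ ≤ f * (a0 * wQ) := Nat.mul_le_mul_left _ h3
          _ = a0 * (f * wQ) := by ring
          _ ≤ a0 * (f0 * fA) := Nat.mul_le_mul_left _ hle
          _ = fA * (a0 * f0) := by ring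
      exact absurd hlt (not_lt.mpr h4)
  have hinjA : ∀ a ∈ A, a ≠ 1 → ∀ w ∈ fix ρ B, ρ a w - w ∈ fix ρ ⊤ → w ∈ fix ρ ⊤ :=
    fun a ha ha1 w hw hd => injective_on_module ρ hM hAM hgen hquad (W := ⊤)
      (fun h w _ => trivial) ha (fun hN => ha1 (Subgroup.mem_bot.mp (hAN ▸ ⟨ha, hN⟩)))
      hxM trivial hw hd
  obtain ⟨c1, c2⟩ := hcount ⊤ (fun h w _ => trivial) trivial
  rw [hAN, Subgroup.card_bot, one_mul, inf_top_eq, inf_top_eq] at c1
  rw [inf_top_eq, inf_top_eq, AddSubgroup.card_top] at c2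
  set FA := fix ρ A with hFA
  set FB := fix ρ B with hFB
  set Z := fix ρ (⊤ : Subgroup P) with hZdef
  have hZA : Z ≤ FA := fun v hv h _ => hv h (Subgroup.mem_top h)
  have hZB : Z ≤ FB := fun v hv h _ => hv h (Subgroup.mem_top h)
  have hcard : Nat.card A * Nat.card Z = Nat.card FA := by
    refine le_antisymm c1 (Nat.le_of_mul_le_mul_left ?_ (Nat.card_pos (α := FA)))
    calc Nat.card FA * Nat.card FA ≤ Nat.card V * Nat.card Z := c2
      _ ≤ Nat.card A * Nat.card FA * Nat.card Z := Nat.mul_le_mul_right _ hoff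
      _ = Nat.card FA * (Nat.card A * Nat.card Z) := by ring
  have hcardB : Nat.card FB = Nat.card FA := by
    have := card_fix_inf ρ x A (W := ⊤) (fun h w _ => trivial)
    rwa [inf_top_eq, inf_top_eq] at this
  have hFABZ : ∀ v, v ∈ FA → v ∈ FB → v ∈ Z := fun v => fix_inf_fix ρ (hgen x hxM)
  -- `V` is the sum
  have hsum : ∀ v : V, ∃ u ∈ FA, ∃ w ∈ FB, v = u + w := by
    have h1 := card_mul_card_le (X := FA) (Y := FB) (W := FA ⊔ FB) (Z := Z) le_sup_left
      le_sup_right hFABZ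
    have htop : FA ⊔ FB = ⊤ := by
      refine AddSubgroup.eq_top_of_le_card _ (Nat.le_of_mul_le_mul_right ?_ (Nat.card_pos (α := Z)))
      rw [hcardB] at h1
      refine le_trans ?_ h1
      calc Nat.card V * Nat.card Z ≤ Nat.card A * Nat.card FA * Nat.card Z := Nat.mul_le_mul_right _ hoff
        _ = Nat.card FA * Nat.card FA := by rw [mul_right_comm, hcard]
    intro v
    obtain ⟨u, hu, w, hw, e⟩ := AddSubgroup.mem_sup.mp (htop.ge (AddSubgroup.mem_top v))
    exact ⟨u, hu, w, hw, e.symm⟩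
  -- one vector of `FB` reaches all of `FA`
  have hreach : ∀ w ∈ FB, w ∉ Z → ∀ u ∈ FA, ∃ a ∈ A, u - (ρ a w - w) ∈ Z := by
    intro w hw hw0 u hu
    let φ : Additive A × Z →+ FA := AddMonoidHom.mk'
      (fun az => ⟨(ρ (az.1.toMul : P) w - w) + az.2,
        add_mem (fun a' ha' => hquad _ az.1.toMul.2 a' ha' _) (hZA az.2.2)⟩)
      (fun az bz => Subtype.ext (by
        have hq := hquad _ bz.1.toMul.2 _ az.1.toMul.2 w
        rw [map_sub] at hq
        show ρ ((az.1.toMul : P) * bz.1.toMul) w - w + ((az.2 : V) + bz.2) =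
          ρ az.1.toMul w - w + az.2 + (ρ bz.1.toMul w - w + bz.2)
        rw [act_mul, ← hq]; abel))
    have hφ : Function.Injective φ := by
      rw [injective_iff_map_eq_zero]
      rintro ⟨a, c⟩ h
      have he : ρ (a.toMul : P) w - w + (c : V) = 0 := congrArg Subtype.val h
      have ha1 : a.toMul = 1 := by
        by_contra ha1
        refine hw0 (hinjA _ a.toMul.2 (fun e => ha1 (Subtype.ext e)) w hw ?_)
        rw [eq_neg_of_add_eq_zero_left he]; exact neg_mem c.2
      rw [ha1, OneMemClass.coe_one, act_one, sub_self, zero_add] at he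
      exact Prod.ext (Additive.toMul.injective ha1) (Subtype.ext he)
    have hs := hφ.bijective_of_nat_card_le (by
      rw [Nat.card_prod, show Nat.card (Additive A) = Nat.card A from rfl, hcard])
    obtain ⟨⟨a, c⟩, hac⟩ := hs.2 ⟨u, hu⟩
    refine ⟨a.toMul, a.toMul.2, ?_⟩
    rw [← show ρ (a.toMul : P) w - w + (c : V) = u from congrArg Subtype.val hac, add_sub_cancel_left]
    exact c.2
  have hcover : ∀ v, v ∉ FA → ∃ a ∈ A, ∃ w ∈ FB, v = ρ a w := by
    intro v hv
    obtain ⟨u, hu, w, hw, rfl⟩ := hsum v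
    have hw0 : w ∉ Z := fun h => hv (add_mem hu (hZA h))
    obtain ⟨a, ha, hac⟩ := hreach w hw hw0 u hu
    refine ⟨a, ha, w + (u - (ρ a w - w)), add_mem hw (hZB hac), ?_⟩
    rw [map_add, hac a (Subgroup.mem_top a)]; abel
  -- where the orbit of `z` goes
  have hstab : ∀ h : P, A.map (MulAut.conj h).toMonoidHom ≤ stab ρ z → h ∈ M := by
    intro h hh
    by_contra hM'
    have hSne : stab ρ z ≠ ⊤ := fun e => hz0 fun k _ => e.ge (Subgroup.mem_top k)
    have hS : stab ρ z ≤ M := huniq _ (fun t ht => hz t ht) hSne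
    exact hM.1 (top_le_iff.mp ((hgen h hM').ge.trans (sup_le hAM (hh.trans hS))))
  have hout : ∀ g : P, g ∉ M → ρ g z ∉ FA := fun g hg hgz => hg (by
    have := hstab g⁻¹ (by
      rintro _ ⟨a, ha, rfl⟩
      show ρ _ z = z
      apply act_injective ρ g
      rw [← act_mul]
      simpa [mul_assoc, act_mul] using hgz a ha)
    simpa using inv_mem this)
  have hwhere : ∀ g : P, ρ g z ∉ FA → ∃ a ∈ A, g⁻¹ * a * x ∈ M := by
    intro g hg
    obtain ⟨a, ha, w, hw, e⟩ := hcover _ hg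
    refine ⟨a, ha, hstab _ ?_⟩
    rintro _ ⟨u, hu, rfl⟩
    show ρ _ z = z
    apply act_injective ρ g
    have hw' : ρ (x * u * x⁻¹) w = w := hw _ ⟨u, hu, rfl⟩
    calc ρ g (ρ ((MulAut.conj (g⁻¹ * a * x)).toMonoidHom u) z)
        = ρ a (ρ (x * u * x⁻¹) (ρ a⁻¹ (ρ g z))) := by
          rw [← act_mul, ← act_mul, ← act_mul, ← act_mul]
          congr 2
          show g * (g⁻¹ * a * x * u * (g⁻¹ * a * x)⁻¹) = _
          group
      _ = ρ g z := by rw [e, act_inv_act, hw']
  have hin : ∀ m ∈ M, ρ m z ∈ FA := fun m hm => by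
    by_contra hmz
    obtain ⟨a, ha, h⟩ := hwhere m hmz
    apply hxM
    simpa [mul_assoc] using mul_mem (mul_mem (inv_mem (hAM ha)) hm) h
  have hdec : ∀ g : P, g ∉ M → ∃ a ∈ A, ∃ m ∈ M, g = a * x * m := by
    intro g hg
    obtain ⟨a, ha, h⟩ := hwhere g (hout g hg)
    exact ⟨a, ha, _, inv_mem h, by group⟩
  -- `M` stabilizes `FA`
  have hMFA : ∀ m ∈ M, ∀ u ∈ FA, ρ m u ∈ FA := by
    set W0 := AddSubgroup.closure {y | ∃ m ∈ M, ρ m z = y} ⊔ Z with hW0
    have hW0A : W0 ≤ FA := sup_le ((AddSubgroup.closure_le _).mpr (by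
      rintro _ ⟨m, hm, rfl⟩; exact hin m hm)) hZA
    have hW0M : ∀ m ∈ M, ∀ y ∈ W0, ρ m y ∈ W0 := by
      intro m hm
      suffices W0 ≤ W0.comap (ρ m) from fun y hy => this hy
      refine sup_le ((AddSubgroup.closure_le _).mpr ?_) fun c hc => ?_
      · rintro _ ⟨m', hm', rfl⟩
        exact AddSubgroup.mem_sup_left (AddSubgroup.subset_closure ⟨m * m', mul_mem hm hm',
          (act_mul ρ m m' z)⟩)
      · show ρ m c ∈ W0
        rw [hc m (Subgroup.mem_top m)]
        exact AddSubgroup.mem_sup_right hc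
    let E : AddSubgroup V := AddSubgroup.closure {y | ∃ g : P, ρ g z = y} ⊔ Z
    have hEinv : ∀ k : P, ∀ y ∈ E, ρ k y ∈ E := by
      intro k
      suffices E ≤ E.comap (ρ k) from fun y hy => this hy
      refine sup_le ((AddSubgroup.closure_le _).mpr ?_) fun c hc => ?_
      · rintro _ ⟨g, rfl⟩
        exact AddSubgroup.mem_sup_left (AddSubgroup.subset_closure ⟨k * g, act_mul ρ k g z⟩)
      · show ρ k c ∈ E
        rw [hc k (Subgroup.mem_top k)]
        exact AddSubgroup.mem_sup_right hc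
    have hxzE : ρ x z ∈ E := AddSubgroup.mem_sup_left (AddSubgroup.subset_closure ⟨x, rfl⟩)
    have hEA : FA ≤ E := by
      intro u hu
      obtain ⟨a, ha, hac⟩ := hreach _ (AddSubgroup.mem_inf.mp (hxz (W := ⊤) (fun h w _ => trivial) trivial)).1
        hxz0 u hu
      have e : u = (ρ a (ρ x z) - ρ x z) + (u - (ρ a (ρ x z) - ρ x z)) := by abel
      rw [e]
      exact add_mem (sub_mem (hEinv a _ hxzE) hxzE) (AddSubgroup.mem_sup_right hac)
    have hEtop : ∀ v : V, v ∈ E := by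
      intro v
      obtain ⟨u, hu, w, hw, rfl⟩ := hsum v
      refine add_mem (hEA hu) ?_
      rw [← act_act_inv ρ x w]
      exact hEinv x _ (hEA ((mem_fix_conj ρ).mp hw))
    let U : AddSubgroup V := FA ⊔ W0.map (ρ x)
    have hEU : E ≤ U := by
      refine sup_le ((AddSubgroup.closure_le _).mpr ?_) (hZA.trans le_sup_left)
      rintro _ ⟨g, rfl⟩
      by_cases hg : g ∈ M
      · exact AddSubgroup.mem_sup_left (hin g hg)
      obtain ⟨a, ha, m, hm, rfl⟩ := hdec g hg
      have hy : ρ x (ρ m z) ∈ W0.map (ρ x) :=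
        ⟨_, AddSubgroup.mem_sup_left (AddSubgroup.subset_closure ⟨m, hm, rfl⟩), rfl⟩
      rw [act_mul, act_mul, show ρ a (ρ x (ρ m z)) =
        (ρ a (ρ x (ρ m z)) - ρ x (ρ m z)) + ρ x (ρ m z) by abel]
      exact AddSubgroup.mem_sup.mpr ⟨_, fun a' ha' => hquad a ha a' ha' _, _, hy, rfl⟩
    have heq : FA ≤ W0 := by
      intro u hu
      obtain ⟨u', hu', w, hw, e⟩ := AddSubgroup.mem_sup.mp (hEU (hEtop (ρ x u)))
      obtain ⟨y, hy, rfl⟩ := hw
      have hmem : u' ∈ Z := by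
        refine hFABZ u' hu' ((mem_fix_conj ρ).mpr ?_)
        have h3 := congrArg (ρ x⁻¹) e
        erw [map_add, act_inv_act ρ x u, act_inv_act ρ x y] at h3
        rw [eq_sub_of_add_eq h3]
        exact sub_mem hu (hW0A hy)
      have h2 : u = u' + y := by
        apply act_injective ρ x
        rw [map_add, hmem x (Subgroup.mem_top x)]
        exact e.symm
      rw [h2]
      exact add_mem (AddSubgroup.mem_sup_right hmem) hy
    exact fun m hm u hu => hW0A (hW0M m hm u (heq hu))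
  -- no element acts trivially modulo `Z`
  have hfaith : ∀ h : P, (∀ v, ρ h v - v ∈ Z) → h = 1 := by
    let K : Subgroup P :=
      { carrier := {h | ∀ v, ρ h v - v ∈ Z}
        one_mem' := fun v => by rw [act_one, sub_self]; exact zero_mem _
        mul_mem' := fun {a b} ha hb v => by
          have e : ρ (a * b) v - v = (ρ a (ρ b v) - ρ b v) + (ρ b v - v) := by rw [act_mul]; abel
          rw [e]; exact add_mem (ha _) (hb v)
        inv_mem' := fun {a} ha v => by
          have e : ρ a⁻¹ v - v = -(ρ a (ρ a⁻¹ v) - ρ a⁻¹ v) := by rw [act_act_inv]; abel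
          rw [e]; exact neg_mem (ha _) }
    have hKn : K.Normal := ⟨fun k hk g v => by
      have e : ρ (g * k * g⁻¹) v - v = ρ g (ρ k (ρ g⁻¹ v) - ρ g⁻¹ v) := by
        simp [act_mul, map_sub, act_act_inv]
      rw [e, hk _ g (Subgroup.mem_top g)]
      exact hk _⟩
    have hKp : IsPGroup p K := fun k => ⟨1, Subtype.ext (hf _ fun v => by
      have hpow : ∀ i : ℕ, ρ ((k : P) ^ i) v - v = i • (ρ k v - v) := by
        intro i
        induction i with
        | zero => rw [pow_zero, act_one, sub_self, zero_nsmul]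
        | succ i ih =>
          have e := k.2 v ((k : P) ^ i) (Subgroup.mem_top _)
          rw [map_sub] at e
          rw [pow_succ, act_mul, succ_nsmul, ← ih, ← e]; abel
      have h := hpow (p ^ 1)
      rw [pow_one, hV, sub_eq_zero] at h
      rw [pow_one]
      simpa using h)⟩
    have hKT : K ≤ (T : Subgroup P) := by
      obtain ⟨S, hS⟩ := hKp.exists_le_sylow
      obtain ⟨g, hg⟩ := MulAction.exists_smul_eq P S T
      intro k hk
      rw [← hg]
      refine ⟨g⁻¹ * k * g, hS (by simpa using hKn.conj_mem k hk g⁻¹), ?_⟩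
      simp [MulAut.smul_def, mul_assoc]
    intro h hh
    refine hf h fun v => ?_
    -- `h` fixes the whole orbit of `z`
    have horb : ∀ g : P, ρ h (ρ g z) = ρ g z := by
      intro g
      apply act_injective ρ g⁻¹
      rw [act_inv_act, ← act_mul, ← act_mul]
      have := hz _ (hKT (hKn.conj_mem h hh g⁻¹))
      simpa [mul_assoc] using this
    obtain ⟨u, hu, w, hw, rfl⟩ := hsum v
    have hxzB := (AddSubgroup.mem_inf.mp (hxz (W := ⊤) (fun h w _ => trivial) trivial)).1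
    have hfA : ∀ u ∈ FA, ∀ g : P, ρ h (ρ g u) = ρ g u := by
      intro u hu g
      obtain ⟨a, ha, hac⟩ := hreach _ hxzB hxz0 u hu
      set c := u - (ρ a (ρ x z) - ρ x z) with hc
      have e : u = (ρ a (ρ x z) - ρ x z) + c := by rw [hc]; abel
      rw [e, map_add (ρ g), map_add (ρ h), hac g (Subgroup.mem_top g), hac h (Subgroup.mem_top h),
        map_sub (ρ g), map_sub (ρ h), ← act_mul ρ a x, ← act_mul ρ g (a * x), horb, ← act_mul ρ g x,
        horb]
    have h1 := hfA u hu 1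
    rw [act_one] at h1
    have h2 := hfA _ ((mem_fix_conj ρ).mp hw) x
    rw [act_act_inv] at h2
    rw [map_add, h1, h2]
  -- coordinates
  refine ⟨fun u hu => ?_, ?_⟩
  · obtain ⟨a, ha, hac⟩ := hreach _ (AddSubgroup.mem_inf.mp (hxz (W := ⊤) (fun h w _ => trivial) trivial)).1
      hxz0 u hu
    have e : u = (ρ a (ρ x z) - ρ x z) + (u - (ρ a (ρ x z) - ρ x z)) := by abel
    rw [e]
    exact add_mem (AddSubgroup.mem_sup_left (AddSubgroup.subset_closure ⟨a, ha, _, rfl⟩))
      (AddSubgroup.mem_sup_right hac)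
  obtain ⟨a1, ha1, ha1'⟩ : ∃ a ∈ A, a ≠ 1 := by
    by_contra hcon
    push Not at hcon
    exact hA1 (le_bot_iff.mp fun a ha => Subgroup.mem_bot.mpr (hcon a ha))
  obtain ⟨n, hn⟩ := IsPGroup.iff_card.mp (T.isPGroup'.to_le hAT)
  have hn0 : 0 < n := Nat.pos_of_ne_zero fun h => hA1 (by
    rw [h, pow_zero] at hn; exact Subgroup.card_eq_one.mp hn)
  let mkZ : V →+ V ⧸ Z := QuotientAddGroup.mk' Z
  have hmk : ∀ v w : V, mkZ v = mkZ w ↔ w - v ∈ Z := fun v w => by
    show ((v : V ⧸ Z)) = w ↔ _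
    rw [QuotientAddGroup.eq, neg_add_eq_sub]
  let σ : P →* AddMonoid.End (V ⧸ Z) :=
    { toFun := fun h => QuotientAddGroup.map Z Z (ρ h) fun v hv => by
        show ρ h v ∈ Z
        rw [hv h (Subgroup.mem_top h)]; exact hv
      map_one' := by
        refine AddMonoidHom.ext fun q => ?_
        induction q using QuotientAddGroup.induction_on with
        | _ v => show ((ρ 1 v : V) : V ⧸ Z) = v; rw [act_one]
      map_mul' := fun g h => by
        refine AddMonoidHom.ext fun q => ?_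
        induction q using QuotientAddGroup.induction_on with
        | _ v =>
          show ((ρ (g * h) v : V) : V ⧸ Z) = ((ρ g (ρ h v) : V) : V ⧸ Z)
          rw [act_mul] }
  let Y : AddSubgroup (V ⧸ Z) := FB.map mkZ
  have hYp : ∀ y : Y, p • y = 0 := fun y => Subtype.ext (by
    obtain ⟨v, -, e⟩ := y.2
    show p • (y : V ⧸ Z) = 0
    rw [← e, ← map_nsmul, hV, map_zero])
  have hYcard : Nat.card Y = p ^ n := by
    let π : FB →+ Y := AddMonoidHom.mk' (fun v => ⟨mkZ v, _, v.2, rfl⟩) fun a b => Subtype.ext (map_add mkZ _ _)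
    have hker : Nat.card π.ker = Nat.card Z := by
      refine Nat.card_congr ⟨fun k => ⟨(k : FB), (QuotientAddGroup.eq_zero_iff _).mp (congrArg Subtype.val k.2 :)⟩,
        fun c => ⟨⟨c, hZB c.2⟩, Subtype.ext ((QuotientAddGroup.eq_zero_iff _).mpr c.2)⟩,
        fun k => rfl, fun c => rfl⟩
    have h := π.ker.index_mul_card
    have hr : π.range = ⊤ := by
      rw [AddMonoidHom.range_eq_top]
      rintro ⟨_, v, hv, rfl⟩
      exact ⟨⟨v, hv⟩, rfl⟩
    rw [AddSubgroup.index_ker, hr, AddSubgroup.card_top, hker, hcardB, ← hcard, hn] at h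
    exact Nat.eq_of_mul_eq_mul_right Nat.card_pos h
  obtain ⟨eY⟩ := exists_addEquiv_pi hYp hYcard
  let ιB : (Fin n → ZMod p) →+ V ⧸ Z := Y.subtype.comp eY.toAddMonoidHom
  have hιB : ∀ w, ∃ v ∈ FB, mkZ v = ιB w := fun w => (eY w).2
  have hιB' : ∀ v ∈ FB, ∃ w, ιB w = mkZ v := fun v hv => ⟨eY.symm ⟨_, v, hv, rfl⟩,
    congrArg Subtype.val (eY.apply_symm_apply _)⟩
  let ιA : (Fin n → ZMod p) →+ V ⧸ Z := ((show V ⧸ Z →+ V ⧸ Z from σ a1) - AddMonoidHom.id (V ⧸ Z)).comp ιB
  have hιA : ∀ w, ∃ u ∈ FA, mkZ u = ιA w := fun w => by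
    obtain ⟨v, hv, e⟩ := hιB w
    refine ⟨ρ a1 v - v, fun a' ha' => hquad a1 ha1 a' ha' v, ?_⟩
    show mkZ (ρ a1 v - v) = σ a1 (ιB w) - ιB w
    rw [← e, map_sub]; rfl
  have hιA' : ∀ u ∈ FA, ∃ w, ιA w = mkZ u := fun u hu => by
    obtain ⟨v, hv, hvz⟩ := surj_mod ((show V →+ V from ρ a1) - AddMonoidHom.id V) (X := FB) (Y := FA) (Z := Z) hZB hZA
      (fun v _ => fun a' ha' => hquad a1 ha1 a' ha' v) (fun v hv => hinjA a1 ha1 ha1' v hv)
      hcardB.ge hu
    obtain ⟨w, hw⟩ := hιB' v hv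
    refine ⟨w, ?_⟩
    show σ a1 (ιB w) - ιB w = _
    rw [hw]
    show mkZ (ρ a1 v) - mkZ v = _
    rw [← map_sub, hmk]
    exact hvz
  have hBinj : Function.Injective ιB := Y.subtype_injective.comp eY.injective
  have hAinj : Function.Injective ιA := by
    rw [injective_iff_map_eq_zero]
    intro w hw
    obtain ⟨v, hv, e⟩ := hιB w
    have : ρ a1 v - v ∈ Z := by
      rw [← QuotientAddGroup.eq_zero_iff, ← hw]
      show mkZ (ρ a1 v - v) = σ a1 (ιB w) - ιB w
      rw [← e, map_sub]; rfl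
    exact hBinj (by rw [← e, map_zero]; exact (QuotientAddGroup.eq_zero_iff v).mpr (hinjA a1 ha1 ha1' v hv this))
  let Θ0 : (Fin n → ZMod p) × (Fin n → ZMod p) →+ V ⧸ Z := ιA.coprod ιB
  have hΘ0 : Function.Bijective Θ0 := by
    constructor
    · rw [injective_iff_map_eq_zero]
      rintro ⟨u, w⟩ h
      obtain ⟨v, hv, ev⟩ := hιA u
      obtain ⟨v', hv', ev'⟩ := hιB w
      have hsum0 : v + v' ∈ Z := by
        rw [← QuotientAddGroup.eq_zero_iff, ← h]
        show mkZ (v + v') = ιA u + ιB w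
        rw [map_add, ev, ev']
      have hvB : v ∈ FB := by simpa using sub_mem (hZB hsum0) hv'
      have hv0 : v ∈ Z := hFABZ v hv hvB
      have hv0' : v' ∈ Z := by simpa using sub_mem hsum0 hv0
      refine Prod.ext (hAinj (show ιA u = ιA 0 from ?_)) (hBinj (show ιB w = ιB 0 from ?_))
      · rw [← ev, map_zero]; exact (QuotientAddGroup.eq_zero_iff v).mpr hv0
      · rw [← ev', map_zero]; exact (QuotientAddGroup.eq_zero_iff v').mpr hv0'
    · intro q
      obtain ⟨v, rfl⟩ := QuotientAddGroup.mk'_surjective Z q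
      obtain ⟨u, hu, w, hw, rfl⟩ := hsum v
      obtain ⟨u', hu'⟩ := hιA' u hu
      obtain ⟨w', hw'⟩ := hιB' w hw
      exact ⟨(u', w'), by show ιA u' + ιB w' = mkZ (u + w); rw [hu', hw', map_add]⟩
  let Θ := AddEquiv.ofBijective Θ0 hΘ0
  -- the matrices
  have hSex : ∀ a : A, ∀ w, ∃ u, ιA u = σ a (ιB w) - ιB w := fun a w => by
    obtain ⟨v, hv, e⟩ := hιB w
    obtain ⟨u, hu⟩ := hιA' (ρ a v - v) (fun a' ha' => hquad a a.2 a' ha' v)
    exact ⟨u, by rw [hu, ← e, map_sub]; rfl⟩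
  choose sf hsf using hSex
  let sH : A → (Fin n → ZMod p) →+ (Fin n → ZMod p) := fun a => AddMonoidHom.mk' (sf a) fun w w' =>
    hAinj (by simp only [map_add, hsf]; abel)
  let s : A → Matrix (Fin n) (Fin n) (ZMod p) := fun a =>
    LinearMap.toMatrix' ((sH a).toZModLinearMap p)
  have hsmul : ∀ (a : A) w, s a *ᵥ w = sf a w := fun a w => by
    show LinearMap.toMatrix' _ *ᵥ w = _
    rw [← Matrix.toLin'_apply, Matrix.toLin'_toMatrix']
    rfl
  have hTex : ∀ b : B, ∀ u, ∃ w, ιB w = σ b (ιA u) - ιA u := fun b u => by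
    obtain ⟨v, hv, e⟩ := hιA u
    obtain ⟨a, ha, hab⟩ := b.2
    obtain ⟨w, hw⟩ := hιB' (ρ b v - v) ((mem_fix_conj ρ).mpr fun a' ha' => by
      have e : ρ x⁻¹ (ρ (b : P) v - v) = ρ a (ρ x⁻¹ v) - ρ x⁻¹ v := by
        rw [← hab]; simp [act_mul, map_sub, act_inv_act]
      rw [e]; exact hquad a ha a' ha' _)
    exact ⟨w, by rw [hw, ← e, map_sub]; rfl⟩
  choose tf htf using hTex
  let tH : B → (Fin n → ZMod p) →+ (Fin n → ZMod p) := fun b => AddMonoidHom.mk' (tf b) fun w w' =>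
    hBinj (by simp only [map_add, htf]; abel)
  let t : B → Matrix (Fin n) (Fin n) (ZMod p) := fun b =>
    LinearMap.toMatrix' ((tH b).toZModLinearMap p)
  have htmul : ∀ (b : B) w, t b *ᵥ w = tf b w := fun b w => by
    show LinearMap.toMatrix' _ *ᵥ w = _
    rw [← Matrix.toLin'_apply, Matrix.toLin'_toMatrix']
    rfl
  have hσA : ∀ a : A, ∀ u, σ a (ιA u) = ιA u := fun a u => by
    obtain ⟨v, hv, e⟩ := hιA u
    rw [← e]
    show mkZ (ρ a v) = mkZ v
    rw [hv a a.2]
  have hσB : ∀ b : B, ∀ w, σ b (ιB w) = ιB w := fun b w => by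
    obtain ⟨v, hv, e⟩ := hιB w
    rw [← e]
    show mkZ (ρ b v) = mkZ v
    rw [hv b b.2]
  have hs : ∀ (a : A) u w, σ a (Θ (u, w)) = Θ (u + s a *ᵥ w, w) := fun a u w => by
    show σ a (ιA u + ιB w) = ιA (u + s a *ᵥ w) + ιB w
    rw [map_add, map_add, hσA, hsmul, hsf]; abel
  have ht : ∀ (b : B) u w, σ b (Θ (u, w)) = Θ (u, t b *ᵥ u + w) := fun b u w => by
    show σ b (ιA u + ιB w) = ιA u + ιB (t b *ᵥ u + w)
    rw [map_add, map_add, hσB, htmul, htf]; abel
  have hσ1 : ∀ h : P, (∀ q, σ h q = q) → h = 1 := fun h hh => hfaith h fun v => by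
    have hq : mkZ (ρ h v) = mkZ v := hh (v : V ⧸ Z)
    rw [eq_comm, hmk] at hq
    exact hq
  obtain ⟨F, iF, iFt, hcF, e, ψ, hψ⟩ := Spread.exists_SL2 hn0 (hgen x hxM) σ hσ1 Θ s t hs ht
    (fun a ha => by
      refine IsUnit.ne_zero ?_
      rw [← Matrix.isUnit_iff_isUnit_det, ← Matrix.mulVec_injective_iff_isUnit]
      intro w w' h
      change s a *ᵥ w = s a *ᵥ w' at h
      rw [hsmul, hsmul] at h
      obtain ⟨v, hv, e⟩ := hιB (w - w')
      have hd : ρ (a : P) v - v ∈ Z := by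
        rw [← QuotientAddGroup.eq_zero_iff]
        show mkZ (ρ a v - v) = 0
        rw [map_sub]
        show σ a (mkZ v) - mkZ v = 0
        rw [e, ← hsf]
        show ιA (sH a (w - w')) = 0
        rw [map_sub (sH a)]
        show ιA (sf a w - sf a w') = 0
        rw [h, sub_self, map_zero]
      have h0 := hinjA a a.2 (fun e => ha (Subtype.ext e)) v hv hd
      exact sub_eq_zero.mp (hBinj (by rw [← e, map_zero]; exact (QuotientAddGroup.eq_zero_iff v).mpr h0)))
    ⟨⟨a1, ha1⟩, Matrix.ext_of_mulVec_single fun i => by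
      rw [hsmul, Matrix.one_mulVec]
      refine hAinj ((hsf _ _).trans ?_)
      rfl⟩
    hn (by rw [Subgroup.card_map_of_injective (MulEquiv.injective _), hn])
    (fun b hb => by
      have hbM : (b : P) ∉ M := by
        intro hbM
        refine hb (Subtype.ext (hσ1 _ fun q => ?_))
        obtain ⟨⟨u, w⟩, rfl⟩ := Θ.surjective q
        rw [ht]
        obtain ⟨v, hv, e⟩ := hιA u
        obtain ⟨v', hv', e'⟩ := hιB (t b *ᵥ u)
        have hAB : ρ (b : P) v - v - v' ∈ Z := by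
          rw [← QuotientAddGroup.eq_zero_iff]
          show mkZ (ρ b v - v - v') = 0
          rw [map_sub, map_sub, e']
          show σ b (mkZ v) - mkZ v - _ = 0
          rw [e, htmul, htf, sub_self]
        have h1 : v' ∈ FA := by
          have h2 : ρ (b : P) v - v ∈ FA := sub_mem (hMFA _ hbM v hv) hv
          simpa using sub_mem h2 (hZA hAB)
        have h0 : ιB (t b *ᵥ u) = ιB 0 := by
          rw [← e', map_zero]; exact (QuotientAddGroup.eq_zero_iff v').mpr (hFABZ v' h1 hv')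
        rw [hBinj h0, zero_add]
      obtain ⟨a, ha, m, hm, ebm⟩ := hdec b hbM
      refine ⟨⟨a, ha⟩, Matrix.ext_of_mulVec_single fun i => ?_⟩
      set u : Fin n → ZMod p := Pi.single i 1
      rw [← Matrix.mulVec_mulVec, Matrix.one_mulVec]
      obtain ⟨v, hv, ev⟩ := hιA u
      have hw : ρ (b : P) v = ρ a (ρ x (ρ m v)) := by rw [ebm, act_mul, act_mul]
      obtain ⟨w, hw'⟩ := hιB' (ρ x (ρ m v)) ((mem_fix_conj ρ).mpr (by
        rw [act_inv_act]; exact hMFA m hm v hv))
      have key : Θ (u, t b *ᵥ u) = Θ (s ⟨a, ha⟩ *ᵥ w, w) := by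
        have h1 := ht b u 0
        have h2 := hs ⟨a, ha⟩ 0 w
        rw [add_zero] at h1
        rw [zero_add] at h2
        rw [← h1, ← h2]
        show σ b (ιA u + ιB 0) = σ a (ιA 0 + ιB w)
        rw [map_zero, map_zero, add_zero, zero_add, ← ev, hw']
        exact congrArg mkZ hw
      obtain ⟨e1, e2⟩ := Prod.mk.injEq .. ▸ Θ.injective key
      rw [e2, ← e1])
  exact ⟨F, iF, iFt, hcF, e, ψ, fun h v => hψ h (v : V ⧸ Z)⟩

end CfsgLib.LocalEven.Pair
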