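import Cfsg.Agent.Lib.LocalEven.FixBound
import Cfsg.Agent.Lib.LocalEven.NatModule
import Cfsg.Agent.Lib.PSL2Sub.Generation
import Cfsg.Agent.Lib.Linear.SL2
import Cfsg.Agent.Lib.Zsigmondy.Basic
import Cfsg.Agent.Lib.Solvable.Core

/-!
# Two conjugates of a `p`-element of `SL₂(p^n)` generate an element of primitive order
-/

set_option autoImplicit false

namespace CfsgLib.LocalEven.FixBound

open Matrix
open scoped MatrixGroups

variable {F : Type*} [Field F] [Fintype F] {p : ℕ} [hp : Fact p.Prime]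

theorem primitive_of_dvd {R M : ℕ} (hR : R ∣ p ^ M - 1) (hmin : ∀ m, m ∣ M → m < M → ¬ R ∣ p ^ m - 1) :
    Primitive p R M := by
  intro m hm hd
  by_contra hlt
  have hg : R ∣ p ^ Nat.gcd m M - 1 := by
    rw [← Nat.pow_sub_one_gcd_pow_sub_one]
    exact Nat.dvd_gcd hd hR
  have hle : Nat.gcd m M ≤ m := Nat.le_of_dvd hm (Nat.gcd_dvd_left _ _)
  exact hmin _ (Nat.gcd_dvd_right _ _) (by omega) hg

theorem exists_RData {n : ℕ} (hn : 1 ≤ n) (hF : Fintype.card F = p ^ n) :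
    ∃ R, (RData p R (2 * n) ∧ R ∣ p ^ (2 * n) - 1 ∧ (2 ≤ n → Odd R) ∧ (p = 3 → n = 2 → R = 5) ∧
      (2 * p).Coprime R) ∨ (RData p R (2 * n) ∧ R = 4 ∧ n = 1 ∧ p ≠ 2) := by
  by_cases h26 : p = 2 ∧ 2 * n = 6
  · obtain ⟨rfl, hn3⟩ := h26
    obtain rfl : n = 3 := by omega
    refine ⟨9, Or.inl ⟨⟨⟨3, 1, by norm_num, by norm_num, by norm_num⟩,
      primitive_of_dvd (by norm_num) fun m hm hlt => ?_⟩, by norm_num, fun _ => by decide, by norm_num, by norm_num⟩⟩
    have : m ∈ Nat.divisors 6 := Nat.mem_divisors.2 ⟨hm, by norm_num⟩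
    revert hlt
    fin_cases this <;> norm_num
  by_cases hM : 2 * n = 2 ∧ ∃ k, p + 1 = 2 ^ k
  · obtain ⟨hn2, k, hk⟩ := hM
    obtain rfl : n = 1 := by omega
    have h2 := hp.out.two_le
    have hk2 : 2 ≤ k := by
      by_contra h
      interval_cases k <;> omega
    obtain ⟨j, rfl⟩ := Nat.exists_eq_add_of_le hk2
    have h4 : 4 ∣ p + 1 := ⟨2 ^ j, by rw [hk, pow_add]; norm_num⟩
    refine ⟨4, Or.inr ⟨⟨⟨2, 1, Nat.prime_two, by omega, by norm_num⟩, primitive_of_dvd ?_ fun m hm hlt => ?_⟩,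
      rfl, rfl, by omega⟩⟩
    · rw [show 2 * 1 = 2 from rfl, show p ^ 2 - 1 = (p + 1) * (p - 1) by simpa using Nat.sq_sub_sq p 1]
      exact h4.mul_right _
    · have : m = 1 := by
        rcases Nat.eq_zero_or_pos m with rfl | h
        · simp at hm
        · omega
      subst this
      rw [pow_one]
      intro hd
      have := Nat.dvd_sub h4 hd
      rw [show p + 1 - (p - 1) = 2 by omega] at this
      norm_num at this
  obtain ⟨r, hr, hrd, hmin⟩ := Zsigmondy.exists_primitive_prime_divisor (a := p) (n := 2 * n)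
    hp.out.one_lt (by omega) h26 hM
  have hrp : r ≠ p := fun h => by
    subst h
    have h1 : r ∣ r ^ (2 * n) := dvd_pow_self r (by omega)
    have := Nat.dvd_sub h1 hrd
    rw [show r ^ (2 * n) - (r ^ (2 * n) - 1) = 1 by have := Nat.one_le_pow (2 * n) r hr.pos; omega] at this
    exact hr.not_dvd_one this
  have hr2 : r ≠ 2 := fun h => by
    subst h
    refine hmin 1 one_pos (by omega) ?_
    rcases hp.out.eq_two_or_odd with h | h
    · exact absurd h.symm hrp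
    · rw [pow_one]; omega
  refine ⟨r, Or.inl ⟨⟨⟨r, 0, hr, hrp, (pow_one r).symm⟩, primitive_of_dvd hrd fun m hm hlt => ?_⟩,
    hrd, fun _ => hr.odd_of_ne_two hr2, fun h3 h2n => ?_, ?_⟩⟩
  · refine hmin m ?_ hlt
    rcases Nat.eq_zero_or_pos m with rfl | h
    · simp at hm; omega
    · exact h
  · subst h3 h2n
    have h80 : r ∣ 2 * 2 * 2 * 2 * 5 := by simpa using hrd
    have hdiv : ∀ a b : ℕ, r ∣ a * b → r ∣ a ∨ r ∣ b := fun a b => hr.dvd_mul.1
    rcases hdiv _ _ h80 with h | h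
    · exfalso
      have : r ∣ 2 ^ 4 := by simpa using h
      exact hr2 ((Nat.prime_dvd_prime_iff_eq hr Nat.prime_two).1 (hr.dvd_of_dvd_pow this))
    · exact (Nat.prime_dvd_prime_iff_eq hr (by norm_num)).1 h
  · exact Nat.Coprime.mul_left (((Nat.coprime_primes Nat.prime_two hr).2 (Ne.symm hr2)))
      ((Nat.coprime_primes hp.out hr).2 (Ne.symm hrp))

theorem exists_orderOf_SL2 {n : ℕ} (hn : 1 ≤ n) (hF : Fintype.card F = p ^ n) :
    ∃ R, RData p R (2 * n) ∧ (2 ≤ n → Odd R) ∧ (p = 3 → n = 2 → R = 5) ∧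
      (∀ m : SL(2, F), m ^ (2 * p) = 1 → ¬ R ∣ orderOf m) ∧ ∃ m : SL(2, F), orderOf m = R := by
  haveI := charP_of_card_eq_pow hF
  have hne : ∀ R, ¬ R ∣ 2 * p → ∀ m : SL(2, F), m ^ (2 * p) = 1 → ¬ R ∣ orderOf m :=
    fun R hR m hm h => hR (h.trans (orderOf_dvd_of_pow_eq_one hm))
  obtain ⟨R, ⟨hR, hRd, hodd, h5, hcop⟩ | ⟨hR, rfl, rfl, hp2⟩⟩ := exists_RData hn hF
  · obtain ⟨⟨r, k, hr, hrp, rfl⟩, hprim⟩ := hR
    have hr2 : r ≠ 2 := fun h => by
      have h2 := Nat.Coprime.coprime_dvd_left (Dvd.intro p rfl) hcop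
      subst h
      exact absurd (Nat.eq_one_of_dvd_coprimes h2 dvd_rfl (dvd_pow_self 2 k.succ_ne_zero)) (by norm_num)
    refine ⟨_, ⟨⟨r, k, hr, hrp, rfl⟩, hprim⟩, hodd, h5, hne _ fun h => ?_, ?_⟩
    · have := Nat.eq_one_of_dvd_coprimes hcop h dvd_rfl
      exact absurd this (Nat.one_lt_pow k.succ_ne_zero hr.one_lt).ne'
    -- `R` divides `|SL₂|`, and the Sylow `r`-subgroup is cyclic
    haveI : Fact r.Prime := ⟨hr⟩
    have hdvd : r ^ (k + 1) ∣ Nat.card SL(2, F) := by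
      rw [Linear.card_SL_two, hF, ← pow_mul, mul_comm n 2]
      exact hRd.mul_left _
    obtain ⟨Q, hQ⟩ := Sylow.exists_subgroup_card_pow_prime r hdvd
    obtain ⟨S, hS⟩ := (IsPGroup.of_card hQ).exists_le_sylow
    haveI := CfsgLib.Linear.isCyclic_sylow_SL2 p r hr2 hrp S
    haveI : IsCyclic Q := isCyclic_of_injective (Subgroup.inclusion hS) (Subgroup.inclusion_injective hS)
    obtain ⟨g, hg⟩ := IsCyclic.exists_ofOrder_eq_natCard (α := Q)
    exact ⟨g, by rw [Subgroup.orderOf_coe, hg, hQ]⟩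
  · refine ⟨4, hR, fun h => by omega, fun h h2 => by omega, hne _ fun h => ?_, sl2Of 0 (-1) 1 0 (by ring), ?_⟩
    · rcases hp.out.eq_two_or_odd with h' | h'
      · exact hp2 h'
      · omega
    · have h2 : (2 : F) ≠ 0 := Ring.two_ne_zero (by rw [ringChar.eq F p]; exact hp2)
      have hw : (sl2Of (0 : F) (-1) 1 0 (by ring)) ^ 2 = -1 := by
        rw [pow_two]
        apply Subtype.ext
        show !![(0 : F), -1; 1, 0] * !![(0 : F), -1; 1, 0] = -1
        ext i j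
        fin_cases i <;> fin_cases j <;> simp [sl2Of]
      refine orderOf_eq_prime_pow (p := 2) (n := 1) (fun h => ?_) ?_
      · rw [pow_one, hw] at h
        have h' : (-1 : Matrix (Fin 2) (Fin 2) F) 0 0 = (1 : Matrix (Fin 2) (Fin 2) F) 0 0 :=
          congrArg (fun M : SL(2, F) => M.1 0 0) h
        simp at h'
        exact h2 (by linear_combination -h')
      · rw [show 2 ^ (1 + 1) = 2 * 2 by norm_num, pow_mul, hw, neg_one_sq]

/-- A `p`-element of `SL₂(F)` is conjugate to an upper unitriangular matrix. -/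
theorem exists_conj_upper [CharP F p] {x : SL(2, F)} (hx : ∃ j, x ^ p ^ j = 1) :
    ∃ (P : SL(2, F)) (a : F), x = P * sl2Of 1 a 0 1 (by ring) * P⁻¹ := by
  obtain ⟨j, hj⟩ := hx
  have hnil : (x.1 - 1) ^ p ^ j = 0 := by
    rw [sub_pow_char_pow_of_commute p j (Commute.one_right _), one_pow,
      show x.1 ^ p ^ j = 1 from (Matrix.SpecialLinearGroup.coe_pow x _).symm.trans (congrArg Subtype.val hj),
      sub_self]
  have hd0 : (x.1 - 1).det = 0 := by
    have h := congrArg Matrix.det hnil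
    rw [Matrix.det_pow, Matrix.det_zero] at h
    exact eq_zero_of_pow_eq_zero h
  obtain ⟨v, hv, hxv⟩ := Matrix.exists_mulVec_eq_zero_iff.2 hd0
  rw [Matrix.sub_mulVec, Matrix.one_mulVec, sub_eq_zero] at hxv
  obtain ⟨P, hP0, hP1⟩ : ∃ P : SL(2, F), P.1 0 0 = v 0 ∧ P.1 1 0 = v 1 := by
    by_cases h0 : v 0 = 0
    · have h1 : v 1 ≠ 0 := fun h1 => hv (by funext i; fin_cases i <;> assumption)
      exact ⟨sl2Of (v 0) (-(v 1)⁻¹) (v 1) 0 (by field_simp; ring), rfl, rfl⟩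
    · exact ⟨sl2Of (v 0) 0 (v 1) (v 0)⁻¹ (by field_simp; ring), rfl, rfl⟩
  set M := P⁻¹ * x * P with hM
  have hcol : ∀ i, M.1 i 0 = (1 : Matrix (Fin 2) (Fin 2) F) i 0 := by
    intro i
    have e : P * M = x * P := by rw [hM]; group
    have h2 : P.1.mulVec (fun i => M.1 i 0) = P.1.mulVec (fun i => (1 : Matrix (Fin 2) (Fin 2) F) i 0) := by
      funext k
      have hk : (P.1 * M.1) k 0 = (x.1 * P.1) k 0 := congrArg (fun N : SL(2, F) => N.1 k 0) e
      have hv' := congrFun hxv k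
      simp [Matrix.mul_apply, Fin.sum_univ_two] at hk
      simp [Matrix.mulVec, dotProduct, Fin.sum_univ_two] at hv' ⊢
      rw [hP0, hP1] at hk
      rw [hk, hv']
      fin_cases k
      · exact hP0.symm
      · exact hP1.symm
    have h3 := congrArg (P⁻¹).1.mulVec h2
    rw [Matrix.mulVec_mulVec, Matrix.mulVec_mulVec,
      show (P⁻¹).1 * P.1 = 1 from congrArg Subtype.val (inv_mul_cancel P),
      Matrix.one_mulVec, Matrix.one_mulVec] at h3
    exact congrFun h3 i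
  have hdet : M.1 0 0 * M.1 1 1 - M.1 0 1 * M.1 1 0 = 1 := by rw [← Matrix.det_fin_two]; exact M.2
  have h00 : M.1 0 0 = 1 := by simpa using hcol 0
  have h10 : M.1 1 0 = 0 := by simpa using hcol 1
  refine ⟨P, M.1 0 1, ?_⟩
  have hMe : M = sl2Of 1 (M.1 0 1) 0 1 (by ring) := by
    refine Subtype.ext (Matrix.ext fun i j => ?_)
    fin_cases i <;> fin_cases j
    · exact h00
    · rfl
    · exact h10
    · rw [h00, h10] at hdet
      show M.1 1 1 = 1
      linear_combination hdet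
  rw [← hMe, hM]
  group

theorem subfield_eq_top_of_squares (h2 : (2 : F) ≠ 0) (K : Subfield F) (h : ∀ x : F, x ^ 2 ∈ K) :
    K = ⊤ := by
  rw [eq_top_iff]
  intro x _
  have h' := K.sub_mem (h ((x + 1) / 2)) (h ((x - 1) / 2))
  rwa [show ((x + 1) / 2) ^ 2 - ((x - 1) / 2) ^ 2 = x by field_simp; ring] at h'

/-- The automorphism scaling the upper right corner by `b`. -/
def scale {b : F} (hb : b ≠ 0) : SL(2, F) →* SL(2, F) :=
  MonoidHom.mk' (fun M => sl2Of (M.1 0 0) (M.1 0 1 * b) (M.1 1 0 / b) (M.1 1 1) (by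
      have h : M.1 0 0 * M.1 1 1 - M.1 0 1 * M.1 1 0 = 1 := by rw [← Matrix.det_fin_two]; exact M.2
      field_simp
      linear_combination h)) (by
    intro M N
    refine Subtype.ext (Matrix.ext fun i j => ?_)
    show !![(M.1 * N.1) 0 0, (M.1 * N.1) 0 1 * b; (M.1 * N.1) 1 0 / b, (M.1 * N.1) 1 1] i j =
      (!![M.1 0 0, M.1 0 1 * b; M.1 1 0 / b, M.1 1 1] * !![N.1 0 0, N.1 0 1 * b; N.1 1 0 / b, N.1 1 1]) i j
    fin_cases i <;> fin_cases j <;> simp [Matrix.mul_apply, Fin.sum_univ_two] <;> field_simp <;> ring)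

theorem scale_val {b : F} (hb : b ≠ 0) (M : SL(2, F)) :
    (scale hb M).1 = !![M.1 0 0, M.1 0 1 * b; M.1 1 0 / b, M.1 1 1] := rfl

theorem exists_gen_upper {n : ℕ} (hn : 1 ≤ n) (hF : Fintype.card F = p ^ n) {R : ℕ}
    (h5 : p = 3 → n = 2 → R = 5) (hne : ∀ m : SL(2, F), m ^ (2 * p) = 1 → ¬ R ∣ orderOf m)
    {m : SL(2, F)} (hm : orderOf m = R) {a : F} (ha : a ≠ 0) :
    ∃ (y : SL(2, F)) (d : SL(2, F)), d ∈ Subgroup.closure
      ({sl2Of 1 a 0 1 (by ring), y * sl2Of 1 a 0 1 (by ring) * y⁻¹} : Set SL(2, F)) ∧ R ∣ orderOf d := by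
  classical
  haveI := charP_of_card_eq_pow hF
  -- conjugation by the monomial matrix
  have hconj : ∀ t : F, (ht : t ≠ 0) → sl2Of 0 (-t⁻¹) t 0 (by field_simp; ring) *
      sl2Of 1 a 0 1 (by ring) * (sl2Of 0 (-t⁻¹) t 0 (by field_simp; ring))⁻¹ =
      sl2Of 1 0 (-(a * t ^ 2)) 1 (by ring) := by
    intro t ht
    rw [mul_inv_eq_iff_eq_mul]
    refine Subtype.ext (Matrix.ext fun i j => ?_)
    show (!![0, -t⁻¹; t, 0] * !![1, a; 0, 1]) i j = (!![1, 0; -(a * t ^ 2), 1] * !![0, -t⁻¹; t, 0]) i j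
    fin_cases i <;> fin_cases j <;> simp
    field_simp
  by_cases hp2 : p = 2
  · subst hp2
    -- a product of two involutions with the trace of `m`
    have htr : (m.1 0 0 + m.1 1 1) ^ 2 ≠ 4 := by
      intro h4
      have h20 : (2 : F) = 0 := by exact_mod_cast CharP.cast_eq_zero F 2
      have h0 : m.1 0 0 + m.1 1 1 = 0 := by
        have : (m.1 0 0 + m.1 1 1) ^ 2 = 0 := by linear_combination h4 + 2 * h20
        simpa using this
      have hdet : m.1 0 0 * m.1 1 1 - m.1 0 1 * m.1 1 0 = 1 := by rw [← Matrix.det_fin_two]; exact m.2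
      refine hne m ?_ hm.symm.dvd
      have hsq : m * m = 1 := by
        refine Subtype.ext (Matrix.ext fun i j => ?_)
        fin_cases i <;> fin_cases j <;> simp [Matrix.mul_apply, Fin.sum_univ_two]
        · linear_combination m.1 0 0 * h0 - hdet - h20
        · linear_combination m.1 0 1 * h0
        · linear_combination m.1 1 0 * h0
        · linear_combination m.1 1 1 * h0 - hdet - h20
      rw [show 2 * 2 = 2 + 2 from rfl, pow_add, pow_two, hsq, one_mul]
    set τ := m.1 0 0 + m.1 1 1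
    obtain ⟨t, ht⟩ := FiniteField.isSquare_of_char_two (by rw [ringChar.eq F 2]) (τ / (a * a))
    have ht0 : t ≠ 0 := by
      rintro rfl
      rw [mul_zero, div_eq_zero_iff] at ht
      rcases ht with h | h
      · exact htr (by rw [h]; linear_combination (-2 : F) * (by exact_mod_cast CharP.cast_eq_zero F 2 : (2 : F) = 0))
      · exact ha (mul_self_eq_zero.1 h)
    refine ⟨_, sl2Of 1 a 0 1 (by ring) * sl2Of 1 0 (-(a * t ^ 2)) 1 (by ring),
      mul_mem (Subgroup.subset_closure (Or.inl rfl)) (Subgroup.subset_closure (Or.inr (hconj t ht0).symm)), ?_⟩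
    have htrd : ((sl2Of 1 a 0 1 (by ring) * sl2Of 1 0 (-(a * t ^ 2)) 1 (by ring) : SL(2, F)) :
        Matrix (Fin 2) (Fin 2) F).trace = m.1.trace := by
      have h20 : (2 : F) = 0 := by exact_mod_cast CharP.cast_eq_zero F 2
      have : a * (a * t ^ 2) = τ := by
        rw [pow_two, ← ht]; field_simp
      rw [Matrix.trace_fin_two, Matrix.trace_fin_two]
      show (!![1, a; 0, 1] * !![1, 0; -(a * t ^ 2), 1]) 0 0 + (!![1, a; 0, 1] * !![1, 0; -(a * t ^ 2), 1]) 1 1 = τ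
      simp
      linear_combination (1 - τ) * h20 - this
    obtain ⟨P, hP⟩ := SL2Trace.exists_conj_comp m (by rw [Matrix.trace_fin_two]; exact htr)
    obtain ⟨Q, hQ⟩ := SL2Trace.exists_conj_comp _ (by rw [htrd, Matrix.trace_fin_two]; exact htr)
    rw [htrd] at hQ
    rw [← hm, hP, hQ, ← MulAut.conj_apply P, ← MulAut.conj_apply Q, MulEquiv.orderOf_eq, MulEquiv.orderOf_eq]
  -- odd `p`
  have h2 : (2 : F) ≠ 0 := Ring.two_ne_zero (by rw [ringChar.eq F p]; exact hp2)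
  obtain ⟨μ, hμ⟩ := IsCyclic.exists_generator (α := Fˣ)
  have hgen : Subfield.closure ({-((μ : F) ^ 2)} : Set F) = ⊤ := by
    refine subfield_eq_top_of_squares h2 _ fun z => ?_
    by_cases hz : z = 0
    · rw [hz, zero_pow two_ne_zero]; exact Subfield.zero_mem _
    obtain ⟨e, he⟩ := Subgroup.mem_zpowers_iff.1 (hμ (Units.mk0 z hz))
    have : z ^ 2 = ((μ : F) ^ 2) ^ e := by
      rw [← zpow_natCast (μ : F) 2, ← _root_.zpow_mul, mul_comm, _root_.zpow_mul, zpow_natCast]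
      exact congrArg (fun u : Fˣ => (u : F) ^ 2) (he.symm) |>.trans (by simp)
    rw [this]
    refine Subfield.zpow_mem _ ?_ _
    have h := Subfield.neg_mem _ (Subfield.subset_closure (Set.mem_singleton (-((μ : F) ^ 2))))
    rwa [neg_neg] at h
  set t := (μ : F) / a with htdef
  have ht0 : t ≠ 0 := div_ne_zero μ.ne_zero ha
  set lam := -((μ : F) ^ 2)
  have hb : -(a * t ^ 2) ≠ 0 := neg_ne_zero.2 (mul_ne_zero ha (pow_ne_zero 2 ht0))
  set φ := scale hb
  have hL : φ (sl2Of 1 0 (-(a * t ^ 2)) 1 (by ring)) = PSL2Sub.genLower := by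
    refine Subtype.ext (Matrix.ext fun i j => ?_)
    rw [scale_val]
    fin_cases i <;> fin_cases j <;>
      simp [sl2Of, PSL2Sub.genLower, SL2Trace.mk2, div_self hb, ha, ht0]
  have hU : φ (sl2Of 1 a 0 1 (by ring)) = PSL2Sub.genUpper lam := by
    refine Subtype.ext (Matrix.ext fun i j => ?_)
    rw [scale_val]
    fin_cases i <;> fin_cases j <;> simp [sl2Of, PSL2Sub.genUpper, SL2Trace.mk2]
    simp [lam, t]
    field_simp
  set S := Subgroup.closure ({PSL2Sub.genLower, PSL2Sub.genUpper lam} : Set SL(2, F))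
  obtain ⟨d, hd, hdR⟩ : ∃ d ∈ S, R ∣ orderOf d := by
    by_cases h9 : Nat.card F = 9 ∧ lam ^ 2 = -1
    · haveI : Fact (Nat.Prime 5) := ⟨by norm_num⟩
      obtain ⟨d, hd⟩ := exists_prime_orderOf_dvd_card' (G := S) 5
        (by rw [PSL2Sub.card_closure_nine lam h9.1 h9.2]; norm_num)
      have h9' : p ^ n = 3 ^ 2 := by rw [← hF, ← Nat.card_eq_fintype_card, h9.1]; norm_num
      have hp3 : p = 3 := (Nat.prime_dvd_prime_iff_eq hp.out Nat.prime_three).1
        (hp.out.dvd_of_dvd_pow (h9' ▸ dvd_pow_self p (by omega)))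
      subst hp3
      have := h5 rfl (Nat.pow_right_injective (by norm_num) h9')
      exact ⟨d, d.2, by rw [this, Subgroup.orderOf_coe, hd]⟩
    · refine ⟨m, ?_, hm.symm.dvd⟩
      rw [show S = ⊤ from PSL2Sub.closure_eq_top h2 lam (neg_ne_zero.2 (pow_ne_zero 2 μ.ne_zero)) hgen h9]
      exact Subgroup.mem_top m
  refine ⟨sl2Of 0 (-t⁻¹) t 0 (by field_simp; ring), ?_⟩
  rw [hconj t ht0]
  have hS : S = (Subgroup.closure ({sl2Of 1 a 0 1 (by ring), sl2Of 1 0 (-(a * t ^ 2)) 1 (by ring)} :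
      Set SL(2, F))).map φ := by
    rw [MonoidHom.map_closure, Set.image_pair, hU, hL, Set.pair_comm]
  rw [hS] at hd
  obtain ⟨e, he, rfl⟩ := hd
  exact ⟨e, he, hdR.trans (orderOf_map_dvd φ e)⟩

/-- The bound data for `SL₂(p^n)`. -/
theorem exists_bound_data {n : ℕ} (hn : 1 ≤ n) (hF : Fintype.card F = p ^ n) :
    ∃ R, RData p R (2 * n) ∧ (2 ≤ n → Odd R) ∧ ∀ x : SL(2, F), x ≠ 1 → (∃ j, x ^ p ^ j = 1) →
      ∃ y, ∃ d ∈ Subgroup.closure {z : SL(2, F) | ∃ g ∈ [1, y], z = g * x * g⁻¹}, R ∣ orderOf d := by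
  haveI := charP_of_card_eq_pow hF
  obtain ⟨R, hR, hodd, h5, hne, m, hm⟩ := exists_orderOf_SL2 hn hF
  refine ⟨R, hR, hodd, fun x hx1 hxp => ?_⟩
  obtain ⟨P, a, rfl⟩ := exists_conj_upper hxp
  have ha : a ≠ 0 := by
    rintro rfl
    apply hx1
    rw [show sl2Of (1 : F) 0 0 1 (by ring) = 1 from Subtype.ext (Matrix.one_fin_two).symm, mul_one,
      mul_inv_cancel]
  obtain ⟨y, d, hd, hdR⟩ := exists_gen_upper hn hF h5 hne hm ha
  refine ⟨P * y * P⁻¹, P * d * P⁻¹, ?_, ?_⟩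
  · refine (?_ : (Subgroup.closure _).map (MulAut.conj P).toMonoidHom ≤ _) ⟨d, hd, rfl⟩
    rw [MonoidHom.map_closure, Subgroup.closure_le]
    rintro _ ⟨z, rfl | rfl, rfl⟩
    · exact Subgroup.subset_closure ⟨1, by simp, by simp⟩
    · exact Subgroup.subset_closure ⟨P * y * P⁻¹, by simp, by simp [mul_assoc]⟩
  · rw [← MulAut.conj_apply, MulEquiv.orderOf_eq]
    exact hdR

theorem toPSL_pow_two {M : SL(2, F)} (h : (QuotientGroup.mk M : ProjectiveSpecialLinearGroup (Fin 2) F) = 1) :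
    M ^ 2 = 1 := by
  rw [pow_two]
  exact SL2Trace.mul_self_eq_one_of_mem_center ((QuotientGroup.eq_one_iff M).1 h)

/-- The bound data for `PSL₂(p^n)`, `n ≥ 2`. -/
theorem exists_bound_data_psl {n : ℕ} (hn : 2 ≤ n) (hF : Fintype.card F = p ^ n) :
    ∃ R, RData p R (2 * n) ∧ ∀ x : ProjectiveSpecialLinearGroup (Fin 2) F, x ≠ 1 → (∃ j, x ^ p ^ j = 1) →
      ∃ y, ∃ d ∈ Subgroup.closure {z : ProjectiveSpecialLinearGroup (Fin 2) F | ∃ g ∈ [1, y], z = g * x * g⁻¹},
        R ∣ orderOf d := by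
  obtain ⟨R, hR, hodd, hgen⟩ := exists_bound_data (by omega : 1 ≤ n) hF
  refine ⟨R, hR, fun x hx1 hxp => ?_⟩
  obtain ⟨j, hj⟩ := hxp
  obtain ⟨M, rfl⟩ := QuotientGroup.mk_surjective x
  rw [← QuotientGroup.mk_pow] at hj
  have hMp := toPSL_pow_two hj
  set π := QuotientGroup.mk' (Subgroup.center SL(2, F))
  obtain ⟨c, hc1, hcp⟩ : ∃ c : ℕ, M ^ c ≠ 1 ∧ ∃ i, (M ^ c) ^ p ^ i = 1 := by
    rcases hp.out.eq_two_or_odd with h2 | h2
    · subst h2
      refine ⟨1, fun h => hx1 ?_, j + 1, ?_⟩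
      · rw [pow_one] at h; rw [h, QuotientGroup.mk_one]
      · rw [pow_one, pow_succ, pow_mul, hMp]
    · refine ⟨2, fun h => hx1 ?_, j, ?_⟩
      · obtain ⟨c, hc⟩ : ∃ c, p ^ j = 2 * c + 1 :=
          ((Nat.odd_iff.2 h2).pow : Odd (p ^ j))
        rw [hc, pow_succ, pow_mul, h, one_pow, one_mul] at hj
        exact hj
      · rw [← pow_mul, mul_comm, pow_mul, hMp]
  obtain ⟨y, d, hd, hdR⟩ := hgen _ hc1 hcp
  refine ⟨π y, π d, ?_, ?_⟩
  · refine (?_ : (Subgroup.closure _).map π ≤ _) ⟨d, hd, rfl⟩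
    rw [MonoidHom.map_closure, Subgroup.closure_le]
    rintro _ ⟨_, ⟨g, hg, rfl⟩, rfl⟩
    rw [← conj_pow, map_pow, map_mul, map_mul, map_inv, SetLike.mem_coe]
    have hg' : π g ∈ [1, π y] := by
      rcases List.mem_cons.1 hg with rfl | hg
      · simp
      · rw [List.mem_singleton.1 hg]; simp
    refine pow_mem ?_ c
    exact Subgroup.subset_closure ⟨π g, hg', rfl⟩
  · have h1 : (QuotientGroup.mk (d ^ orderOf (π d)) : ProjectiveSpecialLinearGroup (Fin 2) F) = 1 := by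
      show π (d ^ orderOf (π d)) = 1
      rw [map_pow, pow_orderOf_eq_one]
    have h2 := toPSL_pow_two h1
    rw [← pow_mul] at h2
    exact (Nat.Coprime.dvd_of_dvd_mul_right ((Nat.coprime_two_left.2 (hodd hn)).symm)
      (hdR.trans (orderOf_dvd_of_pow_eq_one h2)))

/-- The common content of the bounds for a group with `PSL₂` as its `p'`-quotient. -/
theorem psl_bounds {G : Type*} [Group G] [Finite G] {V H : Subgroup G} (hV : IsPGroup p V)
    (hHV : H ≤ Subgroup.normalizer (V : Set G)) (hf : H ⊓ Subgroup.centralizer (V : Set G) = ⊥)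
    {n : ℕ} (hF : Fintype.card F = p ^ n)
    (hiso : Nonempty (↥H ⧸ Cfsg.pPrimeCore p ↥H ≃* ProjectiveSpecialLinearGroup (Fin 2) F))
    (S : Sylow p ↥H) (T : Subgroup G) (hT : T = (S : Subgroup ↥H).map H.subtype)
    (A : Subgroup G) (hA : A ≤ T) (hAp : Nat.card A = p ^ 2) :
    p ^ (2 * n) ≤ Nat.card V ∧ p ^ n ≤ (V ⊓ Subgroup.centralizer (A : Set G)).relIndex V ∧
      ∀ s ∈ T, s ≠ 1 → p ^ n ≤ (V ⊓ Subgroup.centralizer ({s} : Set G)).relIndex V := by
  classical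
  obtain ⟨e⟩ := hiso
  have hcop := CfsgLib.Solvable.pPrimeCore_card_coprime p ↥H
  set f : ↥H →* ProjectiveSpecialLinearGroup (Fin 2) F :=
    e.toMonoidHom.comp (QuotientGroup.mk' (Cfsg.pPrimeCore p ↥H))
  have hn : 2 ≤ n := by
    have hcard : Nat.card ↥H = Nat.card (↥H ⧸ Cfsg.pPrimeCore p ↥H) * Nat.card (Cfsg.pPrimeCore p ↥H) :=
      Subgroup.card_eq_card_quotient_mul_card_subgroup _
    have h1 : p ^ 2 ∣ Nat.card ↥H := by
      rw [← hAp]
      exact (Subgroup.card_dvd_of_le (hA.trans (hT ▸ Subgroup.map_subtype_le _)))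
    rw [hcard] at h1
    have h2 := (Nat.Coprime.pow_left 2 hcop.symm).dvd_of_dvd_mul_right h1
    rw [Nat.card_congr e.toEquiv] at h2
    have h3 : p ^ 2 ∣ Nat.card SL(2, F) :=
      h2.trans (Subgroup.card_quotient_dvd_card (Subgroup.center SL(2, F)))
    rw [Linear.card_SL_two, hF] at h3
    by_contra h
    have hpn : p ^ n ≤ p := le_trans (Nat.pow_le_pow_right hp.out.pos (show n ≤ 1 by omega)) (pow_one p).le
    have hq1 : 1 < p ^ n := hF ▸ Fintype.one_lt_card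
    have hn1 : n = 1 := by
      rcases Nat.eq_zero_or_pos n with rfl | hpos
      · simp at hq1
      · omega
    subst hn1
    rw [pow_one, pow_two p] at h3
    have h4 := Nat.dvd_of_mul_dvd_mul_left hp.out.pos h3
    have h5 : 1 ≤ p * p := Nat.one_le_iff_ne_zero.2 (by simp [hp.out.ne_zero])
    have h6 := Nat.dvd_sub (dvd_mul_left p p) h4
    rw [show p * p - (p * p - 1) = 1 by omega] at h6
    exact hp.out.not_dvd_one h6
  obtain ⟨R, hR, hgen⟩ := exists_bound_data_psl hn hF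
  have key : ∀ s ∈ T, s ≠ 1 → p ^ (2 * n) ≤ ((V ⊓ Subgroup.centralizer ({s} : Set G)).relIndex V) ^ 2 ∧
      p ^ (2 * n) ≤ Nat.card V := by
    intro s hs hs1
    rw [hT] at hs
    obtain ⟨s, hsS, rfl⟩ := hs
    obtain ⟨j, hj⟩ := S.isPGroup' ⟨s, hsS⟩
    have hj' : s ^ p ^ j = 1 := congrArg Subtype.val hj
    have hfs : f s ≠ 1 := fun h => hs1 (by
      have h1 : (QuotientGroup.mk s : ↥H ⧸ Cfsg.pPrimeCore p ↥H) = 1 := e.injective (h.trans (map_one e).symm)
      rw [QuotientGroup.eq_one_iff] at h1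
      have h2 : orderOf s = 1 := Nat.eq_one_of_dvd_coprimes (Nat.Coprime.pow_right j hcop)
        (by rw [← Subgroup.orderOf_mk s h1]; exact orderOf_dvd_natCard _) (orderOf_dvd_of_pow_eq_one hj')
      rw [orderOf_eq_one_iff.1 h2, map_one])
    obtain ⟨y, d, hd, hdR⟩ := hgen (f s) hfs ⟨j, by rw [← map_pow, hj', map_one]⟩
    exact prod_bound_of_surjective hV hHV hf hR f
      (e.surjective.comp (QuotientGroup.mk'_surjective _)) s [1, y] ⟨d, hd, hdR⟩
  have key2 : ∀ s ∈ T, s ≠ 1 → p ^ n ≤ (V ⊓ Subgroup.centralizer ({s} : Set G)).relIndex V := by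
    intro s hs hs1
    have := (key s hs hs1).1
    rw [mul_comm, pow_mul] at this
    exact (Nat.pow_le_pow_iff_left two_ne_zero).1 this
  obtain ⟨a, ha, ha1⟩ := (Subgroup.bot_or_exists_ne_one A).resolve_left (fun h => by
    rw [h, Subgroup.card_bot] at hAp
    have := Nat.one_lt_pow two_ne_zero hp.out.one_lt
    omega)
  refine ⟨(key a (hA ha) ha1).2, (key2 a (hA ha) ha1).trans ?_, key2⟩
  exact Nat.le_of_dvd (relIndex_pos' _ _) (Subgroup.relIndex_dvd_of_le_left V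
    (inf_le_inf_left _ (Subgroup.centralizer_le (by simpa using ha))))

end CfsgLib.LocalEven.FixBound
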