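import Cfsg.Agent.Lib.LocalEven.FixBound
import Cfsg.Agent.Lib.LocalEven.SL2Bound
import Cfsg.Agent.Lib.PLocal.ZJ
import Mathlib.GroupTheory.SemidirectProduct

/-!
# The rank-one pushing-up situation: fixed point bounds

`G` has a normal `p`-subgroup `Z` and a map onto `PSL₂(p^n)` through which every element of
`C_G(Z)` dies; a Sylow subgroup lies in a unique maximal subgroup.
-/

set_option autoImplicit false
set_option linter.style.haveILetI false

open Subgroup Cfsg
open scoped Pointwise

namespace CfsgLib.LocalEven.Pushing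

variable {G : Type*} [Group G] [Finite G] {p : ℕ} [hp : Fact p.Prime]
variable {F : Type} [Field F] [Fintype F] {n : ℕ}

theorem fix_bounds (hn : 1 ≤ n) (hF : Fintype.card F = p ^ n) {Z : Subgroup G} [Z.Normal]
    (hZ : IsPGroup p Z) (f : G →* Matrix.ProjectiveSpecialLinearGroup (Fin 2) F)
    (hf : Function.Surjective f) (hC' : 2 ≤ n → centralizer (Z : Set G) ≤ f.ker) {a : G}
    (ha : ∃ j, a ^ p ^ j = 1) (hfa : f a ≠ 1) (haC : a ∉ centralizer (Z : Set G)) :
    p ^ n ≤ (Z ⊓ centralizer ({a} : Set G)).relIndex Z ∧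
      (2 ≤ n → p ^ (2 * n) ≤ (Z ⊓ centralizer (Set.univ : Set G)).relIndex Z) := by
  rcases Nat.lt_or_ge n 2 with hlt | hge
  · refine ⟨?_, fun h => absurd h (by omega)⟩
    obtain rfl : n = 1 := by omega
    rw [pow_one]
    obtain ⟨i, hi⟩ := hZ.exists_card_eq
    have hd : (Z ⊓ centralizer ({a} : Set G)).relIndex Z ∣ p ^ i := by
      rw [← hi, ← relIndex_bot_left]; exact relIndex_dvd_of_le_left Z bot_le
    obtain ⟨j, -, hj⟩ := (Nat.dvd_prime_pow hp.out).1 hd
    rcases Nat.eq_zero_or_pos j with rfl | hj0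
    · exfalso
      refine haC fun z hz => ?_
      rw [pow_zero, relIndex_eq_one] at hj
      exact (mem_centralizer_singleton_iff.1 (hj hz).2)
    · rw [hj]; exact le_self_pow₀ hp.out.one_le hj0.ne'
  · have hC := hC' hge
    haveI : (centralizer (Z : Set G)).Normal := normal_centralizer
    let φ₀ : G →* MulAut Z := MulAut.conjNormal
    have hφC : centralizer (Z : Set G) ≤ φ₀.ker := fun c hc => MonoidHom.mem_ker.2 (MulEquiv.ext fun z => Subtype.ext (by
      show c * (z : G) * c⁻¹ = z
      rw [← hc z z.2, mul_inv_cancel_right]))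
    set φ := QuotientGroup.lift (centralizer (Z : Set G)) φ₀ hφC
    set Γ := SemidirectProduct Z (G ⧸ centralizer (Z : Set G)) φ
    haveI : Finite Γ := Finite.of_equiv _ SemidirectProduct.equivProd.symm
    set π : G →* Γ := (SemidirectProduct.inr).comp (QuotientGroup.mk' (centralizer (Z : Set G)))
    set ι : Z →* Γ := SemidirectProduct.inl
    have hconj : ∀ (g : G) (z : Z), π g * ι z * (π g)⁻¹ = ι (MulAut.conjNormal g z) := fun g z => by
      show SemidirectProduct.inr (g : G ⧸ centralizer (Z : Set G)) * SemidirectProduct.inl z *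
        (SemidirectProduct.inr (g : G ⧸ centralizer (Z : Set G)))⁻¹ = _
      rw [← map_inv, ← SemidirectProduct.inl_aut]
      rfl
    have hfix : ∀ (g : G) (z : Z), Commute (π g) (ι z) ↔ g * z = z * g := fun g z => by
      constructor
      · intro h
        have h1 := hconj g z
        rw [h.eq, mul_inv_cancel_right] at h1
        have h2 : (z : G) = g * z * g⁻¹ :=
          congrArg Subtype.val (SemidirectProduct.inl_injective h1)
        exact (mul_inv_eq_iff_eq_mul.1 h2.symm)
      · intro h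
        refine mul_inv_eq_iff_eq_mul.1 ((hconj g z).trans (congrArg ι (Subtype.ext ?_)))
        show g * z * g⁻¹ = z
        rw [h, mul_inv_cancel_right]
    set V := ι.range
    set H := (SemidirectProduct.inr : (G ⧸ centralizer (Z : Set G)) →* Γ).range
    have hV : IsPGroup p V := hZ.of_surjective ι.rangeRestrict ι.rangeRestrict_surjective
    have hHV : H ≤ normalizer (V : Set Γ) := by
      rintro _ ⟨y, rfl⟩
      obtain ⟨g, rfl⟩ := QuotientGroup.mk'_surjective _ y
      refine mem_normalizer_fintype ?_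
      rintro _ ⟨z, rfl⟩
      exact ⟨_, (hconj g z).symm⟩
    have hfaith : H ⊓ centralizer (V : Set Γ) = ⊥ := by
      rw [eq_bot_iff]
      rintro _ ⟨⟨y, rfl⟩, hy⟩
      obtain ⟨g, rfl⟩ := QuotientGroup.mk'_surjective _ y
      have hg : g ∈ centralizer (Z : Set G) := fun z hz =>
        ((hfix g ⟨z, hz⟩).1 (hy (ι ⟨z, hz⟩) ⟨_, rfl⟩).symm).symm
      rw [mem_bot, show QuotientGroup.mk' (centralizer (Z : Set G)) g = 1 from
        (QuotientGroup.eq_one_iff g).2 hg, map_one]
    obtain ⟨R, hR, hgen⟩ := FixBound.exists_bound_data_psl hge hF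
    obtain ⟨j, hj⟩ := ha
    obtain ⟨y, d, hd, hdR⟩ := hgen (f a) hfa ⟨j, by rw [← map_pow, hj, map_one]⟩
    set fH : H →* Matrix.ProjectiveSpecialLinearGroup (Fin 2) F :=
      (QuotientGroup.lift (centralizer (Z : Set G)) f hC).comp
        (MonoidHom.ofInjective SemidirectProduct.inr_injective).symm.toMonoidHom
    set s : H := ⟨π a, ⟨_, rfl⟩⟩
    have hfH : ∀ g : G, fH ⟨π g, ⟨_, rfl⟩⟩ = f g := fun g => by
      have e : (MonoidHom.ofInjective SemidirectProduct.inr_injective).symm
          (⟨π g, ⟨_, rfl⟩⟩ : H) = QuotientGroup.mk' (centralizer (Z : Set G)) g := by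
        rw [MulEquiv.symm_apply_eq]; rfl
      show QuotientGroup.lift _ f hC _ = f g
      erw [e]
      rfl
    have hsurj : Function.Surjective fH := fun q => by
      obtain ⟨g, rfl⟩ := hf q
      exact ⟨_, hfH g⟩
    have htrans : ∀ T : Set G, (V ⊓ centralizer (π '' T)).relIndex V =
        (Z ⊓ centralizer T).relIndex Z := by
      intro T
      have e1 : V ⊓ centralizer (π '' T) = ((Z ⊓ centralizer T).subgroupOf Z).map ι := by
        ext x
        constructor
        · rintro ⟨⟨z, rfl⟩, hx⟩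
          refine ⟨z, mem_subgroupOf.2 (Subgroup.mem_inf.2 ⟨z.2, fun t ht => ?_⟩), rfl⟩
          exact (hfix t z).1 (hx (π t) ⟨t, ht, rfl⟩)
        · rintro ⟨z, hz, rfl⟩
          refine Subgroup.mem_inf.2 ⟨⟨z, rfl⟩, ?_⟩
          rintro _ ⟨t, ht, rfl⟩
          exact (hfix t z).2 ((Subgroup.mem_inf.1 (mem_subgroupOf.1 hz)).2 t ht)
      rw [e1, show V = (⊤ : Subgroup Z).map ι from MonoidHom.range_eq_map ι,
        relIndex_map_map_of_injective _ _ SemidirectProduct.inl_injective, relIndex_top_right]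
      rfl
    constructor
    · have h := (FixBound.prod_bound_of_surjective hV hHV hfaith hR fH hsurj s [1, y]
        ⟨d, by rw [show fH s = f a from hfH a]; exact hd, hdR⟩).1
      rw [mul_comm, pow_mul] at h
      have h' := (Nat.pow_le_pow_iff_left two_ne_zero).1 h
      have e := htrans {a}
      rw [Set.image_singleton] at e
      rwa [← e]
    · intro _
      obtain ⟨d, rfl⟩ := hsurj d
      obtain ⟨⟨r, k, hr, hrp, hRe⟩, hprim⟩ := hR
      have hdd : R ∣ orderOf (d : Γ) := hdR.trans (by rw [orderOf_coe]; exact orderOf_map_dvd fH d)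
      have hd1 : orderOf ((d : Γ) ^ (orderOf (d : Γ) / R)) = r ^ (k + 1) := by
        rw [orderOf_pow_orderOf_div (orderOf_pos _).ne' hdd, hRe]
      set d1 := (d : Γ) ^ (orderOf (d : Γ) / R)
      have hd' : d1 ^ (r ^ k) ∉ centralizer (V : Set Γ) := fun h => by
        have h1 : d1 ^ (r ^ k) ∈ H ⊓ centralizer (V : Set Γ) :=
          Subgroup.mem_inf.2 ⟨pow_mem (pow_mem d.2 _) _, h⟩
        rw [hfaith, mem_bot] at h1
        have := Nat.le_of_dvd (pow_pos hr.pos _) (hd1 ▸ orderOf_dvd_of_pow_eq_one h1)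
        exact absurd this (not_le.2 (Nat.pow_lt_pow_right hr.one_lt (Nat.lt_succ_self k)))
      refine (FixBound.orbit_bound hV (hHV (pow_mem d.2 _)) hr hrp hd1 hd' (hRe ▸ hprim)).trans ?_
      rw [← htrans]
      refine Nat.le_of_dvd (FixBound.relIndex_pos' _ _) (relIndex_dvd_of_le_left V (inf_le_inf_left _ ?_))
      intro x hx
      refine mem_centralizer_singleton_iff.2 ?_
      have hH : d1 ∈ H := pow_mem d.2 _
      obtain ⟨w, hw⟩ := hH
      obtain ⟨g, rfl⟩ := QuotientGroup.mk'_surjective _ w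
      exact (hx d1 ⟨g, Set.mem_univ g, hw⟩).symm

end CfsgLib.LocalEven.Pushing
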