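import Cfsg.Prelude.Def_LocalEven
import Cfsg.Agent.Lib.LocalEven.PBasic
import Mathlib.LinearAlgebra.Matrix.Notation
import Mathlib.Algebra.CharP.Basic
import Mathlib.Tactic.LinearCombination

/-!
# The affine group `Cfsg.qdOver F = F² ⋊ SL₂(F)`
-/

set_option autoImplicit false

namespace CfsgLib.LocalEven.QdOver

open Matrix Subgroup

variable {F : Type*} [Field F]

/-- The affine matrices. -/
def affine (F : Type*) [Field F] : Subgroup (SpecialLinearGroup (Fin 3) F) where
  carrier := {M | M.1 2 0 = 0 ∧ M.1 2 1 = 0 ∧ M.1 2 2 = 1}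
  mul_mem' := by
    rintro A B ⟨a0, a1, a2⟩ ⟨b0, b1, b2⟩
    simp [Matrix.mul_apply, Fin.sum_univ_three, a0, a1, a2, b0, b1, b2]
  one_mem' := by simp
  inv_mem' := by
    rintro A ⟨a0, a1, a2⟩
    have h : ∀ j, ((A * A⁻¹ : SpecialLinearGroup (Fin 3) F) : Matrix (Fin 3) (Fin 3) F) 2 j =
        (A⁻¹ : SpecialLinearGroup (Fin 3) F).1 2 j := by
      intro j
      show (A.1 * A⁻¹.1) 2 j = _
      simp [Matrix.mul_apply, Fin.sum_univ_three, a0, a1, a2]
    rw [mul_inv_cancel] at h
    refine ⟨?_, ?_, ?_⟩ <;> [have := h 0; have := h 1; have := h 2] <;> simpa using this.symm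

theorem qdOver_eq_affine : Cfsg.qdOver F = affine F :=
  le_antisymm ((Subgroup.closure_le _).2 fun _ h => h) fun _ h => Subgroup.subset_closure h

/-- The entries of an element of `qdOver F`. -/
def ent (M : Cfsg.qdOver F) (i j : Fin 3) : F := M.1.1 i j

theorem ent_row (M : Cfsg.qdOver F) : ent M 2 0 = 0 ∧ ent M 2 1 = 0 ∧ ent M 2 2 = 1 :=
  (qdOver_eq_affine (F := F) ▸ M.2 : M.1 ∈ affine F)

theorem ext_ent {M N : Cfsg.qdOver F} (h00 : ent M 0 0 = ent N 0 0) (h01 : ent M 0 1 = ent N 0 1)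
    (h02 : ent M 0 2 = ent N 0 2) (h10 : ent M 1 0 = ent N 1 0) (h11 : ent M 1 1 = ent N 1 1)
    (h12 : ent M 1 2 = ent N 1 2) : M = N := by
  obtain ⟨a, b, c⟩ := ent_row M
  obtain ⟨a', b', c'⟩ := ent_row N
  refine Subtype.ext (Subtype.ext (Matrix.ext fun i j => ?_))
  fin_cases i <;> fin_cases j
  exacts [h00, h01, h02, h10, h11, h12, a.trans a'.symm, b.trans b'.symm, c.trans c'.symm]

theorem ent_mul (M N : Cfsg.qdOver F) (i j : Fin 3) :
    ent (M * N) i j = ent M i 0 * ent N 0 j + ent M i 1 * ent N 1 j + ent M i 2 * ent N 2 j := by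
  show (M.1.1 * N.1.1) i j = _
  rw [Matrix.mul_apply, Fin.sum_univ_three]
  rfl

theorem ent_one (i j : Fin 3) : ent (1 : Cfsg.qdOver F) i j = (1 : Matrix (Fin 3) (Fin 3) F) i j := rfl

theorem linPart_det (M : Cfsg.qdOver F) :
    Matrix.det !![ent M 0 0, ent M 0 1; ent M 1 0, ent M 1 1] = 1 := by
  obtain ⟨a, b, c⟩ := ent_row M
  have h : M.1.1.det = 1 := M.1.2
  simp only [ent] at a b c
  rw [Matrix.det_fin_three] at h
  rw [Matrix.det_fin_two_of]
  simp only [ent]
  simp only [a, b, c] at h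
  linear_combination h

/-- The linear part. -/
def linPart : Cfsg.qdOver F →* SpecialLinearGroup (Fin 2) F :=
  MonoidHom.mk' (fun M => ⟨!![ent M 0 0, ent M 0 1; ent M 1 0, ent M 1 1], linPart_det M⟩) (by
    intro M N
    obtain ⟨a, b, -⟩ := ent_row N
    refine Subtype.ext (Matrix.ext fun i j => ?_)
    show _ = (!![ent M 0 0, ent M 0 1; ent M 1 0, ent M 1 1] * !![ent N 0 0, ent N 0 1; ent N 1 0, ent N 1 1]) i j
    fin_cases i <;> fin_cases j <;> simp [ent_mul, a, b])

/-- The translation part. -/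
def traPart (M : Cfsg.qdOver F) : Fin 2 → F := ![ent M 0 2, ent M 1 2]

theorem linPart_val (M : Cfsg.qdOver F) :
    (linPart M).1 = !![ent M 0 0, ent M 0 1; ent M 1 0, ent M 1 1] := rfl

/-- The affine map with linear part `g` and translation part `v`. -/
def mkAff (g : SpecialLinearGroup (Fin 2) F) (v : Fin 2 → F) : Cfsg.qdOver F :=
  ⟨⟨!![g.1 0 0, g.1 0 1, v 0; g.1 1 0, g.1 1 1, v 1; 0, 0, 1], by
      have h : g.1.det = 1 := g.2
      rw [Matrix.det_fin_two] at h
      rw [Matrix.det_fin_three]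
      simpa using h⟩,
    Subgroup.subset_closure ⟨by simp, by simp, by simp⟩⟩

@[simp] theorem linPart_mkAff (g : SpecialLinearGroup (Fin 2) F) (v : Fin 2 → F) :
    linPart (mkAff g v) = g := by
  refine Subtype.ext (Matrix.ext fun i j => ?_)
  fin_cases i <;> fin_cases j <;> rfl

@[simp] theorem traPart_mkAff (g : SpecialLinearGroup (Fin 2) F) (v : Fin 2 → F) :
    traPart (mkAff g v) = v := by
  funext i; fin_cases i <;> rfl

theorem ext_parts {M N : Cfsg.qdOver F} (hl : linPart M = linPart N) (ht : traPart M = traPart N) :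
    M = N := by
  have e := fun i j => congrFun (congrFun (congrArg Subtype.val hl) i) j
  exact ext_ent (e 0 0) (e 0 1) (congrFun ht 0) (e 1 0) (e 1 1) (congrFun ht 1)

theorem mkAff_parts (M : Cfsg.qdOver F) : mkAff (linPart M) (traPart M) = M :=
  ext_parts (linPart_mkAff _ _) (traPart_mkAff _ _)

theorem traPart_mul (M N : Cfsg.qdOver F) :
    traPart (M * N) = (linPart M).1.mulVec (traPart N) + traPart M := by
  obtain ⟨-, -, c⟩ := ent_row N
  funext i
  fin_cases i <;> simp [traPart, ent_mul, linPart_val, c, dotProduct, Fin.sum_univ_two] <;> ring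

theorem traPart_one : traPart (1 : Cfsg.qdOver F) = 0 := by
  funext i; fin_cases i <;> rfl

theorem mkAff_mul (g h : SpecialLinearGroup (Fin 2) F) (v w : Fin 2 → F) :
    mkAff g v * mkAff h w = mkAff (g * h) (g.1.mulVec w + v) :=
  ext_parts (by simp [map_mul]) (by simp [traPart_mul])

/-- The translations. -/
def trans (F : Type*) [Field F] : Subgroup ↥(Cfsg.qdOver F) := (linPart (F := F)).ker

theorem mem_trans {M : Cfsg.qdOver F} : M ∈ trans F ↔ linPart M = 1 := Iff.rfl

theorem mem_trans_iff {M : Cfsg.qdOver F} :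
    M ∈ trans F ↔ ent M 0 0 = 1 ∧ ent M 0 1 = 0 ∧ ent M 1 0 = 0 ∧ ent M 1 1 = 1 := by
  rw [mem_trans, Matrix.SpecialLinearGroup.ext_iff]
  simp [linPart_val, Fin.forall_fin_two]
  tauto

/-- The linear complement. -/
def linSub (F : Type*) [Field F] : Subgroup ↥(Cfsg.qdOver F) where
  carrier := {M | traPart M = 0}
  one_mem' := traPart_one
  mul_mem' := fun {a b} (ha : traPart a = 0) (hb : traPart b = 0) => by
    show traPart (a * b) = 0
    rw [traPart_mul, ha, hb, Matrix.mulVec_zero, add_zero]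
  inv_mem' := fun {a} (ha : traPart a = 0) => by
    show traPart a⁻¹ = 0
    have h := traPart_mul a⁻¹ a
    rw [inv_mul_cancel, traPart_one, ha, Matrix.mulVec_zero, zero_add] at h
    exact h.symm

theorem mem_linSub {M : Cfsg.qdOver F} : M ∈ linSub F ↔ traPart M = 0 := Iff.rfl

theorem trans_sup_linSub : linSub F ⊔ trans F = ⊤ := by
  rw [eq_top_iff]
  intro M _
  have h : M = mkAff 1 (traPart M) * mkAff (linPart M) 0 := by
    rw [mkAff_mul]
    simp [mkAff_parts]
  rw [h]
  exact mul_mem (mem_sup_right (linPart_mkAff _ _)) (mem_sup_left (traPart_mkAff _ _))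

theorem linSub_inf_trans : linSub F ⊓ trans F = ⊥ := by
  rw [eq_bot_iff]
  intro M hM
  exact ext_parts (hM.2.trans (map_one _).symm) (hM.1.trans traPart_one.symm)

/-- The complement is `SL₂(F)`. -/
noncomputable def linSubEquiv : ↥(linSub F) ≃* SpecialLinearGroup (Fin 2) F :=
  MulEquiv.ofBijective (linPart.comp (linSub F).subtype)
    ⟨fun a b h => Subtype.ext (ext_parts h (a.2.trans b.2.symm)),
      fun g => ⟨⟨mkAff g 0, traPart_mkAff _ _⟩, linPart_mkAff _ _⟩⟩

theorem linSubEquiv_apply (l : linSub F) : linSubEquiv l = linPart l.1 := rfl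

/-- The translation subgroup is the plane. -/
noncomputable def transEquiv : Additive ↥(trans F) ≃+ (Fin 2 → F) :=
  AddEquiv.ofBijective (AddMonoidHom.mk' (fun a => traPart (Additive.toMul a).1) fun a b => by
      show traPart ((Additive.toMul a).1 * (Additive.toMul b).1) = _
      rw [traPart_mul, mem_trans.1 (Additive.toMul a).2,
        show ((1 : SpecialLinearGroup (Fin 2) F)).1 = 1 from rfl, Matrix.one_mulVec, add_comm])
    ⟨fun a b h => Additive.toMul.injective (Subtype.ext (ext_parts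
        ((mem_trans.1 (Additive.toMul a).2).trans (mem_trans.1 (Additive.toMul b).2).symm) h)),
      fun v => ⟨Additive.ofMul ⟨mkAff 1 v, linPart_mkAff _ _⟩, traPart_mkAff _ _⟩⟩

theorem transEquiv_apply (v : trans F) : transEquiv (Additive.ofMul v) = traPart v.1 := rfl

theorem traPart_conj {l v : Cfsg.qdOver F} (hl : l ∈ linSub F) (hv : v ∈ trans F) :
    traPart (l * v * l⁻¹) = (linPart l).1.mulVec (traPart v) := by
  rw [traPart_mul, (inv_mem hl : l⁻¹ ∈ linSub F), Matrix.mulVec_zero, zero_add, traPart_mul, hl,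
    add_zero]

theorem isPGroup_trans (p : ℕ) [CharP F p] : IsPGroup p ↥(trans F) := fun a => by
  refine ⟨1, ?_⟩
  rw [pow_one]
  apply Additive.ofMul.injective
  apply transEquiv.injective
  rw [ofMul_pow, map_nsmul, ofMul_one, map_zero]
  funext i
  simp [CharP.cast_eq_zero]

/-- A normal `p`-subgroup of `SL₂(F)` is trivial. -/
theorem normal_pGroup_eq_bot [Finite F] {p : ℕ} [Fact p.Prime] [CharP F p]
    {N : Subgroup (SpecialLinearGroup (Fin 2) F)} [N.Normal] (hN : IsPGroup p N) : N = ⊥ := by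
  letI : MulAction N (Fin 2 → F) :=
    { smul := fun n v => n.1.1.mulVec v
      one_smul := fun v => Matrix.one_mulVec v
      mul_smul := fun a b v => (Matrix.mulVec_mulVec v a.1.1 b.1.1).symm }
  have hcard : p ∣ Nat.card (Fin 2 → F) := by
    rw [Nat.card_pi, Fin.prod_univ_two]
    haveI := Fintype.ofFinite F
    obtain ⟨n, -, hq⟩ := FiniteField.card F p
    rw [Nat.card_eq_fintype_card, hq, ← pow_add]
    exact dvd_pow_self p (by have := n.pos; omega)
  obtain ⟨v, hv, hv0⟩ := hN.exists_fixed_point_of_prime_dvd_card_of_fixed_point (Fin 2 → F) hcard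
    (a := 0) (fun n => Matrix.mulVec_zero _)
  -- the fixed space is invariant under all of `SL₂(F)`
  let W : Set (Fin 2 → F) := {w | ∀ n ∈ N, n.1.mulVec w = w}
  have hvW : v ∈ W := fun n hn => hv ⟨n, hn⟩
  have hsmul : ∀ (c : F), ∀ w ∈ W, c • w ∈ W := fun c w hw n hn => by
    rw [Matrix.mulVec_smul, hw n hn]
  have hsub : ∀ w ∈ W, ∀ w' ∈ W, w - w' ∈ W := fun w hw w' hw' n hn => by
    rw [Matrix.mulVec_sub, hw n hn, hw' n hn]
  have hinv : ∀ (g : SpecialLinearGroup (Fin 2) F), ∀ w ∈ W, g.1.mulVec w ∈ W := by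
    intro g w hw n hn
    have h := hw _ (Subgroup.Normal.conj_mem ‹N.Normal› n hn g⁻¹)
    rw [inv_inv] at h
    calc n.1.mulVec (g.1.mulVec w) = (n * g).1.mulVec w := by
          rw [Matrix.mulVec_mulVec]; rfl
      _ = (g * (g⁻¹ * n * g)).1.mulVec w := by rw [show g * (g⁻¹ * n * g) = n * g by group]
      _ = g.1.mulVec ((g⁻¹ * n * g).1.mulVec w) := by rw [Matrix.mulVec_mulVec]; rfl
      _ = g.1.mulVec w := by rw [h]
  let up : SpecialLinearGroup (Fin 2) F := ⟨!![1, 1; 0, 1], by simp [Matrix.det_fin_two_of]⟩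
  let lo : SpecialLinearGroup (Fin 2) F := ⟨!![1, 0; 1, 1], by simp [Matrix.det_fin_two_of]⟩
  have h1 : (![v 1, 0] : Fin 2 → F) ∈ W := by
    convert hsub _ (hinv up v hvW) v hvW using 1
    funext i; fin_cases i <;> simp [up, Matrix.mulVec, dotProduct, Fin.sum_univ_two]
  have h2 : (![0, v 0] : Fin 2 → F) ∈ W := by
    convert hsub _ (hinv lo v hvW) v hvW using 1
    funext i; fin_cases i <;> simp [lo, Matrix.mulVec, dotProduct, Fin.sum_univ_two]
  obtain ⟨he1, he2⟩ : (![1, 0] : Fin 2 → F) ∈ W ∧ (![0, 1] : Fin 2 → F) ∈ W := by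
    by_cases hv1 : v 1 = 0
    · have hv00 : v 0 ≠ 0 := fun h => hv0 (by funext i; fin_cases i <;> simp [h, hv1])
      have e2 : (![0, 1] : Fin 2 → F) ∈ W := by
        convert hsmul (v 0)⁻¹ _ h2 using 1
        funext i; fin_cases i <;> simp [inv_mul_cancel₀ hv00]
      refine ⟨?_, e2⟩
      convert hsub _ (hinv up _ e2) _ e2 using 1
      funext i; fin_cases i <;> simp [up, Matrix.mulVec, dotProduct, Fin.sum_univ_two]
    · have e1 : (![1, 0] : Fin 2 → F) ∈ W := by
        convert hsmul (v 1)⁻¹ _ h1 using 1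
        funext i; fin_cases i <;> simp [inv_mul_cancel₀ hv1]
      refine ⟨e1, ?_⟩
      convert hsub _ (hinv lo _ e1) _ e1 using 1
      funext i; fin_cases i <;> simp [lo, Matrix.mulVec, dotProduct, Fin.sum_univ_two]
  rw [eq_bot_iff]
  intro n hn
  refine Subtype.ext (Matrix.ext fun i j => ?_)
  have a1 := congrFun (he1 n hn) i
  have a2 := congrFun (he2 n hn) i
  fin_cases i <;> fin_cases j <;>
    simp [Matrix.mulVec, dotProduct, Fin.sum_univ_two] at a1 a2 ⊢ <;> assumption

theorem pCore_eq_trans [Finite F] (p : ℕ) [Fact p.Prime] [CharP F p] :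
    Cfsg.pCore p ↥(Cfsg.qdOver F) = trans F := by
  refine le_antisymm ?_ (le_pCore' (MonoidHom.normal_ker _) (isPGroup_trans p))
  haveI := pCore_normal' p ↥(Cfsg.qdOver F)
  haveI : ((Cfsg.pCore p ↥(Cfsg.qdOver F)).map linPart).Normal :=
    Subgroup.Normal.map inferInstance _ fun g => ⟨mkAff g 0, linPart_mkAff _ _⟩
  exact (Subgroup.map_eq_bot_iff _).1 (normal_pGroup_eq_bot (p := p) ((pCore_isPGroup' (p := p) _).map _))

end CfsgLib.LocalEven.QdOver
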