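import Cfsg.Agent.Lib.LocalEven.EvenCentralizer
import Cfsg.Agent.Lib.PLocal.QuadLinear
import Cfsg.Agent.Lib.ReeG2.Model
import Cfsg.Agent.Lib.ReeG2.Sylow

/-!
`PSL₂(q)`, `q` odd, and the Ree groups have no quadratic elements.
-/

set_option autoImplicit false
set_option linter.style.haveILetI false

open scoped MatrixGroups
open CfsgLib.SchurSL2 CfsgLib.PLocal CfsgLib.PLoc

namespace CfsgLib.LocalEven.QuadPSLRee

section SL2

variable {F : Type*} [Field F] {p : ℕ} [hp : Fact p.Prime] [CharP F p]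

local notation "N2" => Matrix (Fin 2) (Fin 2) F

theorem center_cases {z : SL(2, F)} (hz : z ∈ Subgroup.center SL(2, F)) : z = 1 ∨ z = -1 := by
  obtain ⟨r, hr, hrz⟩ := Matrix.SpecialLinearGroup.mem_center_iff.1 hz
  rw [Fintype.card_fin, pow_two, mul_self_eq_one_iff] at hr
  rcases hr with rfl | rfl
  · exact Or.inl (Subtype.ext (by rw [← hrz, map_one]; rfl))
  · exact Or.inr (Subtype.ext (by rw [← hrz, map_neg, map_one]; rfl))

theorem sq_eq_zero_of_pow_eq_zero {E : N2} {k : ℕ} (hk : E ^ (k + 1) = 0) : E * E = 0 := by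
  have hd : E.det = 0 := by
    have := congrArg Matrix.det hk
    rw [Matrix.det_pow, Matrix.det_zero] at this
    exact pow_eq_zero_iff (Nat.succ_ne_zero k) |>.1 this
  rw [Matrix.det_fin_two] at hd
  have hsq : E * E = (E 0 0 + E 1 1) • E := by
    ext i j
    fin_cases i <;> fin_cases j <;> simp [Matrix.mul_apply, Fin.sum_univ_two] <;>
      first | linear_combination (-1 : F) * hd | ring
  have hpow : ∀ n : ℕ, E ^ (n + 1) = (E 0 0 + E 1 1) ^ n • E := by
    intro n
    induction n with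
    | zero => simp
    | succ n ih => rw [pow_succ, ih, smul_mul_assoc, hsq, smul_smul, ← pow_succ]
  rw [hpow] at hk
  rcases smul_eq_zero.1 hk with h | h
  · rw [hsq, eq_zero_of_pow_eq_zero h, zero_smul]
  · rw [h, mul_zero]

theorem eq_zero_of_commute {N E : N2} (hdet : N.det = 1) (htr : N 0 0 + N 1 1 = 0)
    (hE : E * E = 0) (htE : E 0 0 + E 1 1 = 0) (hc : N * E = E * N) (h2 : (2 : F) ≠ 0) : E = 0 := by
  rw [Matrix.det_fin_two] at hdet
  have hd : N 1 1 = -N 0 0 := by linear_combination htr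
  have he : E 1 1 = -E 0 0 := by linear_combination htE
  have c00 := congrFun (congrFun hc 0) 0
  have c01 := congrFun (congrFun hc 0) 1
  have c10 := congrFun (congrFun hc 1) 0
  have e00 := congrFun (congrFun hE 0) 0
  simp only [Matrix.mul_apply, Fin.sum_univ_two, Matrix.zero_apply, hd, he] at c00 c01 c10 e00
  rw [hd] at hdet
  set r := N 0 0
  set s := N 0 1
  set u := N 1 0
  set e := E 0 0
  set f := E 0 1
  set g := E 1 0
  have k1 : r * f = e * s := mul_left_cancel₀ h2 (by linear_combination c01)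
  have k2 : u * e = r * g := mul_left_cancel₀ h2 (by linear_combination c10)
  set w := r * e + s * g with hw
  have h1 : e = -(r * w) := by rw [hw]; linear_combination (-e) * hdet - s * k2
  have h3 : f = -(s * w) := by rw [hw]; linear_combination (-f) * hdet - r * k1 + s * c00
  have h4 : g = -(u * w) := by rw [hw]; linear_combination (-g) * hdet + r * k2
  have hw0 : w * w = 0 := by
    rw [h1, h3, h4] at e00
    linear_combination -e00 - w * w * hdet
  have hw1 : w = 0 := mul_self_eq_zero.1 hw0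
  rw [hw1, mul_zero, neg_zero] at h1 h3 h4
  ext i j
  fin_cases i <;> fin_cases j
  · exact h1
  · exact h3
  · exact h4
  · exact he.trans (by rw [h1, neg_zero]; rfl)

theorem not_commute_mod_center (hp2 : p ≠ 2) {M N : SL(2, F)} (hM : M ∉ Subgroup.center SL(2, F))
    (hMp : M ^ p ∈ Subgroup.center SL(2, F)) (hN : N ∉ Subgroup.center SL(2, F))
    (hN2 : N * N ∈ Subgroup.center SL(2, F))
    (hNM : (M * N)⁻¹ * (N * M) ∈ Subgroup.center SL(2, F)) : False := by
  have h2 : (2 : F) ≠ 0 := natCast_two_ne_zero (k := F) hp2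
  have hodd := hp.out.odd_of_ne_two hp2
  wlog h : M ^ p = 1 generalizing M with H
  · have h' : M ^ p = -1 := (center_cases hMp).resolve_left h
    have hpm : (-M) ^ p = 1 := by rw [hodd.neg_pow, h', neg_neg]
    refine H (M := -M) (fun hc => hM ?_) (by rw [hpm]; exact one_mem _) ?_ hpm
    · rcases center_cases hc with e | e
      · rw [show M = -1 by rw [← e, neg_neg]]
        exact Subgroup.mem_center_iff.2 fun g => by simp
      · rw [show M = 1 from neg_inj.1 e]
        exact one_mem _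
    · have e : ((-M) * N)⁻¹ * (N * -M) = (M * N)⁻¹ * (N * M) := by
        rw [inv_mul_eq_iff_eq_mul]
        simp [mul_assoc]
      rw [e]; exact hNM
  set E : N2 := (M : N2) - 1 with hEdef
  have hEp : E ^ p = 0 := by
    rw [hEdef, sub_pow_char_of_commute (p := p) (Commute.one_right _), one_pow,
      ← Matrix.SpecialLinearGroup.coe_pow, h, Matrix.SpecialLinearGroup.coe_one, sub_self]
  have hE : E * E = 0 := sq_eq_zero_of_pow_eq_zero (k := p - 1) (by
    rw [Nat.sub_add_cancel hp.out.one_le]; exact hEp)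
  have hE0 : E ≠ 0 := fun e => hM (by
    rw [show M = 1 from Subtype.ext (sub_eq_zero.1 e)]; exact one_mem _)
  have htE : E 0 0 + E 1 1 = 0 := by
    have hd : E.det = 0 := by
      have := congrArg Matrix.det hE
      rw [Matrix.det_mul, Matrix.det_zero] at this
      exact mul_self_eq_zero.1 this
    have h1 : (M : N2).det = 1 := M.2
    rw [Matrix.det_fin_two] at hd h1
    simp [hEdef] at hd ⊢
    linear_combination h1 - hd
  have hN1 : N * N ≠ 1 := fun e => hN (by
    obtain ⟨h01, h10, hd⟩ := isScalarMat_of_sq_eq_one h2 e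
    have hdet : (N : N2).det = 1 := N.2
    rw [Matrix.det_fin_two, h01, ← hd, zero_mul, sub_zero] at hdet
    exact Matrix.SpecialLinearGroup.mem_center_iff.2 ⟨(N : N2) 0 0,
      by rw [Fintype.card_fin, pow_two, hdet], by
        ext i j; fin_cases i <;> fin_cases j <;> simp [h01, h10, hd]⟩)
  have hN' : N * N = -1 := (center_cases hN2).resolve_left hN1
  have htN : (N : N2) 0 0 + (N : N2) 1 1 = 0 := by
    have hc := cayley N
    rw [← Matrix.SpecialLinearGroup.coe_mul, hN', Matrix.SpecialLinearGroup.coe_neg,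
      Matrix.SpecialLinearGroup.coe_one] at hc
    have h00 := congrFun (congrFun hc 0) 0
    have h01 := congrFun (congrFun hc 0) 1
    have h10 := congrFun (congrFun hc 1) 0
    simp at h00 h01 h10
    rcases mul_eq_zero.1 (show ((N : N2) 0 0 + (N : N2) 1 1) * (N : N2) 0 0 = 0 by linear_combination -h00)
      with h00 | h00
    · exact h00
    · by_contra ht
      have hdet : (N : N2).det = 1 := N.2
      rw [Matrix.det_fin_two, h00, zero_mul, zero_sub, (h01.resolve_left ht), zero_mul, neg_zero] at hdet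
      exact zero_ne_one hdet
  have hcomm : N * M = M * N := by
    rcases center_cases hNM with e | e
    · exact (inv_mul_eq_one.1 e).symm
    · exfalso
      rw [inv_mul_eq_iff_eq_mul, mul_neg, mul_one] at e
      have h3 : ((N * M * N⁻¹ : SL(2, F)) : N2) = -(M : N2) := by
        rw [e, neg_mul, mul_inv_cancel_right, Matrix.SpecialLinearGroup.coe_neg]
      have h4 := congrArg Matrix.trace h3
      rw [Matrix.trace_neg, Matrix.SpecialLinearGroup.coe_mul, Matrix.trace_mul_comm,
        ← Matrix.SpecialLinearGroup.coe_mul, ← mul_assoc, inv_mul_cancel, one_mul,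
        Matrix.trace_fin_two] at h4
      simp [hEdef] at htE
      have h5 : (M : N2) 0 0 + (M : N2) 1 1 = 2 := by linear_combination htE
      rw [h5] at h4
      exact h2 (mul_left_cancel₀ h2 (by linear_combination h4))
  refine hE0 (eq_zero_of_commute (N := (N : N2)) N.2 htN hE htE ?_ h2)
  rw [hEdef, mul_sub, sub_mul, mul_one, one_mul, ← Matrix.SpecialLinearGroup.coe_mul, hcomm,
    Matrix.SpecialLinearGroup.coe_mul]

theorem psl2_not_commute (hp2 : p ≠ 2) {x y : Matrix.ProjectiveSpecialLinearGroup (Fin 2) F}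
    (hx : x ^ p = 1) (hx1 : x ≠ 1) (hy : y * y = 1) (hy1 : y ≠ 1) : y * x ≠ x * y := by
  obtain ⟨M, rfl⟩ := QuotientGroup.mk_surjective x
  obtain ⟨N, rfl⟩ := QuotientGroup.mk_surjective y
  intro h
  exact not_commute_mod_center hp2 (fun hc => hx1 ((QuotientGroup.eq_one_iff M).2 hc))
    ((QuotientGroup.eq_one_iff _).1 hx) (fun hc => hy1 ((QuotientGroup.eq_one_iff N).2 hc))
    ((QuotientGroup.eq_one_iff _).1 hy) (QuotientGroup.eq.1 h.symm)

end SL2

section Klein

theorem comm_of_card_dvd_four {P : Type*} [Group P] [Finite P] (h : IsPGroup 2 P)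
    (h4 : Nat.card P ≤ 4) : IsMulCommutative P := by
  haveI : Fact (Nat.Prime 2) := ⟨Nat.prime_two⟩
  obtain ⟨k, hk⟩ := IsPGroup.iff_card.1 h
  have hk2 : k ≤ 2 := by
    by_contra hc
    have : 2 ^ 3 ≤ 2 ^ k := Nat.pow_le_pow_right (by norm_num) (by omega)
    omega
  interval_cases k
  · haveI : Subsingleton P := (Nat.card_eq_one_iff_unique.1 (by simpa using hk)).1
    exact ⟨⟨fun a b => Subsingleton.elim _ _⟩⟩
  · haveI := isCyclic_of_prime_card (p := 2) (by simpa using hk)
    exact ⟨⟨fun a b => (IsCyclic.commGroup (α := P)).mul_comm a b⟩⟩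
  · exact ⟨⟨fun a b => (IsPGroup.commGroupOfCardEqPrimeSq (p := 2) (by simpa using hk)).mul_comm a b⟩⟩

/-- No quadratic pairs when the Sylow 2-subgroups have order at most 8 and contain a four-group. -/
theorem no_quadratic_of_klein {p : ℕ} [hp : Fact p.Prime] (hp2 : p ≠ 2) {Γ : Type*} [Group Γ]
    [Finite Γ] {A : Type*} [AddCommGroup A] [Finite A] (hA : ∀ x : A, p • x = 0)
    (ρ : Γ →* AddMonoid.End A) (hρ : Function.Injective ρ) (hcore : Cfsg.pCore p Γ = ⊥)
    (h8 : ∀ T : Subgroup Γ, IsPGroup 2 T → Nat.card T ≤ 8)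
    {x y : Γ} (hx : x * x = 1) (hx1 : x ≠ 1) (hy : y * y = 1) (hy1 : y ≠ 1) (hxy : x * y = y * x)
    (hne : x ≠ y) {a : Γ} (ha : ∀ v, ρ a (ρ a v - v) = ρ a v - v) : a = 1 := by
  classical
  by_contra ha1
  haveI : Fact (Nat.Prime 2) := ⟨Nat.prime_two⟩
  letI : Module (ZMod p) A := AddCommGroup.zmodModule hA
  haveI : CharP (AlgebraicClosure (ZMod p)) p :=
    charP_of_injective_algebraMap (algebraMap (ZMod p) (AlgebraicClosure (ZMod p))).injective p
  obtain ⟨g, -, hnp⟩ := exists_pair_not_isPGroup (p := p) (H := (⊤ : Subgroup Γ))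
    (Subgroup.mem_top a) (by
      rintro ⟨z, hz, rfl⟩
      have h1 : z.1 ∈ Cfsg.pCore p Γ := by
        haveI : (Cfsg.pCore p (⊤ : Subgroup Γ)).Normal := CfsgLib.Solvable.pCore_normal p _
        refine CfsgLib.Solvable.le_pCore ((inferInstance : (Cfsg.pCore p (⊤ : Subgroup Γ)).Normal).map
          (Subgroup.topEquiv (G := Γ)).toMonoidHom (Subgroup.topEquiv (G := Γ)).surjective)
          ((CfsgLib.Solvable.pCore_isPGroup p _).map _) ⟨z, hz, rfl⟩
      rw [hcore, Subgroup.mem_bot] at h1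
      exact ha1 h1)
  set b := g * a * g⁻¹ with hb
  have hbq : ∀ v, ρ b (ρ b v - v) = ρ b v - v := by
    intro v
    have e : ∀ w, ρ b w = ρ g (ρ a (ρ g⁻¹ w)) := fun w => by rw [hb, map_mul, map_mul]; rfl
    have hinv : ∀ w, ρ g⁻¹ (ρ g w) = w := fun w => by
      change (ρ g⁻¹ * ρ g) w = w
      rw [← map_mul, inv_mul_cancel, map_one]; rfl
    have hinv' : ∀ w, ρ g (ρ g⁻¹ w) = w := fun w => by
      change (ρ g * ρ g⁻¹) w = w
      rw [← map_mul, mul_inv_cancel, map_one]; rfl
    rw [e, e, map_sub, hinv, ha (ρ g⁻¹ v), map_sub, hinv']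
  set H := Subgroup.closure ({a, b} : Set Γ)
  let a' : H := ⟨a, Subgroup.subset_closure (by simp)⟩
  let b' : H := ⟨b, Subgroup.subset_closure (by simp)⟩
  have hgen : Subgroup.closure ({a', b'} : Set H) = ⊤ := by
    apply Subgroup.map_injective H.subtype_injective
    rw [MonoidHom.map_closure, ← MonoidHom.range_eq_map, Subgroup.range_subtype,
      Set.image_insert_eq, Set.image_singleton]
    rfl
  obtain ⟨φ, hφ, hφa, hφb⟩ := exists_hom_sl2_of_end (p := p) (ρ.comp H.subtype) hgen ha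
    hbq fun hall => hnp fun h => by
      obtain ⟨i, hi⟩ := hall h
      exact ⟨i, Subtype.ext (hρ (hi.trans (map_one ρ).symm))⟩
  haveI : Finite φ.range := Finite.of_surjective φ.rangeRestrict φ.rangeRestrict_surjective
  obtain ⟨T⟩ : Nonempty (Sylow 2 H) := inferInstance
  set T' := T.mapSurjective φ.rangeRestrict_surjective
  have hnc := sl2_sylow_two_not_comm hp2 φ.range ((fun h => φ.rangeRestrict h) '' {a', b'})
    (by rw [← MonoidHom.map_closure, hgen, Subgroup.map_top_of_surjective _ φ.rangeRestrict_surjective])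
    (by rintro _ ⟨h, (rfl | rfl), rfl⟩
        exacts [Subtype.ext hφa, Subtype.ext hφb]) hφ T'
  have h5 : ¬ Nat.card (T' : Subgroup φ.range) ≤ 4 := fun h => hnc (comm_of_card_dvd_four T'.2 h)
  set S := (T : Subgroup H).map H.subtype with hS
  have hSc : Nat.card S = Nat.card (T : Subgroup H) := Subgroup.card_map_of_injective H.subtype_injective
  have hT8 : Nat.card (T : Subgroup H) ≤ 8 := hSc ▸ h8 S (T.2.map _)
  have hinj : Function.Injective (φ.rangeRestrict.subgroupMap (T : Subgroup H)) := by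
    refine (Nat.bijective_iff_surjective_and_card _ |>.2
      ⟨MonoidHom.subgroupMap_surjective _ _, ?_⟩).1
    have hle := Nat.le_of_dvd Nat.card_pos (Subgroup.card_map_dvd (T : Subgroup H) φ.rangeRestrict)
    have h5' : ¬ Nat.card ((T : Subgroup H).map φ.rangeRestrict) ≤ 4 := by
      rwa [← Sylow.coe_mapSurjective φ.rangeRestrict_surjective]
    obtain ⟨i, hi⟩ := IsPGroup.iff_card.1 T.2
    obtain ⟨j, hj⟩ := IsPGroup.iff_card.1 (T.2.map φ.rangeRestrict)
    rw [hi, hj] at hle
    rw [hi] at hT8 ⊢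
    rw [hj] at h5' ⊢
    have hij : j ≤ i := (Nat.pow_le_pow_iff_right (by norm_num)).1 hle
    have hi3 : i ≤ 3 := (Nat.pow_le_pow_iff_right (a := 2) (by norm_num)).1 (by simpa using hT8)
    have hj3 : 3 ≤ j := by
      by_contra hc
      exact h5' (le_of_le_of_eq (Nat.pow_le_pow_right (by norm_num) (show j ≤ 2 by omega)) (by norm_num))
    rw [show i = j by omega]
  have hS8 : 8 ≤ Nat.card S := by
    rw [hSc]
    refine le_trans ?_ (Nat.le_of_dvd Nat.card_pos (Subgroup.card_map_dvd (T : Subgroup H) φ.rangeRestrict))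
    rw [← Sylow.coe_mapSurjective φ.rangeRestrict_surjective]
    obtain ⟨j, hj⟩ := IsPGroup.iff_card.1 T'.2
    rw [hj] at h5 ⊢
    by_contra hc
    have : j ≤ 2 := by
      by_contra hj'
      exact hc (le_trans (by norm_num) (Nat.pow_le_pow_right (show 2 > 0 by norm_num) (show 3 ≤ j by omega)))
    exact h5 (le_of_le_of_eq (Nat.pow_le_pow_right (by norm_num) this) (by norm_num))
  obtain ⟨P, hP⟩ := (T.2.map H.subtype).exists_le_sylow
  have hSP : S = (P : Subgroup Γ) :=
    Subgroup.eq_of_le_of_card_ge hP ((h8 _ P.2).trans hS8)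
  have hcl : IsPGroup 2 (Subgroup.closure ({x, y} : Set Γ)) := by
    haveI : IsMulCommutative (Subgroup.closure ({x, y} : Set Γ)) :=
      Subgroup.isMulCommutative_closure fun u hu v hv => by
        rcases hu with rfl | rfl <;> rcases hv with rfl | rfl
        exacts [rfl, hxy, hxy.symm, rfl]
    rintro ⟨z, hz⟩
    refine ⟨1, Subtype.ext ?_⟩
    show z ^ 2 ^ 1 = 1
    induction hz using Subgroup.closure_induction with
    | mem w hw => rcases hw with rfl | rfl <;> simpa [pow_two]
    | one => simp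
    | mul u v hu hv ihu ihv => rw [Commute.mul_pow (setLike_mul_comm hu hv), ihu, ihv, one_mul]
    | inv u _ ih => rw [inv_pow, ih, inv_one]
  obtain ⟨Q, hQ⟩ := hcl.exists_le_sylow
  obtain ⟨c, hc⟩ := MulAction.exists_smul_eq Γ Q P
  have hmem : ∀ z ∈ ({x, y} : Set Γ), c * z * c⁻¹ ∈ S := by
    intro z hz
    rw [hSP, ← hc, Sylow.coe_subgroup_smul]
    exact Subgroup.smul_mem_pointwise_smul _ (MulAut.conj c) _ (hQ (Subgroup.subset_closure hz))
  obtain ⟨x', hx', ex⟩ := hmem x (by simp)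
  obtain ⟨y', hy', ey⟩ := hmem y (by simp)
  have key : ∀ z' ∈ (T : Subgroup H), ∀ z, (z' : Γ) = c * z * c⁻¹ → z * z = 1 → z ≠ 1 →
      ((φ z' : SL(2, AlgebraicClosure (ZMod p)))) = -1 := by
    intro z' hz' z ez hz hz1
    have hzz : φ z' * φ z' = 1 := by
      rw [← map_mul, show z' * z' = 1 from Subtype.ext (by
        show (z' : Γ) * z' = 1
        rw [ez, show c * z * c⁻¹ * (c * z * c⁻¹) = c * (z * z) * c⁻¹ by group, hz, mul_one,
          mul_inv_cancel]), map_one]
    have hne1 : φ z' ≠ 1 := fun e => hz1 (by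
      have h1 := hinj (a₁ := ⟨z', hz'⟩) (a₂ := 1) (Subtype.ext (Subtype.ext (e.trans (map_one φ).symm)))
      have h2 : (z' : Γ) = 1 := congrArg (fun w : (T : Subgroup H) => ((w : H) : Γ)) h1
      exact conj_eq_one_iff.1 (ez ▸ h2))
    obtain ⟨h01, h10, hd⟩ := isScalarMat_of_sq_eq_one (natCast_two_ne_zero hp2) hzz
    have hdet := (φ z').2
    rw [Matrix.det_fin_two, h01, ← hd, zero_mul, sub_zero] at hdet
    rcases mul_self_eq_one_iff.1 hdet with e | e
    · exact absurd (Subtype.ext (by ext i j; fin_cases i <;> fin_cases j <;> simp [e, h01, h10, ← hd])) hne1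
    · refine Subtype.ext ?_
      rw [Matrix.SpecialLinearGroup.coe_neg, Matrix.SpecialLinearGroup.coe_one]
      ext i j; fin_cases i <;> fin_cases j <;> simp [e, h01, h10, ← hd]
  have h1 := hinj (a₁ := ⟨x', hx'⟩) (a₂ := ⟨y', hy'⟩) (Subtype.ext (Subtype.ext
    ((key x' hx' x ex hx hx1).trans (key y' hy' y ey hy hy1).symm)))
  refine hne (mul_right_cancel (mul_left_cancel (a := c) ?_ : x * c⁻¹ = y * c⁻¹))
  rw [← mul_assoc, ← mul_assoc, ← ex, ← ey]
  exact congrArg (fun w : (T : Subgroup H) => ((w : H) : Γ)) h1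

end Klein

section Ree

open Cfsg CfsgLib.ReeG2

theorem ree_klein {Γ : Type*} [Group Γ] [Finite Γ] (h : Cfsg.Lie.IsoRee Γ) :
    (∀ T : Subgroup Γ, IsPGroup 2 T → Nat.card T ≤ 8) ∧
      ∃ x y : Γ, x * x = 1 ∧ x ≠ 1 ∧ y * y = 1 ∧ y ≠ 1 ∧ x * y = y * x ∧ x ≠ y := by
  obtain ⟨K, _, _, m, hm, hK, ⟨e⟩⟩ := h
  obtain ⟨_, θ, hθ, he⟩ := exists_theta hK
  rw [CfsgLib.ReeG2.model hθ he] at e
  constructor
  · intro T hT
    obtain ⟨j, hj⟩ := (haveI : Fact (Nat.Prime 2) := ⟨Nat.prime_two⟩; IsPGroup.iff_card.1 hT)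
    rw [hj]
    have hd : 2 ^ j ∣ Fintype.card K ^ 3 * (Fintype.card K - 1) * (Fintype.card K ^ 3 + 1) := by
      rw [← card_fixG hθ, ← Nat.card_congr e.toEquiv, ← hj]; exact Subgroup.card_subgroup_dvd_card T
    refine (Nat.le_of_dvd (by norm_num) ?_ : 2 ^ j ≤ 8)
    have h8 : 3 ^ (2 * m + 1) % 8 = 3 := by
      rw [pow_succ, pow_mul, Nat.mul_mod, Nat.pow_mod]; norm_num
    obtain ⟨i, hi⟩ : ∃ i, Fintype.card K = 8 * i + 3 := ⟨Fintype.card K / 8, by rw [hK]; omega⟩
    have hcop : (2 ^ j).Coprime (Fintype.card K ^ 3 * (4 * i + 1) *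
        (128 * i ^ 3 + 144 * i ^ 2 + 54 * i + 7)) := by
      refine Nat.Coprime.pow_left j (Nat.coprime_two_left.2 ?_)
      refine Odd.mul (Odd.mul (Odd.pow ⟨4 * i + 1, by omega⟩) ⟨2 * i, by ring⟩)
        ⟨64 * i ^ 3 + 72 * i ^ 2 + 27 * i + 3, by ring⟩
    refine hcop.dvd_of_dvd_mul_right ?_
    convert hd using 1
    rw [hi, show 8 * i + 3 - 1 = 2 * (4 * i + 1) by omega]
    ring
  · set z : ↥(fixG θ) := ⟨hh θ (-1 : Kˣ), hh_mem_fixG hθ _⟩
    set n : ↥(fixG θ) := ⟨n0 K, n0_mem_fixG hθ⟩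
    have hneg : (-1 : Kˣ) ≠ 1 := fun h => by
      have h1 : (-1 : K) = 1 := by simpa using congrArg Units.val h
      have h2 : (2 : K) = 0 := by linear_combination -h1
      exact absurd h2 (natCast_two_ne_zero (k := K) (show (3 : ℕ) ≠ 2 by norm_num))
    have hz1 : z ≠ 1 := fun h => hh_ne_one (θ := θ) hneg (congrArg Subtype.val h)
    have hn1 : n ≠ 1 := fun h => n0_not_mem_borel (K := K) (by
      rw [show n0 K = 1 from congrArg Subtype.val h]; exact one_mem _)
    refine ⟨e.symm z, e.symm n, ?_, ?_, ?_, ?_, ?_, ?_⟩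
    · rw [← map_mul, show z * z = 1 from Subtype.ext (by
        show hh θ (-1 : Kˣ) * hh θ (-1 : Kˣ) = 1
        rw [hh_mul, neg_one_mul, neg_neg, hh_one]), map_one]
    · exact fun h => hz1 (e.symm.injective (h.trans (map_one e.symm).symm))
    · rw [← map_mul, show n * n = 1 from Subtype.ext n0_sq, map_one]
    · exact fun h => hn1 (e.symm.injective (h.trans (map_one e.symm).symm))
    · rw [← map_mul, ← map_mul]
      congr 1
      refine Subtype.ext ?_
      show hh θ (-1 : Kˣ) * n0 K = n0 K * hh θ (-1 : Kˣ)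
      rw [n0_mul_hh, inv_neg, inv_one]
    · intro h
      have h1 : hh θ (-1 : Kˣ) = n0 K := congrArg Subtype.val (e.symm.injective h)
      refine n0_not_mem_borel (K := K) ?_
      rw [← h1]
      simpa [ru_zero] using small_mem_borel (θ := θ) (0 : K) 0 0 (-1 : Kˣ)

end Ree

end CfsgLib.LocalEven.QuadPSLRee
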