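import Cfsg.Agent.Lib.LocalEven.OrbitProduct
import Cfsg.Agent.Lib.LocalEven.ThompsonA
import Cfsg.Agent.Lib.ConjFunctor.FixLocal
import Cfsg.Agent.Lib.Invol.BaerSuzuki
import Cfsg.Agent.Lib.LocEven.Card

/-!
In an `S₄`-free group an abelian subgroup of largest order of a Sylow 2-subgroup, outside `O_2`, forces
the elements of `Z(O_2)` fixed by all proper overgroups of the Sylow subgroup to be central.
The argument uses a minimal best offender on `Ω₁(Z(O_2))`.
-/

set_option autoImplicit false

open scoped commutatorElement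

universe u

namespace CfsgLib.LocalEven.S4FreeFix

open CfsgLib.ConjFunctor

variable {L : Type u} [Group L] [Finite L]

/-- No transvections outside the kernel. -/
theorem no_transvection (hS4 : ¬ Cfsg.Involves (Equiv.Perm (Fin 4)) L) {V0 : Subgroup L} [V0.Normal]
    (hV0 : Cfsg.IsElementaryAbelian 2 V0)
    (hO : ∀ X : Subgroup L, X.Normal → Subgroup.centralizer (V0 : Set L) ≤ X →
      IsPGroup 2 (X.map (QuotientGroup.mk' (Subgroup.centralizer (V0 : Set L)))) →
      X ≤ Subgroup.centralizer (V0 : Set L))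
    {d : L} (hd : d ∉ Subgroup.centralizer (V0 : Set L))
    (hd2 : d * d ∈ Subgroup.centralizer (V0 : Set L)) {W : Subgroup L} (hW : W ≤ V0)
    (hWd : ∀ w ∈ W, d * w = w * d) (hidx : Nat.card V0 ≤ 2 * Nat.card W) : False := by
  haveI : Fact (Nat.Prime 2) := ⟨Nat.prime_two⟩
  haveI := hV0.1
  have hV2 : IsPGroup 2 V0 := fun v => ⟨1, Subtype.ext (by rw [pow_one]; exact hV0.2 _ v.2)⟩
  set C0 := Subgroup.centralizer (V0 : Set L) with hC0
  set f := QuotientGroup.mk' C0 with hf
  have he2 : f d ^ 2 = 1 := by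
    rw [← map_pow, pow_two]; exact (QuotientGroup.eq_one_iff _).2 hd2
  have he1 : f d ≠ 1 := fun h => hd ((QuotientGroup.eq_one_iff _).1 h)
  have hord : orderOf (f d) = 2 := orderOf_eq_prime he2 he1
  suffices hpairs : ∀ z, IsPGroup 2
      ↥(Subgroup.zpowers (f d) ⊔ (Subgroup.zpowers (f d)).map (MulAut.conj z).toMonoidHom) by
    obtain ⟨N, hN, hN2, hdN⟩ := CfsgLib.Invol.baer_suzuki (Subgroup.zpowers (f d)) hpairs
    refine hd (hO (N.comap f) (hN.comap f) ?_ ?_ (show d ∈ N.comap f from hdN (Subgroup.mem_zpowers _)))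
    · intro c hc
      show f c ∈ N
      rw [show f c = 1 from (QuotientGroup.eq_one_iff _).2 hc]
      exact one_mem N
    · rw [Subgroup.map_comap_eq_self_of_surjective (QuotientGroup.mk'_surjective C0)]
      exact hN2
  intro z
  obtain ⟨g, rfl⟩ := QuotientGroup.mk'_surjective C0 z
  set d' := g * d * g⁻¹ with hd'
  have he' : f d' = f g * f d * (f g)⁻¹ := by rw [hd', map_mul, map_mul, map_inv]
  have hord' : orderOf (f d') = 2 := by
    rw [he', ← hord]
    exact (MulAut.conj (f g)).orderOf_eq (f d)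
  have he'2 : f d' ^ 2 = 1 := by rw [← hord', pow_orderOf_eq_one]
  set y := f d * f d' with hy
  have hinv : f d * y * (f d)⁻¹ = y⁻¹ := by
    rw [pow_two] at he2 he'2
    have h1 : (f d)⁻¹ = f d := inv_eq_of_mul_eq_one_right he2
    have h2 : (f d')⁻¹ = f d' := inv_eq_of_mul_eq_one_right he'2
    rw [hy, mul_inv_rev, h2, h1, ← mul_assoc, he2, one_mul]
  have hy2 : orderOf y = 2 ^ (orderOf y).primeFactorsList.length := by
    refine Nat.eq_prime_pow_of_unique_prime_dvd (orderOf_pos y).ne' fun {q} hq hqd => ?_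
    by_contra hq2
    set k := y ^ (orderOf y / q) with hk
    have hkord : orderOf k = q := orderOf_pow_orderOf_div (orderOf_pos y).ne' hqd
    have hkinv : f d * k * (f d)⁻¹ = k⁻¹ := by rw [hk, ← conj_pow, hinv, inv_pow]
    have hq3 : q ≠ 3 := fun h3 => ThompsonA.no_inverted_three hV2 inferInstance hC0.symm hS4 (f d) k
      ⟨1, by rw [hord, pow_one]⟩ (hkord.trans h3) hkinv
    have hq4 : q ≠ 4 := by rintro rfl; norm_num at hq
    have hq5 : 5 ≤ q := by have := hq.two_le; omega
    haveI : Fact q.Prime := ⟨hq⟩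
    set l := (d * d') ^ (orderOf y / q) with hl
    have hfl : f l = k := by rw [hl, map_pow, map_mul]
    set W' := W.map (MulAut.conj g).toMonoidHom with hW'
    set X := W ⊓ W' with hX
    have hW'V : W' ≤ V0 := by
      rintro _ ⟨w, hw, rfl⟩
      exact (inferInstance : V0.Normal).conj_mem w (hW hw) g
    have hlX : ∀ w ∈ X, Commute l w := by
      intro w hw
      obtain ⟨w0, hw0, hwe⟩ := hw.2
      have h2 : Commute d' w := by
        rw [← hwe, hd']
        show Commute (g * d * g⁻¹) (g * w0 * g⁻¹)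
        exact (show Commute d w0 from hWd w0 hw0).conj g
      exact ((show Commute d w from hWd w hw.1).mul_left h2).pow_left _
    let F : Subgroup L := V0 ⊓ Subgroup.centralizer {l}
    have hXF : X ≤ F := fun w hw => ⟨hW hw.1,
      Subgroup.mem_centralizer_singleton_iff.2 (hlX w hw).eq.symm⟩
    let ψ : L ⧸ C0 →* MulAut V0 := QuotientGroup.lift C0 MulAut.conjNormal (fun c hc => by
      refine MulEquiv.ext fun v => Subtype.ext ?_
      rw [MulAut.conjNormal_apply, ← hc v v.2, mul_inv_cancel_right]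
      rfl)
    have hψ : ∀ (x : L) (v : V0), ((ψ (f x) v : V0) : L) = x * (v : L) * x⁻¹ := fun x v =>
      MulAut.conjNormal_apply x v
    letI : MulAction (Subgroup.zpowers k) V0 := MulAction.compHom V0 (ψ.comp (Subgroup.zpowers k).subtype)
    have hPk : IsPGroup q (Subgroup.zpowers k) :=
      IsPGroup.of_card (n := 1) (by rw [Nat.card_zpowers, hkord, pow_one])
    have hfix : Nat.card (MulAction.fixedPoints (Subgroup.zpowers k) V0) = Nat.card F := by
      refine Nat.card_congr
        { toFun := fun v => ⟨((v.1 : V0) : L), v.1.2, ?_⟩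
          invFun := fun v => ⟨⟨(v : L), v.2.1⟩, ?_⟩
          left_inv := fun v => rfl
          right_inv := fun v => rfl }
      · have h := congrArg Subtype.val (v.2 ⟨k, Subgroup.mem_zpowers k⟩)
        change ((ψ k v.1 : V0) : L) = _ at h
        rw [show ψ k = ψ (f l) from congrArg ψ hfl.symm, hψ] at h
        exact Subgroup.mem_centralizer_singleton_iff.2 (mul_inv_eq_iff_eq_mul.1 h).symm
      · have hstab : (⟨k, Subgroup.mem_zpowers k⟩ : Subgroup.zpowers k) ∈
            MulAction.stabilizer (Subgroup.zpowers k) (⟨(v : L), v.2.1⟩ : V0) := by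
          rw [MulAction.mem_stabilizer_iff]
          refine Subtype.ext ?_
          show ((ψ k ⟨(v : L), v.2.1⟩ : V0) : L) = v
          rw [show ψ k = ψ (f l) from congrArg ψ hfl.symm, hψ]
          rw [← Subgroup.mem_centralizer_singleton_iff.1 v.2.2, mul_inv_cancel_right]
        rintro ⟨m, hm⟩
        obtain ⟨i, rfl⟩ := Subgroup.mem_zpowers_iff.1 hm
        exact MulAction.mem_stabilizer_iff.1 (show (⟨k ^ i, hm⟩ : Subgroup.zpowers k) ∈ _ from
          (Subtype.ext (by simp) : (⟨k, Subgroup.mem_zpowers k⟩ : Subgroup.zpowers k) ^ i = ⟨k ^ i, hm⟩)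
            ▸ zpow_mem hstab i)
    have hmod := hPk.card_modEq_card_fixedPoints V0
    rw [hfix] at hmod
    obtain ⟨i, hi⟩ := Subgroup.card_dvd_of_le (inf_le_left : F ≤ V0)
    have hX4 : Nat.card V0 ≤ 4 * Nat.card X := by
      have h1 := ThompsonA.card_mul_card_le W W' fun a ha b hb =>
        setLike_mul_comm (hW ha) (hW'V hb)
      have hWW' : Nat.card W' = Nat.card W := Subgroup.card_map_of_injective (MulAut.conj g).injective
      have h2 : Nat.card ↥(W ⊔ W') ≤ Nat.card V0 := Subgroup.card_le_of_le (sup_le hW hW'V)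
      rw [hWW'] at h1
      refine Nat.le_of_mul_le_mul_right ?_ (Nat.card_pos (α := V0))
      calc Nat.card V0 * Nat.card V0 ≤ (2 * Nat.card W) * (2 * Nat.card W) := Nat.mul_le_mul hidx hidx
        _ = 4 * (Nat.card W * Nat.card W) := by ring
        _ ≤ 4 * (Nat.card X * Nat.card V0) :=
            Nat.mul_le_mul_left _ (h1.trans (Nat.mul_le_mul_left _ h2))
        _ = 4 * Nat.card X * Nat.card V0 := by ring
    have hi4 : i ≤ 4 := Nat.le_of_mul_le_mul_left
      (by rw [← hi]; exact hX4.trans (by rw [mul_comm 4]; exact Nat.mul_le_mul_right _ (Subgroup.card_le_of_le hXF)))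
      (Nat.card_pos (α := F))
    have hco : (Nat.card F).Coprime q := by
      obtain ⟨n, hn⟩ := (hV2.to_le (inf_le_left : F ≤ V0)).exists_card_eq
      rw [hn]
      exact Nat.Coprime.pow_left n ((Nat.coprime_primes Nat.prime_two hq).2 (fun h => hq2 h.symm))
    have hi1 : i = 1 := by
      have h1 : Nat.card F * i ≡ Nat.card F * 1 [MOD q] := by rw [← hi, mul_one]; exact hmod
      have h2 := Nat.ModEq.cancel_left_of_coprime (Nat.coprime_comm.1 hco) h1
      exact Nat.ModEq.eq_of_lt_of_lt h2 (by omega) (by omega)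
    have hFV : F = V0 := Subgroup.eq_of_le_of_card_ge inf_le_left (by rw [hi, hi1, mul_one])
    have hk1 : k = 1 := by
      rw [← hfl]
      refine (QuotientGroup.eq_one_iff _).2 fun v hv => ?_
      exact (Subgroup.mem_centralizer_singleton_iff.1 (hFV.ge hv).2 :)
    rw [hk1, orderOf_one] at hkord
    exact hq.ne_one hkord.symm
  refine (CfsgLib.Invol.isPGroup_two_closure_pair hord hord' hy2).to_le
    (sup_le (Subgroup.zpowers_le.2 (Subgroup.subset_closure (by simp))) ?_)
  rw [MonoidHom.map_zpowers, Subgroup.zpowers_le]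
  refine Subgroup.subset_closure ?_
  right
  show f g * f d * (f g)⁻¹ = f d'
  exact he'.symm

/-- Elements of `Z(O_2)` fixed by all proper overgroups of a Sylow 2-subgroup. -/
theorem commute_of_offender (hS4 : ¬ Cfsg.Involves (Equiv.Perm (Fin 4)) L) (S : Sylow 2 L)
    {A : Subgroup L} (hA : CfsgLib.PLoc.IsMaxAb 0 (S : Subgroup L) A) (hAQ : ¬ A ≤ Cfsg.pCore 2 L)
    {v : L} (hv : v ∈ coreCenter 2 L)
    (hN : ∀ N : Subgroup L, (S : Subgroup L) ≤ N → N ≠ ⊤ → ∀ n ∈ N, Commute n v) :
    ∀ h : L, Commute h v := by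
  classical
  haveI : Fact (Nat.Prime 2) := ⟨Nat.prime_two⟩
  haveI := hA.comm
  set Q := Cfsg.pCore 2 L with hQ
  set V := coreCenter 2 L with hVdef
  have hVQ : V ≤ Q := inf_le_left
  have hQS : Q ≤ (S : Subgroup L) := CfsgLib.Solvable.pCore_le_sylow S
  have hVc := coreCenter_comm 2 L
  let V0 : Subgroup L :=
    { carrier := {u | u ∈ V ∧ u * u = 1}
      one_mem' := ⟨one_mem _, mul_one 1⟩
      mul_mem' := fun {a b} ha hb => ⟨mul_mem ha.1 hb.1, by
        rw [(hVc b hb.1 a ha.1).mul_mul_mul_comm a b, ha.2, hb.2, mul_one]⟩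
      inv_mem' := fun {a} ha => ⟨inv_mem ha.1, by rw [← mul_inv_rev, ha.2, inv_one]⟩ }
  haveI hV0n : V0.Normal := ⟨fun u hu g => ⟨(inferInstance : V.Normal).conj_mem u hu.1 g, by
    rw [show g * u * g⁻¹ * (g * u * g⁻¹) = g * (u * u) * g⁻¹ by group, hu.2, mul_one, mul_inv_cancel]⟩⟩
  have hV0ea : Cfsg.IsElementaryAbelian 2 V0 :=
    ⟨IsMulCommutative.of_setLike_mul_comm fun a ha b hb => (hVc a ha.1 b hb.1).eq,
      fun a ha => by rw [pow_two]; exact ha.2⟩
  set C0 := Subgroup.centralizer (V0 : Set L) with hC0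
  have hQC0 : Q ≤ C0 := fun x hx u hu => (Subgroup.mem_centralizer_iff.1 hu.1.2 x hx).symm
  have hSne : (S : Subgroup L) ≠ ⊤ := by
    intro htop
    apply hAQ
    haveI : (S : Subgroup L).Normal := by rw [htop]; infer_instance
    exact hA.le.trans (CfsgLib.Solvable.le_pCore inferInstance S.isPGroup')
  set K := Subgroup.centralizer ({v} : Set L) with hK
  have hNK : ∀ N : Subgroup L, (S : Subgroup L) ≤ N → N ≠ ⊤ → N ≤ K := fun N h1 h2 n hn =>
    Subgroup.mem_centralizer_singleton_iff.2 (hN N h1 h2 n hn).eq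
  have hSK : (S : Subgroup L) ≤ K := hNK _ le_rfl hSne
  have hC0K : C0 ≤ K := by
    have hodd : ∀ c ∈ C0, Odd (orderOf c) → ∀ u ∈ V, Commute c u := by
      intro c hc ho u hu
      obtain ⟨m, hm⟩ := (CfsgLib.Solvable.pCore_isPGroup 2 L) ⟨u, hVQ hu⟩
      replace hm : u ^ 2 ^ m = 1 := congrArg Subtype.val hm
      induction m generalizing u with
      | zero => rw [pow_zero, pow_one] at hm; rw [hm]; exact Commute.one_right c
      | succ m ih =>
        have h2 : Commute c (u * u) := ih (u * u) (mul_mem hu hu)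
          (by rw [← pow_two, ← pow_mul, ← pow_succ']; exact hm)
        set e := c * u * c⁻¹ * u⁻¹ with he
        have heV : e ∈ V := mul_mem ((inferInstance : V.Normal).conj_mem u hu c) (inv_mem hu)
        have hee : e * e = 1 := by
          have h3 : c * u * c⁻¹ = e * u := by rw [he, inv_mul_cancel_right]
          have h4 : e * u * (e * u) = u * u := by
            rw [← h3, show c * u * c⁻¹ * (c * u * c⁻¹) = c * (u * u) * c⁻¹ by group, h2.eq,
              mul_inv_cancel_right]
          rw [(hVc u hu e heV).mul_mul_mul_comm e u] at h4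
          exact mul_right_cancel (h4.trans (one_mul _).symm)
        have hce : Commute c e := (Subgroup.mem_centralizer_iff.1 hc e ⟨heV, hee⟩).symm
        have hpow : ∀ n : ℕ, c ^ n * u * (c ^ n)⁻¹ = e ^ n * u := by
          intro n
          induction n with
          | zero => simp
          | succ n ihn =>
            calc c ^ (n + 1) * u * (c ^ (n + 1))⁻¹ = c * (c ^ n * u * (c ^ n)⁻¹) * c⁻¹ := by
                  rw [pow_succ']; group
              _ = c * e ^ n * c⁻¹ * (c * u * c⁻¹) := by rw [ihn]; group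
              _ = e ^ n * (e * u) := by
                  rw [(hce.pow_right n).eq, mul_inv_cancel_right]
                  congr 1
                  exact (show e * u = c * u * c⁻¹ by rw [he, inv_mul_cancel_right]).symm
              _ = e ^ (n + 1) * u := by rw [pow_succ, mul_assoc (e ^ n)]
        obtain ⟨j, hj⟩ := ho
        have h5 := hpow (orderOf c)
        rw [pow_orderOf_eq_one, one_mul, inv_one, mul_one] at h5
        rw [hj, pow_succ, pow_mul, pow_two, hee, one_pow, one_mul] at h5
        have he1 : e = 1 := mul_right_cancel (h5.symm.trans (one_mul u).symm)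
        exact mul_inv_eq_iff_eq_mul.1 (mul_inv_eq_one.1 he1)
    suffices h : (C0 ⊓ K).relIndex C0 = 1 from fun x hx => (Subgroup.relIndex_eq_one.1 h hx).2
    refine Nat.eq_one_iff_not_exists_prime_dvd.2 fun q hq hdvd => ?_
    haveI := Fact.mk hq
    by_cases hq2 : q = 2
    · subst hq2
      refine (isSyl_inf_normal S C0).not_dvd (hdvd.trans ?_)
      exact Subgroup.relIndex_dvd_of_le_left _ (le_inf inf_le_right (inf_le_left.trans hSK))
    · obtain ⟨R, hR, -⟩ := exists_isSyl_ge (p := q) (IsPGroup.of_bot (p := q) (G := L))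
        (bot_le (a := C0))
      refine hR.not_dvd (hdvd.trans (Subgroup.relIndex_dvd_of_le_left _ (le_inf hR.le fun s hs => ?_)))
      obtain ⟨k, hk⟩ := IsPGroup.iff_orderOf.1 hR.isPGroup ⟨s, hs⟩
      rw [← Subgroup.orderOf_coe] at hk
      refine Subgroup.mem_centralizer_singleton_iff.2 (hodd s (hR.le hs) ?_ v hv).eq
      rw [show orderOf s = q ^ k from hk]
      exact (hq.odd_of_ne_two hq2).pow
  by_contra hgoal
  -- normal subgroups that are 2-groups modulo `C0`
  have hrel : ∀ X Y : Subgroup L, X.Normal → C0 ≤ X → IsPGroup 2 (X.map (QuotientGroup.mk' C0)) →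
      C0 ≤ Y → (S : Subgroup L) ⊓ X ≤ Y → X ≤ Y := by
    intro X Y hXn hC0X hXp hC0Y hSY
    haveI := hXn
    have h1 : (X ⊓ Y).relIndex X ∣ C0.relIndex X :=
      Subgroup.relIndex_dvd_of_le_left _ (le_inf hC0X hC0Y)
    have h2 : (X ⊓ Y).relIndex X ∣ ((S : Subgroup L) ⊓ X).relIndex X :=
      Subgroup.relIndex_dvd_of_le_left _ (le_inf inf_le_right hSY)
    obtain ⟨n, hn⟩ := hXp.exists_card_eq
    rw [← Subgroup.relIndex_ker, QuotientGroup.ker_mk'] at hn
    rw [hn] at h1
    have h3 := Nat.eq_one_of_dvd_coprimes (((Nat.Prime.coprime_iff_not_dvd Nat.prime_two).2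
      (isSyl_inf_normal S X).not_dvd).pow_left n) h1 h2
    exact fun x hx => (Subgroup.relIndex_eq_one.1 h3 hx).2
  have hstep : ∀ X : Subgroup L, X.Normal → C0 ≤ X → IsPGroup 2 (X.map (QuotientGroup.mk' C0)) →
      (S : Subgroup L) ⊓ X ≤ Q := by
    intro X hXn hC0X hXp
    haveI := hXn
    by_cases htop : Subgroup.normalizer (((S : Subgroup L) ⊓ X : Subgroup L) : Set L) = ⊤
    · haveI := Subgroup.normalizer_eq_top_iff.1 htop
      exact CfsgLib.Solvable.le_pCore inferInstance (S.isPGroup'.to_le inf_le_left)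
    · exfalso
      apply hgoal
      intro h
      have hXK : X ≤ K := hrel X K hXn hC0X hXp hC0K (inf_le_left.trans hSK)
      obtain ⟨c, hc, hch⟩ := frattini_argument S X h
      have hSN : (S : Subgroup L) ≤
          Subgroup.normalizer (((S : Subgroup L) ⊓ X : Subgroup L) : Set L) := fun s hs => by
        refine cj_eq_self_iff.1 ?_
        rw [CfsgLib.ConjFunctor.cj_inf, cj_eq_self_of_mem hs, cj_eq_self_of_normal]
      have := K.mul_mem (K.inv_mem (hXK hc)) (hNK _ hSN htop hch)
      rw [inv_mul_cancel_left] at this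
      exact Subgroup.mem_centralizer_singleton_iff.1 this
  have hSC0 : (S : Subgroup L) ⊓ C0 ≤ Q := hstep C0 inferInstance le_rfl (by
    rw [(Subgroup.map_eq_bot_iff C0).2 (QuotientGroup.ker_mk' C0).ge]; exact IsPGroup.of_bot)
  have hO : ∀ X : Subgroup L, X.Normal → C0 ≤ X → IsPGroup 2 (X.map (QuotientGroup.mk' C0)) → X ≤ C0 :=
    fun X h1 h2 h3 => hrel X C0 h1 h2 h3 le_rfl ((hstep X h1 h2 h3).trans hQC0)
  -- a minimal best offender
  let fx : Subgroup L → Subgroup L := fun D => V0 ⊓ Subgroup.centralizer (D : Set L)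
  have hfx : ∀ D : Subgroup L, D ≤ A →
      Nat.card D * Nat.card (fx D) ≤ Nat.card A * Nat.card (fx A) := by
    intro D hD
    have hDW : ∀ a ∈ D, ∀ w ∈ fx D, a * w = w * a := fun a ha w hw => hw.2 a ha
    refine (ThompsonA.card_mul_card_le D (fx D) hDW).trans ?_
    rw [mul_comm (Nat.card A)]
    refine Nat.mul_le_mul (Subgroup.card_le_of_le fun x hx =>
      ⟨hx.2.1, fun a ha => setLike_mul_comm ha (hD hx.1)⟩) ?_
    refine hA.max _ (sup_le (hD.trans hA.le) (inf_le_left.trans ?_)) ?_ fun a _ => pow_zero a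
    · exact fun u hu => hQS (hVQ hu.1)
    rw [← Subgroup.le_centralizer_iff_isMulCommutative]
    refine sup_le (Subgroup.le_centralizer_iff.1 (sup_le ?_ ?_))
      (Subgroup.le_centralizer_iff.1 (sup_le ?_ ?_))
    · exact fun a ha c hc => setLike_mul_comm (hD hc) (hD ha)
    · exact inf_le_right
    · exact fun a ha w hw => (hDW a ha w hw).symm
    · exact fun a ha c hc => (hVc c hc.1.1 a ha.1.1).eq
  have hAC0 : ¬ A ≤ C0 := fun h => hAQ ((le_inf hA.le h).trans hSC0)
  obtain ⟨D, ⟨hDA, hDC, hA1D, hDM⟩, hmin⟩ := Set.exists_min_image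
    {D : Subgroup L | D ≤ A ∧ ¬ D ≤ C0 ∧ A ⊓ C0 ≤ D ∧
      Nat.card A * Nat.card (fx A) ≤ Nat.card D * Nat.card (fx D)}
    (fun D => Nat.card D) (Set.toFinite _) ⟨A, le_rfl, hAC0, inf_le_left, le_rfl⟩
  have hok : ∀ R : Subgroup L, R ≤ D → R.relIndex D = 2 → fx R ≤ Subgroup.centralizer (D : Set L) := by
    intro R hRD hidx
    have hcard : Nat.card D = 2 * Nat.card R := by
      rw [← CfsgLib.LocEven.card_mul_relIndex' hRD, hidx, mul_comm]
    by_cases hA1R : A ⊓ C0 ≤ R
    · have hnotin : ∀ d ∈ D, d ∉ R → d ∉ C0 := fun d hd hdR hd0 => hdR (hA1R ⟨hDA hd, hd0⟩)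
      by_cases hRC : R ≤ C0
      · exfalso
        obtain ⟨d, hdD, hdR⟩ : ∃ d ∈ D, d ∉ R := by
          by_contra h
          push Not at h
          rw [Subgroup.relIndex_eq_one.2 h] at hidx
          exact absurd hidx (by norm_num)
        have hdd : d * d ∈ R := by
          have := Subgroup.mul_self_mem_of_index_two (H := R.subgroupOf D) hidx ⟨d, hdD⟩
          exact this
        have hfxR : fx R = V0 := inf_eq_left.2 (Subgroup.le_centralizer_iff.1 hRC)
        refine no_transvection hS4 hV0ea hO (hnotin d hdD hdR) (hRC hdd) (W := fx D) inf_le_left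
          (fun w hw => hw.2 d hdD) ?_
        refine Nat.le_of_mul_le_mul_left ?_ (Nat.card_pos (α := R))
        calc Nat.card R * Nat.card V0 ≤ Nat.card A * Nat.card (fx A) := by
              have := hfx R (hRD.trans hDA); rwa [hfxR] at this
          _ ≤ Nat.card D * Nat.card (fx D) := hDM
          _ = Nat.card R * (2 * Nat.card (fx D)) := by rw [hcard]; ring
      · have hlt : Nat.card R * Nat.card (fx R) < Nat.card A * Nat.card (fx A) := by
          by_contra hge
          have := hmin R ⟨hRD.trans hDA, hRC, hA1R, not_lt.1 hge⟩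
          have hpos : 0 < Nat.card R := Nat.card_pos
          omega
        have hle : fx D ≤ fx R := inf_le_inf_left _ (Subgroup.centralizer_le hRD)
        obtain ⟨c, hc⟩ := Subgroup.card_dvd_of_le hle
        have hpos : 0 < Nat.card R * Nat.card (fx D) := Nat.mul_pos Nat.card_pos Nat.card_pos
        have hc2 : c < 2 := by
          refine Nat.lt_of_mul_lt_mul_left (a := Nat.card R * Nat.card (fx D)) ?_
          calc Nat.card R * Nat.card (fx D) * c = Nat.card R * Nat.card (fx R) := by rw [hc, mul_assoc]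
            _ < Nat.card A * Nat.card (fx A) := hlt
            _ ≤ Nat.card D * Nat.card (fx D) := hDM
            _ = Nat.card R * Nat.card (fx D) * 2 := by rw [hcard]; ring
        have heq : fx D = fx R := Subgroup.eq_of_le_of_card_ge hle (by
          rw [hc]
          exact (Nat.mul_le_mul_left _ (show c ≤ 1 by omega)).trans (mul_one _).le)
        rw [← heq]
        exact inf_le_right
    · have heq : R ⊔ (A ⊓ C0) = D := by
        refine Subgroup.eq_of_le_of_card_ge (sup_le hRD hA1D) ?_
        obtain ⟨c, hc⟩ := Subgroup.card_dvd_of_le (le_sup_left : R ≤ R ⊔ (A ⊓ C0))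
        rcases Nat.lt_or_ge c 2 with hlt | hge
        · exfalso
          apply hA1R
          have : R = R ⊔ (A ⊓ C0) := Subgroup.eq_of_le_of_card_ge le_sup_left (by
            rw [hc]; exact (Nat.mul_le_mul_left _ (show c ≤ 1 by omega)).trans (mul_one _).le)
          exact this.ge.trans' le_sup_right
        · rw [hcard, hc, mul_comm 2]
          exact Nat.mul_le_mul_left _ hge
      rw [← heq]
      exact Subgroup.le_centralizer_iff.1 (sup_le (Subgroup.le_centralizer_iff.1 inf_le_right)
        (Subgroup.le_centralizer_iff.1 (inf_le_left.trans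
          (Subgroup.le_centralizer_iff.1 (inf_le_right : A ⊓ C0 ≤ C0)))))
  -- the weakly closed subgroup they generate
  let Ok : Subgroup L → Prop := fun E =>
    ∀ R : Subgroup L, R ≤ E → R.relIndex E = 2 → fx R ≤ Subgroup.centralizer (E : Set L)
  have hOkconj : ∀ (a : L) (E : Subgroup L), Ok E → Ok (cj a E) := by
    intro a E hE R hR hidx
    have hR' : cj a⁻¹ R ≤ E := (cj_mono hR).trans (cj_inv_cj a E).le
    have hidx' : (cj a⁻¹ R).relIndex E = 2 := by
      rw [← hidx, ← cj_inv_cj a E]
      rw [Subgroup.relIndex_map_map_of_injective _ _ (MulAut.conj a⁻¹).injective, cj_inv_cj]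
    intro u hu
    refine Subgroup.mem_centralizer_iff.2 ?_
    rintro _ ⟨x, hx, rfl⟩
    have hu' : a⁻¹ * u * a ∈ fx (cj a⁻¹ R) := by
      refine ⟨by simpa using hV0n.conj_mem u hu.1 a⁻¹, Subgroup.mem_centralizer_iff.2 ?_⟩
      rintro _ ⟨r, hr, rfl⟩
      have h1 := Subgroup.mem_centralizer_iff.1 hu.2 r hr
      show a⁻¹ * r * a⁻¹⁻¹ * (a⁻¹ * u * a) = a⁻¹ * u * a * (a⁻¹ * r * a⁻¹⁻¹)
      calc a⁻¹ * r * a⁻¹⁻¹ * (a⁻¹ * u * a) = a⁻¹ * (r * u) * a := by group
        _ = a⁻¹ * (u * r) * a := by rw [h1]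
        _ = _ := by group
    have h2 := Subgroup.mem_centralizer_iff.1 (hE _ hR' hidx' hu') x hx
    show a * x * a⁻¹ * u = u * (a * x * a⁻¹)
    calc a * x * a⁻¹ * u = a * (x * (a⁻¹ * u * a)) * a⁻¹ := by group
      _ = a * (a⁻¹ * u * a * x) * a⁻¹ := by rw [h2]
      _ = _ := by group
  set k : Set L := {s | ∃ E : Subgroup L, E ≤ (S : Subgroup L) ∧ Ok E ∧ s ∈ E} with hk
  set TE := Subgroup.closure k with hTE
  have hTES : TE ≤ (S : Subgroup L) :=
    (Subgroup.closure_le _).2 fun s ⟨E, hES, _, hs⟩ => hES hs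
  have hDTE : D ≤ TE := fun s hs => Subgroup.subset_closure ⟨D, hDA.trans hA.le, hok, hs⟩
  set N := Subgroup.normalizer (TE : Set L) with hNdef
  have hweak : ∀ a : L, cj a TE ≤ (S : Subgroup L) → cj a TE = TE := by
    intro a ha
    refine Subgroup.eq_of_le_of_card_ge ?_ (card_cj a TE).ge
    show TE.map _ ≤ TE
    rw [hTE, MonoidHom.map_closure, Subgroup.closure_le]
    rintro _ ⟨s, ⟨E, hES, hE, hs⟩, rfl⟩
    refine Subgroup.subset_closure ⟨cj a E, (cj_mono fun x hx => ?_).trans ha, hOkconj a E hE,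
      ⟨s, hs, rfl⟩⟩
    exact Subgroup.subset_closure ⟨E, hES, hE, hx⟩
  have hSN : (S : Subgroup L) ≤ N := fun s hs => cj_eq_self_iff.1 (hweak s (cj_le_of_mem hTES hs))
  have hfix : ∀ a : L, cj a⁻¹ TE ≤ N → a ∈ N := by
    intro a ha
    have hsyl : IsSyl 2 (S : Subgroup L) N := by
      refine ⟨hSN, S.isPGroup', fun h => S.not_dvd_index (h.trans ?_)⟩
      exact Subgroup.relIndex_dvd_index_of_le hSN
    obtain ⟨m, hm, hle⟩ := hsyl.exists_cj_le (isPGroup_cj (S.isPGroup'.to_le hTES)) ha
    rw [← cj_mul] at hle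
    have h2 : m * a⁻¹ ∈ N := cj_eq_self_iff.1 (hweak _ hle)
    have h3 : a⁻¹ ∈ N := by simpa using mul_mem (inv_mem hm) h2
    simpa using inv_mem h3
  have hNne : N ≠ ⊤ := by
    intro h
    haveI : TE.Normal := Subgroup.normalizer_eq_top_iff.1 h
    exact hDC ((hDTE.trans (CfsgLib.Solvable.le_pCore inferInstance (S.isPGroup'.to_le hTES))).trans hQC0)
  -- transfer
  letI : CommGroup V :=
    { (inferInstance : Group V) with mul_comm := fun a b => Subtype.ext (hVc a a.2 b b.2).eq }
  letI : CommGroup V0 :=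
    { (inferInstance : Group V0) with mul_comm := fun a b => Subtype.ext (hVc a a.2.1 b b.2.1).eq }
  haveI : Fintype (L ⧸ N) := Fintype.ofFinite _
  suffices H : ∀ (m : ℕ) (u : V), u ^ 2 ^ m = 1 → (∀ n ∈ N, Commute n (u : L)) →
      ∀ h : L, Commute h (u : L) by
    obtain ⟨m, hm⟩ := ((CfsgLib.Solvable.pCore_isPGroup 2 L).to_le hVQ) ⟨v, hv⟩
    exact hgoal (H m ⟨v, hv⟩ hm (hN N hSN hNne))
  intro m
  induction m with
  | zero => intro u hu _ h; rw [pow_zero, pow_one] at hu; rw [hu]; exact Commute.one_right h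
  | succ m ih =>
    intro u hu huN h
    let F0 : L ⧸ N → L := fun q => q.out * (u : L) * q.out⁻¹
    have hF0 : ∀ a : L, F0 (a : L ⧸ N) = a * (u : L) * a⁻¹ := by
      intro a
      obtain ⟨n, hn⟩ := QuotientGroup.mk_out_eq_mul N a
      show ((a : L ⧸ N).out) * (u : L) * ((a : L ⧸ N).out)⁻¹ = _
      rw [hn, mul_inv_rev]
      calc a * n * (u : L) * ((n : L)⁻¹ * a⁻¹) = a * ((n : L) * (u : L) * (n : L)⁻¹) * a⁻¹ := by group
        _ = a * (u : L) * a⁻¹ := by rw [(huN n n.2).eq, mul_inv_cancel_right]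
    have hF0e : ∀ (t : L) (q : L ⧸ N), F0 (t • q) = t * F0 q * t⁻¹ := by
      intro t q
      induction q using QuotientGroup.induction_on with
      | H a =>
        show F0 ((t * a : L) : L ⧸ N) = t * F0 (a : L ⧸ N) * t⁻¹
        rw [hF0, hF0]; group
    let Fu : L ⧸ N → V := fun q => ⟨F0 q, (inferInstance : V.Normal).conj_mem _ u.2 q.out⟩
    set tr : V := ∏ q, Fu q with htr
    have htrfix : ∀ t : L, Commute t (tr : L) := by
      intro t
      have h1 : (MulAut.conjNormal t : MulAut V) tr = tr := by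
        rw [htr, map_prod]
        refine Finset.prod_equiv (MulAction.toPerm t) (by simp) (fun q _ => ?_)
        refine Subtype.ext ?_
        rw [MulAut.conjNormal_apply]
        exact (hF0e t q).symm
      have h2 := congrArg Subtype.val h1
      rw [MulAut.conjNormal_apply] at h2
      exact mul_inv_eq_iff_eq_mul.1 h2
    set c0 : L ⧸ N := ((1 : L) : L ⧸ N) with hc0
    have hFc0 : Fu c0 = u := Subtype.ext (by show F0 c0 = _; rw [hc0, hF0]; simp)
    set r : V := ∏ q ∈ Finset.univ.erase c0, Fu q with hr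
    have htr2 : tr = u * r := by
      rw [htr, ← Finset.mul_prod_erase _ _ (Finset.mem_univ c0), hFc0]
    have hTEN : TE ≤ N := hTES.trans hSN
    have hs : ∀ q : L ⧸ N, q ∈ Finset.univ.erase c0 ↔ ∃ t : TE, t • q ≠ q := by
      intro q
      simp only [Finset.mem_erase, Finset.mem_univ, and_true]
      induction q using QuotientGroup.induction_on with
      | H a =>
        constructor
        · intro hne
          by_contra hno
          push Not at hno
          refine hne (QuotientGroup.eq.2 ?_)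
          rw [mul_one]
          refine inv_mem (hfix a ?_)
          intro x hx
          rw [mem_cj, inv_inv] at hx
          have h1 : (((a * x * a⁻¹) * a : L) : L ⧸ N) = ((a : L) : L ⧸ N) := hno ⟨_, hx⟩
          rw [QuotientGroup.eq] at h1
          have e : ((a * x * a⁻¹) * a)⁻¹ * a = x⁻¹ := by group
          rw [e] at h1
          simpa using inv_mem h1
        · rintro ⟨t, ht⟩ heq
          refine ht ?_
          rw [heq, hc0]
          show (((t : L) * 1 : L) : L ⧸ N) = ((1 : L) : L ⧸ N)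
          rw [QuotientGroup.eq]
          simpa using inv_mem (hTEN t.2)
    have hpm : ∀ q, (((Fu q) ^ 2 ^ m : V) : L) ∈ V0 := by
      intro q
      refine ⟨((Fu q) ^ 2 ^ m).2, ?_⟩
      rw [Subgroup.coe_pow, ← pow_add, ← mul_two, ← pow_succ]
      show (q.out * (u : L) * q.out⁻¹) ^ 2 ^ (m + 1) = 1
      rw [conj_pow, ← Subgroup.coe_pow, hu]
      simp
    let ρ : TE →* MulAut V0 := MulAut.conjNormal.comp TE.subtype
    have hρfix : ∀ R : Subgroup TE, R.index = 2 → ∀ z : V0, (∀ t ∈ R, ρ t z = z) → ∀ t, ρ t z = z := by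
      intro R hR z hz t
      obtain ⟨E, hES, hE, e, heE, heR⟩ : ∃ E : Subgroup L, E ≤ (S : Subgroup L) ∧ Ok E ∧
          ∃ e : TE, (e : L) ∈ E ∧ e ∉ R := by
        by_contra hcon
        push Not at hcon
        have : TE ≤ R.map TE.subtype := by
          refine (Subgroup.closure_le _).2 ?_
          rintro s ⟨E, hES, hE, hs'⟩
          exact ⟨⟨s, Subgroup.subset_closure ⟨E, hES, hE, hs'⟩⟩, hcon E hES hE _ hs', rfl⟩
        have htop : R = ⊤ := eq_top_iff.2 fun x _ => by
          obtain ⟨y, hy, hyx⟩ := this x.2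
          rwa [show x = y from Subtype.ext hyx.symm]
        rw [htop, Subgroup.index_top] at hR
        exact absurd hR (by norm_num)
      haveI : R.Normal := Subgroup.normal_of_index_eq_two hR
      have hETE : E ≤ TE := fun s hs' => Subgroup.subset_closure ⟨E, hES, hE, hs'⟩
      have hidx : ((R ⊓ E.subgroupOf TE).map TE.subtype).relIndex E = 2 := by
        conv_lhs => arg 2; rw [← Subgroup.map_subgroupOf_eq_of_le hETE]
        rw [Subgroup.relIndex_map_map_of_injective _ _ TE.subtype_injective,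
          Subgroup.inf_relIndex_right]
        rcases (Nat.dvd_prime Nat.prime_two).1 (hR ▸ R.relIndex_dvd_index_of_normal (E.subgroupOf TE))
          with h1 | h2
        · exact absurd (Subgroup.relIndex_eq_one.1 h1 heE) heR
        · exact h2
      have hzc : (z : L) ∈ Subgroup.centralizer (E : Set L) := by
        refine hE _ ((Subgroup.map_mono inf_le_right).trans_eq
          (Subgroup.map_subgroupOf_eq_of_le hETE)) hidx ⟨z.2, Subgroup.mem_centralizer_iff.2 ?_⟩
        rintro _ ⟨x, hx, rfl⟩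
        have h1 := congrArg Subtype.val (hz x hx.1)
        exact mul_inv_eq_iff_eq_mul.1 h1
      have hez : ρ e z = z := Subtype.ext (by
        show (e : L) * (z : L) * (e : L)⁻¹ = z
        rw [Subgroup.mem_centralizer_iff.1 hzc _ heE, mul_inv_cancel_right])
      by_cases ht : t ∈ R
      · exact hz t ht
      have h1 : t * e ∈ R := (Subgroup.mul_mem_iff_of_index_two hR).2 ⟨fun h => absurd h ht,
        fun h => absurd h heR⟩
      have h2 := hz _ h1
      rwa [map_mul, MulAut.mul_apply, hez] at h2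
    have hzero := CfsgLib.LocalEven.OrbitProduct.prod_eq_one_of_no_fixed (Q := TE) (X := L ⧸ N)
      (S.isPGroup'.to_le hTES) ρ (fun z => Subtype.ext z.2.2) hρfix
      (fun q => (⟨_, hpm q⟩ : V0)) (fun t q => by
        refine Subtype.ext ?_
        show ((Fu ((t : L) • q) ^ 2 ^ m : V) : L) = (t : L) * ((Fu q ^ 2 ^ m : V) : L) * (t : L)⁻¹
        rw [Subgroup.coe_pow, Subgroup.coe_pow, ← conj_pow]
        exact congrArg (· ^ 2 ^ m) (hF0e (t : L) q))
      (Finset.univ.erase c0) hs
    let ι : V0 →* V := Subgroup.inclusion (fun x hx => hx.1)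
    have hrpow : r ^ 2 ^ m = 1 := by
      rw [hr, ← Finset.prod_pow]
      have h1 := congrArg ι hzero
      rw [map_prod, map_one] at h1
      exact h1
    have hrN : ∀ n ∈ N, Commute n (r : L) := fun n hn => by
      have hr' : (r : L) = (u : L)⁻¹ * (tr : L) := by rw [htr2, Subgroup.coe_mul, inv_mul_cancel_left]
      rw [hr']
      exact ((huN n hn).inv_right).mul_right (htrfix n)
    have h3 := ih r hrpow hrN h
    have e : (u : L) = (tr : L) * (r : L)⁻¹ := by rw [htr2, Subgroup.coe_mul, mul_inv_cancel_right]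
    rw [e]
    exact (htrfix h).mul_right h3.inv_right

end CfsgLib.LocalEven.S4FreeFix
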