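import Cfsg.Agent.Lib.LocalEven.StrongEmb
/-!
An abelian strongly closed subgroup controls strong fusion.
-/

set_option autoImplicit false

namespace CfsgLib.LocalEven

open Subgroup Cfsg

variable {G : Type*} [Group G] [Finite G] {p : ℕ} [Fact p.Prime]

/-- conjugation by `g` agrees on `B` with conjugation by an element of `N` -/
def ConjAgrees (N B : Subgroup G) (g : G) : Prop :=
  ∃ n ∈ N, ∀ b ∈ B, g * b * g⁻¹ = n * b * n⁻¹

theorem ConjAgrees.comp {N B : Subgroup G} {g h : G} (hg : ConjAgrees N B g)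
    (hh : ConjAgrees N (cj g B) h) : ConjAgrees N B (h * g) := by
  obtain ⟨n, hn, e⟩ := hg
  obtain ⟨m, hm, f⟩ := hh
  refine ⟨m * n, mul_mem hm hn, fun b hb => ?_⟩
  have h1 := f (g * b * g⁻¹) ⟨b, hb, rfl⟩
  rw [show h * g * b * (h * g)⁻¹ = h * (g * b * g⁻¹) * h⁻¹ by group, h1, e b hb]
  group

theorem ConjAgrees.symm {N B : Subgroup G} {g : G} (hg : ConjAgrees N B g) :
    ConjAgrees N (cj g B) g⁻¹ := by
  obtain ⟨n, hn, e⟩ := hg
  refine ⟨n⁻¹, inv_mem hn, fun c hc => ?_⟩
  obtain ⟨b, hb, rfl⟩ := hc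
  change g⁻¹ * (g * b * g⁻¹) * g⁻¹⁻¹ = n⁻¹ * (g * b * g⁻¹) * n⁻¹⁻¹
  conv_rhs => rw [e b hb]
  group

omit [Fact p.Prime] in
theorem ConjAgrees.mono {N B B' : Subgroup G} {g : G} (hg : ConjAgrees N B g) (h : B' ≤ B) :
    ConjAgrees N B' g := by
  obtain ⟨n, hn, e⟩ := hg
  exact ⟨n, hn, fun b hb => e b (h hb)⟩

theorem le_normalizer_of_stronglyClosed {S A : Subgroup G} (hsc : IsStronglyClosed A S) :
    S ≤ normalizer (A : Set G) := fun s hs =>
  mem_normalizer_iff_cj.2 (Subgroup.eq_of_le_of_card_ge (by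
    rintro _ ⟨a, ha, rfl⟩
    exact hsc.2 a ha s (mul_mem (mul_mem hs (hsc.1 ha)) (inv_mem hs))) (card_cj s A).ge)

section
variable (S : Sylow p G) {A : Subgroup G}

/-- the automorphism step of the induction -/
theorem strong_fusion_normalizer (hA : IsMulCommutative ↥A) (hsc : IsStronglyClosed A (S : Subgroup G))
    {C : Subgroup G} (hC : C ≤ (S : Subgroup G))
    (hfn : IsSylOf p ((S : Subgroup G) ⊓ normalizer (C : Set G)) (normalizer (C : Set G)))
    (ih : ∀ C' : Subgroup G, C' ≤ (S : Subgroup G) → Nat.card C < Nat.card C' →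
      ∀ g : G, cj g C' ≤ (S : Subgroup G) → ConjAgrees (normalizer (A : Set G)) C' g)
    {g : G} (hg : g ∈ normalizer (C : Set G)) :
    ConjAgrees (normalizer (A : Set G)) C g := by
  have hAcomm : ∀ a ∈ A, ∀ b ∈ A, a * b = b * a := fun a ha b hb =>
    congrArg Subtype.val (hA.is_comm.comm (⟨a, ha⟩ : A) ⟨b, hb⟩)
  set N := normalizer (C : Set G) with hN
  set T := (S : Subgroup G) ⊓ N with hT
  have hA1n : N ≤ normalizer ((A ⊓ C : Subgroup G) : Set G) := by
    intro x hx
    rw [mem_normalizer_iff_cj]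
    refine Subgroup.eq_of_le_of_card_ge ?_ (card_cj x _).ge
    rintro _ ⟨a, ha, rfl⟩
    exact ⟨hsc.2 a ha.1 x (hC ((mem_normalizer_iff.1 hx a).1 ha.2)),
      (mem_normalizer_iff.1 hx a).1 ha.2⟩
  let K : Subgroup G :=
    { carrier := {x | x ∈ N ∧ x ∈ centralizer ((A ⊓ C : Subgroup G) : Set G) ∧
        ∀ c ∈ C, x * c * x⁻¹ * c⁻¹ ∈ A ⊓ C}
      one_mem' := ⟨one_mem _, one_mem _, fun c _ => by simp [one_mem]⟩
      mul_mem' := by
        rintro x y ⟨hx, hxc, hx'⟩ ⟨hy, hyc, hy'⟩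
        refine ⟨mul_mem hx hy, mul_mem hxc hyc, fun c hc => ?_⟩
        have hfix : x * (y * c * y⁻¹ * c⁻¹) * x⁻¹ = y * c * y⁻¹ * c⁻¹ := by
          rw [← hxc _ (hy' c hc), mul_inv_cancel_right]
        rw [show x * y * c * (x * y)⁻¹ * c⁻¹ =
          x * (y * c * y⁻¹ * c⁻¹) * x⁻¹ * (x * c * x⁻¹ * c⁻¹) by group, hfix]
        exact mul_mem (hy' c hc) (hx' c hc)
      inv_mem' := by
        rintro x ⟨hx, hxc, hx'⟩
        refine ⟨inv_mem hx, inv_mem hxc, fun c hc => ?_⟩
        have hc' : x⁻¹ * c * x⁻¹⁻¹ ∈ C := (mem_normalizer_iff.1 (inv_mem hx) c).1 hc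
        have := inv_mem (hx' _ hc')
        simpa [mul_assoc] using this }
  have hKN : K ≤ N := fun x hx => hx.1
  have hKn : N ≤ normalizer (K : Set G) := by
    have key : ∀ y ∈ N, ∀ x ∈ K, y * x * y⁻¹ ∈ K := by
      rintro y hy x ⟨hx, hxc, hx'⟩
      refine ⟨mul_mem (mul_mem hy hx) (inv_mem hy), ?_, fun c hc => ?_⟩
      · exact (mem_normalizer_iff.1 (le_normalizer_centralizer' hA1n hy) x).1 hxc
      · have hc' : y⁻¹ * c * y ∈ C := by
          simpa using (mem_normalizer_iff.1 (inv_mem hy) c).1 hc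
        rw [show y * x * y⁻¹ * c * (y * x * y⁻¹)⁻¹ * c⁻¹ =
          y * (x * (y⁻¹ * c * y) * x⁻¹ * (y⁻¹ * c * y)⁻¹) * y⁻¹ by group]
        exact (mem_normalizer_iff.1 (hA1n hy) _).1 (hx' _ hc')
    intro y hy
    rw [mem_normalizer_iff]
    refine fun x => ⟨fun h => key y hy x h, fun h => ?_⟩
    have := key y⁻¹ (inv_mem hy) _ h
    rwa [show y⁻¹ * (y * x * y⁻¹) * y⁻¹⁻¹ = x by group] at this
  have hPK : IsSylOf p (T ⊓ K) K := hfn.inf_normal hKN hKn
  -- Frattini
  have hgP := hPK.cj g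
  rw [mem_normalizer_iff_cj.1 (hKn hg)] at hgP
  obtain ⟨k, hk, hkP⟩ := hgP.exists_conj hPK
  rw [cj_cj] at hkP
  -- `K = (T ∩ K) C_K(C)`
  have hk' : ConjAgrees (normalizer (A : Set G)) C k⁻¹ := by
    haveI : ((K ⊓ centralizer (C : Set G)).subgroupOf K).Normal :=
      (normal_subgroupOf_iff_le_normalizer inf_le_left).2
        (le_normalizer_inf le_normalizer (le_normalizer_centralizer' hKN))
    obtain ⟨P, hP⟩ := hPK.exists_sylow
    obtain ⟨t, ⟨ht, -⟩, c0, hc0, he⟩ := IsPMod.exists_sylow_mul (p := p) (N := ⊤)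
      (C := (K ⊓ centralizer (C : Set G)).subgroupOf K) le_top (fun x _ => by
        obtain ⟨e, j, hj, hej⟩ := Nat.exists_eq_pow_mul_and_not_dvd (orderOf_pos (x : G)).ne' p
          (Fact.out : p.Prime).ne_one
        refine ⟨e, (x ^ p ^ e).2, ?_⟩
        have hcop : (orderOf ((x : G) ^ p ^ e)).Coprime p := by
          rw [orderOf_pow_of_dvd (pow_ne_zero _ (Fact.out : p.Prime).ne_zero) ⟨j, hej⟩, hej,
            Nat.mul_div_cancel_left _ (pow_pos (Fact.out : p.Prime).pos e)]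
          exact ((Nat.Prime.coprime_iff_not_dvd Fact.out).2 hj).symm
        obtain ⟨-, hxc, hx'⟩ := pow_mem x.2 (p ^ e)
        intro c hc
        refine (commute_of_series_step (S.isPGroup'.to_le hC) hcop ?_ ?_).symm
        · exact mul_mem (inv_mem hc) ((mem_normalizer_iff.1 (hKN (pow_mem x.2 _)) c).1 hc)
        · refine (hxc _ ?_).symm
          have h' := hx' c hc
          have := (mem_normalizer_iff.1 (hA1n (inv_mem (le_normalizer hc : c ∈ N))) _).1 h'
          simpa [mul_assoc] using this) P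
      (x := ⟨k⁻¹, inv_mem hk⟩) trivial
    have htS : (t : G) ∈ (S : Subgroup G) := by
      have : (t : G) ∈ (P : Subgroup K).map K.subtype := ⟨t, ht, rfl⟩
      rw [← hP] at this
      exact this.1.1
    refine ⟨t, le_normalizer_of_stronglyClosed hsc htS, fun c hc => ?_⟩
    have hek : k⁻¹ = (t : G) * c0 := congrArg Subtype.val he
    have hfix : (c0 : G) * c * (c0 : G)⁻¹ = c :=
      mul_inv_eq_iff_eq_mul.2 (hc0.2 c hc).symm
    conv_rhs => rw [← hfix]
    rw [hek]; group
  have hg' : ConjAgrees (normalizer (A : Set G)) C (k * g) := by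
    by_cases hle : T ⊓ K ≤ C
    · -- then `A ≤ C`
      have hA2 : A ⊓ N ≤ C := fun a ha => hle ⟨⟨hsc.1 ha.1, ha.2⟩, ha.2,
        fun b hb => hAcomm b hb.1 a ha.1, fun c hc => by
          have hac := (mem_normalizer_iff.1 ha.2 c).1 hc
          refine Subgroup.mem_inf.2 ⟨?_, mul_mem hac (inv_mem hc)⟩
          rw [show a * c * a⁻¹ * c⁻¹ = a * (c * a⁻¹ * c⁻¹) by group]
          exact mul_mem ha.1
            ((mem_normalizer_iff.1 (le_normalizer_of_stronglyClosed hsc (hC hc)) _).1 (inv_mem ha.1))⟩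
      have hAC : A ≤ C := by
        by_contra hne
        have hlt : C < A ⊔ C := lt_of_le_of_ne le_sup_right fun h => hne (h.symm ▸ le_sup_left)
        obtain ⟨y, hy, hyC, hyn⟩ :=
          exists_normalizer_gt (S.isPGroup'.to_le (sup_le hsc.1 hC)) hlt
        obtain ⟨a, ha, c, hc, rfl⟩ := (Solvable.mem_sup_of_le_normalizer
          (hC.trans (le_normalizer_of_stronglyClosed hsc))).1 hy
        exact hyC (mul_mem (hA2 ⟨ha, by simpa using mul_mem hyn (inv_mem (le_normalizer hc : c ∈ N))⟩) hc)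
      refine ⟨k * g, ?_, fun c _ => rfl⟩
      have hkg : k * g ∈ N := mul_mem (hKN hk) hg
      rw [mem_normalizer_iff_cj]
      refine Subgroup.eq_of_le_of_card_ge ?_ (card_cj _ A).ge
      rintro _ ⟨a, ha, rfl⟩
      exact hsc.2 a ha _ (hC ((mem_normalizer_iff.1 hkg a).1 (hAC ha)))
    · set C' := C ⊔ (T ⊓ K)
      have hlt : C < C' := lt_of_le_of_ne le_sup_left fun h => hle (h.symm ▸ le_sup_right)
      have hC' : C' ≤ (S : Subgroup G) := sup_le hC (inf_le_left.trans inf_le_left)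
      refine (ih C' hC' ?_ (k * g) ?_).mono le_sup_left
      · by_contra hge
        exact hlt.ne (Subgroup.eq_of_le_of_card_ge hlt.le (not_lt.1 hge))
      · refine le_of_eq_of_le ?_ hC'
        show cj (k * g) (C ⊔ (T ⊓ K)) = C'
        rw [cj, Subgroup.map_sup, ← cj, ← cj, mem_normalizer_iff_cj.1 (mul_mem (hKN hk) hg), hkP]
  have := hg'.comp (h := k⁻¹) (by rwa [mem_normalizer_iff_cj.1 (mul_mem (hKN hk) hg)])
  simpa using this

theorem strong_fusion (hA : IsMulCommutative ↥A) (hsc : IsStronglyClosed A (S : Subgroup G)) :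
    ∀ {B : Subgroup G}, B ≤ (S : Subgroup G) → ∀ {g : G}, cj g B ≤ (S : Subgroup G) →
      ConjAgrees (normalizer (A : Set G)) B g := by
  intro B
  induction hc : Nat.card (S : Subgroup G) - Nat.card B using Nat.strong_induction_on
    generalizing B with
  | _ n ih =>
  intro hB g hgB
  subst hc
  -- a fully normalised conjugate `C`
  obtain ⟨T, hT⟩ := exists_isSylOf (p := p) (normalizer (B : Set G))
  obtain ⟨S', hS'⟩ := hT.isPGroup.exists_le_sylow
  obtain ⟨u, hu⟩ := MulAction.exists_smul_eq G S' S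
  have hBT : B ≤ T := (le_pCoreOf le_normalizer (S.isPGroup'.to_le hB) le_rfl).trans hT.pCoreOf_le
  have huT : cj u T ≤ (S : Subgroup G) := by
    rw [← hu]; exact cj_le_cj hS'
  set C := cj u B
  have hC : C ≤ (S : Subgroup G) := (cj_le_cj hBT).trans huT
  have hNC : cj u (normalizer (B : Set G)) = normalizer (C : Set G) :=
    Subgroup.map_equiv_normalizer_eq _ _
  have hfn : IsSylOf p ((S : Subgroup G) ⊓ normalizer (C : Set G)) (normalizer (C : Set G)) := by
    have hT' := hT.cj u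
    rw [hNC] at hT'
    rwa [hT'.of_isPGroup_ge (S.isPGroup'.to_le inf_le_left) (le_inf huT hT'.1) inf_le_right]
  have hcardC : Nat.card C = Nat.card B := card_cj u B
  have ih' : ∀ C' : Subgroup G, C' ≤ (S : Subgroup G) → Nat.card B < Nat.card C' →
      ∀ x : G, cj x C' ≤ (S : Subgroup G) → ConjAgrees (normalizer (A : Set G)) C' x :=
    fun C' hC' hlt x hx => ih _ (by
      have := Subgroup.card_le_of_le hC'
      omega) rfl hC' hx
  have haut : ∀ x ∈ normalizer (C : Set G), ConjAgrees (normalizer (A : Set G)) C x := fun x hx =>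
    strong_fusion_normalizer S hA hsc hC hfn (fun C' h1 h2 => ih' C' h1 (hcardC ▸ h2)) hx
  have hto : ∀ B₀ : Subgroup G, B₀ ≤ (S : Subgroup G) → ∀ w : G, cj w B₀ = C →
      ConjAgrees (normalizer (A : Set G)) B₀ w := by
    intro B₀ hB₀ w hw
    by_cases hBS : B₀ = (S : Subgroup G)
    · have hCS : C = (S : Subgroup G) :=
        Subgroup.eq_of_le_of_card_ge hC (by rw [← hw, card_cj, hBS])
      subst hBS
      rw [hCS] at hw haut
      exact haut w (mem_normalizer_iff_cj.2 hw)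
    · set R := (S : Subgroup G) ⊓ normalizer (B₀ : Set G) with hR
      obtain ⟨y, hy, hyB, hyn⟩ := exists_normalizer_gt S.isPGroup' (lt_of_le_of_ne hB₀ hBS)
      have hlt : Nat.card B < Nat.card R := by
        rw [← hcardC, ← hw, card_cj]
        by_contra hge
        have := Subgroup.eq_of_le_of_card_ge (le_inf hB₀ le_normalizer : B₀ ≤ R) (not_lt.1 hge)
        exact hyB (this ▸ ⟨hy, hyn⟩)
      have hwR : cj w R ≤ normalizer (C : Set G) := by
        refine (cj_le_cj inf_le_right).trans (le_of_eq ?_)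
        rw [← hw]
        exact Subgroup.map_equiv_normalizer_eq _ _
      obtain ⟨U, hU, hRU⟩ := exists_isSylOf_ge (p := p)
        ((S.isPGroup'.to_le inf_le_left).map _ : IsPGroup p (cj w R)) hwR
      obtain ⟨k, hk, hkU⟩ := hU.exists_conj hfn
      have h1 : ConjAgrees (normalizer (A : Set G)) B₀ (k * w) := by
        refine (ih' R inf_le_left hlt (k * w) ?_).mono (le_inf hB₀ le_normalizer)
        rw [← cj_cj]
        exact ((cj_le_cj hRU).trans hkU.le).trans inf_le_left
      have h2 := h1.comp (h := k⁻¹) (by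
        rw [← cj_cj, hw, mem_normalizer_iff_cj.1 hk]; exact haut _ (inv_mem hk))
      simpa using h2
  have h1 := hto B hB u rfl
  have h2 := hto (cj g B) hgB (u * g⁻¹) (by rw [cj_cj, inv_mul_cancel_right])
  have h3 := h2.symm
  rw [cj_cj, inv_mul_cancel_right] at h3
  have := h1.comp h3
  simpa using this

end

end CfsgLib.LocalEven
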