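import Cfsg.Agent.Lib.LocalEven.SylowLink

/-!
The family of normalizers of a normalizer functor and chains of Sylow subgroups.
-/

set_option autoImplicit false

open scoped Pointwise

namespace CfsgLib.LocalEven

variable {G : Type*} [Group G] [Finite G] {p : ℕ} [hp : Fact p.Prime]
  {f : Subgroup G → Set (Subgroup G)}

theorem sylow_le_of_not_dvd_relIndex (c P : Sylow p G) {X : Subgroup G}
    (hP : (P : Subgroup G) ≤ X) (hc : ¬ p ∣ (c : Subgroup G).relIndex X) :
    (c : Subgroup G) ≤ X := by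
  set R : Sylow p X := (c.isPGroup'.comap_subtype (K := X)).toSylow hc with hR
  have h1 : Nat.card (P : Subgroup G) = Nat.card (P.subtype hP : Subgroup X) := by
    rw [Sylow.coe_subtype]
    exact (Nat.card_congr (Subgroup.subgroupOfEquivOfLe hP).toEquiv).symm
  have h2 : Nat.card (P.subtype hP : Subgroup X) = Nat.card (R : Subgroup X) :=
    Nat.card_congr ((P.subtype hP).equiv R).toEquiv
  have h3 : Nat.card (R : Subgroup X) = Nat.card ((c : Subgroup G) ⊓ X : Subgroup G) := by
    rw [← Subgroup.subgroupOf_map_subtype, Subgroup.card_map_of_injective X.subtype_injective]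
    rfl
  have h4 : Nat.card (c : Subgroup G) = Nat.card (P : Subgroup G) := Nat.card_congr (c.equiv P).toEquiv
  have h5 := Subgroup.eq_of_le_of_card_ge (inf_le_left : (c : Subgroup G) ⊓ X ≤ (c : Subgroup G))
    (le_of_eq (by rw [h4, h1, h2, h3]))
  exact inf_eq_left.mp h5

omit [Finite G] hp in
theorem normalizer_mem_functorFamily_top (P : Sylow p G) {F : Subgroup G}
    (hF : F ∈ f (P : Subgroup G)) :
    Subgroup.normalizer (F : Set G) ∈ Cfsg.functorFamily p f (⊤ : Subgroup G) := by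
  refine ⟨P.subtype le_top, F, ?_, by rw [top_inf_eq]⟩
  rwa [Sylow.coe_subtype, Subgroup.map_subgroupOf_eq_of_le le_top]

theorem isNormalSet_functorFamily_top (hf : Cfsg.IsNormalizerFunctor p f) :
    Cfsg.IsNormalSet (Cfsg.functorFamily p f (⊤ : Subgroup G)) := by
  rintro X ⟨P, F, hF, rfl⟩ g
  obtain ⟨Q, hQ⟩ : ∃ Q : Sylow p G, (Q : Subgroup G) = (P : Subgroup (⊤ : Subgroup G)).map
      (⊤ : Subgroup G).subtype := by
    refine ⟨(P.isPGroup'.map _).toSylow ?_, rfl⟩
    rw [Subgroup.index_map_of_injective _ (⊤ : Subgroup G).subtype_injective]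
    · simpa using P.not_dvd_index
  have hF' : F.map (MulAut.conj g⁻¹).toMonoidHom ∈ f ((g⁻¹ • Q : Sylow p G) : Subgroup G) := by
    show _ ∈ f ((Q : Subgroup G).map (MulAut.conj g⁻¹).toMonoidHom)
    rw [(hf _ Q.isPGroup').2, hQ]
    exact ⟨F, hF, rfl⟩
  have h := normalizer_mem_functorFamily_top (g⁻¹ • Q) hF'
  rw [top_inf_eq, subgroupConjRight_eq_map, Subgroup.map_equiv_normalizer_eq]
  exact h

/-- A link inside a subgroup for the family induced by `f`. -/
theorem functor_step_data (hf : Cfsg.IsNormalizerFunctor p f) {M : Subgroup G}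
    {D : Subgroup M} {a b : Sylow p M}
    (h : SylowStep p ((fun X : Subgroup G => X.subgroupOf M) '' Cfsg.functorFamily p f M) D a b) :
    ∃ (P : Sylow p M), ∃ F ∈ f ((P : Subgroup M).map M.subtype),
      (P : Subgroup M).map M.subtype ≤ Subgroup.normalizer (F : Set G) ∧
      (a : Subgroup M).map M.subtype ≤ Subgroup.normalizer (F : Set G) ∧
      (b : Subgroup M).map M.subtype ≤ Subgroup.normalizer (F : Set G) ∧
      D ≤ (b : Subgroup M) ∧
      ∃ x ∈ M ⊓ Subgroup.normalizer (F : Set G), Cfsg.subgroupConjRight x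
        ((b : Subgroup M).map M.subtype) = (a : Subgroup M).map M.subtype := by
  obtain ⟨X, ha, hb, x, hx, hconj, hD⟩ := h
  obtain ⟨hXF, ha'⟩ := (mem_sylowMembers_iff_relIndex a.isPGroup').mp ha
  obtain ⟨-, hb'⟩ := (mem_sylowMembers_iff_relIndex b.isPGroup').mp hb
  obtain ⟨Y, ⟨P, F, hF, rfl⟩, rfl⟩ := hXF
  have hPF : (P : Subgroup M).map M.subtype ≤ Subgroup.normalizer (F : Set G) :=
    Subgroup.le_normalizer.trans ((hf _ (P.isPGroup'.map _)).1 F hF).2
  have hPX : (P : Subgroup M) ≤ (M ⊓ Subgroup.normalizer (F : Set G)).subgroupOf M := fun y hy =>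
    Subgroup.mem_subgroupOf.mpr ⟨y.2, hPF ⟨y, hy, rfl⟩⟩
  have hle : ∀ c : Sylow p M,
      ¬ p ∣ (c : Subgroup M).relIndex ((M ⊓ Subgroup.normalizer (F : Set G)).subgroupOf M) →
      (c : Subgroup M).map M.subtype ≤ Subgroup.normalizer (F : Set G) := by
    intro c hc
    rintro _ ⟨y, hy, rfl⟩
    exact (Subgroup.mem_subgroupOf.mp (sylow_le_of_not_dvd_relIndex c P hPX hc hy)).2
  refine ⟨P, F, hF, hPF, hle a ha', hle b hb', hD.trans inf_le_left, x, hx, ?_⟩
  rw [← hconj, subgroupConjRight_eq_map, subgroupConjRight_eq_map, Subgroup.map_map, Subgroup.map_map]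
  congr 1

end CfsgLib.LocalEven
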