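import Cfsg.Prelude.Def_SylowChains
import Cfsg.Agent.Lib.LocalEven.Cores
import Mathlib.GroupTheory.Nilpotent
import Mathlib.Logic.Relation
import Mathlib.Data.Fin.Tuple.Basic

/-!
Chains of Sylow subgroups linked by members of a family, as a transitive closure.
-/

set_option autoImplicit false

open scoped Pointwise

namespace CfsgLib.LocalEven

variable {G : Type*} [Group G]

/-- One link of a chain in the definition of control of Sylow intersections. -/
def SylowStep (p : ℕ) (𝓕 : Set (Subgroup G)) (D : Subgroup G) (S T : Sylow p G) : Prop :=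
  ∃ X, X ∈ Cfsg.sylowMembers p 𝓕 (S : Subgroup G) ∧ X ∈ Cfsg.sylowMembers p 𝓕 (T : Subgroup G) ∧
    ∃ x ∈ X, Cfsg.subgroupConjRight x (T : Subgroup G) = (S : Subgroup G) ∧
      D ≤ (T : Subgroup G) ⊓ X

theorem reflTransGen_of_chain {p : ℕ} {𝓕 : Set (Subgroup G)} {D : Subgroup G} {n : ℕ}
    (c : Fin (n + 1) → Sylow p G) (h : ∀ i : Fin n, SylowStep p 𝓕 D (c i.castSucc) (c i.succ)) :
    Relation.ReflTransGen (SylowStep p 𝓕 D) (c 0) (c (Fin.last n)) := by
  suffices ∀ i : Fin (n + 1), Relation.ReflTransGen (SylowStep p 𝓕 D) (c 0) (c i) from this _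
  intro i
  induction i using Fin.induction with
  | zero => rfl
  | succ i ih => exact ih.tail (h i)

theorem chain_of_reflTransGen {p : ℕ} {𝓕 : Set (Subgroup G)} {D : Subgroup G} {S T : Sylow p G}
    (h : Relation.ReflTransGen (SylowStep p 𝓕 D) S T) :
    ∃ (n : ℕ) (c : Fin (n + 1) → Sylow p G) (X : Fin n → Subgroup G) (x : Fin n → G),
      c 0 = S ∧ c (Fin.last n) = T ∧
      ∀ i : Fin n,
        X i ∈ Cfsg.sylowMembers p 𝓕 (c i.castSucc : Subgroup G) ∧
        X i ∈ Cfsg.sylowMembers p 𝓕 (c i.succ : Subgroup G) ∧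
        x i ∈ X i ∧ Cfsg.subgroupConjRight (x i) (c i.succ : Subgroup G) =
          (c i.castSucc : Subgroup G) ∧ D ≤ (c i.succ : Subgroup G) ⊓ X i := by
  induction h with
  | refl => exact ⟨0, fun _ => S, fun i => i.elim0, fun i => i.elim0, rfl, rfl, fun i => i.elim0⟩
  | @tail U V _ hstep ih =>
    obtain ⟨n, c, X, x, h0, hn, hi⟩ := ih
    obtain ⟨Y, hY₁, hY₂, y, hy, hconj, hD⟩ := hstep
    refine ⟨n + 1, Fin.snoc c V, Fin.snoc X Y, Fin.snoc x y, ?_, Fin.snoc_last _ _, ?_⟩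
    · rw [← Fin.castSucc_zero, Fin.snoc_castSucc, h0]
    · intro i
      induction i using Fin.lastCases with
      | last =>
        simp only [Fin.succ_last, Fin.snoc_last, Fin.snoc_castSucc, hn]
        exact ⟨hY₁, hY₂, hy, hconj, hD⟩
      | cast j =>
        rw [Fin.succ_castSucc]
        simp only [Fin.snoc_castSucc]
        exact hi j

theorem controls_iff_reflTransGen {p : ℕ} {𝓕 : Set (Subgroup G)} :
    Cfsg.ControlsSylowIntersections p 𝓕 ↔ ∀ S T : Sylow p G, S ≠ T →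
      (S : Subgroup G) ⊓ (T : Subgroup G) ≠ ⊥ →
        Relation.ReflTransGen (SylowStep p 𝓕 ((S : Subgroup G) ⊓ (T : Subgroup G))) S T := by
  refine ⟨fun h S T hne hbot => ?_, fun h S T hne hbot => chain_of_reflTransGen (h S T hne hbot)⟩
  obtain ⟨n, c, X, x, rfl, rfl, hi⟩ := h S T hne hbot
  exact reflTransGen_of_chain c fun i =>
    ⟨X i, (hi i).1, (hi i).2.1, x i, (hi i).2.2.1, (hi i).2.2.2.1, (hi i).2.2.2.2⟩

theorem mem_sylowMembers_iff_relIndex [Finite G] {p : ℕ} [Fact p.Prime] {𝓕 : Set (Subgroup G)}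
    {S X : Subgroup G} (hS : IsPGroup p S) :
    X ∈ Cfsg.sylowMembers p 𝓕 S ↔ X ∈ 𝓕 ∧ ¬ p ∣ S.relIndex X := by
  refine ⟨fun ⟨h1, P, hP⟩ => ⟨h1, ?_⟩, fun ⟨h1, h2⟩ => ⟨h1, (hS.comap_subtype).toSylow h2, ?_⟩⟩
  · rw [← Subgroup.inf_relIndex_right, ← hP, Subgroup.relIndex, ← Subgroup.comap_subtype,
      Subgroup.comap_map_eq_self_of_injective X.subtype_injective]
    exact P.not_dvd_index
  · exact Subgroup.subgroupOf_map_subtype S X

theorem sylowStep_mono {p : ℕ} {𝓕 : Set (Subgroup G)} {D D' : Subgroup G} (h : D ≤ D')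
    {S T : Sylow p G} (hs : SylowStep p 𝓕 D' S T) : SylowStep p 𝓕 D S T := by
  obtain ⟨X, h1, h2, x, hx, hc, hD⟩ := hs
  exact ⟨X, h1, h2, x, hx, hc, h.trans hD⟩

theorem subgroupConjRight_eq_map (g : G) (X : Subgroup G) :
    Cfsg.subgroupConjRight g X = X.map (MulAut.conj g⁻¹).toMonoidHom := rfl

theorem subgroupConjRight_smul_sylow {p : ℕ} (g : G) (S : Sylow p G) :
    Cfsg.subgroupConjRight g ((g • S : Sylow p G) : Subgroup G) = (S : Subgroup G) := by
  rw [subgroupConjRight_eq_map]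
  show (g⁻¹ • g • S : Sylow p G).1 = _
  rw [inv_smul_smul]

theorem eq_smul_of_subgroupConjRight {p : ℕ} {g : G} {S T : Sylow p G}
    (h : Cfsg.subgroupConjRight g (T : Subgroup G) = (S : Subgroup G)) : T = g • S := by
  have h' : g⁻¹ • T = S := Sylow.ext h
  rw [← h', smul_inv_smul]

end CfsgLib.LocalEven
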