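import Cfsg.Agent.Lib.LocalEven.SylowFunctor

/-!
Transporting chains of Sylow subgroups by conjugation and from regular subgroups.
-/

set_option autoImplicit false

open scoped Pointwise

namespace CfsgLib.LocalEven

variable {G : Type*} [Group G] [Finite G] {p : ℕ} [hp : Fact p.Prime]
  {f : Subgroup G → Set (Subgroup G)}

theorem sylowStep_conj {𝓕 : Set (Subgroup G)} (h𝓕 : Cfsg.IsNormalSet 𝓕) {D : Subgroup G}
    {A B : Sylow p G} (g : G) (h : SylowStep p 𝓕 D A B) :
    SylowStep p 𝓕 (D.map (MulAut.conj g).toMonoidHom) (g • A) (g • B) := by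
  obtain ⟨X, ha, hb, x, hx, hconj, hD⟩ := h
  have hmem : ∀ C : Sylow p G, X ∈ Cfsg.sylowMembers p 𝓕 (C : Subgroup G) →
      X.map (MulAut.conj g).toMonoidHom ∈
        Cfsg.sylowMembers p 𝓕 ((g • C : Sylow p G) : Subgroup G) := by
    intro C hC
    obtain ⟨hX, hi⟩ := (mem_sylowMembers_iff_relIndex C.isPGroup').mp hC
    refine (mem_sylowMembers_iff_relIndex (g • C).isPGroup').mpr ⟨?_, ?_⟩
    · have := h𝓕 X hX g⁻¹
      rwa [subgroupConjRight_eq_map, inv_inv] at this
    · show ¬ p ∣ ((C : Subgroup G).map (MulAut.conj g).toMonoidHom).relIndex _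
      rwa [Subgroup.relIndex_map_map_of_injective _ _ (MulEquiv.injective _)]
  refine ⟨_, hmem A ha, hmem B hb, g * x * g⁻¹, ⟨x, hx, rfl⟩, ?_, ?_⟩
  · rw [eq_smul_of_subgroupConjRight hconj,
      show g • x • A = (g * x * g⁻¹) • g • A by
        rw [← mul_smul, ← mul_smul, inv_mul_cancel_right]]
    exact subgroupConjRight_smul_sylow _ _
  · exact le_inf (Subgroup.map_mono (hD.trans inf_le_left))
      (Subgroup.map_mono (hD.trans inf_le_right))

theorem reflTransGen_conj {𝓕 : Set (Subgroup G)} (h𝓕 : Cfsg.IsNormalSet 𝓕) {D : Subgroup G}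
    {A B : Sylow p G} (g : G)
    (h : Relation.ReflTransGen (SylowStep p 𝓕 (D.map (MulAut.conj g).toMonoidHom)) (g • A) (g • B)) :
    Relation.ReflTransGen (SylowStep p 𝓕 D) A B := by
  have hD : (D.map (MulAut.conj g).toMonoidHom).map (MulAut.conj g⁻¹).toMonoidHom = D := by
    rw [Subgroup.map_map]
    conv_rhs => rw [← Subgroup.map_id D]
    congr 1
    ext y
    simp [mul_assoc]
  have h2 := h.lift (fun C => g⁻¹ • C) (fun C C' hs => sylowStep_conj h𝓕 g⁻¹ hs)
  rw [hD] at h2
  simpa [Function.onFun] using h2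

/-- A regular subgroup containing two Sylow subgroups links them in the whole group. -/
theorem reflTransGen_of_regular (hf : Cfsg.IsNormalizerFunctor p f) {M : Subgroup G}
    (hreg : Cfsg.IsFunctorRegular p f M) {A B : Sylow p G} (hA : (A : Subgroup G) ≤ M)
    (hB : (B : Subgroup G) ≤ M) {D : Subgroup G} (hD0 : D ≠ ⊥) (hDA : D ≤ (A : Subgroup G))
    (hDB : D ≤ (B : Subgroup G)) :
    Relation.ReflTransGen (SylowStep p (Cfsg.functorFamily p f ⊤) D) A B := by
  by_cases hAB : A = B
  · subst hAB; exact Relation.ReflTransGen.refl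
  have hA' : ((A.subtype hA : Sylow p M) : Subgroup M).map M.subtype = (A : Subgroup G) := by
    rw [Sylow.coe_subtype, Subgroup.map_subgroupOf_eq_of_le hA]
  have hB' : ((B.subtype hB : Sylow p M) : Subgroup M).map M.subtype = (B : Subgroup G) := by
    rw [Sylow.coe_subtype, Subgroup.map_subgroupOf_eq_of_le hB]
  have hne : A.subtype hA ≠ B.subtype hB := fun h => hAB (Sylow.subtype_injective h)
  have hE : D.subgroupOf M ≤
      (A.subtype hA : Subgroup M) ⊓ (B.subtype hB : Subgroup M) := by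
    intro y hy
    exact ⟨Subgroup.mem_subgroupOf.mpr (hDA (Subgroup.mem_subgroupOf.mp hy)),
      Subgroup.mem_subgroupOf.mpr (hDB (Subgroup.mem_subgroupOf.mp hy))⟩
  have hbot : (A.subtype hA : Subgroup M) ⊓ (B.subtype hB : Subgroup M) ≠ ⊥ := by
    intro h
    rw [h, le_bot_iff, Subgroup.subgroupOf_eq_bot] at hE
    exact hD0 (hE.eq_bot_of_le (hDA.trans hA))
  have hchain := controls_iff_reflTransGen.mp hreg _ _ hne hbot
  suffices hinv : ∀ c, Relation.ReflTransGen (SylowStep p
      ((fun X : Subgroup G => X.subgroupOf M) '' Cfsg.functorFamily p f M)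
      ((A.subtype hA : Subgroup M) ⊓ (B.subtype hB : Subgroup M))) (A.subtype hA) c →
      ∀ C : Sylow p G, (c : Subgroup M).map M.subtype = (C : Subgroup G) →
        Relation.ReflTransGen (SylowStep p (Cfsg.functorFamily p f ⊤) D) A C from
    hinv _ hchain B hB'
  intro c hc
  induction hc with
  | refl =>
    intro C hC
    rw [hA'] at hC
    rw [Sylow.ext hC]
  | @tail a b _ hab ih =>
    intro C hC
    have hfull : ∀ c : Sylow p M, ∃ C : Sylow p G,
        (c : Subgroup M).map M.subtype = (C : Subgroup G) := by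
      intro c
      obtain ⟨C, hC⟩ := (c.isPGroup'.map M.subtype).exists_le_sylow
      refine ⟨C, Subgroup.eq_of_le_of_card_ge hC (le_of_eq ?_)⟩
      rw [Nat.card_congr (C.equiv A).toEquiv, ← hA',
        Subgroup.card_map_of_injective M.subtype_injective,
        Subgroup.card_map_of_injective M.subtype_injective]
      exact Nat.card_congr ((A.subtype hA).equiv c).toEquiv
    obtain ⟨C₀, hC₀⟩ := hfull a
    obtain ⟨P, F, hF, hPF, haF, hbF, hDb, x, hx, hconj⟩ := functor_step_data hf hab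
    obtain ⟨P₀, hP₀⟩ := hfull P
    have hmem : Subgroup.normalizer (F : Set G) ∈ Cfsg.functorFamily p f (⊤ : Subgroup G) :=
      normalizer_mem_functorFamily_top P₀ (hP₀ ▸ hF)
    refine (ih C₀ hC₀).tail ⟨_, ?_, ?_, x, hx.2, ?_, ?_⟩
    · exact (mem_sylowMembers_iff_relIndex C₀.isPGroup').mpr ⟨hmem, fun hd =>
        C₀.not_dvd_index (hd.trans (Subgroup.relIndex_dvd_index_of_le (hC₀ ▸ haF)))⟩
    · exact (mem_sylowMembers_iff_relIndex C.isPGroup').mpr ⟨hmem, fun hd =>
        C.not_dvd_index (hd.trans (Subgroup.relIndex_dvd_index_of_le (hC ▸ hbF)))⟩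
    · rw [← hC₀, ← hC]; exact hconj
    · have h1 : D ≤ (C : Subgroup G) := by
        rw [← hC, ← Subgroup.map_subgroupOf_eq_of_le (hDA.trans hA)]
        exact Subgroup.map_mono (hE.trans hDb)
      exact le_inf h1 (h1.trans (hC ▸ hbF))

/-- From chains in `G` to chains in its copy `⊤`. -/
theorem reflTransGen_subgroupOf_top {𝓕 : Set (Subgroup G)}
    (key : ∀ (A B : Sylow p G) (D : Subgroup G), D ≠ ⊥ → D ≤ (A : Subgroup G) →
      D ≤ (B : Subgroup G) → Relation.ReflTransGen (SylowStep p 𝓕 D) A B)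
    (A B : Sylow p (⊤ : Subgroup G))
    (hne : (A : Subgroup (⊤ : Subgroup G)) ⊓ (B : Subgroup (⊤ : Subgroup G)) ≠ ⊥) :
    Relation.ReflTransGen
      (SylowStep p ((fun X : Subgroup G => X.subgroupOf ⊤) '' 𝓕) ((A : Subgroup (⊤ : Subgroup G)) ⊓ (B : Subgroup (⊤ : Subgroup G))))
      A B := by
  have hback : ∀ C : Sylow p (⊤ : Subgroup G), ∃ C' : Sylow p G, C'.subtype le_top = C := by
    intro C
    obtain ⟨C', hC'⟩ := C.exists_comap_subtype_eq
    exact ⟨C', Sylow.ext hC'⟩
  obtain ⟨A', rfl⟩ := hback A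
  obtain ⟨B', rfl⟩ := hback B
  set D := (A' : Subgroup G) ⊓ (B' : Subgroup G) with hD
  have hDtop : D.subgroupOf (⊤ : Subgroup G) =
      (A'.subtype le_top : Subgroup (⊤ : Subgroup G)) ⊓ (B'.subtype le_top : Subgroup _) := by
    rw [Sylow.coe_subtype, Sylow.coe_subtype, hD]
    rfl
  have hD0 : D ≠ ⊥ := by
    intro h
    rw [h, Subgroup.bot_subgroupOf] at hDtop
    exact hne hDtop.symm
  have h := (key A' B' D hD0 inf_le_left inf_le_right).lift
    (fun C : Sylow p G => C.subtype (le_top : (C : Subgroup G) ≤ ⊤)) (p := SylowStep p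
      ((fun X : Subgroup G => X.subgroupOf ⊤) '' 𝓕)
      ((A'.subtype le_top : Subgroup (⊤ : Subgroup G)) ⊓ (B'.subtype le_top : Subgroup _)))
    fun C C' hs => by
      obtain ⟨X, ha, hb, x, hx, hconj, hD'⟩ := hs
      have hmem : ∀ E : Sylow p G, X ∈ Cfsg.sylowMembers p 𝓕 (E : Subgroup G) →
          X.subgroupOf ⊤ ∈ Cfsg.sylowMembers p ((fun X : Subgroup G => X.subgroupOf ⊤) '' 𝓕)
            ((E.subtype le_top : Sylow p (⊤ : Subgroup G)) : Subgroup (⊤ : Subgroup G)) := by
        intro E hE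
        obtain ⟨hX, hi⟩ := (mem_sylowMembers_iff_relIndex E.isPGroup').mp hE
        refine (mem_sylowMembers_iff_relIndex (E.subtype le_top).isPGroup').mpr ⟨⟨X, hX, rfl⟩, ?_⟩
        rwa [Sylow.coe_subtype, Subgroup.relIndex_subgroupOf le_top]
      refine ⟨_, hmem C ha, hmem C' hb, ⟨x, trivial⟩, hx, ?_, ?_⟩
      · apply Subgroup.map_injective (⊤ : Subgroup G).subtype_injective
        rw [Sylow.coe_subtype, Sylow.coe_subtype, Subgroup.map_subgroupOf_eq_of_le le_top, ← hconj,
          subgroupConjRight_eq_map, subgroupConjRight_eq_map]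
        conv_rhs => rw [← Subgroup.map_subgroupOf_eq_of_le (le_top : (C' : Subgroup G) ≤ ⊤)]
        rw [Subgroup.map_map, Subgroup.map_map]
        congr 1
      · rw [← hDtop, Sylow.coe_subtype]
        intro y hy
        exact hD' (Subgroup.mem_subgroupOf.mp hy)
  exact h

end CfsgLib.LocalEven
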